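import Groth.Agent.AlgSpLib.SourceDesc
import Groth.Agent.Grpd.FlatComp
import Groth.Agent.FpqcDescent.Sep
import Mathlib.AlgebraicGeometry.Morphisms.Etale

/-!
# Properties of morphisms of schemes that are etale local on source and target
-/

universe u

open CategoryTheory CategoryTheory.Limits AlgebraicGeometry

namespace Groth.Agent.AlgSpLib

/-- The conditions used for etale locality on source and target. -/
structure EtST (P : MorphismProperty Scheme.{u}) : Prop where
  comp : P.IsStableUnderComposition
  baseChange : P.IsStableUnderBaseChange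
  of_etale : ∀ ⦃X Y : Scheme.{u}⦄ (f : X ⟶ Y), Etale f → P f
  descend : ∀ ⦃X Y Z : Scheme.{u}⦄ (f : X ⟶ Y) (g : Y ⟶ Z),
    Etale f → Surjective f → P (f ≫ g) → P g

namespace EtST

variable {P : MorphismProperty Scheme.{u}}

/-- cancellation of an etale morphism on the right -/
theorem cancel (hP : EtST P) {X Y Z : Scheme.{u}} (f : X ⟶ Y) (g : Y ⟶ Z) (hg : Etale g)
    (h : P (f ≫ g)) : P f := by
  have := hP.comp
  have := hP.baseChange
  let s : X ⟶ pullback (f ≫ g) g := pullback.lift (𝟙 X) f (by rw [Category.id_comp])
  have h1 : Etale (pullback.fst (f ≫ g) g) := MorphismProperty.pullback_fst _ _ hg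
  have hs : Etale s := by
    refine MorphismProperty.HasOfPostcompProperty.of_postcomp (W := @Etale) s _ h1 ?_
    rw [pullback.lift_fst]
    infer_instance
  have e : s ≫ pullback.snd (f ≫ g) g = f := pullback.lift_snd _ _ _
  rw [← e]
  exact P.comp_mem _ _ (hP.of_etale s hs) (MorphismProperty.pullback_snd _ _ h)

theorem id_mem (hP : EtST P) (X : Scheme.{u}) : P (𝟙 X) := hP.of_etale _ inferInstance

theorem precomp (hP : EtST P) {X Y Z : Scheme.{u}} (f : X ⟶ Y) (g : Y ⟶ Z) (hf : Etale f)
    (hg : P g) : P (f ≫ g) :=
  have := hP.comp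
  P.comp_mem _ _ (hP.of_etale f hf) hg

theorem postcomp (hP : EtST P) {X Y Z : Scheme.{u}} (f : X ⟶ Y) (g : Y ⟶ Z) (hf : P f)
    (hg : Etale g) : P (f ≫ g) :=
  have := hP.comp
  P.comp_mem _ _ hf (hP.of_etale g hg)

end EtST

theorem etST_lft : EtST (@LocallyOfFiniteType : MorphismProperty Scheme.{u}) where
  comp := inferInstance
  baseChange := inferInstance
  of_etale _ _ f hf := inferInstance
  descend _ _ _ f g hf hs h := SrcDesc.lft f g

theorem etST_lfp : EtST (@LocallyOfFinitePresentation : MorphismProperty Scheme.{u}) where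
  comp := inferInstance
  baseChange := inferInstance
  of_etale _ _ f hf := inferInstance
  descend _ _ _ f g hf hs h := SrcDesc.lfp f g

theorem etST_flat : EtST (@Flat : MorphismProperty Scheme.{u}) where
  comp := inferInstance
  baseChange := inferInstance
  of_etale _ _ f hf := inferInstance
  descend _ _ _ f g hf hs h := GrpdLib.flat_of_flat_comp f g

theorem etST_smooth : EtST (@Smooth : MorphismProperty Scheme.{u}) where
  comp := inferInstance
  baseChange := inferInstance
  of_etale _ _ f hf := inferInstance
  descend _ _ _ f g hf hs h := SrcDesc.smooth f g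

theorem etST_etale : EtST (@Etale : MorphismProperty Scheme.{u}) where
  comp := inferInstance
  baseChange := inferInstance
  of_etale _ _ f hf := hf
  descend _ _ _ f g hf hs h := SrcDesc.etale f g

theorem etST_lqf : EtST (@LocallyQuasiFinite ⊓ @LocallyOfFiniteType : MorphismProperty Scheme.{u}) where
  comp := inferInstance
  baseChange := inferInstance
  of_etale _ _ f hf := ⟨FpqcDescent.locallyQuasiFinite_of_etale f, inferInstance⟩
  descend _ _ _ f g hf hs h := by
    have := h.1
    have := h.2
    exact SrcDesc.lqf f g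

theorem etST_unramified :
    EtST (@LocallyOfFiniteType ⊓ @FormallyUnramified : MorphismProperty Scheme.{u}) where
  comp := inferInstance
  baseChange := inferInstance
  of_etale _ _ f hf := ⟨inferInstance, inferInstance⟩
  descend _ _ _ f g hf hs h := by
    have := h.1
    have := h.2
    exact ⟨SrcDesc.lft f g, SrcDesc.formallyUnramified f g⟩

theorem etST_of_listed (P : MorphismProperty Scheme.{u})
    (hP : P = @LocallyOfFiniteType ∨ P = @LocallyOfFinitePresentation ∨ P = @Flat ∨ P = @Smooth ∨
      P = @Etale ∨
      (∀ ⦃A B : Scheme.{u}⦄ (g : A ⟶ B), P g ↔ (LocallyQuasiFinite g ∧ LocallyOfFiniteType g)) ∨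
      (∀ ⦃A B : Scheme.{u}⦄ (g : A ⟶ B), P g ↔ (LocallyOfFiniteType g ∧ FormallyUnramified g))) :
    EtST P := by
  rcases hP with rfl | rfl | rfl | rfl | rfl | h | h
  · exact etST_lft
  · exact etST_lfp
  · exact etST_flat
  · exact etST_smooth
  · exact etST_etale
  · rw [show P = (@LocallyQuasiFinite ⊓ @LocallyOfFiniteType : MorphismProperty Scheme.{u}) from
      MorphismProperty.ext _ _ fun _ _ g => h g]
    exact etST_lqf
  · rw [show P = (@LocallyOfFiniteType ⊓ @FormallyUnramified : MorphismProperty Scheme.{u}) from
      MorphismProperty.ext _ _ fun _ _ g => h g]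
    exact etST_unramified

end Groth.Agent.AlgSpLib
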