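import Groth.Agent.AlgSpLib.SheafLemmas
import Mathlib.AlgebraicGeometry.Limits

/-!
# Algebraic spaces: maps out of coproducts of schemes
-/

universe u

open CategoryTheory CategoryTheory.Limits AlgebraicGeometry Opposite

set_option backward.isDefEq.respectTransparency false

namespace Groth.Agent.AlgSpLib

open _root_.AlgSp

variable {S : Scheme.{u}}

lemma subsingleton_hom_of_isEmpty {F : Sp S} {W : Over S} [IsEmpty W.left] :
    Subsingleton ((yon S).obj W ⟶ F) :=
  ⟨fun a b => hom_ext_cover (R := ⊥) (Scheme.bot_mem_precoverage _ _) fun Z g hg => hg.elim⟩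

/-- a family covering in the fppf precoverage covers in the topology over `S` -/
lemma generate_ofArrows_mem_J {ι : Type*} {U : Over S} {V : ι → Over S} (q : ∀ i, V i ⟶ U)
    (h : Presieve.ofArrows (fun i => (V i).left) (fun i => (q i).left) ∈ Scheme.fppfPrecoverage U.left) :
    Sieve.generate (Presieve.ofArrows V q) ∈ J S U := by
  refine (GrothendieckTopology.mem_over_iff _ _).2
    (Scheme.fppfPrecoverage.toGrothendieck.superset_covering ?_ (Precoverage.generate_mem_toGrothendieck h))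
  rintro Z g ⟨W, a, _, ⟨i⟩, rfl⟩
  rw [Sieve.overEquiv_iff]
  exact ⟨V i, Over.homMk a (by simp), q i, Presieve.ofArrows.mk i, by ext; simp⟩

/-- a map out of a coproduct of schemes is given on the summands -/
lemma exists_sigma_hom {F : Sp S} {ι : Type u} {Z : ι → Scheme.{u}} (f : ∀ i, Z i ⟶ S)
    (l : ∀ i, (yon S).obj (Over.mk (f i)) ⟶ F) :
    ∃ L : (yon S).obj (Over.mk (Sigma.desc f)) ⟶ F, ∀ i,
      (yon S).map (Over.homMk (Sigma.ι Z i) (Sigma.ι_desc f i) : Over.mk (f i) ⟶ Over.mk (Sigma.desc f)) ≫ L =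
        l i := by
  let V : ι → Over S := fun i => Over.mk (f i)
  let U : Over S := Over.mk (Sigma.desc f)
  let q : ∀ i, V i ⟶ U := fun i => Over.homMk (Sigma.ι Z i) (Sigma.ι_desc f i)
  have hcov : Presieve.ofArrows (fun i => (V i).left) (fun i => (q i).left) ∈ Scheme.fppfPrecoverage U.left :=
    Scheme.zariskiPrecoverage_le_fppfPrecoverage _ (sigmaOpenCover Z).mem₀
  have hsh : Presieve.IsSheafFor F.obj (Presieve.ofArrows V q) :=
    (Presieve.isSheafFor_iff_generate _).2 (((isSheaf_iff_isSheaf_of_type _ _).1 F.property) _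
      (generate_ofArrows_mem_J q hcov))
  rw [Presieve.isSheafFor_arrows_iff] at hsh
  obtain ⟨y, hy, -⟩ := hsh (fun i => (J S).uliftYonedaEquiv (l i)) (fun i j W gi gj e => by
    by_cases hij : i = j
    · subst hij
      have : gi = gj := Over.OverMorphism.ext
        ((cancel_mono (Sigma.ι Z i)).1 (congrArg (fun k : W ⟶ U => k.left) e))
      rw [this]
    · have : IsEmpty W.left := isEmpty_of_commSq_sigmaι_of_ne (g := Z)
        ⟨congrArg (fun k : W ⟶ U => k.left) e⟩ hij
      have := subsingleton_hom_of_isEmpty (F := F) (W := W)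
      exact (J S).uliftYonedaEquiv.symm.injective (Subsingleton.elim _ _))
  refine ⟨(J S).uliftYonedaEquiv.symm y, fun i => (J S).uliftYonedaEquiv.injective ?_⟩
  rw [← GrothendieckTopology.uliftYonedaEquiv_naturality, Equiv.apply_symm_apply]
  exact hy i

/-- sections lift along locally surjective maps after a single fppf morphism -/
lemma exists_fppf_lift {H G : Sp S} (b : H ⟶ G) [Sheaf.IsLocallySurjective b] {T : Over S}
    (ξ : (yon S).obj T ⟶ G) : ∃ (T' : Over S) (g : T' ⟶ T) (l : (yon S).obj T' ⟶ H),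
      Flat g.left ∧ Surjective g.left ∧ LocallyOfFinitePresentation g.left ∧
        l ≫ b = (yon S).map g ≫ ξ := by
  obtain ⟨R, hR, hl⟩ := exists_lift_cover b ξ
  obtain ⟨ι', X', f', rfl⟩ := R.exists_eq_ofArrows
  rw [Scheme.fppfPrecoverage, Scheme.ofArrows_mem_precoverage_iff] at hR
  choose i hx using hR.1
  let Z : ↥T.left → Scheme.{u} := fun x => X' (i x)
  let f : ∀ x, Z x ⟶ T.left := fun x => f' (i x)
  choose l hl using fun x => hl (f x) (Presieve.ofArrows.mk (i x))
  obtain ⟨L, hL⟩ := exists_sigma_hom (fun x => f x ≫ T.hom) l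
  let g : Over.mk (Sigma.desc fun x => f x ≫ T.hom) ⟶ T := Over.homMk (Sigma.desc f) (by
    refine Sigma.hom_ext _ _ fun x => ?_
    exact (Sigma.ι_desc_assoc _ _ _).trans (Sigma.ι_desc (fun x => f x ≫ T.hom) x).symm)
  have hp : ∀ x, Flat (f x) ∧ LocallyOfFinitePresentation (f x) := fun x => hR.2 (i x)
  have hι : ∀ x, Sigma.ι Z x ≫ g.left = f x := fun x => Sigma.ι_desc _ _
  refine ⟨_, g, L, ?_, ⟨fun x => ?_⟩, ?_, ?_⟩
  · exact (IsZariskiLocalAtSource.iff_of_openCover (P := @Flat) (sigmaOpenCover Z)).2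
      fun x => by rw [show (sigmaOpenCover Z).f x = Sigma.ι Z x from rfl, hι]; exact (hp x).1
  · obtain ⟨z, hz⟩ := hx x
    exact ⟨Sigma.ι Z x z, ((congr($(hι x) z))).trans hz⟩
  · exact (IsZariskiLocalAtSource.iff_of_openCover (P := @LocallyOfFinitePresentation) (sigmaOpenCover Z)).2
      fun x => by rw [show (sigmaOpenCover Z).f x = Sigma.ι Z x from rfl, hι]; exact (hp x).2
  · have hfac : ∀ x, (Over.homMk (Sigma.ι Z x) (Sigma.ι_desc _ x) :
        Over.mk (f x ≫ T.hom) ⟶ Over.mk (Sigma.desc fun x => f x ≫ T.hom)) ≫ g = Over.homMk (f x) rfl :=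
      fun x => Over.OverMorphism.ext (hι x)
    refine hom_ext_cover (R := Presieve.ofArrows Z (Sigma.ι Z))
      (Scheme.zariskiPrecoverage_le_fppfPrecoverage _ (sigmaOpenCover Z).mem₀) ?_
    rintro _ _ ⟨x⟩
    let e : Over.mk (Sigma.ι Z x ≫ Sigma.desc fun x => f x ≫ T.hom) ⟶ Over.mk (f x ≫ T.hom) :=
      Over.homMk (𝟙 _) ((Category.id_comp _).trans (Sigma.ι_desc (fun x => f x ≫ T.hom) x).symm)
    have he : (Over.homMk (Sigma.ι Z x) rfl :
        Over.mk (Sigma.ι Z x ≫ Sigma.desc fun x => f x ≫ T.hom) ⟶ Over.mk (Sigma.desc fun x => f x ≫ T.hom)) =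
          e ≫ (Over.homMk (Sigma.ι Z x) (Sigma.ι_desc (fun x => f x ≫ T.hom) x) :
            Over.mk (f x ≫ T.hom) ⟶ Over.mk (Sigma.desc fun x => f x ≫ T.hom)) :=
      Over.OverMorphism.ext (Category.id_comp _).symm
    erw [he]
    rw [Functor.map_comp, Category.assoc, Category.assoc]
    congr 1
    refine (Category.assoc _ _ _).symm.trans ((congrArg (· ≫ b) (hL x)).trans ((hl x).trans ?_))
    refine Eq.trans ?_ (Category.assoc _ _ _)
    exact congrArg (· ≫ ξ) ((congrArg (yon S).map (hfac x).symm).trans ((yon S).map_comp _ _))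

end Groth.Agent.AlgSpLib
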