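import Groth.Agent.AlgSpLib.Points
import Groth.Agent.AlgSpLib.Sigma
import Groth.Prelude.Def_AlgSp4

/-!
# Algebraic spaces: charts by affine schemes, quasi-compact spaces
-/

universe u

open CategoryTheory CategoryTheory.Limits AlgebraicGeometry Opposite Topology TopologicalSpace

set_option backward.isDefEq.respectTransparency false

namespace Groth.Agent.AlgSpLib

open _root_.AlgSp

variable {S : Scheme.{u}}

lemma isSurjectiveMor_of_ofPt_surjective {F : Sp S} {U : Over S} {p : (yon S).obj U ⟶ F}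
    (h : Function.Surjective (Points.ofPt p)) : IsSurjectiveMor p := fun x => by
  obtain ⟨u, rfl⟩ := h x
  exact ⟨Points.ofScheme U u, (Points.ofPt_eq_map_ofScheme p u).symm⟩

/-- charts from a family of etale maps to a chart -/
theorem exists_chart_sigma {F : Sp S} {U : Over S} {p : (yon S).obj U ⟶ F} (hp : RepWith @Etale p)
    {ι : Type u} {Z : ι → Scheme.{u}} (f : ∀ i, Z i ⟶ U.left) (hf : ∀ i, Etale (f i))
    (hs : ∀ x : Points F, ∃ i z, Points.ofPt p (f i z) = x) :
    ∃ p' : (yon S).obj (Over.mk (Sigma.desc f ≫ U.hom)) ⟶ F,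
      RepWith @Etale p' ∧ RepWith @Surjective p' ∧
        ∀ i z, Points.ofPt p' (Sigma.ι Z i z) = Points.ofPt p (f i z) := by
  let c : Over.mk (Sigma.desc f ≫ U.hom) ⟶ U := Over.homMk (Sigma.desc f) rfl
  have hc : Etale c.left := by
    refine (IsZariskiLocalAtSource.iff_of_openCover (P := @Etale) (sigmaOpenCover Z)).2 fun i => ?_
    change Etale (Sigma.ι Z i ≫ Sigma.desc f)
    rw [Sigma.ι_desc]
    exact hf i
  have he : RepWith @Etale ((yon S).map c ≫ p) := repWith_comp ((repWith_yon_iff c).2 hc) hp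
  have key : ∀ i z, Points.ofPt ((yon S).map c ≫ p) (Sigma.ι Z i z) = Points.ofPt p (f i z) := fun i z => by
    rw [ofPt_comp]
    change Points.ofPt p ((Sigma.desc f) (Sigma.ι Z i z)) = _
    rw [← Scheme.Hom.comp_apply, Sigma.ι_desc]
  refine ⟨(yon S).map c ≫ p, he, repWith_surjective_of_isSurjectiveMor he.1
    (isSurjectiveMor_of_ofPt_surjective fun x => ?_), key⟩
  obtain ⟨i, z, rfl⟩ := hs x
  exact ⟨Sigma.ι Z i z, key i z⟩

/-- a chart by a disjoint union of affine schemes over affine opens of the base -/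
theorem exists_affine_chart_family {F : Sp S} (hF : IsAlgSpace F) :
    ∃ (U : Over S) (p : (yon S).obj U ⟶ F) (ι : Type u) (Z : ι → U.left.Opens),
      RepWith @Etale p ∧ RepWith @Surjective p ∧ (∀ i, IsAffineOpen (Z i)) ∧
      (∀ i, ∃ W : S.Opens, IsAffineOpen W ∧ Z i ≤ U.hom ⁻¹ᵁ W) ∧ ∀ u : ↥U.left, ∃ i, u ∈ Z i := by
  obtain ⟨U, p, he, hs⟩ := hF.atlas
  refine ⟨U, p, {Z : U.left.Opens // IsAffineOpen Z ∧ ∃ W : S.Opens, IsAffineOpen W ∧ Z ≤ U.hom ⁻¹ᵁ W},
    fun Z => Z.1, he, hs, fun Z => Z.2.1, fun Z => Z.2.2, fun u => ?_⟩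
  obtain ⟨W, hW, hu, -⟩ := Opens.isBasis_iff_nbhd.mp S.isBasis_affineOpens (Opens.mem_top (U.hom u))
  obtain ⟨Z, hZ, huZ, hle⟩ := Opens.isBasis_iff_nbhd.mp U.left.isBasis_affineOpens
    (show u ∈ U.hom ⁻¹ᵁ W from hu)
  exact ⟨⟨Z, hZ, W, hW, hle⟩, huZ⟩

theorem exists_affine_sigma_chart {F : Sp S} (hF : IsAlgSpace F) :
    ∃ (ι : Type u) (V : ι → Scheme.{u}) (_ : ∀ i, IsAffine (V i)) (q : (∐ V) ⟶ S)
      (p : (yon S).obj (Over.mk q) ⟶ F), RepWith @Etale p ∧ RepWith @Surjective p ∧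
        ∀ i, ∃ W : S.Opens, IsAffineOpen W ∧ ∀ v : ↥(V i), (Sigma.ι V i ≫ q) v ∈ W := by
  obtain ⟨U, p, ι, Z, he, hs, hZ, hW, hcov⟩ := exists_affine_chart_family hF
  obtain ⟨p', he', hs', -⟩ := exists_chart_sigma he (fun i => (Z i).ι) (fun i => inferInstance) (fun x => by
    obtain ⟨u, rfl⟩ := ofPt_surjective hs x
    obtain ⟨i, hi⟩ := hcov u
    exact ⟨i, ⟨u, hi⟩, rfl⟩)
  refine ⟨ι, _, hZ, _, p', he', hs', fun i => ?_⟩
  obtain ⟨W, hW', hle⟩ := hW i
  refine ⟨W, hW', fun v => ?_⟩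
  rw [Sigma.ι_desc_assoc]
  exact hle v.2

/-- an affine chart when the points are compact -/
theorem exists_affine_chart_of_compact {F : Sp S} (hF : IsAlgSpace F) [CompactSpace (Points F)] :
    ∃ (U : Over S) (p : (yon S).obj U ⟶ F), IsAffine U.left ∧ RepWith @Etale p ∧ RepWith @Surjective p := by
  obtain ⟨U, p, ι, Z, he, hs, hZ, -, hcov⟩ := exists_affine_chart_family hF
  obtain ⟨t, ht⟩ := isCompact_univ.elim_finite_subcover (fun i => Points.ofPt p '' (Z i : Set U.left))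
    (fun i => isOpenMap_ofPt (repWith_universallyOpen_of_etale he) _ (Z i).2) (fun x _ => by
      obtain ⟨u, rfl⟩ := ofPt_surjective hs x
      obtain ⟨i, hi⟩ := hcov u
      exact Set.mem_iUnion.mpr ⟨i, u, hi, rfl⟩)
  obtain ⟨p', he', hs', -⟩ := exists_chart_sigma he (fun j : t => (Z j.1).ι) (fun j => inferInstance) (fun x => by
    obtain ⟨i, hi⟩ := Set.mem_iUnion.mp (ht (Set.mem_univ x))
    obtain ⟨hit, u, hu, rfl⟩ := Set.mem_iUnion.mp hi
    exact ⟨⟨i, hit⟩, ⟨u, hu⟩, rfl⟩)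
  have : ∀ j : t, IsAffine (Z j.1).toScheme := fun j => hZ j.1
  exact ⟨_, p', show IsAffine (∐ fun j : t => (Z j.1).toScheme) from inferInstance, he', hs'⟩

theorem compactSpace_of_isQuasiCompactSp {F : Sp S} (h : IsQuasiCompactSp F) : CompactSpace (Points F) := by
  obtain ⟨U, p, -, hs, hU⟩ := h
  have : CompactSpace ↥U.left := hU
  exact ⟨(ofPt_surjective hs).range_eq ▸ isCompact_range (Points.continuous_ofPt p)⟩

theorem isQuasiCompactSp_of_compactSpace {F : Sp S} (hF : IsAlgSpace F) [CompactSpace (Points F)] :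
    IsQuasiCompactSp F := by
  obtain ⟨U, p, hU, he, hs⟩ := exists_affine_chart_of_compact hF
  exact ⟨U, p, he, hs, inferInstance⟩

theorem isQuasiCompactSp_iff {F : Sp S} (hF : IsAlgSpace F) :
    IsQuasiCompactSp F ↔ CompactSpace (Points F) :=
  ⟨compactSpace_of_isQuasiCompactSp, fun _ => isQuasiCompactSp_of_compactSpace hF⟩

theorem isQuasiCompactSp_of_isSurjectiveMor {F G : Sp S} (hG : IsAlgSpace G) (f : F ⟶ G)
    (hf : IsSurjectiveMor f) (h : IsQuasiCompactSp F) : IsQuasiCompactSp G := by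
  have := compactSpace_of_isQuasiCompactSp h
  have : CompactSpace (Points G) := ⟨hf.range_eq ▸ isCompact_range (Points.continuous_map f)⟩
  exact isQuasiCompactSp_of_compactSpace hG

/-- quasi-compactness of morphisms passes to the target of a surjection over the base -/
theorem isQuasiCompactMor_of_surjective {F G H : Sp S} (hG : IsAlgSpace G) (hH : IsAlgSpace H) (f : F ⟶ G)
    (q : G ⟶ H) (hf : IsSurjectiveMor f) (hp : IsQuasiCompactMor (f ≫ q)) : IsQuasiCompactMor q := by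
  intro Z Z' hZ hZq g fst snd sq
  have hZ' := isAlgSpace_of_isPullback_space hH hG hZ sq
  have sq' := IsPullback.of_hasPullback f fst
  have h' := hp hZ hZq g (pullback.fst f fst) (pullback.snd f fst ≫ snd) (sq'.paste_vert sq)
  exact isQuasiCompactSp_of_isSurjectiveMor hZ' _ (isSurjectiveMor_baseChange sq' hf) h'

theorem isQuasiCompactSp_of_cofan {ι : Type u} [Finite ι] {Xi : ι → Sp S} {X : Sp S} (hX : IsAlgSpace X)
    (l : ∀ i, Xi i ⟶ X) (hl : ∀ x : Points X, ∃ i, x ∈ Set.range (Points.map (l i)))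
    (h : ∀ i, IsQuasiCompactSp (Xi i)) : IsQuasiCompactSp X := by
  have : CompactSpace (Points X) := ⟨by
    rw [show Set.univ = ⋃ i, Set.range (Points.map (l i)) from
      (Set.eq_univ_of_forall fun x => Set.mem_iUnion.mpr (hl x)).symm]
    exact isCompact_iUnion fun i => have := compactSpace_of_isQuasiCompactSp (h i)
      isCompact_range (Points.continuous_map _)⟩
  exact isQuasiCompactSp_of_compactSpace hX

end Groth.Agent.AlgSpLib
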