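import Groth.Agent.AlgSpLib.Space

/-!
# Algebraic spaces: monomorphisms and properties of diagonals
-/

universe u

open CategoryTheory CategoryTheory.Limits AlgebraicGeometry Opposite

set_option backward.isDefEq.respectTransparency false

namespace Groth.Agent.AlgSpLib

open _root_.AlgSp

variable {S : Scheme.{u}}

lemma mono_of_left {A B : Over S} (f : A ⟶ B) [Mono f.left] : Mono f :=
  (Over.forget S).mono_of_mono_map (show Mono ((Over.forget S).map f) from ‹_›)

/-- a representable monomorphism is a monomorphism -/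
theorem mono_of_repWith {F G : Sp S} {f : F ⟶ G} (hf : RepWith (MorphismProperty.monomorphisms Scheme.{u}) f) :
    Mono f := mono_of_points f fun T a b e => by
  obtain ⟨V, fst, snd, sq, hm⟩ := exists_repWith hf (a ≫ f)
  have : Mono snd.left := hm
  have := mono_of_left snd
  obtain ⟨α, hα⟩ := exists_map_eq (sq.lift a (𝟙 _) (Category.id_comp _).symm)
  obtain ⟨β, hβ⟩ := exists_map_eq (sq.lift b (𝟙 _) (e.symm.trans (Category.id_comp _).symm))
  have hαs : α ≫ snd = 𝟙 T := (yon S).map_injective (by
    rw [Functor.map_comp, hα, sq.lift_snd, (yon S).map_id])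
  have hβs : β ≫ snd = 𝟙 T := (yon S).map_injective (by
    rw [Functor.map_comp, hβ, sq.lift_snd, (yon S).map_id])
  rw [← sq.lift_fst a (𝟙 _) (Category.id_comp _).symm, ← hα, (cancel_mono snd).1 (hαs.trans hβs.symm), hβ,
    sq.lift_fst]

theorem mono_of_repWith_immersion {F G : Sp S} {f : F ⟶ G} (hf : RepWith @IsImmersion f) : Mono f :=
  mono_of_repWith (repWith_mono (fun _ _ g hg => by
    have : IsImmersion g := hg
    exact (inferInstance : Mono g)) hf)

/-- being a monomorphism descends along locally surjective maps -/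
theorem mono_of_isLocallySurjective {F G H Q : Sp S} {f : F ⟶ G} {b : H ⟶ G}
    [Sheaf.IsLocallySurjective b] {b' : Q ⟶ F} {f' : Q ⟶ H} (sq : IsPullback b' f' f b) [Mono f'] :
    Mono f := mono_of_points f fun T x y e => by
  obtain ⟨R, hR, hl⟩ := exists_lift_cover b (x ≫ f)
  refine hom_ext_cover hR fun Z g hg => ?_
  obtain ⟨l, hl⟩ := hl g hg
  have h1 : ((yon S).map (Over.homMk g rfl : Over.mk (g ≫ T.hom) ⟶ T) ≫ x) ≫ f = l ≫ b :=
    (Category.assoc _ _ _).trans hl.symm
  have h2 : ((yon S).map (Over.homMk g rfl : Over.mk (g ≫ T.hom) ⟶ T) ≫ y) ≫ f = l ≫ b :=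
    (Category.assoc _ _ _).trans ((congrArg (_ ≫ ·) e.symm).trans hl.symm)
  have hxy : sq.lift _ _ h1 = sq.lift _ _ h2 := (cancel_mono f').1 (by rw [sq.lift_snd, sq.lift_snd])
  rw [← sq.lift_fst _ _ h1, hxy, sq.lift_fst]

lemma isLocallySurjective_comp {F G H : Sp S} (f : F ⟶ G) (g : G ⟶ H) [Sheaf.IsLocallySurjective f]
    [Sheaf.IsLocallySurjective g] : Sheaf.IsLocallySurjective (f ≫ g) :=
  Presheaf.isLocallySurjective_comp (J S) f.hom g.hom

/-- products of locally surjective maps -/
lemma isLocallySurjective_prod_map {F G F' G' : Sp S} (f : F ⟶ G) (g : F' ⟶ G')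
    [Sheaf.IsLocallySurjective f] [Sheaf.IsLocallySurjective g] :
    Sheaf.IsLocallySurjective (prod.map f g) := by
  rw [show prod.map f g = prod.map f (𝟙 F') ≫ prod.map (𝟙 G) g by simp [prod.map_map]]
  have h1 : IsPullback (prod.map f (𝟙 F')) (prod.fst : F ⨯ F' ⟶ F) (prod.fst : G ⨯ F' ⟶ G) f := by
    refine isPullback_of_points (by simp) fun T a b e => ⟨prod.lift b (a ≫ prod.snd), ⟨?_, by simp⟩, ?_⟩
    · apply prod.hom_ext
      · simp [e]
      · simp
    · rintro c ⟨rfl, rfl⟩
      apply prod.hom_ext <;> simp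
  have h2 : IsPullback (prod.map (𝟙 G) g) (prod.snd : G ⨯ F' ⟶ F') (prod.snd : G ⨯ G' ⟶ G') g := by
    refine isPullback_of_points (by simp) fun T a b e => ⟨prod.lift (a ≫ prod.fst) b, ⟨?_, by simp⟩, ?_⟩
    · apply prod.hom_ext
      · simp
      · simp [e]
    · rintro c ⟨rfl, rfl⟩
      apply prod.hom_ext <;> simp
  have := isLocallySurjective_of_isPullback h1
  have := isLocallySurjective_of_isPullback h2
  exact isLocallySurjective_comp _ _

/-- properties of the diagonal of an algebraic space are read off an atlas -/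
theorem repWith_diag (P : MorphismProperty Scheme.{u}) [P.IsStableUnderBaseChange]
    [P.IsLocalAtTarget Scheme.fppfPrecoverage] {F : Sp S} (hF : IsAlgSpace F)
    (h : ∀ ⦃R U : Over S⦄ (s t : R ⟶ U), IsEtaleEqvRel s t → Mono (prod.lift t s).left → P (prod.lift t s).left) :
    RepWith P (Limits.diag F) := by
  obtain ⟨U, p, hpe, hps⟩ := hF.atlas
  obtain ⟨R, s, t, hP⟩ := exists_presentation hF hpe hps
  have sq := hP.isPullback
  have : Mono (prod.lift t s) := ⟨fun a b e => (yon S).map_injective (sq.hom_ext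
    (by simpa using congrArg (fun k => (yon S).map (k ≫ prod.fst)) e)
    (by simpa using congrArg (fun k => (yon S).map (k ≫ prod.snd)) e))⟩
  have := isLocallySurjective_of_atlas hpe hps
  have := isLocallySurjective_prod_map p p
  refine repWith_of_isLocallySurjective hF.diag (isPullback_lift_diag sq) ?_
  have e : prod.lift ((yon S).map t) ((yon S).map s) =
      (yon S).map (prod.lift t s) ≫ prodComparison (yon S) U U := by
    apply prod.hom_ext <;> simp [prodComparison, ← Functor.map_comp]
  rw [e]
  exact (repWith_comp_iso_iff (P := P) _ _).2 ((repWith_yon_iff _).2 (h s t hP.eqvRel (mono_left _)))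

lemma lft_lqf_of_eqvRel {R U : Over S} {s t : R ⟶ U} (h : IsEtaleEqvRel s t) :
    (@LocallyQuasiFinite ⊓ @LocallyOfFiniteType : MorphismProperty Scheme.{u}) (prod.lift t s).left := by
  have hs : Etale ((prod.lift t s).left ≫ (prod.snd : U ⨯ U ⟶ U).left) := by
    rw [← Over.comp_left, prod.lift_snd]; exact h.etale_left
  have : LocallyQuasiFinite ((prod.lift t s).left ≫ (prod.snd : U ⨯ U ⟶ U).left) :=
    FpqcDescent.locallyQuasiFinite_of_etale _
  exact ⟨.of_comp _ (prod.snd : U ⨯ U ⟶ U).left, locallyOfFiniteType_of_comp _ (prod.snd : U ⨯ U ⟶ U).left⟩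

theorem repWith_diag_lqf {F : Sp S} (hF : IsAlgSpace F) :
    RepWith (@LocallyQuasiFinite ⊓ @LocallyOfFiniteType) (Limits.diag F) :=
  repWith_diag _ hF fun _ _ _ _ h _ => lft_lqf_of_eqvRel h

theorem repWith_diag_mono {F : Sp S} (hF : IsAlgSpace F) :
    RepWith (MorphismProperty.monomorphisms Scheme.{u}) (Limits.diag F) :=
  repWith_diag _ hF fun _ _ _ _ _ h => h

theorem repWith_diag_lft {F : Sp S} (hF : IsAlgSpace F) : RepWith @LocallyOfFiniteType (Limits.diag F) :=
  (repWith_inf_iff.1 (repWith_diag_lqf hF)).2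

theorem repWith_diag_isSeparated {F : Sp S} (hF : IsAlgSpace F) : RepWith @IsSeparated (Limits.diag F) :=
  repWith_mono (fun _ _ f hf => by have : Mono f := hf; exact (inferInstance : IsSeparated f))
    (repWith_diag_mono hF)

/-- the relative diagonal is a base change of the absolute one -/
lemma isPullback_diagonal {F G : Sp S} (f : F ⟶ G) :
    IsPullback (𝟙 F) (pullback.diagonal f) (Limits.diag F)
      (prod.lift (pullback.fst f f) (pullback.snd f f)) := by
  refine isPullback_of_points ?_ fun T a b e => ?_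
  · rw [Category.id_comp]; apply prod.hom_ext <;> simp
  · refine ⟨a, ⟨Category.comp_id _, ?_⟩, fun c hc => ?_⟩
    · apply pullback.hom_ext
      · simpa using congrArg (fun k => k ≫ prod.fst) e
      · simpa using congrArg (fun k => k ≫ prod.snd) e
    · simpa using hc.1

theorem repWith_diagonal {P : MorphismProperty Scheme.{u}} {F G : Sp S} (f : F ⟶ G)
    (h : RepWith P (Limits.diag F)) : RepWith P (pullback.diagonal f) :=
  repWith_baseChange (isPullback_diagonal f) h

/-- a section is a base change of the relative diagonal -/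
lemma isPullback_section {F G : Sp S} {f : F ⟶ G} {s : G ⟶ F} (hs : s ≫ f = 𝟙 G) :
    IsPullback s s (pullback.diagonal f)
      (pullback.lift (𝟙 F) (f ≫ s) (by rw [Category.id_comp, Category.assoc, hs, Category.comp_id])) := by
  refine isPullback_of_points ?_ fun T a b e => ?_
  · apply pullback.hom_ext
    · simp
    · simp [reassoc_of% hs]
  · have e1 : a = b := by simpa using congrArg (fun k => k ≫ pullback.fst f f) e
    have e2 : a = b ≫ f ≫ s := by simpa using congrArg (fun k => k ≫ pullback.snd f f) e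
    have hb : (b ≫ f) ≫ s = b := by rw [Category.assoc, ← e2, e1]
    refine ⟨b ≫ f, ⟨hb.trans e1.symm, hb⟩, fun c hc => ?_⟩
    rw [← hc.2, Category.assoc, hs, Category.comp_id]

theorem repWith_section {P : MorphismProperty Scheme.{u}} {F G : Sp S} {f : F ⟶ G} {s : G ⟶ F}
    (hs : s ≫ f = 𝟙 G) (h : RepWith P (pullback.diagonal f)) : RepWith P s :=
  repWith_baseChange (isPullback_section hs) h

/-- composing with a monomorphism does not change base changes -/
theorem repWith_of_comp_mono {P : MorphismProperty Scheme.{u}} {F G H : Sp S} {g : F ⟶ G} {m : G ⟶ H}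
    [Mono m] (h : RepWith P (g ≫ m)) : RepWith P g := by
  refine repWith_baseChange (fst := 𝟙 F) (isPullback_of_points (by rw [Category.id_comp]) fun T a b e => ?_) h
  refine ⟨a, ⟨Category.comp_id _, (cancel_mono m).1 (by rw [Category.assoc]; exact e)⟩, fun c hc => ?_⟩
  simpa using hc.1

/-- a chart of the source over a chart of the target -/
theorem exists_chart_lift {X Y : Sp S} (hX : IsAlgSpace X) (hY : IsAlgSpace Y) (f : X ⟶ Y) {V : Over S}
    {q : (yon S).obj V ⟶ Y} (hqe : RepWith @Etale q) (hqs : RepWith @Surjective q) :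
    ∃ (U : Over S) (p : (yon S).obj U ⟶ X) (α : U ⟶ V),
      RepWith @Etale p ∧ RepWith @Surjective p ∧ p ≫ f = (yon S).map α ≫ q := by
  have sq := IsPullback.of_hasPullback f q
  obtain ⟨U, w, hwe, hws⟩ := (isAlgSpace_of_isPullback_space hY hX (IsAlgSpace.yon_obj V) sq).atlas
  obtain ⟨α, hα⟩ := exists_map_eq (w ≫ pullback.snd f q)
  refine ⟨U, w ≫ pullback.fst f q, α, repWith_comp hwe (repWith_baseChange sq.flip hqe),
    repWith_comp hws (repWith_baseChange sq.flip hqs), ?_⟩
  rw [hα, Category.assoc, Category.assoc, pullback.condition]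

end Groth.Agent.AlgSpLib
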