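import Groth.Agent.AlgSpLib.EtST
import Groth.Agent.AlgSpLib.DiagProp
import Groth.Prelude.Def_AlgSpEt
import Groth.Prelude.Def_AlgSp4

/-!
# Algebraic spaces: properties etale local on source and target
-/

universe u

open CategoryTheory CategoryTheory.Limits AlgebraicGeometry Opposite

set_option backward.isDefEq.respectTransparency false

namespace Groth.Agent.AlgSpLib

open _root_.AlgSp

variable {S : Scheme.{u}} {P : MorphismProperty Scheme.{u}}

/-- one surjective etale chart of the source suffices -/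
theorem locP_of_chart (hP : EtST P) {F G : Sp S} (hF : IsAlgSpace F) (hG : IsAlgSpace G) {f : F ⟶ G}
    {U V : Over S} {a : (yon S).obj U ⟶ F} {b : (yon S).obj V ⟶ G} {h : U ⟶ V}
    (ha : RepWith @Etale a) (has : RepWith @Surjective a) (hb : RepWith @Etale b)
    (comm : a ≫ f = (yon S).map h ≫ b) (hh : P h.left) : LocP P f := by
  intro U' V' a' b' h' ha' hb' comm'
  obtain ⟨W, w₁, w₂, sqW⟩ := exists_pullback hF.diag a a'
  obtain ⟨Z, z₁, z₂, sqZ⟩ := exists_pullback hG.diag b b'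
  have e : (yon S).map (w₁ ≫ h) ≫ b = (yon S).map (w₂ ≫ h') ≫ b' := by
    rw [Functor.map_comp, Functor.map_comp, Category.assoc, Category.assoc, ← comm, ← comm',
      sqW.w_assoc]
  obtain ⟨m, hm⟩ := (yon S).map_surjective (sqZ.lift _ _ e)
  have hm₁ : m ≫ z₁ = w₁ ≫ h := (yon S).map_injective (by
    rw [Functor.map_comp, hm]; exact sqZ.lift_fst _ _ e)
  have hm₂ : m ≫ z₂ = w₂ ≫ h' := (yon S).map_injective (by
    rw [Functor.map_comp, hm]; exact sqZ.lift_snd _ _ e)
  have hw₁ : Etale w₁.left := ha'.2 a _ w₁ sqW.flip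
  have hw₂ : Etale w₂.left := ha.2 a' _ w₂ sqW
  have hw₂' : Surjective w₂.left := has.2 a' _ w₂ sqW
  have hz₁ : Etale z₁.left := hb'.2 b _ z₁ sqZ.flip
  have hz₂ : Etale z₂.left := hb.2 b' _ z₂ sqZ
  have hm' : P m.left := hP.cancel _ z₁.left hz₁ (by
    rw [← Over.comp_left, hm₁, Over.comp_left]; exact hP.precomp _ _ hw₁ hh)
  refine hP.descend w₂.left h'.left hw₂ hw₂' ?_
  rw [← Over.comp_left, ← hm₂, Over.comp_left]
  exact hP.postcomp _ _ hm' hz₂

/-- for representable morphisms, having `P` locally is having `P` -/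
theorem locP_iff_repWith (hP : EtST P) {F G : Sp S} (hG : IsAlgSpace G) {f : F ⟶ G}
    (hf : Representable f) : LocP P f ↔ RepWith P f := by
  have := hP.baseChange
  refine ⟨fun h => repWith_of_exists fun U ξ => ?_, fun h U V a b k ha hb comm => ?_⟩
  · obtain ⟨V, q, hqe, hqs⟩ := hG.atlas
    obtain ⟨W, fst, snd, sqW⟩ := exists_isPullback_of_representable hf ξ
    refine ⟨W, fst, snd, sqW, ?_⟩
    obtain ⟨Qv, fv, sv, sqV⟩ := exists_isPullback_of_representable hf q
    have hsv : P sv.left := h fv q sv (repWith_baseChange sqV.flip hqe) hqe sqV.w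
    obtain ⟨V₁, a₁, b₁, sqU⟩ := exists_pullback hG.diag q ξ
    have hb₁ : Etale b₁.left := hqe.2 ξ _ b₁ sqU
    have hb₁' : Surjective b₁.left := hqs.2 ξ _ b₁ sqU
    obtain ⟨Q, e₁, e₂, sqQ⟩ := exists_pullback (IsAlgSpace.yon_obj U).diag ((yon S).map snd) ((yon S).map b₁)
    have he₁ : Etale e₁.left :=
      MorphismProperty.of_isPullback (P := @Etale) ((isPullback_yon_iff.1 sqQ).flip) hb₁
    have he₁' : Surjective e₁.left :=
      MorphismProperty.of_isPullback (P := @Surjective) ((isPullback_yon_iff.1 sqQ).flip) hb₁'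
    have sqT : IsPullback ((yon S).map e₁ ≫ fst) ((yon S).map e₂) f ((yon S).map a₁ ≫ q) := by
      rw [sqU.w]
      exact sqQ.paste_horiz sqW
    let l := sqV.lift ((yon S).map e₁ ≫ fst) ((yon S).map e₂ ≫ (yon S).map a₁)
      (by rw [Category.assoc ((yon S).map e₂)]; exact sqT.w)
    obtain ⟨l', hl'⟩ := (yon S).map_surjective l
    have sqL : IsPullback ((yon S).map l') ((yon S).map e₂) ((yon S).map sv) ((yon S).map a₁) := by
      refine IsPullback.of_right ?_ (by rw [hl']; exact sqV.lift_snd _ _ _) sqV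
      rw [hl', sqV.lift_fst]
      exact sqT
    have he₂ : P e₂.left := P.of_isPullback (isPullback_yon_iff.1 sqL) hsv
    refine hP.descend e₁.left snd.left he₁ he₁' ?_
    rw [(isPullback_yon_iff.1 sqQ).w]
    exact hP.postcomp _ _ he₂ hb₁
  · obtain ⟨Q, fst, snd, sqQ, hQ⟩ := exists_repWith h b
    obtain ⟨l, hl⟩ := (yon S).map_surjective (sqQ.lift a ((yon S).map k) comm)
    have h₁ : (yon S).map l ≫ fst = a := by rw [hl]; exact sqQ.lift_fst _ _ _
    have h₂ : l ≫ snd = k := (yon S).map_injective (by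
      rw [Functor.map_comp, hl]; exact sqQ.lift_snd _ _ _)
    have hl' : Etale l.left := EtOver.etale_left
      (EtOver.homMk (E := EtOver.mk a ha) (E' := EtOver.mk fst (repWith_baseChange sqQ.flip hb)) l h₁)
    rw [← h₂, Over.comp_left]
    exact hP.precomp _ _ hl' hQ

/-- etale morphisms are the morphisms that are etale locally on source and target etale -/
theorem isEtaleMor_iff_locP {F G : Sp S} (hG : IsAlgSpace G) {f : F ⟶ G} :
    IsEtaleMor f ↔ LocP @Etale f := by
  refine ⟨fun h U V a b k ha hb comm => ?_, fun h U φ hφ => ?_⟩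
  · exact EtOver.etale_left (EtOver.homMk (E := EtOver.mk (a ≫ f) (h a ha)) (E' := EtOver.mk b hb) k comm.symm)
  · refine (locP_iff_repWith etST_etale hG (Functor.relativelyRepresentable.of_diag hG.diag _)).1 fun U' V' a b k ha hb comm => ?_
    exact h (a ≫ φ) b k (repWith_comp ha hφ) hb (by rw [Category.assoc]; exact comm)

/-- a representable etale morphism is etale -/
theorem isEtaleMor_of_repWith' {F G : Sp S} {f : F ⟶ G} (hf : RepWith @Etale f) : IsEtaleMor f :=
  fun _ _ hφ => repWith_comp hφ hf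

/-- precomposition with an etale morphism -/
theorem locP_comp_isEtaleMor {E F G : Sp S} {e : E ⟶ F} {f : F ⟶ G} (he : IsEtaleMor e)
    (hf : LocP P f) : LocP P (e ≫ f) := fun _ _ a b h ha hb comm =>
  hf (a ≫ e) b h (he a ha) hb (by rw [Category.assoc]; exact comm)

/-- descent along a surjective etale chart of the source -/
theorem locP_of_comp_surjective (hP : EtST P) {F G : Sp S} (hF : IsAlgSpace F) {f : F ⟶ G} {U : Over S}
    {φ : (yon S).obj U ⟶ F} (hφ : RepWith @Etale φ) (hφs : RepWith @Surjective φ)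
    (h : LocP P (φ ≫ f)) : LocP P f := by
  intro U' V' a' b' h' ha' hb' comm'
  obtain ⟨W, w₁, w₂, sqW⟩ := exists_pullback hF.diag φ a'
  refine hP.descend w₂.left h'.left (hφ.2 a' _ w₂ sqW) (hφs.2 a' _ w₂ sqW) ?_
  refine h ((yon S).map w₁) b' (w₂ ≫ h') ((repWith_yon_iff _).2 (ha'.2 φ _ w₁ sqW.flip)) hb' ?_
  rw [sqW.w_assoc, Functor.map_comp, Category.assoc, comm']

/-- cancellation -/
theorem locP_cancel (hP : EtST P) {Q : MorphismProperty Scheme.{u}}
    (hc : ∀ ⦃A B C : Scheme.{u}⦄ (f : A ⟶ B) (g : B ⟶ C), Q g → P (f ≫ g) → P f)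
    {F G H : Sp S} (hH : IsAlgSpace H) {f : F ⟶ G} {g : G ⟶ H}
    (hfg : LocP P (f ≫ g)) (hg : LocP Q g) : LocP P f := by
  intro U V a b h ha hb comm
  obtain ⟨W, c, hce, hcs⟩ := hH.atlas
  obtain ⟨V', k, v₁, sqV⟩ := exists_pullback hH.diag c (b ≫ g)
  have hv₁ : Etale v₁.left := hce.2 (b ≫ g) _ v₁ sqV
  have hv₁' : Surjective v₁.left := hcs.2 (b ≫ g) _ v₁ sqV
  obtain ⟨U', u₁, u₂, sqU⟩ := exists_pullback (IsAlgSpace.yon_obj V).diag ((yon S).map h) ((yon S).map v₁)
  have hu₁ : Etale u₁.left :=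
    MorphismProperty.of_isPullback (P := @Etale) ((isPullback_yon_iff.1 sqU).flip) hv₁
  have hu₁' : Surjective u₁.left :=
    MorphismProperty.of_isPullback (P := @Surjective) ((isPullback_yon_iff.1 sqU).flip) hv₁'
  have hk : Q k.left := hg ((yon S).map v₁ ≫ b) c k
    (repWith_comp ((repWith_yon_iff _).2 hv₁) hb) hce (by rw [Category.assoc]; exact sqV.w.symm)
  have hu₂ : P u₂.left := hc _ k.left hk (by
    rw [← Over.comp_left]
    refine hfg ((yon S).map u₁ ≫ a) c (u₂ ≫ k) (repWith_comp ((repWith_yon_iff _).2 hu₁) ha) hce ?_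
    rw [Category.assoc, Functor.map_comp, Category.assoc, sqV.w, ← sqU.w_assoc, ← reassoc_of% comm])
  refine hP.descend u₁.left h.left hu₁ hu₁' ?_
  rw [(isPullback_yon_iff.1 sqU).w]
  exact hP.postcomp _ _ hu₂ hv₁

/-- etaleness of a map to an etale space -/
theorem isEtaleMor_of_comp {F G H : Sp S} (hG : IsAlgSpace G) (hH : IsAlgSpace H) {f : F ⟶ G} {g : G ⟶ H}
    (hfg : IsEtaleMor (f ≫ g)) (hg : IsEtaleMor g) : IsEtaleMor f :=
  (isEtaleMor_iff_locP hG).2 (locP_cancel etST_etale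
    (fun _ _ _ f g hg h => etST_etale.cancel f g hg h) hH
    ((isEtaleMor_iff_locP hH).1 hfg) ((isEtaleMor_iff_locP hH).1 hg))

theorem repWith_id' {U : Over S} : RepWith @Etale (𝟙 ((yon S).obj U)) := repWith_id _ U

/-- etaleness of a chart map to an etale space -/
theorem repWith_etale_of_comp {G H : Sp S} (hG : IsAlgSpace G) (hH : IsAlgSpace H) {U : Over S}
    {f : (yon S).obj U ⟶ G} {g : G ⟶ H}
    (hfg : RepWith @Etale (f ≫ g)) (hg : IsEtaleMor g) : RepWith @Etale f := by
  have := isEtaleMor_of_comp hG hH (isEtaleMor_of_repWith _ hfg) hg (𝟙 _) repWith_id'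
  rwa [Category.id_comp] at this

/-- composition -/
theorem locP_comp (hP : EtST P) {F G H : Sp S} (hG : IsAlgSpace G) (hH : IsAlgSpace H) {f : F ⟶ G}
    {g : G ⟶ H} (hf : LocP P f) (hg : LocP P g) : LocP P (f ≫ g) := by
  intro U W a c h ha hc comm
  have := hP.comp
  have sqT := IsPullback.of_hasPullback g c
  have hT : IsAlgSpace (pullback g c) := isAlgSpace_of_isPullback_space hH hG (IsAlgSpace.yon_obj W) sqT
  obtain ⟨V, q, hqe, hqs⟩ := hT.atlas
  obtain ⟨k, hk⟩ := (yon S).map_surjective (q ≫ pullback.snd g c)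
  have hb : RepWith @Etale (q ≫ pullback.fst g c) := repWith_comp hqe (repWith_baseChange sqT.flip hc)
  have hkP : P k.left := hg _ c k hb hc (by rw [Category.assoc, sqT.w, ← Category.assoc, hk])
  obtain ⟨U', u₂, u₁, sqU⟩ := exists_pullback hT.diag q
    (pullback.lift (a ≫ f) ((yon S).map h) (by rw [Category.assoc]; exact comm))
  have hu₁ : Etale u₁.left := hqe.2 _ _ u₁ sqU
  have hu₁' : Surjective u₁.left := hqs.2 _ _ u₁ sqU
  have hu₂ : P u₂.left := by
    refine hf ((yon S).map u₁ ≫ a) _ u₂ (repWith_comp ((repWith_yon_iff _).2 hu₁) ha) hb ?_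
    rw [Category.assoc, reassoc_of% sqU.w, pullback.lift_fst]
  refine hP.descend u₁.left h.left hu₁ hu₁' ?_
  have e : u₁ ≫ h = u₂ ≫ k := (yon S).map_injective (by
    rw [Functor.map_comp, Functor.map_comp, hk, reassoc_of% sqU.w, pullback.lift_snd])
  rw [← Over.comp_left, e, Over.comp_left]
  exact P.comp_mem _ _ hu₂ hkP

/-- descent along a surjective etale base change from a scheme -/
theorem locP_of_pullback (hP : EtST P) {F G : Sp S} (hF : IsAlgSpace F) (hG : IsAlgSpace G) {f : F ⟶ G}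
    {V : Over S} {p : (yon S).obj V ⟶ G} (hp : RepWith @Etale p) (hps : RepWith @Surjective p)
    {F' : Sp S} {fst : F' ⟶ F} {snd : F' ⟶ (yon S).obj V} (sq : IsPullback fst snd f p)
    (h : LocP P snd) : LocP P f := by
  intro U V' a b k ha hb comm
  have hF' : IsAlgSpace F' := isAlgSpace_of_isPullback_space hG hF (IsAlgSpace.yon_obj V) sq
  obtain ⟨Z, z₁, z₂, sqZ⟩ := exists_pullback hG.diag p b
  have hz₁ : Etale z₁.left := hb.2 p _ z₁ sqZ.flip
  have hz₂ : Etale z₂.left := hp.2 b _ z₂ sqZ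
  have hz₂' : Surjective z₂.left := hps.2 b _ z₂ sqZ
  obtain ⟨W, w₁, w₂, sqW⟩ := exists_pullback (IsAlgSpace.yon_obj V').diag ((yon S).map k) ((yon S).map z₂)
  have hw₁ : Etale w₁.left :=
    MorphismProperty.of_isPullback (P := @Etale) ((isPullback_yon_iff.1 sqW).flip) hz₂
  have hw₁' : Surjective w₁.left :=
    MorphismProperty.of_isPullback (P := @Surjective) ((isPullback_yon_iff.1 sqW).flip) hz₂'
  let l := sq.lift ((yon S).map w₁ ≫ a) ((yon S).map (w₂ ≫ z₁)) (by
    rw [Category.assoc, comm, Functor.map_comp, Category.assoc, sqZ.w, sqW.w_assoc])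
  have hl : RepWith @Etale l := by
    refine repWith_etale_of_comp hF' hF ?_ (isEtaleMor_of_repWith' (repWith_baseChange sq.flip hp))
    rw [sq.lift_fst]
    exact repWith_comp ((repWith_yon_iff _).2 hw₁) ha
  have h₁ : P (w₂ ≫ z₁).left := h l (𝟙 _) (w₂ ≫ z₁) hl repWith_id' (by
    rw [Category.comp_id]; exact sq.lift_snd _ _ _)
  rw [Over.comp_left] at h₁
  refine hP.descend w₁.left k.left hw₁ hw₁' ?_
  rw [(isPullback_yon_iff.1 sqW).w]
  exact hP.postcomp _ _ (hP.cancel _ _ hz₁ h₁) hz₂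

/-- base change -/
theorem locP_baseChange (hP : EtST P) {F G F' G' : Sp S} (hF : IsAlgSpace F) (hG : IsAlgSpace G)
    (hF' : IsAlgSpace F') (hG' : IsAlgSpace G') {f : F ⟶ G} {g : G' ⟶ G} {fst : F' ⟶ F} {f' : F' ⟶ G'}
    (sq : IsPullback fst f' f g) (hf : LocP P f) : LocP P f' := by
  intro U V aU b h ha hb comm
  have := hP.comp
  have := hP.baseChange
  have sqX := IsPullback.of_hasPullback f' b
  have hX : IsAlgSpace (pullback f' b) := isAlgSpace_of_isPullback_space hG' hF' (IsAlgSpace.yon_obj V) sqX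
  let l := pullback.lift aU ((yon S).map h) comm
  have hl : RepWith @Etale l := by
    refine repWith_etale_of_comp hX hF' ?_ (isEtaleMor_of_repWith' (repWith_baseChange sqX.flip hb))
    rw [pullback.lift_fst]
    exact ha
  suffices key : LocP P (pullback.snd f' b) by
    exact key l (𝟙 _) h hl repWith_id' (by rw [Category.comp_id, pullback.lift_snd])
  obtain ⟨W, q, hqe, hqs⟩ := hG.atlas
  obtain ⟨U₀, p, α, hpe, hps, hα⟩ := exists_chart_lift hF hG f hqe hqs
  have hαP : P α.left := hf p q α hpe hqe hα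
  obtain ⟨V₁, a₁, b₁, sqV⟩ := exists_pullback hG.diag q (b ≫ g)
  have hb₁ : Etale b₁.left := hqe.2 (b ≫ g) _ b₁ sqV
  obtain ⟨Q, q₀, q₁, sqQ⟩ := exists_pullback (IsAlgSpace.yon_obj W).diag ((yon S).map α) ((yon S).map a₁)
  have hq₁ : P q₁.left := P.of_isPullback (isPullback_yon_iff.1 sqQ) hαP
  have e : ((yon S).map q₀ ≫ p) ≫ f = (((yon S).map q₁ ≫ (yon S).map b₁) ≫ b) ≫ g := by
    simp only [Category.assoc]
    rw [hα, ← sqV.w, sqQ.w_assoc]
  let m := pullback.lift (f := f') (g := b) (sq.lift _ _ e) ((yon S).map q₁ ≫ (yon S).map b₁) (sq.lift_snd _ _ e)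
  have hm₁ : m ≫ pullback.fst f' b ≫ fst = (yon S).map q₀ ≫ p := by
    rw [pullback.lift_fst_assoc, sq.lift_fst]
  have sqM : IsPullback ((yon S).map q₀) m p (pullback.fst f' b ≫ fst) := by
    refine isPullback_of_points hm₁.symm fun T y x hxy => ?_
    have ex : (y ≫ (yon S).map α) ≫ q = (x ≫ pullback.snd f' b) ≫ b ≫ g := by
      rw [Category.assoc, ← hα, reassoc_of% hxy, sq.w, pullback.condition_assoc, Category.assoc]
    let z := sqV.lift _ _ ex
    have ez : y ≫ (yon S).map α = z ≫ (yon S).map a₁ := (sqV.lift_fst _ _ ex).symm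
    refine ⟨sqQ.lift y z ez, ⟨sqQ.lift_fst _ _ _, ?_⟩, fun c hc => ?_⟩
    · refine pullback.hom_ext (sq.hom_ext ?_ ?_) ?_
      · simp only [Category.assoc, hm₁, sqQ.lift_fst_assoc, hxy]
      · simp only [Category.assoc, pullback.condition, m, pullback.lift_snd_assoc, sqQ.lift_snd_assoc, z]
        rw [sqV.lift_snd_assoc, Category.assoc]
      · simp only [Category.assoc, m, pullback.lift_snd, sqQ.lift_snd_assoc, z, sqV.lift_snd]
    · refine sqQ.hom_ext (hc.1.trans (sqQ.lift_fst _ _ _).symm) ?_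
      rw [sqQ.lift_snd]
      refine sqV.hom_ext ?_ ?_
      · rw [sqV.lift_fst, ← hc.1, Category.assoc, Category.assoc, sqQ.w]
      · rw [sqV.lift_snd, ← hc.2, Category.assoc, Category.assoc, pullback.lift_snd]
  refine locP_of_chart hP hX (IsAlgSpace.yon_obj V) (h := q₁ ≫ b₁)
    (repWith_baseChange sqM hpe) (repWith_baseChange sqM hps) repWith_id' ?_ ?_
  · rw [Category.comp_id, pullback.lift_snd, Functor.map_comp]
  · rw [Over.comp_left]
    exact hP.postcomp _ _ hq₁ hb₁

end Groth.Agent.AlgSpLib
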