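import Groth.Agent.AlgSpLib.DiagCrit
import Mathlib.AlgebraicGeometry.ZariskisMainTheorem

/-!
# Algebraic spaces: proper, integral and finite morphisms
-/

universe u

open CategoryTheory CategoryTheory.Limits AlgebraicGeometry Opposite Topology MorphismProperty

set_option backward.isDefEq.respectTransparency false

namespace Groth.Agent.AlgSpLib

open _root_.AlgSp

variable {S : Scheme.{u}}

lemma repWith_and {P Q R : MorphismProperty Scheme.{u}} (h : ∀ ⦃A B : Scheme.{u}⦄ (q : A ⟶ B), P q ↔ Q q ∧ R q)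
    {X Y : Sp S} {f : X ⟶ Y} : RepWith P f ↔ RepWith Q f ∧ RepWith R f := by
  rw [show P = Q ⊓ R from MorphismProperty.ext _ _ fun _ _ q => h q, repWith_inf_iff]

theorem isProperMor_iff_repWith {X Y : Sp S} (hX : IsAlgSpace X) (hY : IsAlgSpace Y) {f : X ⟶ Y}
    (hf : Representable f) : IsProperMor f ↔ RepWith @IsProper f := by
  simp only [IsProperMor, IsFiniteTypeMor, isSeparatedMor_iff_repWith hX hY hf,
    isUnivClosedMor_iff_repWith hf, locP_iff_repWith etST_lft hY hf, isQuasiCompactMor_iff_repWith hX hY hf]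
  refine ⟨fun ⟨h1, ⟨h2, h3⟩, h4⟩ => repWith_of_exists fun T ξ => ?_, fun h => ?_⟩
  · obtain ⟨W, fst, w, sq⟩ := exists_isPullback_of_representable hf ξ
    have : IsSeparated w.left := h1.2 ξ fst w sq
    have : UniversallyClosed w.left := h4.2 ξ fst w sq
    have : LocallyOfFiniteType w.left := h2.2 ξ fst w sq
    exact ⟨W, fst, w, sq, (IsProper.mk : IsProper w.left)⟩
  · refine ⟨repWith_mono (fun _ _ q hq => ?_) h, ⟨repWith_mono (fun _ _ q hq => ?_) h,
      repWith_mono (fun _ _ q hq => ?_) h⟩, repWith_mono (fun _ _ q hq => ?_) h⟩ <;>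
      (have : IsProper q := hq; infer_instance)

theorem isIntegralMor_iff {X Y : Sp S} (f : X ⟶ Y) :
    IsIntegralMor f ↔ IsAffineMor f ∧ IsUnivClosedMor f := by
  rw [isIntegralMor_iff_repWith, isAffineMor_iff_repWith,
    repWith_and (Q := @IsAffineHom) (R := @UniversallyClosed) fun _ _ q => by
      rw [IsIntegralHom.iff_universallyClosed_and_isAffineHom, and_comm]]
  refine and_congr_right fun h => ?_
  rw [isUnivClosedMor_iff_repWith h.1]

theorem isFiniteMor_iff {X Y : Sp S} (hX : IsAlgSpace X) (hY : IsAlgSpace Y) (f : X ⟶ Y) :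
    IsFiniteMor f ↔ IsAffineMor f ∧ IsProperMor f := by
  rw [isFiniteMor_iff_repWith, isAffineMor_iff_repWith,
    repWith_and (Q := @IsAffineHom) (R := @IsProper) fun _ _ q => by
      rw [IsFinite.iff_isProper_and_isAffineHom, and_comm]]
  exact and_congr_right fun h => by rw [isProperMor_iff_repWith hX hY h.1]

/-- a monomorphism of finite type is a closed immersion if universally closed -/
theorem repWith_isClosedImmersion_of_mono_univClosed {X Y : Sp S} (hY : IsAlgSpace Y) {f : X ⟶ Y}
    (hm : RepWith (MorphismProperty.monomorphisms Scheme.{u}) f) (hl : LocP @LocallyOfFiniteType f)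
    (hc : IsUnivClosedMor f) : RepWith @IsClosedImmersion f := by
  rw [locP_iff_repWith etST_lft hY hm.1] at hl
  rw [isUnivClosedMor_iff_repWith hm.1] at hc
  refine repWith_of_exists fun T ξ => ?_
  obtain ⟨W, fst, w, sq⟩ := exists_isPullback_of_representable hm.1 ξ
  refine ⟨W, fst, w, sq, ?_⟩
  have : Mono w.left := hm.2 ξ fst w sq
  have : LocallyOfFiniteType w.left := hl.2 ξ fst w sq
  have : UniversallyClosed w.left := hc.2 ξ fst w sq
  exact (IsClosedImmersion.iff_isProper_and_mono (f := w.left)).2 ⟨⟨⟩, inferInstance⟩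

theorem repWith_diagonal_props {X Y : Sp S} (hX : IsAlgSpace X) (f : X ⟶ Y) :
    RepWith (MorphismProperty.monomorphisms Scheme.{u}) (pullback.diagonal f) ∧
      RepWith @LocallyOfFiniteType (pullback.diagonal f) :=
  ⟨repWith_diagonal f (repWith_diag_mono hX), repWith_diagonal f (repWith_diag_lft hX)⟩

theorem isSeparatedMor_iff_diagonal {X Y : Sp S} (hX : IsAlgSpace X) (hY : IsAlgSpace Y) (f : X ⟶ Y) :
    (IsSeparatedMor f ↔ IsUnivClosedMor (pullback.diagonal f)) ∧
      (IsSeparatedMor f ↔ IsProperMor (pullback.diagonal f)) := by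
  have hB : IsAlgSpace (pullback f f) :=
    isAlgSpace_of_isPullback_space hY hX hX (IsPullback.of_hasPullback f f)
  obtain ⟨hm, hl⟩ := repWith_diagonal_props hX f
  have key : IsUnivClosedMor (pullback.diagonal f) → IsSeparatedMor f := fun h =>
    repWith_isClosedImmersion_of_mono_univClosed hB hm ((locP_iff_repWith etST_lft hB hm.1).2 hl) h
  exact ⟨⟨fun h => (isProperMor_of_closedImmersion hX hB h).2.2, key⟩,
    ⟨fun h => isProperMor_of_closedImmersion hX hB h, fun h => key h.2.2⟩⟩

/-- cancellation against a separated morphism -/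
theorem isUnivClosedMor_and_proper_of_comp {X Y B : Sp S} (hX : IsAlgSpace X) (hY : IsAlgSpace Y)
    (hB : IsAlgSpace B) (f : X ⟶ Y) (p : X ⟶ B) (q : Y ⟶ B) (comm : f ≫ q = p) (hq : IsSeparatedMor q) :
    (IsUnivClosedMor p → IsUnivClosedMor f ∧ IsClosed (Set.range (Points.map f))) ∧
      (IsProperMor p → IsProperMor f) := by
  have sqP := IsPullback.of_hasPullback p q
  have hP := isAlgSpace_of_isPullback_space hB hX hY sqP
  let Γf : X ⟶ pullback p q := pullback.lift (𝟙 _) f (by rw [Category.id_comp, comm])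
  have hΓ : RepWith @IsClosedImmersion Γf := by
    have sqm : IsPullback f Γf (pullback.diagonal q)
        (pullback.lift (pullback.fst p q ≫ f) (pullback.snd p q)
          (by rw [Category.assoc, comm, pullback.condition])) := by
      refine isPullback_of_points (pullback.hom_ext (by simp [Γf]; exact (Category.id_comp f).symm) (by simp [Γf])) fun T a b e => ?_
      have e₁ : a = b ≫ pullback.fst p q ≫ f := by
        simpa using congrArg (fun k => k ≫ pullback.fst q q) e
      have e₂ : a = b ≫ pullback.snd p q := by simpa using congrArg (fun k => k ≫ pullback.snd q q) e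
      refine ⟨b ≫ pullback.fst p q, ⟨by rw [e₁, Category.assoc], pullback.hom_ext ?_ ?_⟩, fun c hc => ?_⟩
      · simp [Γf]
      · rw [Category.assoc, pullback.lift_snd, Category.assoc, ← e₁, e₂]
      · rw [← hc.2, Category.assoc, pullback.lift_fst, Category.comp_id]
    exact repWith_baseChange sqm hq
  have hf : Γf ≫ pullback.snd p q = f := pullback.lift_snd _ _ _
  have hΓp := isProperMor_of_closedImmersion hX hP hΓ
  refine ⟨fun h => ?_, fun h => ?_⟩
  · have h' : IsUnivClosedMor f := by
      rw [← hf]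
      exact isUnivClosedMor_comp hP hY hΓp.2.2 fun W W' hW a s t sq => h hW _ _ _ (sq.paste_horiz sqP)
    refine ⟨h', IsClosedMap.isClosed_range (h' hY (𝟙 Y) (𝟙 X) f ?_)⟩
    exact IsPullback.of_horiz_isIso ⟨by rw [Category.id_comp, Category.comp_id]⟩
  · rw [← hf]
    exact ⟨isSeparatedMor_comp hΓp.1 (isSeparatedMor_baseChange sqP h.1),
      ⟨locP_comp etST_lft hP hY hΓp.2.1.1 (locP_baseChange etST_lft hX hB hP hY sqP h.2.1.1),
        isQuasiCompactMor_comp hP hY hΓp.2.1.2 fun W W' hW hWq a s t sq => h.2.1.2 hW hWq _ _ _ (sq.paste_horiz sqP)⟩,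
      isUnivClosedMor_comp hP hY hΓp.2.2 fun W W' hW a s t sq => h.2.2 hW _ _ _ (sq.paste_horiz sqP)⟩

end Groth.Agent.AlgSpLib
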