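import Groth.Agent.AlgSpLib.LocPMore
import Mathlib.CategoryTheory.Sites.Subsheaf

/-!
# Algebraic spaces: subspaces given by sets of points; etale monomorphisms
-/

universe u

open CategoryTheory CategoryTheory.Limits AlgebraicGeometry Opposite Topology

set_option backward.isDefEq.respectTransparency false

namespace Groth.Agent.AlgSpLib

open _root_.AlgSp

variable {S : Scheme.{u}}

/-- covering sieves are jointly surjective on points -/
lemma exists_mem_range_of_mem_J {U : Over S} {R : Sieve U} (hR : R ∈ J S U) (t : ↥U.left) :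
    ∃ (V : Over S) (i : V ⟶ U), R i ∧ t ∈ Set.range i.left := by
  rw [GrothendieckTopology.mem_over_iff] at hR
  obtain ⟨Q, hQ, hle⟩ := Precoverage.mem_toGrothendieck_iff_of_isStableUnderComposition.1 hR
  obtain ⟨ι, X, g, rfl⟩ := Q.exists_eq_ofArrows
  rw [Scheme.fppfPrecoverage, Scheme.ofArrows_mem_precoverage_iff] at hQ
  obtain ⟨i, hi⟩ := hQ.1 t
  exact ⟨_, _, (Sieve.overEquiv_iff _ _).1 (hle _ _ (Presieve.ofArrows.mk i)), hi⟩

/-- the sections all of whose points lie in a given set -/
def pointsIn {F : Sp S} (W : Set (Points F)) : Subfunctor F.obj where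
  obj T := {s | ∀ t : ↥T.unop.left, Points.ofPt ((J S).uliftYonedaEquiv.symm s) t ∈ W}
  map {T T'} i := fun s hs t => by
    have e : (J S).uliftYonedaEquiv.symm (F.obj.map i s) =
        (yon S).map i.unop ≫ (J S).uliftYonedaEquiv.symm s := by
      apply (J S).uliftYonedaEquiv.injective
      rw [Equiv.apply_symm_apply, ← GrothendieckTopology.uliftYonedaEquiv_naturality,
        Equiv.apply_symm_apply]
      rfl
    show Points.ofPt ((J S).uliftYonedaEquiv.symm (F.obj.map i s)) t ∈ W
    rw [e, ofPt_comp]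
    exact hs _

lemma isSheaf_pointsIn {F : Sp S} (W : Set (Points F)) :
    Presheaf.IsSheaf (J S) (pointsIn W).toFunctor := by
  rw [isSheaf_iff_isSheaf_of_type,
    (pointsIn W).isSheaf_iff ((isSheaf_iff_isSheaf_of_type _ _).1 F.property)]
  intro T s hs t
  obtain ⟨V, i, hi, v, rfl⟩ := exists_mem_range_of_mem_J hs t
  have h := hi v
  have e : (J S).uliftYonedaEquiv.symm (F.obj.map i.op s) =
      (yon S).map i ≫ (J S).uliftYonedaEquiv.symm s := by
    apply (J S).uliftYonedaEquiv.injective
    rw [Equiv.apply_symm_apply, ← GrothendieckTopology.uliftYonedaEquiv_naturality,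
      Equiv.apply_symm_apply]
  rw [e, ofPt_comp] at h
  exact h

/-- the subsheaf on a set of points -/
noncomputable def subSheaf {F : Sp S} (W : Set (Points F)) : Sp S :=
  ⟨(pointsIn W).toFunctor, isSheaf_pointsIn W⟩

/-- its inclusion -/
noncomputable def subInc {F : Sp S} (W : Set (Points F)) : subSheaf W ⟶ F :=
  ObjectProperty.homMk (pointsIn W).ι

lemma subInc_app_injective {F : Sp S} (W : Set (Points F)) (T : (Over S)ᵒᵖ) :
    Function.Injective ((subInc W).hom.app T) := fun _ _ h => Subtype.ext h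

instance mono_subInc {F : Sp S} (W : Set (Points F)) : Mono (subInc W) :=
  mono_of_points _ fun U a b e => (J S).uliftYonedaEquiv.injective (subInc_app_injective W _ (by
    rw [← uliftYonedaEquiv_comp', ← uliftYonedaEquiv_comp', e]))

lemma ofPt_subInc_mem {F : Sp S} {W : Set (Points F)} {T : Over S} (b : (yon S).obj T ⟶ subSheaf W)
    (t : ↥T.left) : Points.ofPt (b ≫ subInc W) t ∈ W := by
  have h := ((J S).uliftYonedaEquiv b).2 t
  have e : (J S).uliftYonedaEquiv.symm ((J S).uliftYonedaEquiv b).1 = b ≫ subInc W := by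
    apply (J S).uliftYonedaEquiv.injective
    rw [Equiv.apply_symm_apply, uliftYonedaEquiv_comp']
    rfl
  rwa [e] at h

lemma exists_subInc_lift {F : Sp S} {W : Set (Points F)} {T : Over S} (a : (yon S).obj T ⟶ F)
    (h : ∀ t, Points.ofPt a t ∈ W) : ∃ b : (yon S).obj T ⟶ subSheaf W, b ≫ subInc W = a := by
  refine ⟨(J S).uliftYonedaEquiv.symm ⟨(J S).uliftYonedaEquiv a, fun t => ?_⟩,
    (J S).uliftYonedaEquiv.injective ?_⟩
  · rw [Equiv.symm_apply_apply]
    exact h t
  · rw [uliftYonedaEquiv_comp', Equiv.apply_symm_apply]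
    rfl

lemma map_subInc_mem {F : Sp S} {W : Set (Points F)} (x : Points (subSheaf W)) :
    Points.map (subInc W) x ∈ W := by
  obtain ⟨T, b, t, rfl⟩ := exists_ofPt x
  rw [Points.map_ofPt]
  exact ofPt_subInc_mem b t

lemma range_subInc {F : Sp S} (W : Set (Points F)) : Set.range (Points.map (subInc W)) = W := by
  refine Set.Subset.antisymm (Set.range_subset_iff.2 map_subInc_mem) fun x hx => ?_
  obtain ⟨p, rfl⟩ := Points.mk_surjective x
  rw [mk_eq_ofPt] at hx ⊢
  have hall : ∀ t, Points.ofPt (fieldHom p) t ∈ W := fun t => by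
    let := p.field
    have : Subsingleton ↥(Spec (CommRingCat.of p.K)) := inferInstanceAs (Subsingleton (PrimeSpectrum p.K))
    have : t = IsLocalRing.closedPoint p.K := Subsingleton.elim (α := ↥(Spec (CommRingCat.of p.K))) _ _
    rwa [this]
  obtain ⟨b, hb⟩ := exists_subInc_lift _ hall
  exact ⟨Points.ofPt b (IsLocalRing.closedPoint p.K), by rw [Points.map_ofPt, hb]⟩

/-- morphisms factor through the subsheaf when their points do -/
lemma exists_factor_subInc {G F : Sp S} {W : Set (Points F)} (f : G ⟶ F)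
    (h : ∀ x, Points.map f x ∈ W) : ∃ g : G ⟶ subSheaf W, g ≫ subInc W = f := by
  have hmem : ∀ (T : (Over S)ᵒᵖ) (s : G.obj.obj T), f.hom.app T s ∈ (pointsIn W).obj T := fun T s t => by
    have e : ((J S).uliftYonedaEquiv.symm (f.hom.app T s) : (yon S).obj T.unop ⟶ F) =
        ((J S).uliftYonedaEquiv.symm s : (yon S).obj T.unop ⟶ G) ≫ f := by
      apply (J S).uliftYonedaEquiv.injective
      rw [Equiv.apply_symm_apply, uliftYonedaEquiv_comp', Equiv.apply_symm_apply]
    rw [e, ← Points.map_ofPt]
    exact h _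
  refine ⟨ObjectProperty.homMk (Subfunctor.lift f.hom ?_), ?_⟩
  · intro T
    rintro _ ⟨s, rfl⟩
    exact hmem T s
  · apply ObjectProperty.hom_ext
    rfl

/-- open sets of points give representable open immersions -/
theorem repWith_subInc {F : Sp S} {W : Set (Points F)} (hW : IsOpen W) :
    RepWith @IsOpenImmersion (subInc W) := by
  refine repWith_of_exists fun U ξ => ?_
  let O : U.left.Opens := ⟨Points.ofPt ξ ⁻¹' W, hW.preimage (Points.continuous_ofPt ξ)⟩
  let V : Over S := Over.mk (O.ι ≫ U.hom)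
  let j : V ⟶ U := Over.homMk O.ι rfl
  obtain ⟨l, hl⟩ := exists_subInc_lift ((yon S).map j ≫ ξ) (fun v => by
    rw [ofPt_comp]
    exact v.2)
  have : Mono j.left := inferInstanceAs (Mono O.ι)
  have : Mono j := mono_of_left j
  refine ⟨V, l, j, isPullback_of_points hl fun T a b e => ?_, show IsOpenImmersion O.ι from inferInstance⟩
  obtain ⟨b, rfl⟩ := exists_map_eq b
  have hr : Set.range b.left ⊆ Set.range O.ι := by
    rintro _ ⟨t, rfl⟩
    rw [Scheme.Opens.range_ι]
    show Points.ofPt ξ (b.left t) ∈ W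
    rw [← ofPt_comp, ← e]
    exact ofPt_subInc_mem a t
  let c : T ⟶ V := Over.homMk (IsOpenImmersion.lift O.ι b.left hr) (by
    show _ ≫ O.ι ≫ U.hom = _
    rw [IsOpenImmersion.lift_fac_assoc, Over.w])
  have hc : c ≫ j = b := Over.OverMorphism.ext (IsOpenImmersion.lift_fac _ _ _)
  refine ⟨(yon S).map c, ⟨?_, by rw [← Functor.map_comp, hc]⟩, fun c' hc' => ?_⟩
  · rw [← cancel_mono (subInc W), Category.assoc, hl, ← Category.assoc, ← Functor.map_comp, hc, e]
  · obtain ⟨c', rfl⟩ := exists_map_eq c'
    have := hc'.2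
    rw [← Functor.map_comp] at this
    rw [(cancel_mono j).1 (((yon S).map_injective this).trans hc.symm)]

theorem isAlgSpace_subSheaf {F : Sp S} (hF : IsAlgSpace F) {W : Set (Points F)} (hW : IsOpen W) :
    IsAlgSpace (subSheaf W) :=
  isAlgSpace_of_repBySp ((Representable.repBySp (repWith_subInc hW).1)) hF

/-- an etale monomorphism of algebraic spaces is the inclusion of an open subspace -/
theorem exists_iso_subSheaf_of_mono {F G : Sp S} (hF : IsAlgSpace F) (hG : IsAlgSpace G) (f : F ⟶ G)
    [Mono f] (hf : IsEtaleMor f) :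
    IsOpen (Set.range (Points.map f)) ∧
      ∃ c : F ⟶ subSheaf (Set.range (Points.map f)), IsIso c ∧ c ≫ subInc _ = f := by
  have hfl := (isEtaleMor_iff_locP hG).1 hf
  have hW : IsOpen (Set.range (Points.map f)) := by
    rw [← Set.image_univ]
    exact isOpenMap_map_of_flat_lfp hF hG f (fun _ _ a b h ha hb e => etST_flat.of_etale _ (hfl a b h ha hb e))
      (fun _ _ a b h ha hb e => etST_lfp.of_etale _ (hfl a b h ha hb e)) _ isOpen_univ
  refine ⟨hW, ?_⟩
  obtain ⟨c, hc⟩ := exists_factor_subInc (W := Set.range (Points.map f)) f fun x => ⟨x, rfl⟩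
  refine ⟨c, ?_, hc⟩
  have : Mono c := mono_of_mono_fac hc
  have hW' := isAlgSpace_subSheaf hG hW
  obtain ⟨U, p, hpe, hps⟩ := hF.atlas
  have he : RepWith @Etale (p ≫ c) := repWith_etale_of_comp hW' hG
    (by rw [Category.assoc, hc]; exact hf p hpe)
    (isEtaleMor_of_repWith' (repWith_mono (P := @IsOpenImmersion) (Q := @Etale)
      (fun _ _ g hg => have : IsOpenImmersion g := hg; inferInstance) (repWith_subInc hW)))
  have hs : RepWith @Surjective (p ≫ c) := repWith_surjective_of_isSurjectiveMor he.1 fun x => by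
    obtain ⟨y, hy⟩ := map_subInc_mem x
    obtain ⟨u, rfl⟩ := isSurjectiveMor_of_repWith hps y
    refine ⟨u, ?_⟩
    -- points of a monomorphic representable map are separated
    obtain ⟨T, a, t, rfl⟩ := exists_ofPt x
    obtain ⟨v, rfl⟩ := (Points.schemeEquiv U).surjective u
    change Points.map f (Points.map p (Points.ofPt (𝟙 _) v)) = _ at hy
    change Points.map (p ≫ c) (Points.ofPt (𝟙 _) v) = _
    rw [Points.map_ofPt, Category.id_comp] at hy ⊢
    rw [Points.map_ofPt, Points.map_ofPt] at hy
    obtain ⟨K, α, β, k, e, rfl, rfl⟩ := exists_of_ofPt_eq hy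
    have e' : (yon S).map α ≫ p ≫ c = (yon S).map β ≫ a := by
      rw [← cancel_mono (subInc (Set.range (Points.map f)))]
      simp only [Category.assoc, hc]
      exact e
    rw [← ofPt_comp, ← ofPt_comp, e']
  have : Sheaf.IsLocallySurjective (p ≫ c) := isLocallySurjective_of_atlas he hs
  have : Epi c := epi_of_epi p c
  exact isIso_of_mono_of_epi c

/-- an etale monomorphism of algebraic spaces is an open immersion -/
theorem repWith_isOpenImmersion_of_mono {F G : Sp S} (hF : IsAlgSpace F) (hG : IsAlgSpace G) (f : F ⟶ G)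
    [Mono f] (hf : IsEtaleMor f) : RepWith @IsOpenImmersion f := by
  obtain ⟨hW, c, hc, e⟩ := exists_iso_subSheaf_of_mono hF hG f hf
  rw [← e]
  exact (repWith_iso_comp_iff c _).2 (repWith_subInc hW)

/-- factorisation through an open subspace -/
theorem exists_factor_iff {X' X Y : Sp S} (hX' : IsAlgSpace X') (hX : IsAlgSpace X) (j : X' ⟶ X)
    (hj : RepWith @IsOpenImmersion j) (f : Y ⟶ X) :
    (∃ g : Y ⟶ X', g ≫ j = f) ↔ Set.range (Points.map f) ⊆ Set.range (Points.map j) := by
  constructor
  · rintro ⟨g, rfl⟩ _ ⟨x, rfl⟩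
    exact ⟨Points.map g x, (Points.map_comp g j x).symm⟩
  · intro h
    have : Mono j := mono_of_repWith_immersion (repWith_mono (P := @IsOpenImmersion) (Q := @IsImmersion)
      (fun _ _ g hg => have : IsOpenImmersion g := hg; inferInstance) hj)
    obtain ⟨-, c, hc, e⟩ := exists_iso_subSheaf_of_mono hX' hX j
      (isEtaleMor_of_repWith' (repWith_mono (P := @IsOpenImmersion) (Q := @Etale)
        (fun _ _ g hg => have : IsOpenImmersion g := hg; inferInstance) hj))
    obtain ⟨g, hg⟩ := exists_factor_subInc f fun x => h ⟨x, rfl⟩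
    exact ⟨g ≫ inv c, by rw [Category.assoc, (IsIso.inv_comp_eq c).2 e.symm, hg]⟩

/-- the injections of a colimit cofan are jointly surjective on points -/
theorem exists_mem_range_cofan {ι : Type*} {X : ι → Sp S} (c : Cofan X) (hc : IsColimit c)
    (x : Points c.pt) : ∃ i, x ∈ Set.range (Points.map (c.inj i)) := by
  let W : Set (Points c.pt) := ⋃ i, Set.range (Points.map (c.inj i))
  choose l hl using fun i => exists_factor_subInc (W := W) (c.inj i)
    fun y => Set.mem_iUnion.2 ⟨i, y, rfl⟩
  let d : c.pt ⟶ subSheaf W := Cofan.IsColimit.desc hc l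
  have hd : d ≫ subInc W = 𝟙 c.pt := Cofan.IsColimit.hom_ext hc _ _ fun i => by
    rw [Cofan.IsColimit.fac_assoc, hl, Category.comp_id]
  have : Points.map (subInc W) (Points.map d x) = x := by
    rw [← Points.map_comp, hd, Points.map_id]
  exact Set.mem_iUnion.1 (this ▸ map_subInc_mem _)

end Groth.Agent.AlgSpLib
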