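import Groth.Agent.AlgSpLib.Criteria
import Groth.Agent.AlgSpLib.Subspace
import Mathlib.AlgebraicGeometry.Gluing

/-!
# Algebraic spaces with an open cover by schemes are schemes
-/

universe u

open CategoryTheory CategoryTheory.Limits AlgebraicGeometry Opposite Topology

set_option backward.isDefEq.respectTransparency false

namespace Groth.Agent.AlgSpLib

open _root_.AlgSp

variable {S : Scheme.{u}}

/-- an algebraic space covered by open subspaces which are schemes is a scheme -/
theorem exists_iso_yon_of_open_cover {X : Sp S} (hX : IsAlgSpace X) {ι : Type u} (V : ι → Over S)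
    (f : ∀ i, (yon S).obj (V i) ⟶ X) (hf : ∀ i, RepWith @IsOpenImmersion (f i))
    (hcov : ∀ x : Points X, ∃ i, x ∈ Set.range (Points.map (f i))) :
    ∃ W : Over S, Nonempty (X ≅ (yon S).obj W) := by
  classical
  have : ∀ i, Mono (f i) := fun i => mono_of_repWith_immersion (repWith_mono (P := @IsOpenImmersion)
    (Q := @IsImmersion) (fun _ _ g hg => have : IsOpenImmersion g := hg; inferInstance) (hf i))
  choose W p q sq using fun i j => exists_pullback hX.diag (f i) (f j)
  have hp : ∀ i j, IsOpenImmersion (p i j).left := fun i j => (hf j).2 (f i) _ (p i j) (sq i j).flip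
  have sqw : ∀ i j, (yon S).map (p i j) ≫ f i = (yon S).map (q i j) ≫ f j := fun i j => (sq i j).w
  have hlift : ∀ i j (P : Over S) (a : P ⟶ V i) (b : P ⟶ V j), (yon S).map a ≫ f i = (yon S).map b ≫ f j →
      ∃ l : P ⟶ W i j, l ≫ p i j = a ∧ l ≫ q i j = b := fun i j P a b e => by
    obtain ⟨l, hl⟩ := exists_map_eq ((sq i j).lift _ _ e)
    exact ⟨l, (yon S).map_injective (by rw [Functor.map_comp, hl, (sq i j).lift_fst]),
      (yon S).map_injective (by rw [Functor.map_comp, hl, (sq i j).lift_snd])⟩
  choose t ht₁ ht₂ using fun i j => hlift j i (W i j) (q i j) (p i j) (sqw i j).symm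
  let fst' : ∀ i j k, (Over.mk (pullback.fst (p i j).left (p i k).left ≫ (W i j).hom) : Over S) ⟶ W i j :=
    fun i j k => Over.homMk (pullback.fst (p i j).left (p i k).left) rfl
  let snd' : ∀ i j k, (Over.mk (pullback.fst (p i j).left (p i k).left ≫ (W i j).hom) : Over S) ⟶ W i k :=
    fun i j k => Over.homMk (pullback.snd (p i j).left (p i k).left) (by
      show _ ≫ (W i k).hom = pullback.fst (p i j).left (p i k).left ≫ (W i j).hom
      rw [← Over.w (p i k), ← Over.w (p i j), pullback.condition_assoc])
  have hfs : ∀ i j k, fst' i j k ≫ p i j = snd' i j k ≫ p i k := fun i j k =>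
    Over.OverMorphism.ext pullback.condition
  choose l hl₁ hl₂ using fun i j k => hlift j k _ (fst' i j k ≫ q i j) (snd' i j k ≫ q i k) (by
    rw [Functor.map_comp, Functor.map_comp, Category.assoc, Category.assoc, ← sqw, ← sqw,
      ← Functor.map_comp_assoc, ← Functor.map_comp_assoc, hfs])
  have ht' : ∀ i j k, (l i j k).left ≫ (p j k).left =
      (pullback.fst (p i j).left (p i k).left ≫ (t i j).left) ≫ (p j i).left := fun i j k => by
    rw [Category.assoc]
    show (l i j k ≫ p j k).left = (fst' i j k ≫ (t i j ≫ p j i)).left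
    rw [hl₁, ht₁]
  let D : Scheme.GlueData.{u} :=
    { J := ι
      U := fun i => (V i).left
      V := fun x => (W x.1 x.2).left
      f := fun i j => (p i j).left
      f_id := fun i => by
        obtain ⟨d, hd, -⟩ := hlift i i (V i) (𝟙 _) (𝟙 _) rfl
        have : IsSplitEpi (p i i).left := ⟨⟨d.left, congrArg (fun m => m.left) hd⟩⟩
        have := hp i i
        exact isIso_of_mono_of_isSplitEpi _
      t := fun i j => (t i j).left
      t_id := fun i => by
        have := hp i i
        have e : p i i = q i i := (yon S).map_injective ((cancel_mono (f i)).1 (sqw i i))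
        have : (t i i).left ≫ (p i i).left = 𝟙 _ ≫ (p i i).left := by
          rw [← Over.comp_left, ht₁, ← e, Category.id_comp]
        exact (cancel_mono _).1 this
      t' := fun i j k => pullback.lift (l i j k).left (pullback.fst _ _ ≫ (t i j).left) (ht' i j k)
      t_fac := fun i j k => pullback.lift_snd _ _ _
      cocycle := fun i j k => by
        have := hp i j
        have := hp i k
        have := hp j k
        have := hp k i
        have hl₁' : ∀ a b c : ι, (l a b c).left ≫ (p b c).left =
            pullback.fst (p a b).left (p a c).left ≫ (q a b).left := fun a b c =>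
          congrArg (fun m => m.left) (hl₁ a b c)
        have hl₂' : ∀ a b c : ι, (l a b c).left ≫ (q b c).left =
            pullback.snd (p a b).left (p a c).left ≫ (q a c).left := fun a b c =>
          congrArg (fun m => m.left) (hl₂ a b c)
        have htq : ∀ a b : ι, (t a b).left ≫ (q b a).left = (p a b).left := fun a b =>
          congrArg (fun m => m.left) (ht₂ a b)
        have key : (pullback.lift (l i j k).left (pullback.fst _ _ ≫ (t i j).left) (ht' i j k) ≫
            pullback.lift (l j k i).left (pullback.fst _ _ ≫ (t j k).left) (ht' j k i) ≫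
            pullback.lift (l k i j).left (pullback.fst _ _ ≫ (t k i).left) (ht' k i j)) ≫
              pullback.fst _ _ ≫ (p i j).left = pullback.fst _ _ ≫ (p i j).left := by
          simp only [Category.assoc, pullback.lift_fst_assoc, hl₁']
          rw [hl₂']
          simp only [pullback.lift_snd_assoc, Category.assoc, htq]
        apply pullback.hom_ext
        · rw [← cancel_mono (p i j).left]
          simpa using key
        · rw [← cancel_mono (p i k).left, Category.id_comp, Category.assoc, ← pullback.condition]
          simpa using key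
      f_open := hp }
  have hglue : ∀ i j, pullback.fst (D.ι i) (D.ι j) ≫ (V i).hom = pullback.snd (D.ι i) (D.ι j) ≫ (V j).hom := fun i j => by
    let k := (D.vPullbackConeIsLimit i j).lift (PullbackCone.mk _ _ (pullback.condition (f := D.ι i) (g := D.ι j)))
    have e₁ : k ≫ (p i j).left = pullback.fst (D.ι i) (D.ι j) :=
      (D.vPullbackConeIsLimit i j).fac _ WalkingCospan.left
    have e₂ : k ≫ (t i j).left ≫ (p j i).left = pullback.snd (D.ι i) (D.ι j) :=
      (D.vPullbackConeIsLimit i j).fac _ WalkingCospan.right
    refine ((congrArg (· ≫ (V i).hom) e₁).symm.trans ?_).trans (congrArg (· ≫ (V j).hom) e₂)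
    simp only [Category.assoc, Over.w]
  let G : Over S := Over.mk (D.openCover.glueMorphisms (fun i => (V i).hom) hglue)
  let inc : ∀ i, V i ⟶ G := fun i => Over.homMk (D.ι i)
    (D.openCover.ι_glueMorphisms (fun i => (V i).hom) hglue i)
  have hinc : ∀ i, IsOpenImmersion (inc i).left := fun i => D.ι_isOpenImmersion i
  -- maps agreeing in the glued scheme agree in `X`
  have hagree : ∀ i j (P : Over S) (a : P ⟶ V i) (b : P ⟶ V j), a ≫ inc i = b ≫ inc j →
      (yon S).map a ≫ f i = (yon S).map b ≫ f j := fun i j P a b e => by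
    have e' : a.left ≫ D.ι i = b.left ≫ D.ι j := congrArg (fun m => m.left) e
    let k₀ : P.left ⟶ (W i j).left := (D.vPullbackConeIsLimit i j).lift (PullbackCone.mk _ _ e')
    have e₁ : k₀ ≫ (p i j).left = a.left := (D.vPullbackConeIsLimit i j).fac _ WalkingCospan.left
    have e₂ : k₀ ≫ (t i j).left ≫ (p j i).left = b.left := (D.vPullbackConeIsLimit i j).fac _ WalkingCospan.right
    let k : P ⟶ W i j := Over.homMk k₀ (by rw [← Over.w (p i j), ← Category.assoc, e₁, Over.w a])
    have ha : k ≫ p i j = a := Over.OverMorphism.ext e₁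
    have hb : k ≫ q i j = b := by
      rw [← ht₁ i j]
      exact Over.OverMorphism.ext e₂
    rw [← ha, ← hb, Functor.map_comp, Functor.map_comp, Category.assoc, Category.assoc, sqw]
  -- the map to `X`
  have hcovG : Presieve.ofArrows (fun i => (V i).left) (fun i => (inc i).left) ∈ Scheme.fppfPrecoverage G.left :=
    Scheme.zariskiPrecoverage_le_fppfPrecoverage _ D.openCover.mem₀
  have hsh : Presieve.IsSheafFor X.obj (Presieve.ofArrows V inc) :=
    (Presieve.isSheafFor_iff_generate _).2 (((isSheaf_iff_isSheaf_of_type _ _).1 X.property) _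
      (generate_ofArrows_mem_J inc hcovG))
  rw [Presieve.isSheafFor_arrows_iff] at hsh
  obtain ⟨y, hy, -⟩ := hsh (fun i => (J S).uliftYonedaEquiv (f i)) (fun i j P gi gj e => by
    exact ((J S).uliftYonedaEquiv_naturality (f i) gi).trans ((congrArg _ (hagree i j P gi gj e)).trans
      ((J S).uliftYonedaEquiv_naturality (f j) gj).symm))
  let g : (yon S).obj G ⟶ X := (J S).uliftYonedaEquiv.symm y
  have hg : ∀ i, (yon S).map (inc i) ≫ g = f i := fun i => by
    apply (J S).uliftYonedaEquiv.injective
    rw [← GrothendieckTopology.uliftYonedaEquiv_naturality, Equiv.apply_symm_apply]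
    exact hy i
  have hgi : ∀ i, IsPullback ((yon S).map (inc i)) (𝟙 _) g (f i) := fun i => by
    refine isPullback_of_points (by rw [hg, Category.id_comp]) fun T a b e => ?_
    refine ⟨b, ⟨?_, Category.comp_id _⟩, fun c hc => by rw [← hc.2, Category.comp_id]⟩
    obtain ⟨a, rfl⟩ := exists_map_eq a
    obtain ⟨b, rfl⟩ := exists_map_eq b
    rw [← Functor.map_comp]
    congr 1
    apply Over.OverMorphism.ext
    refine Scheme.Cover.hom_ext (D.openCover.pullback₁ a.left) _ _ fun k => ?_
    change ι at k
    let P : Over S := Over.mk (pullback.fst a.left (D.ι k) ≫ T.hom)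
    let r : P ⟶ T := Over.homMk (pullback.fst a.left (D.ι k)) rfl
    let c : P ⟶ V k := Over.homMk (pullback.snd a.left (D.ι k)) (by
      show _ ≫ (V k).hom = pullback.fst a.left (D.ι k) ≫ T.hom
      rw [← Over.w (inc k), ← Over.w a]
      exact Eq.symm (pullback.condition_assoc _))
    have hca : r ≫ a = c ≫ inc k := Over.OverMorphism.ext pullback.condition
    have e' : (yon S).map c ≫ f k = (yon S).map (r ≫ b) ≫ f i := by
      rw [← hg k, ← Functor.map_comp_assoc, ← hca, Functor.map_comp, Functor.map_comp, Category.assoc,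
        Category.assoc, e]
    obtain ⟨m, hm₁, hm₂⟩ := hlift k i P c (r ≫ b) e'
    show (r ≫ b ≫ inc i).left = (r ≫ a).left
    rw [hca, ← hm₁, ← Category.assoc r b, ← hm₂, ← ht₁ k i]
    show ((m.left ≫ (t k i).left ≫ (p i k).left) ≫ D.ι i) = (m.left ≫ (p k i).left) ≫ D.ι k
    rw [Category.assoc, Category.assoc, Category.assoc]
    congr 1
    exact D.glue_condition k i
  have hcovX : IsFpqcCover (fun i => (yon S).obj (V i)) f := by
    refine isFpqcCover_of_fppf hX (fun _ => IsAlgSpace.yon_obj _) ⟨fun i =>
      ⟨(locP_iff_repWith etST_flat hX (hf i).1).2 (repWith_mono (fun _ _ r hr => by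
          have : IsOpenImmersion r := hr
          infer_instance) (hf i)),
        (locP_iff_repWith etST_lfp hX (hf i).1).2 (repWith_mono (fun _ _ r hr => by
          have : IsOpenImmersion r := hr
          infer_instance) (hf i))⟩, fun x => hcov x⟩
  have : IsIso g := (isLocalOnBase_isomorphisms _ _ hX (fun _ => IsAlgSpace.yon_obj _)
    hcovX g (IsAlgSpace.yon_obj _) _ (fun i => 𝟙 ((yon S).obj (V i))) (fun i => (yon S).map (inc i))
      (fun _ => IsAlgSpace.yon_obj _) hgi).2 fun i => (inferInstance : IsIso (𝟙 _))
  exact ⟨G, ⟨(asIso g).symm⟩⟩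

end Groth.Agent.AlgSpLib
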