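import Groth.Agent.AlgSpLib.Space
import Groth.Prelude.Def_AlgSp4
import Mathlib.AlgebraicGeometry.PullbackCarrier

/-!
# Algebraic spaces: points
-/

universe u

open CategoryTheory CategoryTheory.Limits AlgebraicGeometry Opposite Topology

set_option backward.isDefEq.respectTransparency false

namespace Groth.Agent.AlgSpLib

open _root_.AlgSp

variable {S : Scheme.{u}}

/-- the morphism `h_{Spec K} ⟶ F` of a field valued point -/
noncomputable def fieldHom {F : Sp S} (p : FieldPt F) : (yon S).obj p.pt ⟶ F :=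
  (J S).uliftYonedaEquiv.symm p.val

lemma ofScheme_map {T T' : Over S} (φ : T ⟶ T') (t : ↥T.left) :
    Points.ofPt ((yon S).map φ) t = Points.ofScheme T' (φ.left t) := by
  refine (Points.schemeEquiv T').symm.injective ?_
  exact (Points.toScheme_ofPt φ t).trans (Points.toScheme_ofScheme _ _).symm

/-- functoriality of `ofPt` in the scheme -/
lemma ofPt_comp {F : Sp S} {T T' : Over S} (φ : T ⟶ T') (g : (yon S).obj T' ⟶ F) (t : ↥T.left) :
    Points.ofPt ((yon S).map φ ≫ g) t = Points.ofPt g (φ.left t) := by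
  rw [← Points.map_ofPt, ofScheme_map, Points.map_ofPt, Category.id_comp]

lemma mk_eq_ofPt {F : Sp S} (p : FieldPt F) :
    Points.mk p = Points.ofPt (fieldHom p) (IsLocalRing.closedPoint p.K) := by
  have h := Points.ofScheme_apply_eq_mk p.pt (𝟙 (Spec (CommRingCat.of p.K))) (Category.id_comp p.str)
  rw [← Category.id_comp (fieldHom p), ← Points.map_ofPt]
  refine Eq.trans ?_ (congrArg (Points.map (fieldHom p)) h).symm
  rw [Points.map_mk]
  have e : (Over.homMk (𝟙 (Spec (CommRingCat.of p.K))) (Category.id_comp p.str) : p.pt ⟶ p.pt) = 𝟙 _ :=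
    Over.OverMorphism.ext rfl
  have hv : (fieldHom p).hom.app (op p.pt) ⟨𝟙 p.pt⟩ = p.val :=
    ((J S).uliftYonedaEquiv_apply (fieldHom p)).symm.trans (Equiv.apply_symm_apply _ _)
  refine congrArg (fun v => Points.mk (⟨p.K, p.str, v⟩ : FieldPt F)) ?_
  refine hv.symm.trans ?_
  rw [← e]

/-- every point is the image of a point of a scheme -/
lemma exists_ofPt {F : Sp S} (x : Points F) :
    ∃ (T : Over S) (g : (yon S).obj T ⟶ F) (t : ↥T.left), Points.ofPt g t = x := by
  obtain ⟨p, rfl⟩ := Points.mk_surjective x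
  exact ⟨p.pt, fieldHom p, _, (mk_eq_ofPt p).symm⟩

/-- two points agree iff they have a common field valued lift -/
lemma exists_of_ofPt_eq {F : Sp S} {U V : Over S} {a : (yon S).obj U ⟶ F} {b : (yon S).obj V ⟶ F}
    {x : ↥U.left} {y : ↥V.left} (h : Points.ofPt a x = Points.ofPt b y) :
    ∃ (K : Over S) (α : K ⟶ U) (β : K ⟶ V) (k : ↥K.left),
      (yon S).map α ≫ a = (yon S).map β ≫ b ∧ α.left k = x ∧ β.left k = y := by
  obtain ⟨Ω, _, w, c, d, e⟩ := Points.mk_eq_mk_iff.1 h
  let α : Over.mk w ⟶ U :=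
    c ≫ (Over.homMk (U.left.fromSpecResidueField x) rfl : Over.mk (U.left.fromSpecResidueField x ≫ U.hom) ⟶ U)
  let β : Over.mk w ⟶ V :=
    d ≫ (Over.homMk (V.left.fromSpecResidueField y) rfl : Over.mk (V.left.fromSpecResidueField y ≫ V.hom) ⟶ V)
  refine ⟨Over.mk w, α, β, IsLocalRing.closedPoint Ω, (J S).uliftYonedaEquiv.injective ?_, ?_, ?_⟩
  · have key : ∀ {W : Over S} (g : (yon S).obj W ⟶ F) (z : ↥W.left)
        (m : Over.mk w ⟶ Over.mk (W.left.fromSpecResidueField z ≫ W.hom)),
        (J S).uliftYonedaEquiv ((yon S).map (m ≫ (Over.homMk (W.left.fromSpecResidueField z) rfl :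
          Over.mk (W.left.fromSpecResidueField z ≫ W.hom) ⟶ W)) ≫ g) =
          F.obj.map m.op (FieldPt.ofPt g z).val := by
      intro W g z m
      rw [Functor.map_comp, Category.assoc, ← GrothendieckTopology.uliftYonedaEquiv_naturality]
      refine congrArg _ ?_
      exact ((J S).uliftYonedaEquiv_naturality g _).symm.trans ((J S).map_uliftYonedaEquiv g _)
    exact (key a x c).trans (e.trans (key b y d).symm)
  · show (c.left ≫ U.left.fromSpecResidueField x) (IsLocalRing.closedPoint Ω) = x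
    rw [Scheme.Hom.comp_apply]
    exact Scheme.fromSpecResidueField_apply _ _
  · show (d.left ≫ V.left.fromSpecResidueField y) (IsLocalRing.closedPoint Ω) = y
    rw [Scheme.Hom.comp_apply]
    exact Scheme.fromSpecResidueField_apply _ _

lemma ofPt_eq_iff {F : Sp S} {U V W : Over S} {a : (yon S).obj U ⟶ F} {b : (yon S).obj V ⟶ F}
    {p : W ⟶ U} {q : W ⟶ V} (sq : IsPullback ((yon S).map p) ((yon S).map q) a b) (x : ↥U.left)
    (y : ↥V.left) : Points.ofPt a x = Points.ofPt b y ↔ ∃ w, p.left w = x ∧ q.left w = y := by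
  constructor
  · intro h
    obtain ⟨K, α, β, k, e, rfl, rfl⟩ := exists_of_ofPt_eq h
    obtain ⟨l, hl⟩ := exists_map_eq (sq.lift _ _ e)
    have e1 : l ≫ p = α := (yon S).map_injective (by rw [Functor.map_comp, hl, sq.lift_fst])
    have e2 : l ≫ q = β := (yon S).map_injective (by rw [Functor.map_comp, hl, sq.lift_snd])
    exact ⟨l.left k, by rw [← e1]; rfl, by rw [← e2]; rfl⟩
  · rintro ⟨w, rfl, rfl⟩
    rw [← ofPt_comp, ← ofPt_comp, sq.w]

/-- points of fibre products -/
theorem exists_point_of_isPullback {P X Y Z : Sp S} {fst : P ⟶ X} {snd : P ⟶ Y} {f : X ⟶ Z} {g : Y ⟶ Z}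
    (sq : IsPullback fst snd f g) (x : Points X) (y : Points Y) (e : Points.map f x = Points.map g y) :
    ∃ p : Points P, Points.map fst p = x ∧ Points.map snd p = y := by
  obtain ⟨T, a, t, rfl⟩ := exists_ofPt x
  obtain ⟨T', b, t', rfl⟩ := exists_ofPt y
  rw [Points.map_ofPt, Points.map_ofPt] at e
  obtain ⟨K, α, β, k, h, rfl, rfl⟩ := exists_of_ofPt_eq e
  rw [← Category.assoc, ← Category.assoc] at h
  exact ⟨Points.ofPt (sq.lift _ _ h) k, by rw [Points.map_ofPt, sq.lift_fst, ofPt_comp],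
    by rw [Points.map_ofPt, sq.lift_snd, ofPt_comp]⟩

theorem isSurjectiveMor_of_repWith {F G : Sp S} {f : F ⟶ G} (h : RepWith @Surjective f) :
    IsSurjectiveMor f := fun y => by
  obtain ⟨T, g, t, rfl⟩ := exists_ofPt y
  obtain ⟨V, fst, snd, sq, hs⟩ := exists_repWith h g
  have : Surjective snd.left := hs
  obtain ⟨v, rfl⟩ := snd.left.surjective t
  exact ⟨Points.ofPt fst v, by rw [Points.map_ofPt, sq.w, ofPt_comp]⟩

theorem isSurjectiveMor_baseChange {P X Y Z : Sp S} {fst : P ⟶ X} {snd : P ⟶ Y} {f : X ⟶ Z} {g : Y ⟶ Z}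
    (sq : IsPullback fst snd f g) (hf : IsSurjectiveMor f) : IsSurjectiveMor snd := fun y => by
  obtain ⟨x, hx⟩ := hf (Points.map g y)
  obtain ⟨p, -, hp⟩ := exists_point_of_isPullback sq x y hx
  exact ⟨p, hp⟩

theorem repWith_surjective_of_isSurjectiveMor {F G : Sp S} {f : F ⟶ G} (hf : Representable f)
    (h : IsSurjectiveMor f) : RepWith @Surjective f := by
  refine ⟨hf, fun U V g fst snd sq => ⟨fun u => ?_⟩⟩
  obtain ⟨p, hp⟩ := isSurjectiveMor_baseChange sq h (Points.ofScheme U u)
  obtain ⟨v, rfl⟩ := (Points.schemeEquiv V).surjective p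
  change Points.map ((yon S).map snd) (Points.ofPt (𝟙 _) v) = _ at hp
  rw [Points.map_ofPt, Category.id_comp, ofScheme_map] at hp
  exact ⟨v, (Points.schemeEquiv U).injective hp⟩

/-- representable universally open maps from schemes are open on points -/
theorem isOpenMap_ofPt {F : Sp S} {U : Over S} {a : (yon S).obj U ⟶ F}
    (ha : RepWith @UniversallyOpen a) : IsOpenMap (Points.ofPt a) := fun O hO => by
  refine Points.isOpen_iff.2 fun T g => ?_
  obtain ⟨W, fst, snd, sq, ho⟩ := exists_repWith ha g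
  obtain ⟨p, rfl⟩ := exists_map_eq fst
  have : Points.ofPt g ⁻¹' (Points.ofPt a '' O) = snd.left '' (p.left ⁻¹' O) := by
    ext t
    constructor
    · rintro ⟨u, hu, e⟩
      obtain ⟨w, hw, hw'⟩ := (ofPt_eq_iff sq u t).1 e
      exact ⟨w, show p.left w ∈ O from hw ▸ hu, hw'⟩
    · rintro ⟨w, hw, rfl⟩
      exact ⟨p.left w, hw, (ofPt_eq_iff sq _ _).2 ⟨w, rfl, rfl⟩⟩
  rw [this]
  have : UniversallyOpen snd.left := ho
  exact snd.left.isOpenMap _ (hO.preimage p.left.continuous)

lemma repWith_universallyOpen_of_etale {F G : Sp S} {f : F ⟶ G} (h : RepWith @Etale f) :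
    RepWith @UniversallyOpen f :=
  repWith_mono (fun _ _ g hg => by
    have : Etale g := hg
    have : Flat g := inferInstance
    exact (inferInstance : UniversallyOpen g)) h

theorem isQuotientMap_ofPt {F : Sp S} {U : Over S} {a : (yon S).obj U ⟶ F}
    (he : RepWith @Etale a) (hs : RepWith @Surjective a) : IsQuotientMap (Points.ofPt a) := by
  refine (isOpenMap_ofPt (repWith_universallyOpen_of_etale he)).isQuotientMap (Points.continuous_ofPt a) fun x => ?_
  obtain ⟨y, rfl⟩ := isSurjectiveMor_of_repWith hs x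
  obtain ⟨u, rfl⟩ := (Points.schemeEquiv U).surjective y
  exact ⟨u, (Points.ofPt_eq_map_ofScheme a u)⟩

lemma ofPt_surjective {F : Sp S} {U : Over S} {a : (yon S).obj U ⟶ F} (hs : RepWith @Surjective a) :
    Function.Surjective (Points.ofPt a) := fun x => by
  obtain ⟨y, rfl⟩ := isSurjectiveMor_of_repWith hs x
  obtain ⟨u, rfl⟩ := (Points.schemeEquiv U).surjective y
  exact ⟨u, (Points.ofPt_eq_map_ofScheme a u)⟩

end Groth.Agent.AlgSpLib
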