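import Groth.Agent.AlgSpLib.LocP
import Groth.Agent.AlgSpLib.Points

/-!
# Algebraic spaces: consequences of etale locality
-/

universe u

open CategoryTheory CategoryTheory.Limits AlgebraicGeometry Opposite

set_option backward.isDefEq.respectTransparency false

namespace Groth.Agent.AlgSpLib

open _root_.AlgSp

variable {S : Scheme.{u}}

/-- an immersion is of finite type and formally unramified -/
lemma lft_unram_of_immersion {A B : Scheme.{u}} (f : A ⟶ B) [IsImmersion f] :
    (@LocallyOfFiniteType ⊓ @FormallyUnramified : MorphismProperty Scheme.{u}) f :=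
  ⟨inferInstance, inferInstance⟩

/-- the source of a morphism locally of finite type to a locally noetherian space -/
theorem isLocNoethSp_of_lft {F G : Sp S} (hF : IsAlgSpace F) (hG : IsAlgSpace G) (f : F ⟶ G)
    (hf : LocP @LocallyOfFiniteType f) (h : IsLocNoethSp G) : IsLocNoethSp F := by
  obtain ⟨V, q, hqe, hqs, hV⟩ := h
  obtain ⟨U, p, α, hpe, hps, hα⟩ := exists_chart_lift hF hG f hqe hqs
  have : LocallyOfFiniteType α.left := hf p q α hpe hqe hα
  exact ⟨U, p, hpe, hps, LocallyOfFiniteType.isLocallyNoetherian α.left⟩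

/-- a flat morphism locally of finite presentation is open on points -/
theorem isOpenMap_map_of_flat_lfp {F G : Sp S} (hF : IsAlgSpace F) (hG : IsAlgSpace G) (f : F ⟶ G)
    (hfl : LocP @Flat f) (hfp : LocP @LocallyOfFinitePresentation f) : IsOpenMap (Points.map f) := by
  obtain ⟨V, q, hqe, hqs⟩ := hG.atlas
  obtain ⟨U, p, α, hpe, hps, hα⟩ := exists_chart_lift hF hG f hqe hqs
  have : Flat α.left := hfl p q α hpe hqe hα
  have : LocallyOfFinitePresentation α.left := hfp p q α hpe hqe hα
  intro O hO
  have e : Points.map f '' O = Points.ofPt q '' (α.left '' (Points.ofPt p ⁻¹' O)) := by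
    rw [← Set.image_comp]
    have key : ∀ u, Points.map f (Points.ofPt p u) = Points.ofPt q (α.left u) := fun u => by
      rw [Points.map_ofPt, hα, ofPt_comp]
    ext y
    refine ⟨?_, ?_⟩
    · rintro ⟨x, hx, rfl⟩
      obtain ⟨u, rfl⟩ := ofPt_surjective hps x
      exact ⟨u, hx, (key u).symm⟩
    · rintro ⟨u, hu, rfl⟩
      exact ⟨_, hu, key u⟩
  rw [e]
  exact isOpenMap_ofPt (repWith_universallyOpen_of_etale hqe) _
    (α.left.isOpenMap _ ((Points.continuous_ofPt p).isOpen_preimage _ hO))

theorem isUnivOpenMor_of_flat_lfp {F G : Sp S} (hF : IsAlgSpace F) (hG : IsAlgSpace G) (f : F ⟶ G)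
    (hfl : LocP @Flat f) (hfp : LocP @LocallyOfFinitePresentation f) : IsUnivOpenMor f :=
  fun _ _ hZ g fst snd sq =>
    have hZ' := isAlgSpace_of_isPullback_space hG hF hZ sq
    isOpenMap_map_of_flat_lfp hZ' hZ snd (locP_baseChange etST_flat hF hG hZ' hZ sq hfl)
      (locP_baseChange etST_lfp hF hG hZ' hZ sq hfp)

end Groth.Agent.AlgSpLib
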