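import Groth.Agent.AlgSpLib.Subspace
import Groth.Agent.AlgSpLib.QCompact
import Groth.Prelude.Def_AlgSpCov

/-!
# Algebraic spaces: Zariski coverings
-/

universe u

open CategoryTheory CategoryTheory.Limits AlgebraicGeometry Opposite Topology

set_option backward.isDefEq.respectTransparency false

namespace Groth.Agent.AlgSpLib

open _root_.AlgSp

variable {S : Scheme.{u}}

/-- open subspaces with affine charts -/
theorem exists_affine_open_subspaces {F : Sp S} (hF : IsAlgSpace F) :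
    ∃ (ι : Type u) (Xi : ι → Space S) (j : ∀ i, (Xi i).obj ⟶ F),
      IsCover (RepWith @IsOpenImmersion) (fun i => (Xi i).obj) j ∧
        ∀ i, ∃ (U : Over S) (p : (yon S).obj U ⟶ (Xi i).obj), IsAffine U.left ∧ RepWith @Etale p ∧
          RepWith @Surjective p ∧ ∃ W : S.Opens, IsAffineOpen W ∧ ∀ v : ↥U.left, U.hom v ∈ W := by
  obtain ⟨U, p, ι, Z, he, hs, hZ, hW, hcov⟩ := exists_affine_chart_family hF
  let O : ι → Set (Points F) := fun i => Points.ofPt p '' (Z i : Set U.left)
  have hO : ∀ i, IsOpen (O i) := fun i => isOpenMap_ofPt (repWith_universallyOpen_of_etale he) _ (Z i).2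
  refine ⟨ι, fun i => ⟨subSheaf (O i), isAlgSpace_subSheaf hF (hO i)⟩, fun i => subInc (O i),
    ⟨fun i => repWith_subInc (hO i), fun x => ?_⟩, fun i => ?_⟩
  · obtain ⟨u, rfl⟩ := ofPt_surjective hs x
    obtain ⟨i, hi⟩ := hcov u
    exact ⟨i, (range_subInc (O i)).symm ▸ ⟨u, hi, rfl⟩⟩
  · let V : Over S := Over.mk ((Z i).ι ≫ U.hom)
    let j : V ⟶ U := Over.homMk (Z i).ι rfl
    obtain ⟨l, hl⟩ := exists_subInc_lift (W := O i) ((yon S).map j ≫ p) (fun v => by
      rw [ofPt_comp]
      exact ⟨_, v.2, rfl⟩)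
    have hje : RepWith @Etale ((yon S).map j ≫ p) :=
      repWith_comp ((repWith_yon_iff j).2 (show Etale (Z i).ι from inferInstance)) he
    have hle : RepWith @Etale l := repWith_etale_of_comp (isAlgSpace_subSheaf hF (hO i)) hF (by rw [hl]; exact hje)
      (isEtaleMor_of_repWith' (repWith_mono (P := @IsOpenImmersion) (Q := @Etale)
        (fun _ _ g hg => have : IsOpenImmersion g := hg; inferInstance) (repWith_subInc (hO i))))
    refine ⟨V, l, hZ i, hle, repWith_surjective_of_isSurjectiveMor hle.1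
      (isSurjectiveMor_of_ofPt_surjective fun x => ?_), ?_⟩
    · obtain ⟨u, hu, hux⟩ := map_subInc_mem x
      refine ⟨⟨u, hu⟩, ?_⟩
      obtain ⟨T, a, t, rfl⟩ := exists_ofPt x
      rw [Points.map_ofPt] at hux
      have : Points.ofPt ((yon S).map j ≫ p) (⟨u, hu⟩ : ↥V.left) = Points.ofPt (a ≫ subInc (O i)) t := by
        rw [ofPt_comp]
        exact hux
      rw [← hl] at this
      obtain ⟨K, α, β, k, e, hα, rfl⟩ := exists_of_ofPt_eq this
      rw [← hα, ← ofPt_comp, ← ofPt_comp]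
      congr 1
      rw [← cancel_mono (subInc (O i)), Category.assoc, Category.assoc, e]
    · obtain ⟨W, hW', hle⟩ := hW i
      exact ⟨W, hW', fun v => hle v.2⟩

/-- Zariski coverings are detected on schemes -/
theorem isCover_open_iff {F : Sp S} {ι : Type u} (Xi : ι → Sp S) (j : ∀ i, Xi i ⟶ F)
    (hj : ∀ i, RepWith @IsOpenImmersion (j i)) :
    IsCover (RepWith @IsOpenImmersion) Xi j ↔ ∀ (T : Over S) (g : (yon S).obj T ⟶ F) (t : ↥T.left),
      ∃ (i : ι) (P : Over S) (fst : (yon S).obj P ⟶ Xi i) (snd : P ⟶ T),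
        IsPullback fst ((yon S).map snd) (j i) g ∧ t ∈ Set.range snd.left := by
  constructor
  · rintro ⟨-, hs⟩ T g t
    obtain ⟨i, y, hy⟩ := hs (Points.ofPt g t)
    obtain ⟨P, fst, snd, sq, -⟩ := exists_repWith (hj i) g
    obtain ⟨T', a, t', rfl⟩ := exists_ofPt y
    rw [Points.map_ofPt] at hy
    obtain ⟨K, α, β, k, e, -, hk⟩ := exists_of_ofPt_eq hy
    rw [← Category.assoc] at e
    obtain ⟨l, hl⟩ := exists_map_eq (sq.lift _ _ e)
    refine ⟨i, P, fst, snd, sq, l.left k, ?_⟩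
    have : l ≫ snd = β := (yon S).map_injective (by rw [Functor.map_comp, hl, sq.lift_snd])
    rw [← Scheme.Hom.comp_apply, ← Over.comp_left, this, hk]
  · intro h
    refine ⟨hj, fun x => ?_⟩
    obtain ⟨T, g, t, rfl⟩ := exists_ofPt x
    obtain ⟨i, P, fst, snd, sq, v, rfl⟩ := h T g t
    exact ⟨i, Points.ofPt fst v, by rw [Points.map_ofPt, sq.w, ofPt_comp]⟩

end Groth.Agent.AlgSpLib
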