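import Groth.Agent.AlgSpLib.LocP
import Groth.Agent.SpQS.FieldImm
import Groth.Agent.FlatMor.ReducedDescent
import Groth.Agent.GeomProp.SmoothLocal
import Groth.Prelude.Def_AlgSpSub

/-!
# Reduced algebraic spaces: smooth and flat morphisms, local rings
-/

set_option autoImplicit false
set_option linter.style.haveILetI false

universe u

open CategoryTheory CategoryTheory.Limits AlgebraicGeometry Opposite

set_option backward.isDefEq.respectTransparency false

namespace Groth.Agent.AlgSpLib

open _root_.AlgSp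

variable {S : Scheme.{u}}

theorem smoothLocus_eq_univ_mem {A B : Scheme.{u}} (g : A ⟶ B) [Smooth g] (w : A) : w ∈ g.smoothLocus :=
  GeomProp.mem_smoothLocus_of_nhd g w ⟨⊤, trivial, inferInstance⟩

theorem isReduced_stalk_iff_of_smooth {A B : Scheme.{u}} (g : A ⟶ B) [Smooth g] (w : A) :
    _root_.IsReduced (A.presheaf.stalk w) ↔ _root_.IsReduced (B.presheaf.stalk (g w)) := by
  obtain ⟨P, Q, _, _, _, _, -, q, _, eY, eX, -⟩ :=
    GeomProp.exists_local_model g w (smoothLocus_eq_univ_mem g w)
  constructor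
  · intro h
    haveI := isReduced_of_injective eX.symm eX.symm.injective
    haveI := (GeomProp.isReduced_iff_of_smooth P Q q).1 inferInstance
    exact isReduced_of_injective eY eY.injective
  · intro h
    haveI := isReduced_of_injective eY.symm eY.symm.injective
    haveI := (GeomProp.isReduced_iff_of_smooth P Q q).2 inferInstance
    exact isReduced_of_injective eX eX.injective

theorem isReduced_of_smooth {A B : Scheme.{u}} (g : A ⟶ B) [Smooth g] [IsReduced B] : IsReduced A :=
  have : ∀ x, _root_.IsReduced (A.presheaf.stalk x) := fun x =>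
    (isReduced_stalk_iff_of_smooth g x).2 inferInstance
  isReduced_of_isReduced_stalk A

/-- chart square: `W = U ×_G V` for `a ≫ f` and `b`; the map to `V` is surjective -/
theorem surjective_of_chart {F G : Sp S} {f : F ⟶ G} (hf : IsSurjectiveMor f) {U V W : Over S}
    {a : (yon S).obj U ⟶ F} (has : RepWith @Surjective a) {b : (yon S).obj V ⟶ G} {p : W ⟶ U} {q : W ⟶ V}
    (sq : IsPullback ((yon S).map p) ((yon S).map q) (a ≫ f) b) : Surjective q.left := ⟨fun v => by
  obtain ⟨x, hx⟩ := hf (Points.ofPt b v)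
  obtain ⟨u, rfl⟩ := ofPt_surjective has x
  rw [Points.map_ofPt] at hx
  obtain ⟨w, -, hw⟩ := (ofPt_eq_iff sq u v).1 hx
  exact ⟨w, hw⟩⟩

theorem isReducedSp_of_flat_surjective {F G : Sp S} (hG : IsAlgSpace G) {f : F ⟶ G} (hfl : LocP @Flat f)
    (hs : IsSurjectiveMor f) (hF : IsReducedSp F) : IsReducedSp G := by
  obtain ⟨U, a, ha, has, hU⟩ := hF
  obtain ⟨V, b, hb, hbs⟩ := hG.atlas
  obtain ⟨W, p, q, sq⟩ := exists_pullback hG.diag (a ≫ f) b
  have : Etale p.left := (repWith_yon_iff p).1 (repWith_baseChange sq.flip hb)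
  have : IsReduced U.left := hU
  have : IsReduced W.left := SpQS.isReduced_of_etale_reduced p.left
  have : Flat q.left := hfl ((yon S).map p ≫ a) b q (repWith_comp ((repWith_yon_iff p).2 ‹_›) ha) hb
    (by rw [Category.assoc]; exact sq.w)
  have := surjective_of_chart hs has sq
  exact ⟨V, b, hb, hbs, FlatMor.isReduced_of_flat_surjective q.left⟩

theorem isReducedSp_of_smooth {F G : Sp S} (hF : IsAlgSpace F) (hG : IsAlgSpace G) {f : F ⟶ G}
    (hf : LocP @Smooth f) (h : IsReducedSp G) : IsReducedSp F := by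
  obtain ⟨U, a, ha, has⟩ := hF.atlas
  obtain ⟨V, b, hb, hbs, hV⟩ := h
  obtain ⟨W, p, q, sq⟩ := exists_pullback hG.diag (a ≫ f) b
  have hp : Etale p.left := (repWith_yon_iff p).1 (repWith_baseChange sq.flip hb)
  have hps : Surjective p.left := (repWith_yon_iff p).1 (repWith_baseChange sq.flip hbs)
  have : IsReduced V.left := hV
  have : Smooth q.left := hf ((yon S).map p ≫ a) b q (repWith_comp ((repWith_yon_iff p).2 ‹_›) ha) hb
    (by rw [Category.assoc]; exact sq.w)
  exact ⟨W, (yon S).map p ≫ a, repWith_comp ((repWith_yon_iff p).2 hp) ha,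
    repWith_comp ((repWith_yon_iff p).2 hps) has, isReduced_of_smooth q.left⟩

theorem isReducedSp_iff_forall_hasAt {F : Sp S} (hF : IsAlgSpace F) :
    IsReducedSp F ↔ ∀ x : Points F, HasAt (fun U u => _root_.IsReduced ↥(U.presheaf.stalk u)) F x := by
  constructor
  · rintro ⟨U, a, ha, has, hU⟩ x
    have : IsReduced U.left := hU
    obtain ⟨u, rfl⟩ := ofPt_surjective has x
    exact ⟨U, a, u, ha, rfl, inferInstance⟩
  · intro h
    obtain ⟨U, a, ha, has⟩ := hF.atlas
    have : ∀ u : ↥U.left, _root_.IsReduced (U.left.presheaf.stalk u) := fun u => by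
      obtain ⟨U', a', u', ha', e, hu'⟩ := h (Points.ofPt a u)
      obtain ⟨W, p, q, sq⟩ := exists_pullback hF.diag a' a
      obtain ⟨w, hw₁, hw₂⟩ := (ofPt_eq_iff sq u' u).1 e
      have : Etale p.left := (repWith_yon_iff p).1 (repWith_baseChange sq.flip ha)
      have : Etale q.left := (repWith_yon_iff q).1 (repWith_baseChange sq ha')
      rw [← hw₂]
      refine (isReduced_stalk_iff_of_smooth q.left w).1 ((isReduced_stalk_iff_of_smooth p.left w).2 ?_)
      rw [hw₁]; exact hu'
    exact ⟨U, a, ha, has, isReduced_of_isReduced_stalk U.left⟩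

end Groth.Agent.AlgSpLib
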