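import Groth.Agent.AlgSpLib.LocPMore
import Groth.Prelude.Def_AlgSpCov
import Mathlib.AlgebraicGeometry.Sites.Fpqc

/-!
# Algebraic spaces: locality on the source for coverings
-/

universe u

open CategoryTheory CategoryTheory.Limits AlgebraicGeometry Opposite TopologicalSpace

set_option backward.isDefEq.respectTransparency false

namespace Groth.Agent.AlgSpLib

open _root_.AlgSp

variable {S : Scheme.{u}}

/-- The charts of a member of a covering over a chart of the covered space. -/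
lemma exists_member_chart {X Y : Sp S} (hX : IsAlgSpace X) (hY : IsAlgSpace Y) (g : Y ⟶ X) {U : Over S}
    {a : (yon S).obj U ⟶ X} (ha : RepWith @Etale a) :
    ∃ (V : Over S) (l : (yon S).obj V ⟶ Y) (c : V ⟶ U), RepWith @Etale l ∧ l ≫ g = (yon S).map c ≫ a ∧
      ∀ (W : Over S) (w : W ⟶ U) (m : (yon S).obj W ⟶ Y), m ≫ g = (yon S).map w ≫ a →
        ∃ (W' : Over S) (v : W' ⟶ W) (z : W' ⟶ V), Etale v.left ∧ Surjective v.left ∧ z ≫ c = v ≫ w := by
  have sq := IsPullback.of_hasPullback g a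
  have hT : IsAlgSpace (pullback g a) :=
    isAlgSpace_of_isPullback_space hX hY (IsAlgSpace.yon_obj U) sq
  obtain ⟨V, q, hqe, hqs⟩ := hT.atlas
  obtain ⟨c, hc⟩ := (yon S).map_surjective (q ≫ pullback.snd g a)
  refine ⟨V, q ≫ pullback.fst g a, c, repWith_comp hqe (repWith_baseChange sq.flip ha), ?_, ?_⟩
  · rw [Category.assoc, sq.w, ← Category.assoc, hc]
  intro W w m e
  obtain ⟨W', z, v, sqW⟩ := exists_pullback hT.diag q (pullback.lift m ((yon S).map w) e)
  refine ⟨W', v, z, hqe.2 _ _ v sqW, hqs.2 _ _ v sqW, (yon S).map_injective ?_⟩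
  rw [Functor.map_comp, Functor.map_comp, hc, sqW.w_assoc, pullback.lift_snd]

/-- the member charts cover a chart if the members cover the space -/
lemma exists_mem_range_of_cover {X : Sp S} {ι : Type u} {Y : ι → Sp S} {g : ∀ i, Y i ⟶ X} {U : Over S}
    {a : (yon S).obj U ⟶ X} {V : ι → Over S} {c : ∀ i, V i ⟶ U}
    (hc : ∀ i (W : Over S) (w : W ⟶ U) (m : (yon S).obj W ⟶ Y i), m ≫ g i = (yon S).map w ≫ a →
      ∃ (W' : Over S) (v : W' ⟶ W) (z : W' ⟶ V i), Etale v.left ∧ Surjective v.left ∧ z ≫ c i = v ≫ w)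
    (hs : ∀ x : Points X, ∃ i, x ∈ Set.range (Points.map (g i))) (u : ↥U.left) :
    ∃ i, u ∈ Set.range (c i).left := by
  obtain ⟨i, y, hy⟩ := hs (Points.ofPt a u)
  obtain ⟨T, b, t, rfl⟩ := exists_ofPt y
  rw [Points.map_ofPt] at hy
  obtain ⟨K, α, β, k, e, -, hk⟩ := exists_of_ofPt_eq hy
  rw [← Category.assoc] at e
  obtain ⟨W', v, z, -, hv, hz⟩ := hc i K β _ e
  obtain ⟨k', hk'⟩ := v.left.surjective k
  refine ⟨i, z.left k', ?_⟩
  rw [← Scheme.Hom.comp_apply, ← Over.comp_left, hz, Over.comp_left, Scheme.Hom.comp_apply, hk', hk]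

/-- the member charts of an fpqc covering form a quasi-compact covering -/
lemma isCompactOpenCovered_of_fpqcCover {X : Sp S} {ι : Type u} {Y : ι → Sp S} {g : ∀ i, Y i ⟶ X}
    (hg : IsFpqcCover Y g) {U : Over S} {a : (yon S).obj U ⟶ X} {V : ι → Over S} {c : ∀ i, V i ⟶ U}
    (hc : ∀ i (W : Over S) (w : W ⟶ U) (m : (yon S).obj W ⟶ Y i), m ≫ g i = (yon S).map w ≫ a →
      ∃ (W' : Over S) (v : W' ⟶ W) (z : W' ⟶ V i), Etale v.left ∧ Surjective v.left ∧ z ≫ c i = v ≫ w)
    {O : U.left.Opens} (hO : IsAffineOpen O) :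
    IsCompactOpenCovered (fun i => ((c i).left : (V i).left → U.left)) (O : Set U.left) := by
  let Z : Over S := Over.mk (O.ι ≫ U.hom)
  let κ : Z ⟶ U := Over.homMk O.ι rfl
  obtain ⟨m, W, d, hW, -, hd, hl⟩ := hg.2 Z hO ((yon S).map κ ≫ a)
  choose i l hl using hl
  have key : ∀ j, ∃ Q : (V (i j)).left.Opens, IsCompact (Q : Set ↥(V (i j)).left) ∧
      (c (i j)).left '' Q ⊆ O ∧ Set.range (d j ≫ κ).left ⊆ (c (i j)).left '' Q := fun j => by
    obtain ⟨W', v, z, hv, hvs, hz⟩ := hc (i j) (W j) (d j ≫ κ) (l j) (by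
      rw [hl, Functor.map_comp, Category.assoc])
    have := hW j
    obtain ⟨R, hR, hRi⟩ := v.left.isOpenMap.exists_opens_image_eq_of_prespectralSpace v.left.continuous
      (by rw [Set.range_eq_univ.mpr v.left.surjective]) isOpen_univ isCompact_univ
    have hsub : z.left '' R ⊆ ((c (i j)).left ⁻¹ᵁ O : (V (i j)).left.Opens) := by
      rintro _ ⟨r, -, rfl⟩
      show (c (i j)).left (z.left r) ∈ O
      rw [← Scheme.Hom.comp_apply, ← Over.comp_left, hz]
      exact (d j).left (v.left r) |>.2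
    obtain ⟨t, ht⟩ := (hR.image z.left.continuous).elim_finite_subcover
      (fun A : {A : (V (i j)).left.Opens // IsAffineOpen A ∧ A ≤ (c (i j)).left ⁻¹ᵁ O} => (A.1 : Set _))
      (fun A => A.1.2) (fun x hx => by
        obtain ⟨A, hA, hxA, hle⟩ := Opens.isBasis_iff_nbhd.mp (V (i j)).left.isBasis_affineOpens (hsub hx)
        exact Set.mem_iUnion.mpr ⟨⟨A, hA, hle⟩, hxA⟩)
    refine ⟨⨆ A ∈ t, A.1, ?_, ?_, ?_⟩
    · rw [Opens.coe_iSup]
      simp only [Opens.coe_iSup]
      exact t.finite_toSet.isCompact_biUnion fun A _ => A.2.1.isCompact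
    · rintro _ ⟨x, hx, rfl⟩
      simp only [Opens.coe_iSup, Set.mem_iUnion] at hx
      obtain ⟨A, -, hx⟩ := hx
      exact A.2.2 hx
    · rintro _ ⟨w, rfl⟩
      obtain ⟨r, hr, rfl⟩ := hRi.ge (Set.mem_univ w)
      refine ⟨z.left r, ?_, ?_⟩
      · simpa using ht ⟨r, hr, rfl⟩
      · rw [← Scheme.Hom.comp_apply, ← Over.comp_left, hz]
        rfl
  choose Q hQ hQ' hQ'' using key
  refine IsCompactOpenCovered.of_finite i Q hQ (Set.Subset.antisymm (Set.iUnion_subset hQ') fun x hx => ?_)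
  obtain ⟨j, w, hw⟩ := hd ⟨x, hx⟩
  refine Set.mem_iUnion.mpr ⟨j, hQ'' j ⟨w, ?_⟩⟩
  change κ.left ((d j).left w) = x
  rw [hw]
  rfl

/-- source locality for properties of morphisms of spaces checked on charts -/
theorem isLocalOnSource_of_isLocalAtSource (P R : MorphismProperty Scheme.{u}) (K : Precoverage Scheme.{u})
    [P.IsLocalAtSource K] (hR : ∀ ⦃A B : Scheme.{u}⦄ (f : A ⟶ B), Etale f → R f)
    (hK : ∀ {ι : Type u} {T : Scheme.{u}} (Z : ι → Scheme.{u}) (f : ∀ i, Z i ⟶ T), (∀ i, R (f i)) →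
      (∀ t, ∃ i, t ∈ Set.range (f i)) →
      (∀ O : T.Opens, IsAffineOpen O → IsCompactOpenCovered (fun i => (f i : Z i → T)) (O : Set T)) →
      Presieve.ofArrows Z f ∈ K T)
    (τ : CovNotion S)
    (hτ : ∀ {ι : Type u} {X : Sp S} (Y : ι → Sp S) (g : ∀ i, Y i ⟶ X), IsAlgSpace X → τ Y g →
      (∀ i, LocP R (g i)) ∧ ∀ {U : Over S} (a : (yon S).obj U ⟶ X) (V : ι → Over S) (c : ∀ i, V i ⟶ U),
        (∀ i, R (c i).left) →
        (∀ i (W : Over S) (w : W ⟶ U) (m : (yon S).obj W ⟶ Y i), m ≫ g i = (yon S).map w ≫ a →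
          ∃ (W' : Over S) (v : W' ⟶ W) (z : W' ⟶ V i),
            Etale v.left ∧ Surjective v.left ∧ z ≫ c i = v ≫ w) →
        (∀ t, ∃ i, t ∈ Set.range (c i).left) ∧ ∀ O : U.left.Opens, IsAffineOpen O →
          IsCompactOpenCovered (fun i => ((c i).left : (V i).left → U.left)) (O : Set U.left)) :
    IsLocalOnSource τ (LocP P) := by
  intro ι X Xi g hX hXi hg Y f hY
  obtain ⟨hgR, hcov⟩ := hτ Xi g hX hg
  constructor
  · intro hf i U V a b h ha hb comm
    have sqT := IsPullback.of_hasPullback f b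
    have hT : IsAlgSpace (pullback f b) := isAlgSpace_of_isPullback_space hY hX (IsAlgSpace.yon_obj V) sqT
    obtain ⟨U₀, q, hqe, hqs⟩ := hT.atlas
    obtain ⟨h₀, hh₀⟩ := (yon S).map_surjective (q ≫ pullback.snd f b)
    have ha₀ : RepWith @Etale (q ≫ pullback.fst f b) := repWith_comp hqe (repWith_baseChange sqT.flip hb)
    have hP₀ : P h₀.left := hf _ b h₀ ha₀ hb (by rw [Category.assoc, sqT.w, ← Category.assoc, hh₀])
    obtain ⟨U', u₀, u₁, sqU⟩ := exists_pullback hT.diag q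
      (pullback.lift (a ≫ g i) ((yon S).map h) (by rw [Category.assoc]; exact comm))
    have hu₁ : Etale u₁.left := hqe.2 _ _ u₁ sqU
    have hu₁' : Surjective u₁.left := hqs.2 _ _ u₁ sqU
    have hu₀ : R u₀.left := hgR i ((yon S).map u₁ ≫ a) _ u₀
      (repWith_comp ((repWith_yon_iff _).2 hu₁) ha) ha₀ (by
        rw [Category.assoc, sqU.w_assoc, pullback.lift_fst])
    have e : u₀ ≫ h₀ = u₁ ≫ h := (yon S).map_injective (by
      rw [Functor.map_comp, Functor.map_comp, hh₀, sqU.w_assoc, pullback.lift_snd])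
    let Z : ULift.{u} Bool → Scheme.{u} := fun b => cond b.down U'.left U₀.left
    let m : ∀ b, Z b ⟶ U₀.left := fun b => ULift.rec (motive := fun b => Z b ⟶ U₀.left)
      (fun b => Bool.rec (motive := fun b => Z ⟨b⟩ ⟶ U₀.left) (𝟙 U₀.left) u₀.left b) b
    have hm : Presieve.ofArrows Z m ∈ K U₀.left := by
      refine hK Z m ?_ (fun t => ⟨⟨false⟩, t, rfl⟩) fun O hO => ?_
      · rintro ⟨⟨⟩ | ⟨⟩⟩
        · exact hR (𝟙 U₀.left) inferInstance
        · exact hu₀
      · refine IsCompactOpenCovered.of_finite (κ := PUnit.{1}) (fun _ => ⟨false⟩) (fun _ => O)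
          (fun _ => hO.isCompact) ?_
        ext x
        exact ⟨fun hx => by obtain ⟨_, y, hy, rfl⟩ := Set.mem_iUnion.mp hx; exact hy,
          fun hx => Set.mem_iUnion.mpr ⟨⟨⟩, x, hx, rfl⟩⟩
    have hP₁ : P (u₁.left ≫ h.left) := by
      rw [← Over.comp_left, ← e, Over.comp_left]
      exact MorphismProperty.IsLocalAtSource.comp (P := P) hm (m (ULift.up true))
        (Presieve.ofArrows.mk (Y := Z) (f := m) (ULift.up true)) hP₀
    refine MorphismProperty.IsLocalAtSource.of_forall_comp (P := P) (K := K)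
      (R := Presieve.ofArrows (fun _ : PUnit.{u + 1} => U'.left) (fun _ => u₁.left)) ?_ ?_
    · refine hK _ _ (fun _ => hR _ hu₁) (fun t => ⟨⟨⟩, u₁.left.surjective t⟩) fun O hO => ?_
      exact .of_isOpenMap (fun _ => u₁.left.continuous) (fun _ => u₁.left.isOpenMap)
        (fun t _ => ⟨⟨⟩, u₁.left.surjective t⟩) O.2 hO.isCompact
    · rintro W w ⟨⟩
      exact hP₁
  · intro hf U V a b h ha hb comm
    choose W l c hl hlc hc using fun i => exists_member_chart hX (hXi i) (g i) ha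
    have hcR : ∀ i, R (c i).left := fun i => hgR i (l i) a (c i) (hl i) ha (hlc i)
    obtain ⟨hs, hq⟩ := hcov a W c hcR hc
    refine MorphismProperty.IsLocalAtSource.of_forall_comp (P := P) (hK _ _ hcR hs hq) ?_
    rintro T t ⟨i⟩
    exact hf i (l i) b (c i ≫ h) (hl i) hb (by
      rw [reassoc_of% hlc i, comm, Functor.map_comp, Category.assoc])

lemma isCompactOpenCovered_of_isOpenMap {ι : Type u} {T : Scheme.{u}} {Z : ι → Scheme.{u}}
    (f : ∀ i, Z i ⟶ T) (ho : ∀ i, IsOpenMap (f i)) (hs : ∀ t, ∃ i, t ∈ Set.range (f i))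
    {O : T.Opens} (hO : IsAffineOpen O) :
    IsCompactOpenCovered (fun i => (f i : Z i → T)) (O : Set T) :=
  .of_isOpenMap (fun i => (f i).continuous) ho (fun t _ => hs t) O.2 hO.isCompact

/-- the common form for coverings by open maps -/
lemma isLocalOnSource_isCover (P R : MorphismProperty Scheme.{u}) [P.IsLocalAtSource (Scheme.precoverage R)]
    (hR : ∀ ⦃A B : Scheme.{u}⦄ (f : A ⟶ B), Etale f → R f)
    (ho : ∀ ⦃A B : Scheme.{u}⦄ (f : A ⟶ B), R f → IsOpenMap f)
    (Q : MorphismProperty (Sp S))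
    (hQ : ∀ {F G : Sp S} (f : F ⟶ G), IsAlgSpace G → Q f → LocP R f) :
    IsLocalOnSource (S := S) (fun _ _ Y g => IsCover Q Y g) (LocP P) :=
  isLocalOnSource_of_isLocalAtSource P R _ hR
    (fun Z f hf hs _ => (Scheme.ofArrows_mem_precoverage_iff (P := R)).mpr ⟨hs, hf⟩) _
    fun Y g hX hg => ⟨fun i => hQ _ hX (hg.1 i), fun a V c hcR hc =>
      ⟨fun t => exists_mem_range_of_cover hc hg.2 t, fun O hO => isCompactOpenCovered_of_isOpenMap _
        (fun i => ho _ (hcR i)) (fun t => exists_mem_range_of_cover hc hg.2 t) hO⟩⟩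

theorem isLocalOnSource_fpqc (P : MorphismProperty Scheme.{u}) [P.IsLocalAtSource Scheme.fpqcPrecoverage] :
    IsLocalOnSource (IsFpqcCover (S := S)) (LocP P) := by
  refine isLocalOnSource_of_isLocalAtSource P @Flat Scheme.fpqcPrecoverage (fun _ _ f _ => inferInstance) ?_ _ ?_
  · intro ι T Z f hf hs hq
    refine ⟨?_, (Scheme.ofArrows_mem_precoverage_iff (P := @Flat)).mpr ⟨hs, hf⟩⟩
    let E : PreZeroHypercover.{u} T := { I₀ := ι, X := Z, f := f }
    exact (Scheme.presieve₀_mem_qcPrecoverage_iff (E := E)).mpr ⟨fun hU => hq _ hU⟩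
  · intro ι X Y g _ hg
    refine ⟨hg.1, fun {U} a V c _ hc => ?_⟩
    have hq := fun O (hO : IsAffineOpen O) => isCompactOpenCovered_of_fpqcCover hg hc hO
    refine ⟨fun t => ?_, hq⟩
    obtain ⟨O, hO, ht, -⟩ := Opens.isBasis_iff_nbhd.mp U.left.isBasis_affineOpens (Opens.mem_top t)
    obtain ⟨s, -, Q, -, hU⟩ := hq O hO
    obtain ⟨i, hi, y, -, rfl⟩ : ∃ i, ∃ h : i ∈ s, t ∈ (c i).left '' (Q i h) := by
      simpa [Set.mem_iUnion] using hU.ge ht
    exact ⟨i, y, rfl⟩

theorem isLocalOnSource_fppf (P : MorphismProperty Scheme.{u}) [P.IsLocalAtSource Scheme.fppfPrecoverage] :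
    IsLocalOnSource (IsFppfCover (S := S)) (LocP P) :=
  have : P.IsLocalAtSource (Scheme.precoverage (@Flat ⊓ @LocallyOfFinitePresentation)) := ‹_›
  isLocalOnSource_isCover P (@Flat ⊓ @LocallyOfFinitePresentation) (fun _ _ f _ => ⟨inferInstance, inferInstance⟩)
    (fun _ _ f h => have := h.1; have := h.2; f.isOpenMap) _
    fun _ _ h _ _ a b k ha hb comm => ⟨h.1 a b k ha hb comm, h.2 a b k ha hb comm⟩

theorem isLocalOnSource_smooth (P : MorphismProperty Scheme.{u})
    [P.IsLocalAtSource (Scheme.precoverage @Smooth)] :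
    IsLocalOnSource (IsSmCover (S := S)) (LocP P) :=
  isLocalOnSource_isCover P @Smooth (fun _ _ f _ => inferInstance)
    (fun _ _ f h => have : Smooth f := h; f.isOpenMap) _ fun _ _ h => h

theorem isLocalOnSource_etale (P : MorphismProperty Scheme.{u}) [P.IsLocalAtSource Scheme.etalePrecoverage] :
    IsLocalOnSource (IsEtCover (S := S)) (LocP P) :=
  have : P.IsLocalAtSource (Scheme.precoverage @Etale) := ‹_›
  isLocalOnSource_isCover P @Etale (fun _ _ _ h => h)
    (fun _ _ f h => have : Etale f := h; f.isOpenMap) _ fun _ hG h => (isEtaleMor_iff_locP hG).1 h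

/-- source locality of classes that are etale local on source and target -/
theorem isLocalAtSource_precoverage {P R : MorphismProperty Scheme.{u}} [IsZariskiLocalAtSource P]
    [IsZariskiLocalAtSource R]
    (hcomp : ∀ ⦃A B C : Scheme.{u}⦄ (f : A ⟶ B) (g : B ⟶ C), R f → P g → P (f ≫ g))
    (hdesc : ∀ ⦃A B C : Scheme.{u}⦄ (f : A ⟶ B) (g : B ⟶ C), R f → Surjective f → P (f ≫ g) → P g)
    (K : Precoverage Scheme.{u}) (hK : K ≤ Scheme.precoverage R) : P.IsLocalAtSource K where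
  comp {X Y f Q} hQ {U} g hg hf := by
    obtain ⟨𝒰, rfl⟩ := Precoverage.mem_iff_exists_zeroHypercover.mp (hK X hQ)
    obtain ⟨i⟩ := hg
    exact hcomp _ _ (Scheme.Cover.map_prop 𝒰 i) hf
  of_forall_comp {X Y f Q} hQ h := by
    obtain ⟨𝒰, rfl⟩ := Precoverage.mem_iff_exists_zeroHypercover.mp (hK X hQ)
    let Z : ↥X → Scheme.{u} := fun x => 𝒰.X (Scheme.Cover.idx 𝒰 x)
    let m : ∀ x, Z x ⟶ X := fun x => 𝒰.f (Scheme.Cover.idx 𝒰 x)
    let q : ∐ Z ⟶ X := Sigma.desc m
    refine hdesc q f ?_ ⟨fun x => ?_⟩ ?_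
    · rw [IsZariskiLocalAtSource.iff_of_openCover (P := R) (sigmaOpenCover _)]
      intro i
      change R (Sigma.ι Z i ≫ q)
      rw [Sigma.ι_desc]
      exact Scheme.Cover.map_prop 𝒰 _
    · obtain ⟨y, hy⟩ := Scheme.Cover.covers 𝒰 x
      exact ⟨Sigma.ι Z x y, by rw [← Scheme.Hom.comp_apply, Sigma.ι_desc]; exact hy⟩
    · rw [IsZariskiLocalAtSource.iff_of_openCover (P := P) (sigmaOpenCover _)]
      intro i
      change P (Sigma.ι Z i ≫ q ≫ f)
      rw [Sigma.ι_desc_assoc]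
      exact h (Presieve.ofArrows.mk _)

end Groth.Agent.AlgSpLib
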