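import Groth.Agent.AlgSpLib.SourceDescRing
import Mathlib.AlgebraicGeometry.Morphisms.Etale
import Mathlib.AlgebraicGeometry.Morphisms.UniversallyOpen
import Mathlib.AlgebraicGeometry.Morphisms.QuasiFinite
import Mathlib.AlgebraicGeometry.Morphisms.FormallyUnramified
import Mathlib.AlgebraicGeometry.Morphisms.Flat

/-!
# Descent of properties of morphisms of schemes along etale surjective maps of the source
-/

universe u

open CategoryTheory CategoryTheory.Limits AlgebraicGeometry

namespace Groth.Agent.AlgSpLib.SrcDesc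

set_option backward.isDefEq.respectTransparency.types false in
/-- reduce descent along etale surjections of the source to affine schemes -/
theorem descend_of_affine (P : MorphismProperty Scheme.{u}) [IsZariskiLocalAtTarget P]
    [IsZariskiLocalAtSource P]
    (h : ∀ ⦃X Y Z : Scheme.{u}⦄ (f : X ⟶ Y) (g : Y ⟶ Z), IsAffine X → IsAffine Y → IsAffine Z →
      Etale f → Surjective f → P (f ≫ g) → P g)
    {X Y Z : Scheme.{u}} (f : X ⟶ Y) (g : Y ⟶ Z) (hf : Etale f) (hs : Surjective f)
    (hfg : P (f ≫ g)) : P g := by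
  wlog hZ : IsAffine Z generalizing X Y Z
  · rw [IsZariskiLocalAtTarget.iff_of_openCover (P := P) Z.affineCover]
    intro i
    refine this (pullback.snd f (pullback.fst g (Z.affineCover.f i))) _
      (MorphismProperty.pullback_snd _ _ hf) (MorphismProperty.pullback_snd (P := @Surjective) _ _ hs)
      ?_ inferInstance
    exact IsZariskiLocalAtTarget.of_isPullback
      (((IsPullback.of_hasPullback f (pullback.fst g (Z.affineCover.f i))).paste_vert
        (IsPullback.of_hasPullback g (Z.affineCover.f i)))) hfg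
  wlog hY : IsAffine Y generalizing X Y Z
  · rw [IsZariskiLocalAtSource.iff_of_openCover (P := P) Y.affineCover]
    intro i
    refine this (pullback.snd f (Y.affineCover.f i)) _ (MorphismProperty.pullback_snd _ _ hf)
      (MorphismProperty.pullback_snd (P := @Surjective) _ _ hs) ?_ hZ inferInstance
    rw [← Category.assoc, ← pullback.condition, Category.assoc]
    exact IsZariskiLocalAtSource.comp hfg _
  -- finitely many affine opens of `X` cover `Y`
  let U : X.affineCover.I₀ → Set Y := fun i => f '' Set.range (X.affineCover.f i)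
  obtain ⟨t, ht⟩ := isCompact_univ.elim_finite_subcover U
    (fun i => f.isOpenMap _ (X.affineCover.f i).isOpenEmbedding.isOpen_range) (fun y _ => by
      obtain ⟨x, rfl⟩ := f.surjective y
      exact Set.mem_iUnion.mpr ⟨_, x, X.affineCover.covers x, rfl⟩)
  let W : t → Scheme.{u} := fun j => X.affineCover.X j.1
  let q : ∐ W ⟶ X := Sigma.desc fun j => X.affineCover.f j.1
  have hq : Etale q := by
    rw [IsZariskiLocalAtSource.iff_of_openCover (P := @Etale) (sigmaOpenCover _)]
    intro j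
    change Etale (Sigma.ι W j ≫ q)
    rw [Sigma.ι_desc]
    infer_instance
  have hqs : Surjective (q ≫ f) := ⟨fun y => by
    obtain ⟨i, hi⟩ := Set.mem_iUnion.mp (ht (Set.mem_univ y))
    obtain ⟨hit, x, ⟨w, rfl⟩, rfl⟩ := Set.mem_iUnion.mp hi
    refine ⟨Sigma.ι W ⟨i, hit⟩ w, ?_⟩
    rw [← Scheme.Hom.comp_apply, Sigma.ι_desc_assoc]
    rfl⟩
  refine h (q ≫ f) g inferInstance hY hZ inferInstance hqs ?_
  rw [Category.assoc, IsZariskiLocalAtSource.iff_of_openCover (P := P) (sigmaOpenCover _)]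
  intro j
  change P (Sigma.ι W j ≫ q ≫ f ≫ g)
  rw [Sigma.ι_desc_assoc]
  exact IsZariskiLocalAtSource.comp hfg _

/-- ring theoretic form of descent along the source -/
theorem descend_ringHom (P : MorphismProperty Scheme.{u})
    {Q : ∀ {R S : Type u} [CommRing R] [CommRing S], (R →+* S) → Prop} [HasRingHomProperty P Q]
    (h : ∀ {A B C : Type u} [CommRing A] [CommRing B] [CommRing C] [Algebra A B] [Algebra B C]
      [Algebra A C] [IsScalarTower A B C] [Algebra.Etale B C] [Module.FaithfullyFlat B C],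
      Q (algebraMap A C) → Q (algebraMap A B))
    {X Y Z : Scheme.{u}} (f : X ⟶ Y) (g : Y ⟶ Z) (hf : Etale f) (hs : Surjective f)
    (hfg : P (f ≫ g)) : P g := by
  refine descend_of_affine P (fun X Y Z f g _ _ _ hf hs hfg => ?_) f g hf hs hfg
  have := hs
  rw [HasRingHomProperty.iff_of_isAffine (P := P)] at hfg ⊢
  have hff : f.appTop.hom.FaithfullyFlat :=
    (Flat.flat_and_surjective_iff_faithfullyFlat_of_isAffine f).mp ⟨inferInstance, hs⟩
  rw [HasRingHomProperty.iff_of_isAffine (P := @Etale)] at hf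
  algebraize [g.appTop.hom, f.appTop.hom, (f.appTop.hom.comp g.appTop.hom)]
  exact h (B := Γ(Y, ⊤)) (C := Γ(X, ⊤)) hfg

theorem lft {X Y Z : Scheme.{u}} (f : X ⟶ Y) (g : Y ⟶ Z) [Etale f] [Surjective f]
    [LocallyOfFiniteType (f ≫ g)] : LocallyOfFiniteType g :=
  descend_ringHom @LocallyOfFiniteType (fun {A B C} _ _ _ _ _ _ _ _ _ h => by
    rw [RingHom.finiteType_algebraMap] at h ⊢
    exact finiteType_of_smooth (C := C)) f g ‹_› ‹_› ‹_›

theorem lfp {X Y Z : Scheme.{u}} (f : X ⟶ Y) (g : Y ⟶ Z) [Etale f] [Surjective f]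
    [LocallyOfFinitePresentation (f ≫ g)] : LocallyOfFinitePresentation g :=
  descend_ringHom @LocallyOfFinitePresentation (fun {A B C} _ _ _ _ _ _ _ _ _ h => by
    rw [RingHom.finitePresentation_algebraMap] at h ⊢
    exact finitePresentation_of_smooth (C := C)) f g ‹_› ‹_› ‹_›

theorem smooth {X Y Z : Scheme.{u}} (f : X ⟶ Y) (g : Y ⟶ Z) [Etale f] [Surjective f]
    [Smooth (f ≫ g)] : Smooth g :=
  descend_ringHom @Smooth (fun {A B C} _ _ _ _ _ _ _ _ _ h => by
    rw [RingHom.smooth_algebraMap] at h ⊢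
    exact smooth_of_etale (C := C)) f g ‹_› ‹_› ‹_›

theorem formallyUnramified {X Y Z : Scheme.{u}} (f : X ⟶ Y) (g : Y ⟶ Z) [Etale f] [Surjective f]
    [FormallyUnramified (f ≫ g)] : FormallyUnramified g :=
  descend_ringHom @FormallyUnramified (fun {A B C} _ _ _ _ _ _ _ _ _ h => by
    rw [RingHom.formallyUnramified_algebraMap] at h ⊢
    exact formallyUnramified_of_etale (C := C)) f g ‹_› ‹_› ‹_›

theorem etale {X Y Z : Scheme.{u}} (f : X ⟶ Y) (g : Y ⟶ Z) [Etale f] [Surjective f]
    [Etale (f ≫ g)] : Etale g :=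
  descend_ringHom @Etale (fun {A B C} _ _ _ _ _ _ _ _ _ h => by
    rw [RingHom.etale_algebraMap] at h ⊢
    exact etale_of_etale (C := C)) f g ‹_› ‹_› ‹_›

/-- local quasi-finiteness descends along open surjections of the source -/
theorem lqf_of_isOpenMap {X Y Z : Scheme.{u}} (f : X ⟶ Y) (g : Y ⟶ Z) [LocallyOfFiniteType g]
    (ho : IsOpenMap f) [Surjective f] [LocallyQuasiFinite (f ≫ g)] : LocallyQuasiFinite g := by
  rw [locallyQuasiFinite_iff_isDiscrete_preimage_singleton]
  refine fun z => isDiscrete_iff_forall_exists_isOpen.mpr fun y hy => ?_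
  obtain ⟨x, rfl⟩ := f.surjective y
  have hd := (f ≫ g).isDiscrete_preimage_singleton z
  obtain ⟨U, hU, hU'⟩ := isDiscrete_iff_forall_exists_isOpen.mp hd x
    (show (f ≫ g) x ∈ ({z} : Set Z) by rw [Scheme.Hom.comp_apply]; exact hy)
  have hx : x ∈ U ∩ (f ≫ g) ⁻¹' {z} := by rw [hU']; rfl
  refine ⟨f '' U, ho U hU, Set.Subset.antisymm ?_ ?_⟩
  · rintro _ ⟨⟨x', hx', rfl⟩, hz⟩
    have : x' ∈ U ∩ (f ≫ g) ⁻¹' {z} :=
      ⟨hx', by rw [Set.mem_preimage, Scheme.Hom.comp_apply]; exact hz⟩
    rw [hU'] at this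
    rw [Set.mem_singleton_iff.mp this]
    exact rfl
  · rintro _ rfl
    exact ⟨⟨x, hx.1, rfl⟩, hy⟩

theorem lqf {X Y Z : Scheme.{u}} (f : X ⟶ Y) (g : Y ⟶ Z) [Etale f] [Surjective f]
    [LocallyOfFiniteType (f ≫ g)] [LocallyQuasiFinite (f ≫ g)] :
    LocallyQuasiFinite g ∧ LocallyOfFiniteType g :=
  have := lft f g
  ⟨lqf_of_isOpenMap f g f.isOpenMap, this⟩

end Groth.Agent.AlgSpLib.SrcDesc
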