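import Groth.Agent.AlgSpLib.LocPMore
import Groth.Agent.LocNoethTop.Basic
import Groth.Agent.S0116
import Mathlib.Topology.NoetherianSpace

/-!
# Locally noetherian algebraic spaces: charts and spaces of points
-/

set_option autoImplicit false

universe u

open CategoryTheory CategoryTheory.Limits AlgebraicGeometry Opposite TopologicalSpace

set_option backward.isDefEq.respectTransparency false

namespace Groth.Agent.AlgSpLib

open _root_.AlgSp

variable {S : Scheme.{u}}

/-- every etale chart of a locally noetherian space is locally noetherian -/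
theorem isLocallyNoetherian_chart {F : Sp S} (hF : IsAlgSpace F) (h : IsLocNoethSp F) {V : Over S}
    {b : (yon S).obj V ⟶ F} (hb : RepWith @Etale b) : IsLocallyNoetherian V.left := by
  obtain ⟨U, a, ha, has, hU⟩ := h
  obtain ⟨W, p, q, sq⟩ := exists_pullback hF.diag a b
  have : Etale p.left := (repWith_yon_iff p).1 (repWith_baseChange sq.flip hb)
  have : Etale q.left := (repWith_yon_iff q).1 (repWith_baseChange sq ha)
  have : Surjective q.left := (repWith_yon_iff q).1 (repWith_baseChange sq has)
  have : IsLocallyNoetherian W.left := LocallyOfFiniteType.isLocallyNoetherian p.left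
  exact Groth.Agent.S0116.result q.left

theorem noetherianSpace_of_compact {V : Scheme.{u}} [IsLocallyNoetherian V] (W : V.Opens)
    (hW : IsCompact (W : Set ↥V)) : NoetherianSpace W := by
  have hc : CompactSpace W := isCompact_iff_compactSpace.1 hW
  have : IsLocallyNoetherian W.toScheme := isLocallyNoetherian_of_isOpenImmersion W.ι
  have : CompactSpace ↥W.toScheme := hc
  have : IsNoetherian W.toScheme := ⟨⟩
  exact (inferInstance : NoetherianSpace ↥W.toScheme)

/-- every point has a noetherian open neighbourhood -/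
theorem exists_noetherian_nhd {F : Sp S} (hF : IsAlgSpace F) (h : IsLocNoethSp F) (x : Points F) :
    ∃ W : Set (Points F), IsOpen W ∧ x ∈ W ∧ NoetherianSpace ↥W := by
  obtain ⟨U, a, ha, has⟩ := hF.atlas
  have := isLocallyNoetherian_chart hF h ha
  obtain ⟨u, rfl⟩ := ofPt_surjective has x
  obtain ⟨_, ⟨O, hO, rfl⟩, huO, -⟩ :=
    U.left.isBasis_affineOpens.exists_subset_of_mem_open (Set.mem_univ u) isOpen_univ
  have : NoetherianSpace ↥O := noetherianSpace_of_compact O hO.isCompact
  refine ⟨Points.ofPt a '' (O : Set ↥U.left), isOpenMap_ofPt (repWith_universallyOpen_of_etale ha) _ O.2,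
    ⟨u, huO, rfl⟩, ?_⟩
  refine noetherianSpace_of_surjective (fun v : O => (⟨Points.ofPt a v.1, v.1, v.2, rfl⟩ :
    ↥(Points.ofPt a '' (O : Set ↥U.left)))) ?_ ?_
  · exact ((Points.continuous_ofPt a).comp continuous_subtype_val).subtype_mk _
  · rintro ⟨_, v, hv, rfl⟩
    exact ⟨⟨v, hv⟩, rfl⟩

theorem noetherianSpace_points {F : Sp S} (hF : IsAlgSpace F) (hqc : IsQuasiCompactSp F) (h : IsLocNoethSp F) :
    NoetherianSpace (Points F) := by
  obtain ⟨U, a, ha, has, hU⟩ := hqc
  have := isLocallyNoetherian_chart hF h ha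
  have : CompactSpace ↥U.left := hU
  have : IsNoetherian U.left := ⟨⟩
  exact noetherianSpace_of_surjective (α := ↥U.left) _ (Points.continuous_ofPt a) (ofPt_surjective has)

theorem locallyFinite_irreducibleComponents {F : Sp S} (hF : IsAlgSpace F) (h : IsLocNoethSp F)
    (T : Set (Points F)) :
    LocallyFinite (fun Z : ↥(irreducibleComponents ↥T) => ((↑) : ↥T → Points F) '' (Z : Set ↥T)) := by
  intro x
  obtain ⟨W, hW, hxW, hN⟩ := exists_noetherian_nhd hF h x
  refine ⟨W, hW.mem_nhds hxW, ?_⟩
  let O : Set ↥T := (↑) ⁻¹' W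
  have : NoetherianSpace O := by
    refine (Topology.IsInducing.noetherianSpace (i := fun p : O => (⟨p.1.1, p.2⟩ : ↥W)) ?_)
    have h1 : Topology.IsInducing (fun p : O => ((p.1 : ↥T) : Points F)) :=
      Topology.IsInducing.subtypeVal.comp Topology.IsInducing.subtypeVal
    exact h1.codRestrict fun p => p.2
  have hfin := LocNoethTop.finite_meeting (X := ↥T) (O := O) (hW.preimage continuous_subtype_val)
  refine (hfin.preimage Subtype.val_injective.injOn).subset ?_
  rintro ⟨Z, hZ⟩ ⟨_, ⟨t, ht, rfl⟩, htW⟩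
  exact ⟨hZ, t, ht, htW⟩

theorem finite_irreducibleComponents_chart {F : Sp S} (hF : IsAlgSpace F) (h : IsLocNoethSp F) {U : Over S}
    {a : (yon S).obj U ⟶ F} (ha : RepWith @Etale a) (W : U.left.Opens) (hW : IsCompact (W : Set ↥U.left)) :
    (irreducibleComponents ↥W).Finite := by
  have := isLocallyNoetherian_chart hF h ha
  have : NoetherianSpace ↥W := noetherianSpace_of_compact W hW
  exact NoetherianSpace.finite_irreducibleComponents

/-- base changes of a morphism to the spectrum of a field are open -/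
theorem isUnivOpenMor_to_field {X : Sp S} (hX : IsAlgSpace X) {k : Type u} [Field k]
    (str : Spec (CommRingCat.of k) ⟶ S) (p : X ⟶ (yon S).obj (Over.mk str)) : IsUnivOpenMor p := by
  intro Z W hZ g fst snd sq
  obtain ⟨U, a, ha, has⟩ := hX.atlas
  obtain ⟨V, v, hv, hvs⟩ := hZ.atlas
  have sq1 := IsPullback.of_hasPullback a fst
  have sq' := sq1.paste_vert sq
  have h1 : IsSurjectiveMor (pullback.snd a fst) :=
    isSurjectiveMor_baseChange sq1 (isSurjectiveMor_of_repWith has)
  obtain ⟨P, e₁, e₂, sqP⟩ := exists_pullback (IsAlgSpace.yon_obj (Over.mk str)).diag (a ≫ p) (v ≫ g)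
  obtain ⟨h, hh⟩ := exists_map_eq (a ≫ p)
  obtain ⟨t, ht⟩ := exists_map_eq (v ≫ g)
  have hsch : IsPullback e₁.left e₂.left h.left t.left :=
    (isPullback_yon_iff.1 (show IsPullback ((yon S).map e₁) ((yon S).map e₂) ((yon S).map h) ((yon S).map t) by
      rw [hh, ht]; exact sqP))
  have ho : UniversallyOpen h.left := by
    have : UniversallyOpen (show U.left ⟶ Spec (CommRingCat.of k) from h.left) := inferInstance
    exact this
  have he₂ : UniversallyOpen e₂.left := MorphismProperty.of_isPullback (P := @UniversallyOpen) hsch ho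
  have e : (yon S).map e₁ ≫ a ≫ p = ((yon S).map e₂ ≫ v) ≫ g := by rw [Category.assoc]; exact sqP.w
  let l := sq'.lift _ _ e
  have hl₁ : l ≫ pullback.fst a fst = (yon S).map e₁ := sq'.lift_fst _ _ e
  have hl₂ : l ≫ pullback.snd a fst ≫ snd = (yon S).map e₂ ≫ v := sq'.lift_snd _ _ e
  have sql : IsPullback l ((yon S).map e₂) (pullback.snd a fst ≫ snd) v :=
    IsPullback.of_right (by rw [hl₁]; exact sqP) hl₂ sq'
  have hls : IsSurjectiveMor l :=
    isSurjectiveMor_baseChange sql.flip (isSurjectiveMor_of_repWith hvs)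
  have hψ : Function.Surjective (Points.ofPt (l ≫ pullback.snd a fst)) := fun w => by
    obtain ⟨w₁, rfl⟩ := h1 w
    obtain ⟨q, rfl⟩ := hls w₁
    obtain ⟨z, rfl⟩ := (Points.schemeEquiv P).surjective q
    refine ⟨z, ?_⟩
    have e1 : Points.ofPt l z = Points.map l (Points.schemeEquiv P z) := by
      show Points.ofPt l z = Points.map l (Points.ofPt (𝟙 _) z)
      rw [Points.map_ofPt, Category.id_comp]
    rw [← Points.map_ofPt, e1]
  intro O hO
  have key : Points.map snd '' O =
      Points.ofPt v '' (e₂.left '' (Points.ofPt (l ≫ pullback.snd a fst) ⁻¹' O)) := by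
    have hk : ∀ z, Points.map snd (Points.ofPt (l ≫ pullback.snd a fst) z) = Points.ofPt v (e₂.left z) :=
      fun z => by rw [Points.map_ofPt, Category.assoc, hl₂, ofPt_comp]
    ext y
    constructor
    · rintro ⟨w, hw, rfl⟩
      obtain ⟨z, rfl⟩ := hψ w
      exact ⟨_, ⟨z, hw, rfl⟩, (hk z).symm⟩
    · rintro ⟨_, ⟨z, hz, rfl⟩, rfl⟩
      exact ⟨_, hz, hk z⟩
  rw [key]
  exact isOpenMap_ofPt (repWith_universallyOpen_of_etale hv) _
    (e₂.left.isOpenMap _ ((Points.continuous_ofPt _).isOpen_preimage _ hO))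

end Groth.Agent.AlgSpLib
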