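import Groth.Agent.AlgSpLib.FppfBase
import Groth.Agent.AlgSpLib.LocP
import Groth.Prelude.Def_AlgSpMor5
import Mathlib.AlgebraicGeometry.Sites.MorphismProperty

/-!
# Coverings of algebraic spaces: lifting and composition
-/

set_option autoImplicit false

universe u

open CategoryTheory CategoryTheory.Limits AlgebraicGeometry Opposite

set_option backward.isDefEq.respectTransparency false

namespace Groth.Agent.AlgSpLib

open _root_.AlgSp

variable {S : Scheme.{u}}

theorem exists_lift_fppfCover {ι : Type u} {Y : Sp S} {Yi : ι → Sp S} {g : ∀ i, Yi i ⟶ Y} (hY : IsAlgSpace Y)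
    (hYi : ∀ i, IsAlgSpace (Yi i)) (hg : IsFppfCover Yi g) (T : Over S) (t : (yon S).obj T ⟶ Y) :
    ∃ (κ : Type u) (Tk : κ → Over S) (c : ∀ k, Tk k ⟶ T),
      Sieve.ofArrows Tk c ∈ AlgSp.J S T ∧
      ∀ k, ∃ (i : ι) (l : (yon S).obj (Tk k) ⟶ Yi i), l ≫ g i = (yon S).map (c k) ≫ t := by
  obtain ⟨A, fA, c, h1, h2, h3, hl⟩ := exists_fppf_pieces hY hYi hg t
  refine ⟨ι, fun i => Over.mk (fA i), fun i => sigmaInj fA i ≫ c, ?_, fun i => ⟨i, hl i⟩⟩
  rw [GrothendieckTopology.mem_over_iff]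
  refine GrothendieckTopology.superset_covering _ (S := Sieve.ofArrows A fun i => Sigma.ι A i ≫ c.left) ?_ ?_
  · rw [Sieve.ofArrows, Sieve.generate_le_iff]
    rintro Z _ ⟨i⟩
    rw [Sieve.overEquiv_iff]
    have e : Over.mk ((Sigma.ι A i ≫ c.left) ≫ T.hom) = Over.mk (fA i) := by
      congr 1
      rw [Category.assoc, Over.w c]
      exact Sigma.ι_desc fA i
    refine ⟨_, eqToHom e, sigmaInj fA i ≫ c, ⟨i⟩, Over.OverMorphism.ext ?_⟩
    simp [sigmaInj]
  · refine Precoverage.generate_mem_toGrothendieck ?_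
    refine (Scheme.ofArrows_mem_precoverage_iff _).2 ⟨fun y => ?_, fun i => ⟨?_, ?_⟩⟩
    · obtain ⟨w, hw⟩ := c.left.surjective y
      obtain ⟨i, a, rfl⟩ : ∃ i a, Sigma.ι A i a = w := (sigmaOpenCover A).exists_eq w
      exact ⟨i, a, hw⟩
    · exact MorphismProperty.comp_mem @Flat _ _ inferInstance h1
    · exact MorphismProperty.comp_mem @LocallyOfFinitePresentation _ _ inferInstance h3

theorem isFpqcCover_comp {X : Sp S} (hX : IsAlgSpace X) {ι : Type u} {Xi : ι → Sp S} {g : ∀ i, Xi i ⟶ X}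
    (hXi : ∀ i, IsAlgSpace (Xi i)) {κ : ι → Type u} {Xij : ∀ i, κ i → Sp S} {gij : ∀ i j, Xij i j ⟶ Xi i}
    (h : IsFpqcCover Xi g) (hij : ∀ i, IsFpqcCover (Xij i) (gij i)) :
    IsFpqcCover (fun r : Σ i, κ i => Xij r.1 r.2) (fun r => gij r.1 r.2 ≫ g r.1) := by
  refine ⟨fun r => locP_comp etST_flat (hXi r.1) hX ((hij r.1).1 r.2) (h.1 r.1), fun Z hZ ξ => ?_⟩
  obtain ⟨m, W, c, hW, hc, hs, hl⟩ := h.2 Z hZ ξ
  choose i l hl using hl
  choose m' W' c' hW' hc' hs' hl' using fun j => (hij (i j)).2 (W j) (hW j) (l j)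
  obtain ⟨n, ⟨e⟩⟩ := Finite.exists_equiv_fin (Σ j : Fin m, Fin (m' j))
  refine ⟨n, fun q => W' _ (e.symm q).2, fun q => c' _ (e.symm q).2 ≫ c (e.symm q).1,
    fun q => hW' _ _, fun q => MorphismProperty.comp_mem @Flat _ _ (hc' _ _) (hc _), fun z => ?_, fun q => ?_⟩
  · obtain ⟨j, w, rfl⟩ := hs z
    obtain ⟨j', w', rfl⟩ := hs' j w
    obtain ⟨q, hq⟩ : ∃ q, e.symm q = ⟨j, j'⟩ := e.symm.surjective _
    refine ⟨q, ?_⟩
    have key : ∀ r : Σ j : Fin m, Fin (m' j), r = ⟨j, j'⟩ →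
        (c j).left ((c' j j').left w') ∈ Set.range (c' r.1 r.2 ≫ c r.1).left := by
      rintro _ rfl; exact ⟨w', rfl⟩
    exact key _ hq
  · obtain ⟨j', l', hl''⟩ := hl' _ (e.symm q).2
    refine ⟨⟨i (e.symm q).1, j'⟩, l', ?_⟩
    dsimp only
    rw [reassoc_of% hl'', hl, Functor.map_comp, Category.assoc]

theorem isLocalAtTarget_etale_baseChange (P : MorphismProperty Scheme.{u})
    [P.IsLocalAtTarget Scheme.etalePrecoverage] {A B B' A' : Scheme.{u}} {f : A ⟶ B} {g : B' ⟶ B}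
    {fst : A' ⟶ A} {snd : A' ⟶ B'} (sq : IsPullback fst snd f g) [Etale g] (hf : P f) : P snd := by
  rw [← P.cancel_left_of_respectsIso sq.isoPullback.inv, sq.isoPullback_inv_snd]
  refine MorphismProperty.IsLocalAtTarget.pullbackSnd (K := Scheme.etalePrecoverage)
    (R := Presieve.ofArrows (fun b : Option PUnit.{u + 1} => b.casesOn B fun _ => B')
      (fun b => match b with | none => 𝟙 B | some _ => g))
    ((Scheme.ofArrows_mem_precoverage_iff _).2 ⟨fun x => ⟨none, x, rfl⟩, ?_⟩) ⟨some ⟨⟩⟩ hf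
  rintro (_ | _)
  · exact (inferInstance : Etale (𝟙 B))
  · exact ‹Etale g›

theorem repLocT_of_chart (P : MorphismProperty Scheme.{u}) [P.IsLocalAtTarget Scheme.etalePrecoverage]
    {X Y : Sp S} (hY : IsAlgSpace Y) {f : X ⟶ Y} (hf : Representable f) {V W : Over S}
    {b : (yon S).obj V ⟶ Y} (hb1 : RepWith @Etale b) (hb2 : RepWith @Surjective b)
    {fst : (yon S).obj W ⟶ X} {snd : W ⟶ V} (sq : IsPullback fst ((yon S).map snd) f b) (hP : P snd.left) :
    RepLocT P f := by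
  refine ⟨hf, fun V' W' b' fst' snd' hb' sq' => ?_⟩
  obtain ⟨R, r, r', sqR⟩ := exists_pullback hY.diag b b'
  have hr : Etale r.left := (repWith_yon_iff r).1 (repWith_baseChange sqR.flip hb')
  have hr' : Etale r'.left := (repWith_yon_iff r').1 (repWith_baseChange sqR hb1)
  have hr's : Surjective r'.left := (repWith_yon_iff r').1 (repWith_baseChange sqR hb2)
  obtain ⟨Q, q, qR, sqQ⟩ := exists_pullback (IsAlgSpace.yon_obj V).diag ((yon S).map snd) ((yon S).map r)
  obtain ⟨Q', q', qR', sqQ'⟩ := exists_pullback (IsAlgSpace.yon_obj V').diag ((yon S).map snd') ((yon S).map r')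
  have h1 : P qR.left := isLocalAtTarget_etale_baseChange P (isPullback_yon_iff.1 sqQ) hP
  have s1 := sqQ.paste_horiz sq
  have s2 := sqQ'.paste_horiz sq'
  rw [← sqR.w] at s2
  have hsch' := isPullback_yon_iff.1 sqQ'
  have h2 : P qR'.left := by
    obtain ⟨φ, hφ⟩ := exists_map_eq (s2.isoIsPullback _ _ s1).hom
    have : IsIso ((yon S).map φ) := by rw [hφ]; infer_instance
    have : IsIso φ := isIso_of_reflects_iso φ (yon S)
    have e : φ ≫ qR = qR' := (yon S).map_injective (by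
      rw [Functor.map_comp, hφ]; exact s2.isoIsPullback_hom_snd _ _ s1)
    rw [← e, Over.comp_left]
    exact (MorphismProperty.cancel_left_of_respectsIso P _ _).2 h1
  refine MorphismProperty.IsLocalAtTarget.of_forall_pullbackSnd (K := Scheme.etalePrecoverage)
    (R := Presieve.singleton r'.left) ((Scheme.singleton_mem_precoverage_iff _ r'.left).2 ⟨hr's.surj, hr'⟩) fun {U g} _ hg => ?_
  cases hg
  rw [← P.cancel_left_of_respectsIso hsch'.isoPullback.hom, hsch'.isoPullback_hom_snd]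
  exact h2

end Groth.Agent.AlgSpLib
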