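import Groth.Agent.AlgSpLib.StalkChart
import Groth.Agent.AlgSpLib.Reduced
import Groth.Agent.AlgSpLib.Covers
import Groth.Agent.GrpField.FlatPoint
import Groth.Agent.UnibranchEtale.BirationalScheme
import Groth.Agent.S0116
import Mathlib.RingTheory.RegularLocalRing.Defs
import Mathlib.AlgebraicGeometry.Morphisms.LocalFlatDescent

/-!
# Reduced algebraic spaces with one point
-/

set_option autoImplicit false

universe u

open CategoryTheory CategoryTheory.Limits AlgebraicGeometry Opposite IsLocalRing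

set_option backward.isDefEq.respectTransparency false

namespace Groth.Agent.AlgSpLib

open _root_.AlgSp

variable {S : Scheme.{u}}

theorem isField_stalk_of_maximal {U : Scheme.{u}} [IsReduced U] (η : U) (h : ∀ z : U, z ⤳ η → z = η) :
    IsField (U.presheaf.stalk η) := by
  have : Subsingleton (Spec (U.presheaf.stalk η)) := by
    refine ⟨fun a b => (U.fromSpecStalk η).isEmbedding.injective ?_⟩
    have ha : U.fromSpecStalk η a ∈ {y | y ⤳ η} := Scheme.range_fromSpecStalk (x := η) ▸ ⟨a, rfl⟩
    have hb : U.fromSpecStalk η b ∈ {y | y ⤳ η} := Scheme.range_fromSpecStalk (x := η) ▸ ⟨b, rfl⟩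
    rw [h _ ha, h _ hb]
  have hm : maximalIdeal (U.presheaf.stalk η) = ⊥ := by
    refine le_bot_iff.1 fun x hx => ?_
    have : x ∈ nilradical (U.presheaf.stalk η) := by
      rw [nilradical_eq_sInf, Ideal.mem_sInf]
      intro P hP
      have hP' : P.IsPrime := hP
      have e : (⟨P, hP'⟩ : PrimeSpectrum (U.presheaf.stalk η)) = closedPoint _ :=
        Subsingleton.elim (α := Spec (U.presheaf.stalk η)) _ _
      have h2 : P = maximalIdeal (U.presheaf.stalk η) := congrArg PrimeSpectrum.asIdeal e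
      exact h2 ▸ hx
    rwa [nilradical_eq_zero] at this
  exact isField_iff_maximalIdeal_eq.2 hm

theorem exists_flat_fieldPt_of_reduced {U : Over S} [IsReduced U.left] (η : ↥U.left)
    (h : ∀ z : ↥U.left, z ⤳ η → z = η) :
    ∃ (k : Type u) (_ : Field k) (m : Spec (CommRingCat.of k) ⟶ U.left), Flat m ∧ ∀ z, m z = η := by
  let F : Field (U.left.presheaf.stalk η) := (isField_stalk_of_maximal η h).toField
  refine ⟨U.left.presheaf.stalk η, F, U.left.fromSpecStalk η, GrpField.flat_fromSpecStalk η, fun z => h _ ?_⟩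
  have h1 : U.left.fromSpecStalk η z ∈ Set.range (U.left.fromSpecStalk η) := ⟨z, rfl⟩
  rwa [Scheme.range_fromSpecStalk] at h1

theorem isReduced_of_isRegularLocalRing' {R : Type u} [CommRing R] (h : IsRegularLocalRing R)
    (h0 : ringKrullDim R = 0) : _root_.IsReduced R := by
  have hF : IsField R := by
    refine isField_iff_maximalIdeal_eq.2 ?_
    have h1 := h.spanFinrank_maximalIdeal
    rw [h0] at h1
    exact (Submodule.spanFinrank_eq_zero_iff_eq_bot (IsNoetherian.noetherian _)).1 (by exact_mod_cast h1)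
  let _ : Field R := hF.toField
  infer_instance

theorem exists_lfp_fieldPt_of_dim_zero {U : Over S} [IsReduced U.left] [IsLocallyNoetherian U.left] (u : ↥U.left)
    (h : ∀ v : ↥U.left, ringKrullDim (U.left.presheaf.stalk v) = 0) :
    ∃ (k : Type u) (_ : Field k) (m : Spec (CommRingCat.of k) ⟶ U.left), LocallyOfFinitePresentation m ∧ Flat m := by
  have hmax : ∀ v z : ↥U.left, z ⤳ v → z = v := by
    intro v z hz
    have : Ring.KrullDimLE 0 (U.left.presheaf.stalk v) := Ring.krullDimLE_iff.2 (h v).le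
    obtain ⟨c, hc⟩ : z ∈ Set.range (U.left.fromSpecStalk v) := by rw [Scheme.range_fromSpecStalk]; exact hz
    have e : c = closedPoint (U.left.presheaf.stalk v) := by
      apply PrimeSpectrum.ext
      have : c.asIdeal.IsMaximal := c.2.isMaximal'
      exact IsLocalRing.eq_maximalIdeal this
    rw [← hc, e, Scheme.fromSpecStalk_closedPoint]
  have hopen : IsOpen ({u} : Set ↥U.left) := by
    obtain ⟨_, ⟨W, hW, rfl⟩, huW, -⟩ :=
      U.left.isBasis_affineOpens.exists_subset_of_mem_open (Set.mem_univ u) isOpen_univ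
    change U.left.Opens at W
    have : IsAffine (W : Scheme.{u}) := hW
    have : IsNoetherianRing Γ(U.left, W) := IsLocallyNoetherian.component_noetherian ⟨W, hW⟩
    have : TopologicalSpace.NoetherianSpace ↥(W : Set ↥U.left) := noetherianSpace_of_isAffineOpen W hW
    have : QuasiSober ↥(W : Set ↥U.left) := W.2.isOpenEmbedding_subtypeVal.quasiSober
    have hcl : ∀ v : ↥U.left, IsClosed ({v} : Set ↥U.left) := fun v => by
      rw [← closure_eq_iff_isClosed]
      refine Set.Subset.antisymm (fun z hz => ?_) subset_closure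
      exact (hmax z v (specializes_iff_mem_closure.2 hz)).symm
    have hfin : Finite ↥(W : Set ↥U.left) := by
      have hc := TopologicalSpace.NoetherianSpace.finite_irreducibleComponents (α := ↥(W : Set ↥U.left))
      have hg : ∀ z : ↥(W : Set ↥U.left), {z} ∈ irreducibleComponents ↥(W : Set ↥U.left) := fun z => by
        refine ⟨isIrreducible_singleton, fun Z hZ hle => ?_⟩
        obtain ⟨g, hg⟩ := QuasiSober.sober (isIrreducible_iff_closure.2 hZ) isClosed_closure
        have hzg : g ⤳ z := hg.specializes (subset_closure (hle rfl))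
        have e : g = z := Subtype.ext (hmax _ _ (hzg.map continuous_subtype_val)).symm.symm
        intro y hy
        have hy' : y ∈ closure ({g} : Set _) := by rw [hg.def]; exact subset_closure hy
        rw [e] at hy'
        have : z ⤳ y := specializes_iff_mem_closure.2 hy'
        exact (Subtype.ext (hmax _ _ (this.map continuous_subtype_val))).symm
      have := hc.to_subtype
      exact Finite.of_injective (fun z => (⟨{z}, hg z⟩ : irreducibleComponents _))
        fun a b hab => Set.singleton_eq_singleton_iff.1 (congrArg Subtype.val hab)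
    have : ((W : Set ↥U.left) \ {u}).Finite := (Set.toFinite (W : Set ↥U.left)).subset Set.sdiff_subset
    have hclosed : IsClosed ((W : Set ↥U.left) \ {u}) := by
      rw [← Set.biUnion_of_singleton ((W : Set ↥U.left) \ {u})]
      exact this.isClosed_biUnion fun v _ => hcl v
    have e : ({u} : Set ↥U.left) = (W : Set ↥U.left) \ ((W : Set ↥U.left) \ {u}) := by
      rw [Set.sdiff_sdiff_cancel_left (Set.singleton_subset_iff.2 huW)]
    rw [e]
    exact W.2.sdiff hclosed
  let F : Field (U.left.presheaf.stalk u) := (isField_stalk_of_maximal u (hmax u)).toField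
  let m := U.left.fromSpecStalk u
  have : Subsingleton (Spec (U.left.presheaf.stalk u)) :=
    inferInstanceAs (Subsingleton (PrimeSpectrum (U.left.presheaf.stalk u)))
  have hrange : Set.range m = {u} := by
    refine Set.eq_singleton_iff_unique_mem.2 ⟨⟨closedPoint _, Scheme.fromSpecStalk_closedPoint⟩, ?_⟩
    rintro _ ⟨c, rfl⟩
    rw [Subsingleton.elim c (closedPoint _)]
    exact Scheme.fromSpecStalk_closedPoint
  have : IsOpenImmersion m := by
    refine IsOpenImmersion.iff_isIso_stalkMap.2 ⟨⟨m.isEmbedding, hrange ▸ hopen⟩, fun c => ?_⟩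
    rw [ConcreteCategory.isIso_iff_bijective]
    refine ⟨?_, m.stalkMap_surjective c⟩
    have hc : m c = u := by
      have : m c ∈ ({u} : Set ↥U.left) := hrange ▸ ⟨c, rfl⟩
      exact this
    have hF : IsField (U.left.presheaf.stalk (m c)) := isField_stalk_of_maximal (m c) (hmax _)
    let _ : Field (U.left.presheaf.stalk (m c)) := hF.toField
    exact (m.stalkMap c).hom.injective
  exact ⟨U.left.presheaf.stalk u, F, m, inferInstance, inferInstance⟩

theorem locP_yon_map {P : MorphismProperty Scheme.{u}} (hP : EtST P) {U V : Over S} (g : U ⟶ V) (hg : P g.left) :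
    LocP P ((yon S).map g) :=
  locP_of_chart hP (IsAlgSpace.yon_obj U) (IsAlgSpace.yon_obj V) (a := 𝟙 _) (b := 𝟙 _) (h := g)
    repWith_id' (repWith_id _ U) repWith_id' (by rw [Category.id_comp, Category.comp_id]) hg

theorem locP_of_etale {P : MorphismProperty Scheme.{u}} (hP : EtST P) {X : Sp S} (hX : IsAlgSpace X) {U : Over S}
    {a : (yon S).obj U ⟶ X} (ha : RepWith @Etale a) : LocP P a :=
  fun V W b c h hb hc comm => hP.of_etale _ ((isEtaleMor_iff_locP hX).1 (isEtaleMor_of_repWith' ha) b c h hb hc comm)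

theorem points_yon_subsingleton {K : Type u} [Field K] (str : Spec (CommRingCat.of K) ⟶ S) :
    Subsingleton (Points ((yon S).obj (Over.mk str))) ∧ Nonempty (Points ((yon S).obj (Over.mk str))) := by
  have : Subsingleton (Spec (CommRingCat.of K)) := inferInstanceAs (Subsingleton (PrimeSpectrum K))
  exact ⟨⟨fun x y => by
    obtain ⟨a, rfl⟩ := (Points.schemeEquiv (Over.mk str)).surjective x
    obtain ⟨b, rfl⟩ := (Points.schemeEquiv (Over.mk str)).surjective y
    exact congrArg _ (Subsingleton.elim (α := Spec (CommRingCat.of K)) a b)⟩,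
    ⟨Points.schemeEquiv (Over.mk str) (closedPoint K)⟩⟩

theorem singleton_of_fieldPt {Z : Sp S} {K : Type u} [Field K] {str : Spec (CommRingCat.of K) ⟶ S}
    {p : (yon S).obj (Over.mk str) ⟶ Z} (hp : IsSurjectiveMor p) :
    Nonempty (Points Z) ∧ Subsingleton (Points Z) := by
  obtain ⟨hs, ⟨y⟩⟩ := points_yon_subsingleton str
  refine ⟨⟨Points.map p y⟩, ⟨fun a b => ?_⟩⟩
  obtain ⟨a', rfl⟩ := hp a
  obtain ⟨b', rfl⟩ := hp b
  rw [Subsingleton.elim a' b']

theorem isReducedSp_yon_field {K : Type u} [Field K] (str : Spec (CommRingCat.of K) ⟶ S) :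
    IsReducedSp ((yon S).obj (Over.mk str)) :=
  ⟨Over.mk str, 𝟙 _, repWith_id _ _, repWith_id _ _, show IsReduced (Spec (CommRingCat.of K)) from inferInstance⟩

theorem reduced_singleton_iff {Z : Sp S} (hZ : IsAlgSpace Z) :
    (EtaleLocally (fun U => IsReduced U) Z ∧ Nonempty (Points Z) ∧ Subsingleton (Points Z)) ↔
      ∃ (k : Type u) (_ : Field k) (str : Spec (CommRingCat.of k) ⟶ S) (p : (yon S).obj (Over.mk str) ⟶ Z),
        LocP @Flat p ∧ IsSurjectiveMor p := by
  constructor
  · rintro ⟨⟨U, a, ha, has, hU⟩, ⟨x⟩, hsub⟩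
    have := hU
    obtain ⟨u, -⟩ := ofPt_surjective has x
    obtain ⟨η, -, hη⟩ := UnibranchEtale.exists_maximal_specializes u
    obtain ⟨k, F, m, hm, -⟩ := exists_flat_fieldPt_of_reduced η (UnibranchEtale.maximal_of_mem_genericPoints hη)
    let m' : Over.mk (m ≫ U.hom) ⟶ U := Over.homMk m rfl
    refine ⟨k, F, m ≫ U.hom, (yon S).map m' ≫ a, ?_, fun y => ?_⟩
    · exact locP_comp etST_flat (IsAlgSpace.yon_obj U) hZ (locP_yon_map etST_flat m' hm) (locP_of_etale etST_flat hZ ha)
    · obtain ⟨-, ⟨z⟩⟩ := points_yon_subsingleton (m ≫ U.hom)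
      exact ⟨z, Subsingleton.elim _ _⟩
  · rintro ⟨k, _, str, p, hp, hs⟩
    exact ⟨isReducedSp_of_flat_surjective hZ hp hs (isReducedSp_yon_field str), singleton_of_fieldPt hs⟩

theorem forall_stalk_regular_of_reduced_singleton {Z : Sp S} (hZ : IsAlgSpace Z)
    (hr : EtaleLocally (fun U => IsReduced U) Z) [Subsingleton (Points Z)] {V : Over S}
    {b : (yon S).obj V ⟶ Z} (hb : RepWith @Etale b) (v : ↥V.left) :
    IsRegularLocalRing (V.left.presheaf.stalk v) ∧ ringKrullDim (V.left.presheaf.stalk v) = 0 := by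
  obtain ⟨U, a, ha, has, hU⟩ := hr
  have := hU
  obtain ⟨u, -⟩ := ofPt_surjective has (Points.ofPt b v)
  obtain ⟨η, -, hη⟩ := UnibranchEtale.exists_maximal_specializes u
  have hF := isField_stalk_of_maximal η (UnibranchEtale.maximal_of_mem_genericPoints hη)
  let F : Field (U.left.presheaf.stalk η) := hF.toField
  obtain ⟨q, hq, hqv⟩ := StalkPoint.exists_geometric_over b hb v
  refine ⟨((StalkPoint.isRegular_chart_iff hZ hq).2 V b v hb hqv.symm).2
    (((StalkPoint.isRegular_chart_iff hZ hq).2 U a η ha (Subsingleton.elim _ _)).1 inferInstance), ?_⟩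
  exact ((StalkPoint.ringKrullDim_chart_iff hZ hq 0).2 V b v hb hqv.symm).2
    (((StalkPoint.ringKrullDim_chart_iff hZ hq 0).2 U a η ha (Subsingleton.elim _ _)).1 (ringKrullDim_eq_zero_of_field _))

theorem regular_of_singleton {Z : Sp S} (hZ : IsAlgSpace Z)
    (hr : EtaleLocally (fun U => IsReduced U) Z) (hN : IsLocNoethSp Z) [Subsingleton (Points Z)] :
    EtaleLocally (fun U => IsLocallyNoetherian U ∧ ∀ u : ↥U, IsRegularLocalRing ↥(U.presheaf.stalk u)) Z := by
  obtain ⟨V, b, hb, hbs, hV⟩ := hN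
  exact ⟨V, b, hb, hbs, hV, fun v => (forall_stalk_regular_of_reduced_singleton hZ hr hb v).1⟩

theorem isLocNoethSp_of_flat_lfp_surjective {X Z : Sp S} (hX : IsAlgSpace X) (hZ : IsAlgSpace Z) {f : X ⟶ Z}
    (hfl : LocP @Flat f) (hfp : LocP @LocallyOfFinitePresentation f) (hs : IsSurjectiveMor f)
    (hN : IsLocNoethSp X) : IsLocNoethSp Z := by
  obtain ⟨U, a, ha, has, hU⟩ := hN
  obtain ⟨V, b, hb, hbs⟩ := hZ.atlas
  obtain ⟨U', a', α, ha', has', hα⟩ := exists_chart_lift hX hZ f hb hbs
  have : IsLocallyNoetherian U'.left := isLocallyNoetherian_chart hX ⟨U, a, ha, has, hU⟩ ha'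
  have h1 : Flat α.left := hfl a' b α ha' hb hα
  have h2 : LocallyOfFinitePresentation α.left := hfp a' b α ha' hb hα
  let O : V.left.Opens := ⟨Set.range α.left, α.left.isOpenMap.isOpen_range⟩
  have hr : Set.range α.left ⊆ Set.range O.ι := by rw [Scheme.Opens.range_ι]; rfl
  let α' := IsOpenImmersion.lift O.ι α.left hr
  have hα' : α' ≫ O.ι = α.left := IsOpenImmersion.lift_fac _ _ _
  have : Flat α' := etST_flat.cancel α' O.ι (show Etale O.ι from inferInstance) (by rw [hα']; exact h1)
  have : LocallyOfFinitePresentation α' :=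
    etST_lfp.cancel α' O.ι (show Etale O.ι from inferInstance) (by rw [hα']; exact h2)
  have : Surjective α' := ⟨fun o => by
    obtain ⟨t, ht⟩ : o.1 ∈ Set.range α.left := o.2
    refine ⟨t, O.ι.isOpenEmbedding.injective ?_⟩
    rw [← Scheme.Hom.comp_apply, hα']
    exact ht⟩
  have hON : IsLocallyNoetherian (O : Scheme.{u}) := Groth.Agent.S0116.result α'
  let V' : Over S := Over.mk (O.ι ≫ V.hom)
  let j : V' ⟶ V := Over.homMk O.ι rfl
  have hje : RepWith @Etale ((yon S).map j ≫ b) :=
    repWith_comp ((repWith_yon_iff j).2 (show Etale O.ι from inferInstance)) hb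
  refine ⟨V', (yon S).map j ≫ b, hje, repWith_surjective_of_isSurjectiveMor hje.1 fun z => ?_, hON⟩
  obtain ⟨x, rfl⟩ := hs z
  obtain ⟨u', rfl⟩ := ofPt_surjective has' x
  let o : ↥V'.left := (⟨α.left u', ⟨u', rfl⟩⟩ : ↥(O : Scheme.{u}))
  refine ⟨Points.ofScheme V' o, ?_⟩
  show Points.map ((yon S).map j ≫ b) (Points.ofPt (𝟙 _) o) = _
  rw [Points.map_ofPt, Category.id_comp, ofPt_comp, Points.map_ofPt, hα, ofPt_comp]
  rfl

theorem reduced_locNoeth_singleton_iff {Z : Sp S} (hZ : IsAlgSpace Z) :
    (EtaleLocally (fun U => IsReduced U) Z ∧ IsLocNoethSp Z ∧ Nonempty (Points Z) ∧ Subsingleton (Points Z)) ↔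
      ∃ (k : Type u) (_ : Field k) (str : Spec (CommRingCat.of k) ⟶ S) (p : (yon S).obj (Over.mk str) ⟶ Z),
        LocP @LocallyOfFinitePresentation p ∧ LocP @Flat p ∧ IsSurjectiveMor p := by
  constructor
  · rintro ⟨hr, hN, ⟨x⟩, hsub⟩
    obtain ⟨U, a, ha, has, hU⟩ := hN
    have := hU
    obtain ⟨u, -⟩ := ofPt_surjective has x
    have : IsReduced U.left := by
      have := fun v => isReduced_of_isRegularLocalRing' (forall_stalk_regular_of_reduced_singleton hZ hr ha v).1
        (forall_stalk_regular_of_reduced_singleton hZ hr ha v).2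
      exact isReduced_of_isReduced_stalk _
    obtain ⟨k, F, m, hm, hm'⟩ := exists_lfp_fieldPt_of_dim_zero (U := U) u
      (fun v => (forall_stalk_regular_of_reduced_singleton hZ hr ha v).2)
    let m' : Over.mk (m ≫ U.hom) ⟶ U := Over.homMk m rfl
    refine ⟨k, F, m ≫ U.hom, (yon S).map m' ≫ a, ?_, ?_, fun y => ?_⟩
    · exact locP_comp etST_lfp (IsAlgSpace.yon_obj U) hZ (locP_yon_map etST_lfp m' hm) (locP_of_etale etST_lfp hZ ha)
    · exact locP_comp etST_flat (IsAlgSpace.yon_obj U) hZ (locP_yon_map etST_flat m' hm') (locP_of_etale etST_flat hZ ha)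
    · obtain ⟨-, ⟨z⟩⟩ := points_yon_subsingleton (m ≫ U.hom)
      exact ⟨z, Subsingleton.elim _ _⟩
  · rintro ⟨k, _, str, p, hfp, hfl, hs⟩
    refine ⟨isReducedSp_of_flat_surjective hZ hfl hs (isReducedSp_yon_field str), ?_, singleton_of_fieldPt hs⟩
    refine isLocNoethSp_of_flat_lfp_surjective (IsAlgSpace.yon_obj _) hZ hfl hfp hs
      ⟨Over.mk str, 𝟙 _, repWith_id _ _, repWith_id _ _, show IsLocallyNoetherian (Spec (CommRingCat.of k)) from inferInstance⟩

end Groth.Agent.AlgSpLib
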