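import Groth.Agent.AlgSpLib.PointMisc
import Groth.Agent.AlgSpLib.NoethPts
import Groth.Agent.AlgSpLib.LocPMore
import Groth.Agent.AlgSpLib.Singleton
import Groth.Agent.GorMor.AlgSp
import Groth.Agent.S2492
import Groth.Prelude.Def_AlgSpDec

/-!
# Locally Noetherian fibres at different field points
-/

set_option autoImplicit false

universe u

open CategoryTheory CategoryTheory.Limits AlgebraicGeometry Opposite

set_option backward.isDefEq.respectTransparency false

namespace Groth.Agent.AlgSpLib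

open _root_.AlgSp

variable {S : Scheme.{u}}

theorem flat_of_field {X : Scheme.{u}} {K : Type u} [Field K] (f : X ⟶ Spec (CommRingCat.of K)) : Flat f := by
  refine IsZariskiLocalAtSource.of_openCover X.affineCover fun i => ?_
  obtain ⟨φ, hφ⟩ := Spec.map_surjective ((X.affineCover.X i).isoSpec.inv ≫ X.affineCover.f i ≫ f)
  rw [show X.affineCover.f i ≫ f = (X.affineCover.X i).isoSpec.hom ≫ Spec.map φ by rw [hφ]; simp,
    MorphismProperty.cancel_left_of_respectsIso (P := @Flat), HasRingHomProperty.Spec_iff (P := @Flat)]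
  algebraize [φ.hom]
  show Module.Flat _ _
  infer_instance

/-- local Noetherianity of fibres descends along extensions of field points -/
theorem isLocNoethSp_of_fieldExt {X Y P Q : Sp S} (hX : IsAlgSpace X) (hY : IsAlgSpace Y) (f : X ⟶ Y)
    {p q : FieldPt Y} (c : q.pt ⟶ p.pt) (hc : (yon S).map c ≫ p.toHom = q.toHom)
    {a : P ⟶ X} {b : P ⟶ (yon S).obj q.pt} (sqP : IsPullback a b f q.toHom)
    {a₀ : Q ⟶ X} {b₀ : Q ⟶ (yon S).obj p.pt} (sqQ : IsPullback a₀ b₀ f p.toHom)
    (hP : IsLocNoethSp P) : IsLocNoethSp Q := by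
  have hQA : IsAlgSpace Q := isAlgSpace_of_isPullback_space hY hX (IsAlgSpace.yon_obj _) sqQ
  have hPA : IsAlgSpace P := isAlgSpace_of_isPullback_space hY hX (IsAlgSpace.yon_obj _) sqP
  let l : P ⟶ Q := sqQ.lift a (b ≫ (yon S).map c) (by rw [Category.assoc, hc, sqP.w])
  have sql : IsPullback l b b₀ ((yon S).map c) :=
    IsPullback.of_right (by rw [sqQ.lift_fst, hc]; exact sqP) (sqQ.lift_snd _ _ _) sqQ
  obtain ⟨W, π, hπ, hπs⟩ := hQA.atlas
  obtain ⟨g, hg⟩ := exists_map_eq (π ≫ b₀)
  obtain ⟨Wc, w₁, w₂, sqW⟩ := exists_pullback (IsAlgSpace.yon_obj p.pt).diag ((yon S).map g) ((yon S).map c)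
  let m : (yon S).obj Wc ⟶ P := sql.lift ((yon S).map w₁ ≫ π) ((yon S).map w₂) (by
    rw [Category.assoc, ← hg, sqW.w])
  have sqm : IsPullback ((yon S).map w₁) m π l :=
    IsPullback.of_bot (by rw [sql.lift_snd, ← hg]; exact sqW) (sql.lift_fst _ _ _).symm sql
  have : IsLocallyNoetherian Wc.left := isLocallyNoetherian_chart hPA hP (repWith_baseChange sqm hπ)
  have sqs : IsPullback w₁.left w₂.left g.left c.left := isPullback_yon_iff.1 sqW
  let c' : Spec (CommRingCat.of q.K) ⟶ Spec (CommRingCat.of p.K) := c.left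
  have : Subsingleton ↥(Spec (CommRingCat.of p.K)) := inferInstanceAs (Subsingleton (PrimeSpectrum p.K))
  have : Flat c' := flat_of_field c'
  have : Surjective c' := ⟨fun y => ⟨IsLocalRing.closedPoint q.K, Subsingleton.elim _ _⟩⟩
  have : QuasiCompact c' := inferInstance
  have : Flat w₁.left := MorphismProperty.of_isPullback sqs.flip ‹Flat c'›
  have : Surjective w₁.left := MorphismProperty.of_isPullback sqs.flip ‹Surjective c'›
  have : QuasiCompact w₁.left := MorphismProperty.of_isPullback sqs.flip ‹QuasiCompact c'›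
  exact ⟨W, π, hπ, hπs, Groth.Agent.S2492.result w₁.left⟩

/-- local Noetherianity of the fibre passes to the residue field of an etale chart -/
theorem isLocNoethSp_fibre_chart {X Y Q : Sp S} (hX : IsAlgSpace X) (hY : IsAlgSpace Y) (f : X ⟶ Y)
    (p : FieldPt Y) (hN : ∀ ⦃P : Sp S⦄ (fst : P ⟶ X) (snd : P ⟶ (yon S).obj p.pt),
      IsPullback fst snd f p.toHom → IsLocNoethSp P)
    {V : Over S} (b : (yon S).obj V ⟶ Y) (hb : RepWith @Etale b) (v : V.left)
    (hv : Points.ofPt b v = Points.mk p)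
    {qfst : Q ⟶ X} {qsnd : Q ⟶ (yon S).obj (FieldPt.ofPt b v).pt}
    (hQ : IsPullback qfst qsnd f (FieldPt.ofPt b v).toHom) : IsLocNoethSp Q := by
  obtain ⟨T, d, e, sqT⟩ := exists_pullback hY.diag p.toHom b
  obtain ⟨w, -, hw⟩ := (ofPt_eq_iff sqT (IsLocalRing.closedPoint p.K) v).1 ((mk_eq_ofPt p).symm.trans hv.symm)
  subst hw
  let d' : T.left ⟶ Spec (CommRingCat.of p.K) := d.left
  have : Etale d' := (repWith_yon_iff d).1 (repWith_baseChange sqT.flip hb)
  have : LocallyQuasiFinite d' := UnivInjMor.lqf_of_unramified _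
  have hwc : IsClosed ({w} : Set ↥T.left) := by
    have hd := d'.isDiscrete_preimage_singleton (IsLocalRing.closedPoint p.K)
    rw [show d' ⁻¹' {IsLocalRing.closedPoint p.K} = Set.univ from
      Set.eq_univ_of_forall fun _ => Subsingleton.elim (α := PrimeSpectrum p.K) _ _] at hd
    have : DiscreteTopology ↥(Set.univ : Set ↥T.left) := isDiscrete_iff_discreteTopology.1 hd
    have : DiscreteTopology ↥T.left := (Homeomorph.Set.univ _).symm.isEmbedding.discreteTopology
    exact isClosed_discrete _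
  let g := (yon S).map d ≫ p.toHom
  let r := FieldPt.ofPt g w
  let ι : r.pt ⟶ T := Over.homMk (T.left.fromSpecResidueField w) rfl
  let c₁ : r.pt ⟶ p.pt := ι ≫ d
  have hc₁ : (yon S).map c₁ ≫ p.toHom = r.toHom := by
    rw [FieldPt.toHom_ofPt, Functor.map_comp, Category.assoc]
  have : IsClosedImmersion (T.left.fromSpecResidueField w) := by
    refine IsClosedImmersion.of_isPreimmersion _ ?_
    rw [Scheme.range_fromSpecResidueField]
    exact hwc
  have hlft : LocallyOfFiniteType c₁.left := by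
    show LocallyOfFiniteType (T.left.fromSpecResidueField w ≫ d')
    infer_instance
  let c₂ : r.pt ⟶ (FieldPt.ofPt b (e.left w)).pt := Over.homMk (Spec.map (e.left.residueFieldMap w)) (by
    show Spec.map (e.left.residueFieldMap w) ≫ V.left.fromSpecResidueField (e.left w) ≫ V.hom = _
    rw [Scheme.Hom.SpecMap_residueFieldMap_fromSpecResidueField_assoc, Over.w e]
    rfl)
  have hc₂ : (yon S).map c₂ ≫ (FieldPt.ofPt b (e.left w)).toHom = r.toHom := by
    rw [FieldPt.toHom_ofPt, FieldPt.toHom_ofPt, ← Category.assoc, ← Functor.map_comp]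
    show _ = (yon S).map ι ≫ (yon S).map d ≫ p.toHom
    rw [sqT.w, ← Category.assoc, ← Functor.map_comp]
    congr 2
    exact Over.OverMorphism.ext (e.left.SpecMap_residueFieldMap_fromSpecResidueField w)
  have sqR := IsPullback.of_hasPullback f r.toHom
  have sqp := IsPullback.of_hasPullback f p.toHom
  have hRA : IsAlgSpace (pullback f r.toHom) := isAlgSpace_of_isPullback_space hY hX (IsAlgSpace.yon_obj _) sqR
  have hPA : IsAlgSpace (pullback f p.toHom) := isAlgSpace_of_isPullback_space hY hX (IsAlgSpace.yon_obj _) sqp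
  let l := sqp.lift (pullback.fst f r.toHom) (pullback.snd f r.toHom ≫ (yon S).map c₁) (by
    rw [Category.assoc, hc₁, sqR.w])
  have sql : IsPullback l (pullback.snd f r.toHom) (pullback.snd f p.toHom) ((yon S).map c₁) :=
    IsPullback.of_right (by rw [sqp.lift_fst, hc₁]; exact sqR) (sqp.lift_snd _ _ _) sqp
  have hl : LocP @LocallyOfFiniteType l :=
    locP_baseChange etST_lft (IsAlgSpace.yon_obj _) (IsAlgSpace.yon_obj _) hRA hPA sql.flip
      (Groth.Agent.AlgSpLib.locP_yon_map etST_lft c₁ hlft)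
  have hR : IsLocNoethSp (pullback f r.toHom) := isLocNoethSp_of_lft hRA hPA l hl (hN _ _ sqp)
  exact isLocNoethSp_of_fieldExt hX hY f c₂ hc₂ sqR hQ hR

end Groth.Agent.AlgSpLib
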