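import Groth.Agent.AlgSpLib.Criteria
import Groth.Agent.PureEtale.Flat
import Mathlib.AlgebraicGeometry.Morphisms.Flat

/-!
# Algebraic spaces: quasi-compact monomorphisms that are universally injective on sections
-/

universe u

open CategoryTheory CategoryTheory.Limits AlgebraicGeometry Opposite TensorProduct

set_option backward.isDefEq.respectTransparency false

namespace Groth.Agent.AlgSpLib

open _root_.AlgSp

variable {S : Scheme.{u}}

/-- pull back of global functions along flat surjective morphisms is injective -/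
theorem appTop_injective_of_flat_surjective {X Y : Scheme.{u}} (f : X ⟶ Y) [Flat f] [Surjective f] :
    Function.Injective f.appTop := by
  refine (injective_iff_map_eq_zero f.appTop.hom).2 fun s hs => ?_
  refine TopCat.Presheaf.section_ext Y.sheaf ⊤ s 0 fun y hy => ?_
  obtain ⟨x, rfl⟩ := f.surjective y
  show Y.presheaf.germ ⊤ (f x) hy s = Y.presheaf.germ ⊤ (f x) hy 0
  rw [map_zero]
  algebraize [(f.stalkMap x).hom]
  have : Module.FaithfullyFlat (Y.presheaf.stalk (f x)) (X.presheaf.stalk x) :=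
    @Module.FaithfullyFlat.of_flat_of_isLocalHom _ _ _ _ _ _ _ (Flat.stalkMap f x) (f.toLRSHom.prop x)
  apply ‹RingHom.FaithfullyFlat (f.stalkMap x).hom›.injective
  rw [map_zero]
  exact (Scheme.Hom.germ_stalkMap_apply f ⊤ x hy s).trans ((congrArg _ hs).trans (map_zero _))

/-- the map `Spec A' ⟶ Y` for an algebra `A'` over the global functions of affine `Y` -/
lemma appTop_specMap_isoSpec_inv (Y : Scheme.{u}) [IsAffine Y] {A' : CommRingCat.{u}} (φ : Γ(Y, ⊤) ⟶ A') :
    (Spec.map φ ≫ Y.isoSpec.inv).appTop = φ ≫ (Scheme.ΓSpecIso A').inv := by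
  have h : Y.isoSpec.inv.appTop = (Scheme.ΓSpecIso Γ(Y, ⊤)).inv := by
    rw [← cancel_mono Y.isoSpec.hom.appTop, ← Scheme.Hom.comp_appTop, Iso.hom_inv_id]
    show _ = _ ≫ Y.toSpecΓ.appTop
    simp
  rw [Scheme.Hom.comp_appTop, h, ← Scheme.ΓSpecIso_inv_naturality]

/-- a quasi-compact monomorphism to an affine scheme that is universally injective on sections -/
theorem isIso_of_qc_mono_pure {X : Sp S} (hX : IsAlgSpace X) {T : Over S} [IsAffine T.left]
    (f : X ⟶ (yon S).obj T) [Mono f] (hqc : IsQuasiCompactMor f)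
    (hinj : ∀ (T' : Over S) (g : (yon S).obj T' ⟶ (yon S).obj T) (P : Sp S) (fst : P ⟶ X)
      (snd : P ⟶ (yon S).obj T'), IsPullback fst snd f g → ∀ s : Γ(T'.left, ⊤),
      (∀ (W : Over S) (a : (yon S).obj W ⟶ P) (c : W ⟶ T'), a ≫ snd = (yon S).map c → c.left.appTop s = 0) →
        s = 0) :
    IsIso f := by
  have hT : IsQuasiCompactSp ((yon S).obj T) := isQuasiCompactSp_yon T
  have := compactSpace_of_isQuasiCompactSp
    (hqc (IsAlgSpace.yon_obj T) hT (𝟙 _) (𝟙 _) f IsPullback.of_id_fst)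
  obtain ⟨U, π, hU, hπe, hπs⟩ := exists_affine_chart_of_compact hX
  obtain ⟨u, hu⟩ := exists_map_eq (π ≫ f)
  algebraize [u.left.appTop.hom]
  -- `U ×_T U` is `U ×_X U`
  obtain ⟨R, w₁, w₂, sqR⟩ := exists_pullback hX.diag π π
  have hw₁ : Etale w₁.left := hπe.2 π _ w₁ sqR.flip
  have sqT : IsPullback w₁.left w₂.left u.left u.left := by
    rw [← isPullback_yon_iff, hu]
    exact isPullback_comp_mono sqR f
  have hpb : Etale (pullback.fst (Spec.map u.left.appTop) (Spec.map u.left.appTop)) := by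
    have sq' : IsPullback (w₁.left ≫ U.left.isoSpec.hom) (w₂.left ≫ U.left.isoSpec.hom)
        (Spec.map u.left.appTop) (Spec.map u.left.appTop) :=
      sqT.of_iso (Iso.refl _) U.left.isoSpec U.left.isoSpec T.left.isoSpec (by simp) (by simp)
        (Scheme.isoSpec_hom_naturality u.left).symm (Scheme.isoSpec_hom_naturality u.left).symm
    rw [← sq'.isoPullback_inv_fst]
    exact MorphismProperty.comp_mem @Etale _ _ inferInstance
      (MorphismProperty.comp_mem @Etale _ _ hw₁ inferInstance)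
  have : Algebra.Etale Γ(U.left, ⊤) (Γ(U.left, ⊤) ⊗[Γ(T.left, ⊤)] Γ(U.left, ⊤)) := by
    rw [← RingHom.etale_algebraMap]
    apply (HasRingHomProperty.Spec_iff (P := @Etale) (φ := CommRingCat.ofHom _)).1
    change Etale (Spec.map (CommRingCat.ofHom (Algebra.TensorProduct.includeLeftRingHom (R := Γ(T.left, ⊤))
      (A := Γ(U.left, ⊤)) (B := Γ(U.left, ⊤)))))
    rw [← pullbackSpecIso_inv_fst]
    exact MorphismProperty.comp_mem @Etale _ _ inferInstance hpb
  -- universal injectivity of `Γ(T) → Γ(U)`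
  have hp : ∀ (A' : Type u) [CommRing A'] [Algebra Γ(T.left, ⊤) A'],
      Function.Injective (Algebra.TensorProduct.includeLeft (R := Γ(T.left, ⊤)) (S := Γ(T.left, ⊤))
        (A := A') (B := Γ(U.left, ⊤))) := by
    intro A' _ _
    refine (injective_iff_map_eq_zero _).2 fun s hs => ?_
    let j : Spec (.of A') ⟶ T.left :=
      Spec.map (CommRingCat.ofHom (algebraMap Γ(T.left, ⊤) A')) ≫ T.left.isoSpec.inv
    let T' : Over S := Over.mk (j ≫ T.hom)
    let g : T' ⟶ T := Over.homMk j rfl
    have sq := IsPullback.of_hasPullback f ((yon S).map g)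
    refine (Scheme.ΓSpecIso (.of A')).commRingCatIsoToRingEquiv.symm.injective
      ((hinj T' _ _ _ _ sq ((Scheme.ΓSpecIso (.of A')).inv s) fun W a c hc => ?_).trans (map_zero _).symm)
    obtain ⟨W₂, q, w, sqW, hqp⟩ := exists_repWith (repWith_inf_iff.2 ⟨hπe, hπs⟩) (a ≫ pullback.fst _ _)
    obtain ⟨m, rfl⟩ := exists_map_eq q
    have : Etale w.left := hqp.1
    have : Surjective w.left := hqp.2
    have e : m ≫ u = w ≫ c ≫ g := (yon S).map_injective (by
      rw [Functor.map_comp, hu, ← Category.assoc, sqW.w, Category.assoc, Category.assoc, sq.w,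
        reassoc_of% hc, Functor.map_comp, Functor.map_comp])
    apply appTop_injective_of_flat_surjective w.left
    rw [map_zero]
    let _ : Algebra Γ(T.left, ⊤) Γ(W₂.left, ⊤) := (u.left.appTop ≫ m.left.appTop).hom.toAlgebra
    let β : Γ(U.left, ⊤) →ₐ[Γ(T.left, ⊤)] Γ(W₂.left, ⊤) := ⟨m.left.appTop.hom, fun r => rfl⟩
    have e' := congrArg (fun z : W₂ ⟶ T => z.left.appTop) e
    simp only [Over.comp_left, Scheme.Hom.comp_appTop] at e'
    let α : A' →ₐ[Γ(T.left, ⊤)] Γ(W₂.left, ⊤) :=
      ⟨((Scheme.ΓSpecIso (.of A')).inv ≫ c.left.appTop ≫ w.left.appTop).hom, fun r => by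
        show _ = (u.left.appTop ≫ m.left.appTop) r
        rw [e']
        show _ = ((j.appTop ≫ c.left.appTop) ≫ w.left.appTop) r
        rw [appTop_specMap_isoSpec_inv]
        rfl⟩
    have := congrArg (Algebra.TensorProduct.lift α β fun _ _ => mul_comm _ _) hs
    simpa [α] using! this
  have hflat : Flat u.left := by
    rw [HasRingHomProperty.iff_of_isAffine (P := @Flat)]
    exact PureEtale.flat_of_pure_of_etale hp
  have hsurj : Surjective u.left := by
    rw [MorphismProperty.arrow_mk_iso_iff @Surjective (arrowIsoSpecΓOfIsAffine u.left), surjective_iff]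
    intro p
    have := (hp p.asIdeal.ResidueField).nontrivial
    exact (PrimeSpectrum.nontrivial_iff_mem_rangeComap p).1 this
  have hfl : LocP @Flat f :=
    locP_of_chart etST_flat hX (IsAlgSpace.yon_obj T) hπe hπs repWith_id' (by rw [hu, Category.comp_id]) hflat
  have hfs : IsSurjectiveMor f := fun y => by
    obtain ⟨v, hv⟩ := isSurjectiveMor_of_repWith ((repWith_yon_iff (P := @Surjective) u).2 hsurj) y
    refine ⟨Points.map π v, ?_⟩
    rw [← hv, hu]
    exact (Points.map_comp π f v).symm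
  have sq : IsPullback (𝟙 X) (𝟙 X) f f := IsPullback.of_isLimit (PullbackCone.isLimitMkIdId f)
  have hcov := isFpqcCover_of_flat_qc_surjective hX (IsAlgSpace.yon_obj T) f hfl hqc hfs
  exact (isLocalOnBase_isomorphisms _ _ (IsAlgSpace.yon_obj T) (fun _ : PUnit.{u + 1} => hX)
    hcov f hX _ (fun _ => 𝟙 X) (fun _ => 𝟙 X) (fun _ => hX) (fun _ => sq)).2
      fun _ => (inferInstance : IsIso (𝟙 X))

end Groth.Agent.AlgSpLib
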