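import Groth.Agent.AlgSpLib.RepUniv

/-!
# Algebraic spaces: separation axioms of representable morphisms, closed immersions, composition
-/

universe u

open CategoryTheory CategoryTheory.Limits AlgebraicGeometry Opposite Topology MorphismProperty

set_option backward.isDefEq.respectTransparency false

namespace Groth.Agent.AlgSpLib

open _root_.AlgSp

variable {S : Scheme.{u}}

/-- the diagonal of a morphism of schemes in sheaves -/
theorem repWith_diagonal_yon_iff (Q : MorphismProperty Scheme.{u}) [Q.IsStableUnderBaseChange]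
    {A B : Over S} (φ : A ⟶ B) :
    RepWith Q (pullback.diagonal ((yon S).map φ)) ↔ Q (pullback.diagonal φ.left) := by
  obtain ⟨R, p, q, sqR⟩ := exists_pullback (IsAlgSpace.yon_obj B).diag ((yon S).map φ) ((yon S).map φ)
  obtain ⟨d, hd⟩ := exists_map_eq (sqR.lift (𝟙 _) (𝟙 _) rfl)
  have hd₁ : d ≫ p = 𝟙 A := (yon S).map_injective (by rw [Functor.map_comp, hd, sqR.lift_fst, CategoryTheory.Functor.map_id])
  have hd₂ : d ≫ q = 𝟙 A := (yon S).map_injective (by rw [Functor.map_comp, hd, sqR.lift_snd, CategoryTheory.Functor.map_id])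
  have e : (yon S).map d ≫ sqR.isoPullback.hom = pullback.diagonal ((yon S).map φ) := by
    apply pullback.hom_ext <;>
      simp [IsPullback.isoPullback_hom_fst, IsPullback.isoPullback_hom_snd, ← Functor.map_comp, hd₁, hd₂]
  rw [← e, repWith_comp_iso_iff, repWith_yon_iff]
  have sqR' := isPullback_yon_iff.1 sqR
  have e' : d.left ≫ sqR'.isoPullback.hom = pullback.diagonal φ.left := by
    apply pullback.hom_ext
    · rw [Category.assoc, sqR'.isoPullback_hom_fst, pullback.diagonal_fst, ← Over.comp_left, hd₁, Over.id_left]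
    · rw [Category.assoc, sqR'.isoPullback_hom_snd, pullback.diagonal_snd, ← Over.comp_left, hd₂, Over.id_left]
  have : Q.RespectsIso := IsStableUnderBaseChange.respectsIso
  rw [← e', Q.cancel_right_of_respectsIso]

/-- separation axioms of representable morphisms -/
theorem repWith_diagonal_iff (Q Q' : MorphismProperty Scheme.{u}) [Q.IsStableUnderBaseChange]
    [IsZariskiLocalAtTarget Q] [Q.DescendsAlong (@Surjective ⊓ @Flat ⊓ @QuasiCompact)]
    (hQ : ∀ ⦃A B : Scheme.{u}⦄ (q : A ⟶ B), Q' q ↔ Q (pullback.diagonal q))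
    {X Y : Sp S} (hX : IsAlgSpace X) (hY : IsAlgSpace Y) {f : X ⟶ Y} (hf : Representable f) :
    RepWith Q (pullback.diagonal f) ↔ RepWith Q' f := by
  refine ⟨fun h => ⟨hf, fun U V g fst snd sq => ?_⟩, fun h => ?_⟩
  · obtain ⟨b, hb⟩ := exists_isPullback_diagonal sq
    exact (hQ _).2 ((repWith_diagonal_yon_iff Q snd).1 (repWith_baseChange hb h))
  · refine of_forall_affine (P := fun _ _ m => RepWith Q (pullback.diagonal m))
      (isLocalOnBase_repWith_diagonal Q) hX hY f fun Z _ g W fst snd sq => ?_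
    obtain ⟨V, z, v, sqV, hv⟩ := exists_repWith h g
    let e := sqV.isoIsPullback _ _ sq
    have he : e.hom ≫ snd = (yon S).map v := sqV.isoIsPullback_hom_snd _ _ sq
    have hv' := (repWith_diagonal_yon_iff Q v).2 ((hQ _).1 hv)
    obtain ⟨b, hb⟩ := exists_isPullback_diagonal (f := (yon S).map v) (g := 𝟙 _) (q := e.inv) (p := snd)
      (IsPullback.of_horiz_isIso ⟨by rw [Category.comp_id, ← he, e.inv_hom_id_assoc]⟩)
    exact repWith_baseChange hb hv'

theorem isSeparatedMor_iff_repWith {X Y : Sp S} (hX : IsAlgSpace X) (hY : IsAlgSpace Y) {f : X ⟶ Y}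
    (hf : Representable f) : IsSeparatedMor f ↔ RepWith @IsSeparated f :=
  repWith_diagonal_iff @IsClosedImmersion @IsSeparated (fun _ _ q => ⟨fun h => h.1, fun h => ⟨h⟩⟩) hX hY hf

theorem isQuasiSeparatedMor_iff_repWith {X Y : Sp S} (hX : IsAlgSpace X) (hY : IsAlgSpace Y) {f : X ⟶ Y}
    (hf : Representable f) : IsQuasiSeparatedMor f ↔ RepWith @QuasiSeparated f :=
  repWith_diagonal_iff @QuasiCompact @QuasiSeparated (fun _ _ q => ⟨fun h => h.1, fun h => ⟨h⟩⟩) hX hY hf

theorem isQuasiCompactMor_iff_repWith {X Y : Sp S} (hX : IsAlgSpace X) (hY : IsAlgSpace Y) {f : X ⟶ Y}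
    (hf : Representable f) : IsQuasiCompactMor f ↔ RepWith @QuasiCompact f := by
  refine ⟨fun h => repWith_of_exists fun T ξ => ?_, fun h => ?_⟩
  · obtain ⟨W, fst, w, sqW⟩ := exists_isPullback_of_representable hf ξ
    refine ⟨W, fst, w, sqW, ?_⟩
    show QuasiCompact w.left
    rw [IsZariskiLocalAtTarget.iff_of_openCover (P := @QuasiCompact) T.left.affineCover]
    intro j
    let O : Over S := Over.mk (T.left.affineCover.f j ≫ T.hom)
    let κ : O ⟶ T := Over.homMk (T.left.affineCover.f j) rfl
    have : IsAffine O.left := inferInstanceAs (IsAffine (T.left.affineCover.X j))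
    obtain ⟨P₀, r₁, r₂, sqP⟩ := exists_pullback (IsAlgSpace.yon_obj T).diag ((yon S).map w) ((yon S).map κ)
    have := compactSpace_of_isQuasiCompactSp (h (IsAlgSpace.yon_obj O) (isQuasiCompactSp_yon O) _ _ _
      (sqP.paste_horiz sqW))
    have : CompactSpace ↥P₀.left := (Points.schemeHomeo P₀).symm.compactSpace
    have : QuasiCompact r₂.left := (quasiCompact_iff_compactSpace r₂.left).2 this
    exact ((MorphismProperty.arrow_mk_iso_iff @QuasiCompact (Arrow.isoMk (isPullback_yon_iff.1 sqP).isoPullback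
      (Iso.refl _) (((isPullback_yon_iff.1 sqP).isoPullback_hom_snd).trans (Category.comp_id _).symm))).1 this :)
  · refine isQuasiCompactMor_of_affine hX hY f fun Z hZ g W fst snd sq => ?_
    obtain ⟨V, z, v, sqV, hv⟩ := exists_repWith h g
    have : QuasiCompact v.left := hv
    have : CompactSpace V.left := QuasiCompact.compactSpace_of_compactSpace v.left
    let e := sqV.isoIsPullback _ _ sq
    exact isQuasiCompactSp_of_isSurjectiveMor
      (isAlgSpace_of_isPullback_space hY hX (IsAlgSpace.yon_obj Z) sq) e.hom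
      (isHomeomorph_map_of_isIso e.hom).surjective (isQuasiCompactSp_yon V)

theorem isSeparatedMor_comp {X Y Z : Sp S} {f : X ⟶ Y} {g : Y ⟶ Z} (hf : IsSeparatedMor f)
    (hg : IsSeparatedMor g) : IsSeparatedMor (f ≫ g) := by
  show RepWith @IsClosedImmersion _
  rw [pullback.diagonal_comp]
  exact repWith_comp hf ((repWith_iso_comp_iff _ _).2 (repWith_baseChange (IsPullback.of_hasPullback _ _) hg))

theorem isQuasiSeparatedMor_comp {X Y Z : Sp S} {f : X ⟶ Y} {g : Y ⟶ Z} (hf : IsQuasiSeparatedMor f)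
    (hg : IsQuasiSeparatedMor g) : IsQuasiSeparatedMor (f ≫ g) := by
  show RepWith @QuasiCompact _
  rw [pullback.diagonal_comp]
  exact repWith_comp hf ((repWith_iso_comp_iff _ _).2 (repWith_baseChange (IsPullback.of_hasPullback _ _) hg))

theorem isQuasiCompactMor_comp {X Y Z : Sp S} (hY : IsAlgSpace Y) (hZ : IsAlgSpace Z) {f : X ⟶ Y} {g : Y ⟶ Z}
    (hf : IsQuasiCompactMor f) (hg : IsQuasiCompactMor g) : IsQuasiCompactMor (f ≫ g) := by
  intro W W' hW hWq a fst snd sq
  have sqm := IsPullback.of_hasPullback g a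
  let l := sqm.lift (fst ≫ f) snd (by rw [Category.assoc]; exact sq.w)
  exact hf (isAlgSpace_of_isPullback_space hZ hY hW sqm) (hg hW hWq a _ _ sqm) _ fst l
    (IsPullback.of_bot (by rw [sqm.lift_snd]; exact sq) (sqm.lift_fst _ _ _).symm sqm)

theorem isUnivClosedMor_comp {X Y Z : Sp S} (hY : IsAlgSpace Y) (hZ : IsAlgSpace Z) {f : X ⟶ Y} {g : Y ⟶ Z}
    (hf : IsUnivClosedMor f) (hg : IsUnivClosedMor g) : IsUnivClosedMor (f ≫ g) := by
  intro W W' hW a fst snd sq
  have sqm := IsPullback.of_hasPullback g a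
  let l := sqm.lift (fst ≫ f) snd (by rw [Category.assoc]; exact sq.w)
  have h₁ := hf (isAlgSpace_of_isPullback_space hZ hY hW sqm) _ fst l
    (IsPullback.of_bot (by rw [sqm.lift_snd]; exact sq) (sqm.lift_fst _ _ _).symm sqm)
  have h₂ := hg hW a _ _ sqm
  show IsClosedMap (Points.map snd)
  rw [← sqm.lift_snd (fst ≫ f) snd (by rw [Category.assoc]; exact sq.w)]
  rw [show Points.map (l ≫ pullback.snd g a) = Points.map (pullback.snd g a) ∘ Points.map l from
    funext fun x => Points.map_comp _ _ x]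
  exact IsClosedMap.comp h₂ h₁

theorem isProperMor_of_closedImmersion {X Y : Sp S} (hX : IsAlgSpace X) (hY : IsAlgSpace Y) {f : X ⟶ Y}
    (hf : RepWith @IsClosedImmersion f) : IsProperMor f := by
  refine ⟨(isSeparatedMor_iff_repWith hX hY hf.1).2 (repWith_mono (fun _ _ r hr => by
      have : IsClosedImmersion r := hr
      infer_instance) hf), ⟨(locP_iff_repWith etST_lft hY hf.1).2 (repWith_mono (fun _ _ r hr => by
      have : IsClosedImmersion r := hr
      infer_instance) hf), (isQuasiCompactMor_iff_repWith hX hY hf.1).2 (repWith_mono (fun _ _ r hr => by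
      have : IsClosedImmersion r := hr
      infer_instance) hf)⟩, (isUnivClosedMor_iff_repWith hf.1).2 (repWith_mono (fun _ _ r hr => by
      have : IsClosedImmersion r := hr
      infer_instance) hf)⟩

/-- an immersion with closed image is a closed immersion -/
theorem repWith_isClosedImmersion_iff {Z X : Sp S} (hX : IsAlgSpace X) {i : Z ⟶ X}
    (hi : RepWith @IsImmersion i) :
    RepWith @IsClosedImmersion i ↔ IsClosed (Set.range (Points.map i)) := by
  have key : ∀ {T V : Over S} (ξ : (yon S).obj T ⟶ X) (z : (yon S).obj V ⟶ Z) (v : V ⟶ T),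
      IsPullback z ((yon S).map v) i ξ → Points.ofPt ξ ⁻¹' Set.range (Points.map i) = Set.range v.left := by
    intro T V ξ z v sq
    ext t
    refine ⟨fun ⟨x, hx⟩ => ?_, fun ⟨w, hw⟩ => ⟨Points.ofPt z w, ?_⟩⟩
    · obtain ⟨p, -, hp⟩ := exists_point_of_isPullback sq x (Points.ofScheme T t)
        (by rw [hx, Points.map_ofPt, Category.id_comp])
      obtain ⟨w, rfl⟩ := (Points.schemeEquiv V).surjective p
      refine ⟨w, (Points.schemeEquiv T).injective ?_⟩
      change Points.map ((yon S).map v) (Points.ofPt (𝟙 _) w) = _ at hp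
      rw [Points.map_ofPt, Category.id_comp, ofScheme_map] at hp
      exact hp
    · rw [Points.map_ofPt, sq.w, ofPt_comp, hw]
  refine ⟨fun h => ?_, fun h => repWith_of_exists fun T ξ => ?_⟩
  · obtain ⟨U, p, hpe, hps⟩ := hX.atlas
    obtain ⟨V, z, v, sq, hv⟩ := exists_repWith h p
    have : IsClosedImmersion v.left := hv
    rw [← (isQuotientMap_ofPt hpe hps).isClosed_preimage, key p z v sq]
    exact v.left.isClosedEmbedding.isClosed_range
  · obtain ⟨V, z, v, sq, hv⟩ := exists_repWith hi ξ
    have : IsImmersion v.left := hv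
    refine ⟨V, z, v, sq, IsClosedImmersion.of_isPreimmersion _ ?_⟩
    rw [← key ξ z v sq]
    exact h.preimage (Points.continuous_ofPt ξ)

end Groth.Agent.AlgSpLib
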