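import Groth.Agent.AlgSpLib.ProperCrit

/-!
# Algebraic spaces: graphs and cancellation
-/

universe u

open CategoryTheory CategoryTheory.Limits AlgebraicGeometry Opposite Topology MorphismProperty

set_option backward.isDefEq.respectTransparency false

namespace Groth.Agent.AlgSpLib

open _root_.AlgSp

variable {S : Scheme.{u}}

/-- a morphism factors as a base change of a relative diagonal followed by a base change of the composite -/
theorem exists_graph {X Y B : Sp S} (f : X ⟶ Y) (p : X ⟶ B) (q : Y ⟶ B) (comm : f ≫ q = p) :
    ∃ (Γ : X ⟶ pullback p q) (m : pullback p q ⟶ pullback q q),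
      Γ ≫ pullback.snd p q = f ∧ IsPullback f Γ (pullback.diagonal q) m := by
  let Γf : X ⟶ pullback p q := pullback.lift (𝟙 _) f (by rw [Category.id_comp, comm])
  refine ⟨Γf, pullback.lift (pullback.fst p q ≫ f) (pullback.snd p q)
    (by rw [Category.assoc, comm, pullback.condition]), pullback.lift_snd _ _ _, ?_⟩
  refine isPullback_of_points (pullback.hom_ext (by simp [Γf]; exact (Category.id_comp f).symm) (by simp [Γf]))
    fun T a b e => ?_
  have e₁ : a = b ≫ pullback.fst p q ≫ f := by
    simpa using congrArg (fun k => k ≫ pullback.fst q q) e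
  have e₂ : a = b ≫ pullback.snd p q := by simpa using congrArg (fun k => k ≫ pullback.snd q q) e
  refine ⟨b ≫ pullback.fst p q, ⟨by rw [e₁, Category.assoc], pullback.hom_ext ?_ ?_⟩, fun c hc => ?_⟩
  · simp [Γf]
  · rw [Category.assoc, pullback.lift_snd, Category.assoc, ← e₁, e₂]
  · rw [← hc.2, Category.assoc, pullback.lift_fst, Category.comp_id]

/-- cancellation for properties of representable morphisms -/
theorem repWith_of_comp {P : MorphismProperty Scheme.{u}} [P.IsStableUnderBaseChange] [P.IsStableUnderComposition]
    {X Y B : Sp S} (f : X ⟶ Y) (p : X ⟶ B) (q : Y ⟶ B) (comm : f ≫ q = p) (hp : RepWith P p)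
    (hq : RepWith P (pullback.diagonal q)) : RepWith P f := by
  have : P.RespectsIso := IsStableUnderBaseChange.respectsIso
  obtain ⟨Γ, m, hΓ, sq⟩ := exists_graph f p q comm
  rw [← hΓ]
  exact repWith_comp (repWith_baseChange sq hq) (repWith_baseChange (IsPullback.of_hasPullback p q) hp)

end Groth.Agent.AlgSpLib
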