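import Groth.Agent.SpQS.TrdegQF

/-!
# Additivity of residue transcendence degrees
-/

set_option autoImplicit false

universe u

open CategoryTheory CategoryTheory.Limits AlgebraicGeometry Opposite IsLocalRing

set_option backward.isDefEq.respectTransparency false

namespace Groth.Agent.AlgSpLib

open _root_.AlgSp

theorem resTrdeg_comp {U V W : Scheme.{u}} (e : U ⟶ V) (h : V ⟶ W) (u : U) :
    Dual3.resTrdeg (e ≫ h) u = Dual3.resTrdeg h (e u) + Dual3.resTrdeg e u := by
  unfold Dual3.resTrdeg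
  let := (h.residueFieldMap (e u)).hom.toAlgebra
  let := (e.residueFieldMap u).hom.toAlgebra
  let : Algebra (W.residueField (h (e u))) (U.residueField u) := ((e ≫ h).residueFieldMap u).hom.toAlgebra
  have : IsScalarTower (W.residueField (h (e u))) (V.residueField (e u)) (U.residueField u) :=
    IsScalarTower.of_algebraMap_eq' (congrArg (fun g => g.hom) (Scheme.residueFieldMap_comp e h u))
  show Algebra.trdeg (W.residueField (h (e u))) (U.residueField u) = _
  exact (trdeg_add_eq (R := W.residueField (h (e u))) (S := V.residueField (e u)) (A := U.residueField u)).symm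

variable {S : Scheme.{u}}

theorem hasAtMor_resTrdeg_comp {X Y Z : Sp S} (hX : IsAlgSpace X) (hY : IsAlgSpace Y) (hZ : IsAlgSpace Z)
    (f : X ⟶ Y) (g : Y ⟶ Z) (x : Points X) {r₁ r₂ : Cardinal.{u}}
    (h1 : HasAtMor (fun _ _ h u => Dual3.resTrdeg h u = r₁) f x)
    (h2 : HasAtMor (fun _ _ h u => Dual3.resTrdeg h u = r₂) g (Points.map f x)) :
    HasAtMor (fun _ _ h u => Dual3.resTrdeg h u = r₁ + r₂) (f ≫ g) x := by
  obtain ⟨V, W, b, c, g₁, hb, hbs, hc, commg⟩ := SpQS.exists_chart_atlas hY hZ g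
  obtain ⟨U₀, π, hπ, hπs⟩ := hX.atlas
  obtain ⟨U, p, f₁, sq⟩ := exists_pullback hY.diag (π ≫ f) b
  have ha : RepWith @Etale ((yon S).map p ≫ π) := repWith_comp (repWith_baseChange sq.flip hb) hπ
  have has : RepWith @Surjective ((yon S).map p ≫ π) := repWith_comp (repWith_baseChange sq.flip hbs) hπs
  have commf : ((yon S).map p ≫ π) ≫ f = (yon S).map f₁ ≫ b := by rw [Category.assoc]; exact sq.w
  have comm : ((yon S).map p ≫ π) ≫ f ≫ g = (yon S).map (f₁ ≫ g₁) ≫ c := by
    rw [← Category.assoc, commf, Category.assoc, commg, Functor.map_comp, Category.assoc]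
  obtain ⟨u, hu⟩ := ofPt_surjective has x
  have hv : Points.ofPt b (f₁.left u) = Points.map f x := by
    rw [← hu, Points.map_ofPt, commf, ofPt_comp]
  obtain ⟨U', V', a', b', h', u', ha', hb', comm', hu', h0⟩ := h1
  obtain ⟨V'', W'', b'', c'', h'', v'', hb'', hc'', comm'', hv'', h0'⟩ := h2
  refine ⟨U, W, _, c, f₁ ≫ g₁, u, ha, hc, comm, hu, ?_⟩
  show Dual3.resTrdeg (f₁ ≫ g₁).left u = r₁ + r₂
  rw [Over.comp_left, resTrdeg_comp,
    SpQS.resTrdeg_chart_indep hX hY f ha hb commf ha' hb' comm' (hu.trans hu'.symm),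
    SpQS.resTrdeg_chart_indep hY hZ g hb hc commg hb'' hc'' comm'' (hv.trans hv''.symm), h0, h0', add_comm]

end Groth.Agent.AlgSpLib
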