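import Groth.Agent.AlgSpLib.Basic

/-!
# Algebraic spaces: properties of the diagonal tested on pairs of maps from schemes
-/

universe u

open CategoryTheory CategoryTheory.Limits AlgebraicGeometry Opposite

set_option backward.isDefEq.respectTransparency false

namespace Groth.Agent.AlgSpLib

open _root_.AlgSp

section Category

variable {C : Type*} [Category C]

lemma isPullback_comp_mono {P X Y Z Z' : C} {fst : P ⟶ X} {snd : P ⟶ Y} {f : X ⟶ Z} {g : Y ⟶ Z}
    (h : IsPullback fst snd f g) (m : Z ⟶ Z') [Mono m] : IsPullback fst snd (f ≫ m) (g ≫ m) := by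
  have hw : fst ≫ f ≫ m = snd ≫ g ≫ m := by rw [← Category.assoc, h.w, Category.assoc]
  refine ⟨⟨hw⟩, ⟨PullbackCone.IsLimit.mk hw (fun s => h.lift s.fst s.snd ?_) ?_ ?_ ?_⟩⟩
  · exact (cancel_mono m).1 (by simp only [Category.assoc]; exact s.condition)
  · intro s; exact h.lift_fst _ _ _
  · intro s; exact h.lift_snd _ _ _
  · intro s m₀ h1 h2; exact h.hom_ext (h1.trans (h.lift_fst _ _ _).symm) (h2.trans (h.lift_snd _ _ _).symm)

lemma isPullback_lift_diag [HasBinaryProducts C] {W U V X : C} {p : W ⟶ U} {q : W ⟶ V} {a : U ⟶ X}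
    {b : V ⟶ X} (h : IsPullback p q a b) :
    IsPullback (p ≫ a) (prod.lift p q) (Limits.diag X) (prod.map a b) := by
  have hw : (p ≫ a) ≫ Limits.diag X = prod.lift p q ≫ prod.map a b := by
    apply prod.hom_ext <;> simp [h.w]
  have key : ∀ {Z : C} (x : Z ⟶ X) (y : Z ⟶ U ⨯ V), x ≫ Limits.diag X = y ≫ prod.map a b →
      x = (y ≫ prod.fst) ≫ a ∧ (y ≫ prod.fst) ≫ a = (y ≫ prod.snd) ≫ b := fun x y e => by
    have e1 := congrArg (fun z => z ≫ prod.fst) e
    have e2 := congrArg (fun z => z ≫ prod.snd) e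
    simp only [Category.assoc, prod.lift_fst, prod.lift_snd, prod.map_fst, prod.map_snd,
      Category.comp_id] at e1 e2
    exact ⟨e1.trans (Category.assoc _ _ _).symm, by rw [Category.assoc, Category.assoc, ← e1, ← e2]⟩
  refine ⟨⟨hw⟩, ⟨PullbackCone.IsLimit.mk hw
    (fun s => h.lift (s.snd ≫ prod.fst) (s.snd ≫ prod.snd) (key _ _ s.condition).2) ?_ ?_ ?_⟩⟩
  · intro s; rw [← Category.assoc, h.lift_fst]; exact (key _ _ s.condition).1.symm
  · intro s; apply prod.hom_ext <;> simp
  · intro s m h1 h2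
    refine h.hom_ext ?_ ?_ <;> simp [← h2]

end Category

variable {S : Scheme.{u}} {F : Sp S}

/-- the pullback of the diagonal along a map from a scheme, from the fibre product of the components -/
lemma exists_pullback_diag {T W : Over S} {ξ : (yon S).obj T ⟶ F ⨯ F} {p q : W ⟶ T}
    (h : IsPullback ((yon S).map p) ((yon S).map q) (ξ ≫ prod.fst) (ξ ≫ prod.snd)) :
    ∃ (E : Over S) (e₁ : E ⟶ W) (e₂ : E ⟶ T) (fst : (yon S).obj E ⟶ F),
      IsPullback fst ((yon S).map e₂) (Limits.diag F) ξ ∧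
      IsPullback e₁ e₂ (prod.lift p q) (Limits.diag T) := by
  have sqE := IsPullback.of_hasPullback (prod.lift p q) (Limits.diag T)
  refine ⟨_, pullback.fst (prod.lift p q) (Limits.diag T), pullback.snd (prod.lift p q) (Limits.diag T),
    (yon S).map (pullback.fst (prod.lift p q) (Limits.diag T)) ≫
      ((yon S).map p ≫ (ξ ≫ prod.fst)), ?_, sqE⟩
  have h1 := isPullback_comp_mono (sqE.map (yon S)) (prodComparison (yon S) T T)
  have e1 : (yon S).map (prod.lift p q) ≫ prodComparison (yon S) T T =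
      prod.lift ((yon S).map p) ((yon S).map q) := by
    apply prod.hom_ext <;> simp [prodComparison, ← Functor.map_comp]
  have e2 : (yon S).map (Limits.diag T) ≫ prodComparison (yon S) T T = Limits.diag ((yon S).obj T) :=
    (diag_yon_obj T).symm
  rw [e1, e2] at h1
  have h2 := h1.paste_horiz (isPullback_lift_diag h)
  rwa [show Limits.diag ((yon S).obj T) ≫ prod.map (ξ ≫ prod.fst) (ξ ≫ prod.snd) = ξ from by
    apply prod.hom_ext <;> simp] at h2

/-- the diagonal of `F` has a property if all fibre products of maps from schemes do -/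
theorem repWith_diag_of_pairwise (P : MorphismProperty Scheme.{u}) [P.IsStableUnderBaseChange]
    (h₁ : ∀ ⦃U V : Over S⦄ (a : (yon S).obj U ⟶ F) (b : (yon S).obj V ⟶ F),
      ∃ (W : Over S) (fst : W ⟶ U) (snd : W ⟶ V), IsPullback ((yon S).map fst) ((yon S).map snd) a b)
    (h₂ : ∀ ⦃U V W : Over S⦄ (a : (yon S).obj U ⟶ F) (b : (yon S).obj V ⟶ F) (fst : W ⟶ U) (snd : W ⟶ V),
      IsPullback ((yon S).map fst) ((yon S).map snd) a b → P (prod.lift fst snd).left) :
    RepWith P (Limits.diag F) := by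
  have : P.RespectsIso := MorphismProperty.IsStableUnderBaseChange.respectsIso
  refine repWith_of_exists fun T ξ => ?_
  obtain ⟨W, p, q, sq⟩ := h₁ (ξ ≫ prod.fst) (ξ ≫ prod.snd)
  obtain ⟨E, e₁, e₂, fst, sqΔ, sqE⟩ := exists_pullback_diag sq
  exact ⟨E, fst, e₂, sqΔ, P.of_isPullback (sqE.map (Over.forget S)) (h₂ _ _ _ _ sq)⟩

theorem representable_diag_of_pairwise
    (h₁ : ∀ ⦃U V : Over S⦄ (a : (yon S).obj U ⟶ F) (b : (yon S).obj V ⟶ F),
      ∃ (W : Over S) (fst : W ⟶ U) (snd : W ⟶ V), IsPullback ((yon S).map fst) ((yon S).map snd) a b) :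
    Representable (Limits.diag F) :=
  (repWith_diag_of_pairwise ⊤ h₁ fun _ _ _ _ _ _ _ _ => trivial).1

end Groth.Agent.AlgSpLib
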