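import Groth.Agent.AlgSpLib.RepDescent
import Groth.Agent.AlgSpLib.Diag
import Mathlib.AlgebraicGeometry.Morphisms.Etale
import Mathlib.AlgebraicGeometry.Morphisms.QuasiFinite

/-!
# Algebraic spaces: a representable etale surjective map from a scheme gives an algebraic space
-/

universe u

open CategoryTheory CategoryTheory.Limits AlgebraicGeometry Opposite

set_option backward.isDefEq.respectTransparency false

namespace Groth.Agent.AlgSpLib

open _root_.AlgSp

variable {S : Scheme.{u}}

/-- ind-quasi-affine, as a morphism property -/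
def indQA : MorphismProperty Scheme.{u} := fun _ _ q => MoreMor.IsIndQuasiAffineHom q

instance : (indQA.{u}).IsStableUnderBaseChange := ⟨fun hc h => QA.IndQA.baseChange hc h⟩

lemma flat_lfp_of_etale {A B : Scheme.{u}} (f : A ⟶ B) (h : Etale f) :
    Flat f ∧ LocallyOfFinitePresentation f :=
  ⟨inferInstance, inferInstance⟩

lemma indQA_of_mono_of_comp {A B C : Scheme.{u}} (f : A ⟶ B) (g : B ⟶ C) [Mono f] (h : Etale (f ≫ g)) :
    indQA f := by
  have : LocallyQuasiFinite (f ≫ g) := FpqcDescent.locallyQuasiFinite_of_etale _
  have : LocallyQuasiFinite f := .of_comp f g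
  have : LocallyOfFiniteType f := locallyOfFiniteType_of_comp f g
  exact QA.IndQA.of_locallyQuasiFinite f

lemma mono_left {A B : Over S} (f : A ⟶ B) [Mono f] : Mono f.left :=
  inferInstanceAs (Mono ((Over.forget S).map f))

/-- a representable etale surjective map from a scheme makes the diagonal representable -/
theorem representable_diag_of_atlas {F : Sp S} {P : Over S} {p : (yon S).obj P ⟶ F}
    (he : RepWith @Etale p) (hs : RepWith @Surjective p) : Representable (Limits.diag F) := by
  obtain ⟨R, fst, s, sq⟩ := exists_isPullback_of_representable he.1 p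
  obtain ⟨t, rfl⟩ := exists_map_eq fst
  have hsE : Etale s.left := he.2 p _ s sq
  have : Mono (prod.lift t s) := ⟨fun a b e => (yon S).map_injective (sq.hom_ext
    (by simpa using congrArg (fun k => (yon S).map (k ≫ prod.fst)) e)
    (by simpa using congrArg (fun k => (yon S).map (k ≫ prod.snd)) e))⟩
  have : Mono (prod.lift t s).left := mono_left _
  have hv : indQA (prod.lift t s).left := indQA_of_mono_of_comp _ (prod.snd : P ⨯ P ⟶ P).left (by
    rw [← Over.comp_left, prod.lift_snd]; exact hsE)
  refine representable_of_indQA (Limits.diag F) (b := prod.map p p) ?_ (isPullback_lift_diag sq) ?_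
  · intro T ξ
    obtain ⟨A, α, a, sqA, hAe⟩ := exists_repWith he (ξ ≫ prod.fst)
    have hAs : Surjective a.left := hs.2 _ α a sqA
    obtain ⟨B, β, b, sqB, hBe⟩ := exists_repWith he ((yon S).map a ≫ ξ ≫ prod.snd)
    have hBs : Surjective b.left := hs.2 _ β b sqB
    have := flat_lfp_of_etale _ hAe
    have := flat_lfp_of_etale _ hBe
    refine ⟨B, b ≫ a, prod.lift ((yon S).map b ≫ α) β, ?_, ?_, ?_, ?_⟩
    · exact MorphismProperty.comp_mem @Flat b.left a.left (flat_lfp_of_etale _ hBe).1 (flat_lfp_of_etale _ hAe).1
    · exact MorphismProperty.comp_mem @Surjective b.left a.left hBs hAs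
    · exact MorphismProperty.comp_mem @LocallyOfFinitePresentation b.left a.left (flat_lfp_of_etale _ hBe).2 (flat_lfp_of_etale _ hAe).2
    · apply prod.hom_ext
      · rw [prod.lift_map, prod.lift_fst, Category.assoc, sqA.w]
        simp only [Functor.map_comp, Category.assoc]
      · rw [prod.lift_map, prod.lift_snd, sqB.w]
        simp only [Functor.map_comp, Category.assoc]
  · have e : prod.lift ((yon S).map t) ((yon S).map s) =
        (yon S).map (prod.lift t s) ≫ prodComparison (yon S) P P := by
      apply prod.hom_ext <;> simp [prodComparison, ← Functor.map_comp]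
    rw [e]
    exact (repWith_comp_iso_iff (P := indQA) _ _).2 ((repWith_yon_iff _).2 hv)

theorem isAlgSpace_of_atlas {F : Sp S} {P : Over S} {p : (yon S).obj P ⟶ F}
    (he : RepWith @Etale p) (hs : RepWith @Surjective p) : IsAlgSpace F :=
  ⟨representable_diag_of_atlas he hs, P, p, he, hs⟩

theorem isAlgSpace_of_etale_surjective {X F : Sp S} (hX : IsAlgSpace X) (f : X ⟶ F)
    (he : RepWith @Etale f) (hs : RepWith @Surjective f) : IsAlgSpace F := by
  obtain ⟨U, p, hpe, hps⟩ := hX.atlas
  exact isAlgSpace_of_atlas (repWith_comp hpe he) (repWith_comp hps hs)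

end Groth.Agent.AlgSpLib
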