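import Groth.Prelude.Def_AlgSp

/-!
# Algebraic spaces: calculus of representable morphisms with a property
-/

universe u

open CategoryTheory CategoryTheory.Limits AlgebraicGeometry Opposite

set_option backward.isDefEq.respectTransparency false

namespace Groth.Agent.AlgSpLib

open _root_.AlgSp

variable {S : Scheme.{u}}

/-- squares of schemes over `S` are cartesian in sheaves iff they are so on underlying schemes -/
lemma isPullback_yon_iff {W A B C : Over S} {p : W ⟶ A} {q : W ⟶ B} {f : A ⟶ C} {g : B ⟶ C} :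
    IsPullback ((yon S).map p) ((yon S).map q) ((yon S).map f) ((yon S).map g) ↔
      IsPullback p.left q.left f.left g.left := by
  refine ⟨fun h => (IsPullback.of_map_of_faithful (yon S) h).map (Over.forget S), fun h => ?_⟩
  exact (IsPullback.of_map_of_faithful (Over.forget S) h).map (yon S)

/-- `yon S` as a bijection on morphisms -/
lemma exists_map_eq {U V : Over S} (g : (yon S).obj U ⟶ (yon S).obj V) :
    ∃ g' : U ⟶ V, (yon S).map g' = g := (yon S).map_surjective g

lemma exists_isPullback_of_representable {F G : Sp S} {f : F ⟶ G} (hf : Representable f)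
    {U : Over S} (ξ : (yon S).obj U ⟶ G) :
    ∃ (V : Over S) (fst : (yon S).obj V ⟶ F) (snd : V ⟶ U), IsPullback fst ((yon S).map snd) f ξ := by
  obtain ⟨V, snd, fst, sq⟩ := hf ξ
  exact ⟨V, fst, snd, sq⟩

/-- fibre products of maps from schemes into a sheaf with representable diagonal are schemes -/
lemma exists_pullback {F : Sp S} (hΔ : Representable (Limits.diag F)) {U V : Over S}
    (a : (yon S).obj U ⟶ F) (b : (yon S).obj V ⟶ F) :
    ∃ (W : Over S) (p : W ⟶ U) (q : W ⟶ V), IsPullback ((yon S).map p) ((yon S).map q) a b := by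
  obtain ⟨W, fst, snd, sq⟩ :=
    exists_isPullback_of_representable (Functor.relativelyRepresentable.of_diag hΔ a) b
  obtain ⟨p, rfl⟩ := exists_map_eq fst
  exact ⟨W, p, snd, sq⟩

section RepWith

variable {P Q : MorphismProperty Scheme.{u}}

lemma repWith_of_exists [P.RespectsIso] {F G : Sp S} {f : F ⟶ G}
    (h : ∀ ⦃U : Over S⦄ (ξ : (yon S).obj U ⟶ G), ∃ (V : Over S) (fst : (yon S).obj V ⟶ F)
      (snd : V ⟶ U), IsPullback fst ((yon S).map snd) f ξ ∧ P snd.left) : RepWith P f := by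
  have : (P.inverseImage (Over.forget S)).RespectsIso := MorphismProperty.RespectsIso.inverseImage P _
  refine MorphismProperty.relative.of_exists fun U ξ => ?_
  obtain ⟨V, fst, snd, sq, hP⟩ := h ξ
  exact ⟨V, fst, snd, sq, hP⟩

lemma exists_repWith {F G : Sp S} {f : F ⟶ G} (hf : RepWith P f) {U : Over S} (ξ : (yon S).obj U ⟶ G) :
    ∃ (V : Over S) (fst : (yon S).obj V ⟶ F) (snd : V ⟶ U),
      IsPullback fst ((yon S).map snd) f ξ ∧ P snd.left := by
  obtain ⟨V, fst, snd, sq⟩ := exists_isPullback_of_representable hf.1 ξ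
  exact ⟨V, fst, snd, sq, hf.2 ξ fst snd sq⟩

lemma repWith_mono (h : ∀ ⦃X Y : Scheme.{u}⦄ (f : X ⟶ Y), P f → Q f) {F G : Sp S} {f : F ⟶ G}
    (hf : RepWith P f) : RepWith Q f :=
  ⟨hf.1, fun _ _ g fst snd sq => h _ (hf.2 g fst snd sq)⟩

lemma repWith_inf_iff {F G : Sp S} {f : F ⟶ G} :
    RepWith (P ⊓ Q) f ↔ RepWith P f ∧ RepWith Q f :=
  ⟨fun h => ⟨repWith_mono (fun _ _ _ h => h.1) h, repWith_mono (fun _ _ _ h => h.2) h⟩,
    fun h => ⟨h.1.1, fun _ _ g fst snd sq => ⟨h.1.2 g fst snd sq, h.2.2 g fst snd sq⟩⟩⟩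

lemma repWith_comp [P.RespectsIso] [P.IsStableUnderComposition] {F G H : Sp S} {f : F ⟶ G} {g : G ⟶ H}
    (hf : RepWith P f) (hg : RepWith P g) : RepWith P (f ≫ g) := by
  refine repWith_of_exists fun U ξ => ?_
  obtain ⟨V, fst, snd, sq, hP⟩ := exists_repWith hg ξ
  obtain ⟨W, fst', snd', sq', hP'⟩ := exists_repWith hf fst
  refine ⟨W, fst', snd' ≫ snd, ?_, P.comp_mem _ _ hP' hP⟩
  rw [Functor.map_comp]
  exact sq'.paste_vert sq

lemma repWith_baseChange {F G F' G' : Sp S} {f : F ⟶ G} {fst : F' ⟶ F} {f' : F' ⟶ G'} {g : G' ⟶ G}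
    (sq : IsPullback fst f' f g) (hf : RepWith P f) : RepWith P f' :=
  (RepWith P).of_isPullback sq hf

lemma repWith_of_isIso [P.RespectsIso] [P.ContainsIdentities] {F G : Sp S} (f : F ⟶ G) [IsIso f] :
    RepWith P f := by
  refine repWith_of_exists fun U ξ => ⟨U, ξ ≫ inv f, 𝟙 U, ?_, P.id_mem _⟩
  rw [CategoryTheory.Functor.map_id]
  exact IsPullback.of_vert_isIso ⟨by simp⟩

lemma repWith_yon_iff [P.IsStableUnderBaseChange] {U V : Over S} (g : U ⟶ V) :
    RepWith P ((yon S).map g) ↔ P g.left := repWith_yon_map_iff P g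

lemma repWith_iso_comp_iff [P.IsStableUnderBaseChange] {F' F G : Sp S} (e : F' ⟶ F) [IsIso e] (f : F ⟶ G) :
    RepWith P (e ≫ f) ↔ RepWith P f := (RepWith P).cancel_left_of_respectsIso e f

lemma repWith_comp_iso_iff [P.IsStableUnderBaseChange] {F G G' : Sp S} (f : F ⟶ G) (e : G ⟶ G') [IsIso e] :
    RepWith P (f ≫ e) ↔ RepWith P f := (RepWith P).cancel_right_of_respectsIso f e

end RepWith

/-- a morphism out of a scheme into an algebraic space, tested against one chart -/
lemma _root_.AlgSp.IsAlgSpace.exists_chart_pullback {F : Sp S} (hF : IsAlgSpace F) {P : MorphismProperty Scheme.{u}}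
    {U : Over S} {p : (yon S).obj U ⟶ F} (hp : RepWith P p) {T : Over S} (ξ : (yon S).obj T ⟶ F) :
    ∃ (W : Over S) (a : W ⟶ U) (b : W ⟶ T),
      IsPullback ((yon S).map a) ((yon S).map b) p ξ ∧ P b.left := by
  obtain ⟨W, a, b, sq⟩ := exists_pullback hF.diag p ξ
  exact ⟨W, a, b, sq, hp.2 ξ _ b sq⟩

end Groth.Agent.AlgSpLib
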