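import Groth.Agent.AlgSpLib.FpqcBase
import Groth.Agent.QA.Props
import Groth.Agent.LimDesc.DescendQuasiAffine
import Groth.Agent.FpqcDescent.Props
import Groth.Prelude.Def_AlgSpMor5

/-!
# Algebraic spaces: representable properties defined on affine schemes; descent instances
-/

universe u

open CategoryTheory CategoryTheory.Limits AlgebraicGeometry Opposite MorphismProperty

set_option backward.isDefEq.respectTransparency false

namespace Groth.Agent.AlgSpLib

open _root_.AlgSp

/-- quasi-affine morphisms of schemes -/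
def qaMor : MorphismProperty Scheme.{u} := fun _ _ q => Mor2.IsQuasiAffine q

instance : (qaMor.{u}).IsStableUnderBaseChange where
  of_isPullback {X Y Y' X' f g f' g'} sq h := by
    have h' := QA.baseChange h f
    have e : g' = sq.isoPullback.hom ≫ pullback.snd g f := sq.isoPullback_hom_snd.symm
    refine ⟨?_, fun V hV => ?_⟩
    · have := h'.1
      rw [e]; infer_instance
    · have := h'.2 V hV
      rw [e, Scheme.Hom.comp_preimage]
      exact .of_isAffineHom (sq.isoPullback.hom ∣_ (pullback.snd g f ⁻¹ᵁ V))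

instance : IsZariskiLocalAtTarget (qaMor.{u}) := by
  refine IsZariskiLocalAtTarget.mk' (fun f U h => ?_) (fun {X Y} f {ι} U hU h => ?_)
  · exact MorphismProperty.of_isPullback (P := qaMor) (isPullback_morphismRestrict f U).flip h
  · have : QuasiCompact f :=
      (IsZariskiLocalAtTarget.iff_of_iSup_eq_top (P := @QuasiCompact) U hU).2 fun i => (h i).1
    have : QuasiSeparated f :=
      (IsZariskiLocalAtTarget.iff_of_iSup_eq_top (P := @QuasiSeparated) U hU).2 fun i =>
        QA.quasiSeparated (h i)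
    refine LimDesc.mor2_isQuasiAffine_of_cover f
      (fun k : (Σ i, {W : (U i).toScheme.Opens // IsAffineOpen W}) => (U k.1).ι ''ᵁ k.2.1) (fun y => ?_) fun k => ?_
    · obtain ⟨i, hi⟩ := TopologicalSpace.Opens.mem_iSup.1 (hU.ge (Set.mem_univ y))
      obtain ⟨W, hW, hyW, -⟩ := exists_isAffineOpen_mem_and_subset (X := (U i).toScheme) (x := ⟨y, hi⟩) (U := ⊤) trivial
      exact ⟨⟨i, W, hW⟩, _, hyW, rfl⟩
    · have := (h k.1).2 k.2.1 k.2.2
      rw [← image_morphismRestrict_preimage]
      exact .of_isAffineHom ((f ⁻¹ᵁ U k.1).ι.isoImage _).inv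

instance : (qaMor.{u}).DescendsAlong (@Surjective ⊓ @Flat ⊓ @QuasiCompact) := QA.descendsAlong

instance : MorphismProperty.DescendsAlong (@IsIntegralHom : MorphismProperty Scheme.{u})
    (@Surjective ⊓ @Flat ⊓ @QuasiCompact : MorphismProperty Scheme.{u}) := by
  refine ⟨fun {P X Y Z fst snd f g} h hf hfst => ?_⟩
  obtain ⟨h₁, h₂⟩ := IsIntegralHom.iff_universallyClosed_and_isAffineHom.1 hfst
  exact IsIntegralHom.iff_universallyClosed_and_isAffineHom.2
    ⟨of_isPullback_of_descendsAlong (P := @UniversallyClosed) h hf h₁,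
      of_isPullback_of_descendsAlong (P := @IsAffineHom) h hf h₂⟩

instance : IsZariskiLocalAtTarget (finLocFree.{u}) :=
  inferInstanceAs (IsZariskiLocalAtTarget (@IsFinite ⊓ (@Flat ⊓ @LocallyOfFinitePresentation) : MorphismProperty Scheme.{u}))

instance : (finLocFree.{u}).DescendsAlong (@Surjective ⊓ @Flat ⊓ @QuasiCompact) :=
  inferInstanceAs ((@IsFinite ⊓ (@Flat ⊓ @LocallyOfFinitePresentation) : MorphismProperty Scheme.{u}).DescendsAlong _)

lemma indQA_of_isAffineHom {A B : Scheme.{u}} (q : A ⟶ B) [IsAffineHom q] :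
    MoreMor.IsIndQuasiAffineHom q :=
  QA.IndQA.of_isQuasiAffineHom q ⟨inferInstance, fun V hV =>
    have : IsAffine (q ⁻¹ᵁ V).toScheme := hV.preimage q
    inferInstance⟩

variable {S : Scheme.{u}}

/-- properties of affine-test type are properties of representable morphisms -/
theorem iff_repWith_of_affine (Q : MorphismProperty Scheme.{u}) [Q.IsStableUnderBaseChange]
    [IsZariskiLocalAtTarget Q] (hQ : ∀ ⦃A B : Scheme.{u}⦄ (q : A ⟶ B), Q q → MoreMor.IsIndQuasiAffineHom q)
    (R : ∀ ⦃W Z : Over S⦄, (W ⟶ Z) → Prop)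
    (hR : ∀ ⦃W Z : Over S⦄ (i : W ⟶ Z), IsAffine Z.left → (R i ↔ Q i.left)) {F G : Sp S} (f : F ⟶ G) :
    (∀ ⦃Z : Over S⦄, IsAffine Z.left → ∀ (g : (yon S).obj Z ⟶ G), ∃ (W : Over S) (i : W ⟶ Z)
      (fst : (yon S).obj W ⟶ F), IsPullback fst ((yon S).map i) f g ∧ R i) ↔ RepWith Q f := by
  refine ⟨fun h => repWith_of_affine Q hQ f fun T hT ξ => ?_, fun h Z hZ g => ?_⟩
  · obtain ⟨W, i, fst, sq, hi⟩ := h hT ξ
    exact ⟨W, i, fst, sq, (hR i hT).1 hi⟩
  · obtain ⟨W, fst, i, sq, hi⟩ := exists_repWith h g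
    exact ⟨W, i, fst, sq, (hR i hZ).2 hi⟩

theorem isAffineMor_iff_repWith {F G : Sp S} (f : F ⟶ G) : IsAffineMor f ↔ RepWith @IsAffineHom f :=
  iff_repWith_of_affine @IsAffineHom (fun _ _ q h => @indQA_of_isAffineHom _ _ q h)
    (fun W _ _ => IsAffine W.left) (fun W Z i hZ => by
      refine ⟨fun h => ?_, fun h => ?_⟩
      · have : IsAffine W.left := h
        infer_instance
      · have := h
        exact isAffine_of_isAffineHom i.left) f

theorem isIntegralMor_iff_repWith {F G : Sp S} (f : F ⟶ G) : IsIntegralMor f ↔ RepWith @IsIntegralHom f :=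
  iff_repWith_of_affine @IsIntegralHom
    (fun _ _ q h => by have : IsIntegralHom q := h; exact indQA_of_isAffineHom q)
    (fun W _ i => IsAffine W.left ∧ IsIntegralHom i.left) (fun W Z i hZ =>
      ⟨fun h => h.2, fun h => have : IsIntegralHom i.left := h; ⟨isAffine_of_isAffineHom i.left, h⟩⟩) f

theorem isFiniteMor_iff_repWith {F G : Sp S} (f : F ⟶ G) : IsFiniteMor f ↔ RepWith @IsFinite f :=
  iff_repWith_of_affine @IsFinite
    (fun _ _ q h => by have : IsFinite q := h; exact indQA_of_isAffineHom q)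
    (fun W _ i => IsAffine W.left ∧ IsFinite i.left) (fun W Z i hZ =>
      ⟨fun h => h.2, fun h => have : IsFinite i.left := h; ⟨isAffine_of_isAffineHom i.left, h⟩⟩) f

theorem isQuasiAffineMor_iff_repWith {F G : Sp S} (f : F ⟶ G) : IsQuasiAffineMor f ↔ RepWith qaMor f :=
  iff_repWith_of_affine qaMor (fun _ _ q h => QA.IndQA.of_isQuasiAffineHom q h)
    (fun W _ _ => W.left.IsQuasiAffine) (fun W Z i hZ => by
      refine ⟨fun h => ?_, fun h => ?_⟩
      · have : W.left.IsQuasiAffine := h
        refine ⟨inferInstance, fun V hV => ?_⟩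
        have : CompactSpace (i.left ⁻¹ᵁ V).toScheme := isCompact_iff_compactSpace.mp
          (QuasiCompact.isCompact_preimage (f := i.left) _ V.2 hV.isCompact)
        exact .of_isImmersion (i.left ⁻¹ᵁ V).ι
      · have := h.2 ⊤ (isAffineOpen_top _)
        exact .of_isAffineHom (show W.left ⟶ (i.left ⁻¹ᵁ ⊤).toScheme from W.left.topIso.inv)) f

end Groth.Agent.AlgSpLib
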