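import Groth.Agent.AlgSpLib.FpqcBase
import Groth.Agent.AlgSpLib.QCompact

/-!
# Algebraic spaces: fpqc locality of topological properties
-/

universe u

open CategoryTheory CategoryTheory.Limits AlgebraicGeometry Opposite Topology

set_option backward.isDefEq.respectTransparency false

namespace Groth.Agent.AlgSpLib

open _root_.AlgSp

variable {S : Scheme.{u}}

variable {ι : Type u} {Z : Sp S} {Zi : ι → Sp S} {b : ∀ i, Zi i ⟶ Z}

/-- an fpqc covering is jointly surjective on points -/
theorem exists_mem_range_of_fpqcCover (hb : IsFpqcCover Zi b) (x : Points Z) :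
    ∃ i, x ∈ Set.range (Points.map (b i)) := by
  obtain ⟨T, g, t, rfl⟩ := exists_ofPt x
  obtain ⟨j, t', rfl⟩ := T.left.affineCover.exists_eq t
  let O : Over S := Over.mk (T.left.affineCover.f j ≫ T.hom)
  let κ : O ⟶ T := Over.homMk (T.left.affineCover.f j) rfl
  obtain ⟨m, W, c, -, -, hs, hl⟩ := hb.2 O (inferInstanceAs (IsAffine (T.left.affineCover.X j))) ((yon S).map κ ≫ g)
  obtain ⟨k, w, rfl⟩ := hs t'
  obtain ⟨i, l, hl⟩ := hl k
  exact ⟨i, Points.ofPt l w, by rw [Points.map_ofPt, hl, ofPt_comp, ofPt_comp]; rfl⟩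

/-- the topology of an algebraic space is the quotient topology of an fpqc covering -/
theorem isOpen_of_fpqcCover (hb : IsFpqcCover Zi b) {E : Set (Points Z)}
    (h : ∀ i, IsOpen (Points.map (b i) ⁻¹' E)) : IsOpen E := by
  refine Points.isOpen_iff.2 fun T g => ?_
  rw [T.left.affineCover.isOpenCover_opensRange.isOpen_iff_coe_preimage]
  intro j
  let O : Over S := Over.mk (T.left.affineCover.f j ≫ T.hom)
  let κ : O ⟶ T := Over.homMk (T.left.affineCover.f j) rfl
  obtain ⟨K, _, A, fA, c, hA, _, _, _, _, hl⟩ :=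
    exists_pieces hb (Z := O) (inferInstanceAs (IsAffine (T.left.affineCover.X j))) ((yon S).map κ ≫ g)
  have : IsOpen (κ.left ⁻¹' (Points.ofPt g ⁻¹' E)) := by
    rw [← (Flat.isQuotientMap_of_surjective c.left).isOpen_preimage,
      (sigmaOpenCover A).isOpenCover_opensRange.isOpen_iff_coe_preimage]
    intro k
    obtain ⟨i, l, hl⟩ := hl k
    have e : (Sigma.ι A k) ⁻¹' (c.left ⁻¹' (κ.left ⁻¹' (Points.ofPt g ⁻¹' E))) =
        Points.ofPt l ⁻¹' (Points.map (b i) ⁻¹' E) := by
      ext a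
      simp only [Set.mem_preimage, Points.map_ofPt, hl, ofPt_comp]
      rfl
    have ho : IsOpen ((Sigma.ι A k) '' ((Sigma.ι A k) ⁻¹' (c.left ⁻¹' (κ.left ⁻¹' (Points.ofPt g ⁻¹' E))))) := by
      rw [e]
      exact (Sigma.ι A k).isOpenEmbedding.isOpenMap _ ((h i).preimage (Points.continuous_ofPt l))
    rw [Set.image_preimage_eq_inter_range] at ho
    exact isOpen_induced_iff.2 ⟨_, ho, by ext ⟨y, hy⟩; exact ⟨fun hh => hh.1, fun hh => ⟨hh, hy⟩⟩⟩
  have ho : IsOpen (κ.left '' (κ.left ⁻¹' (Points.ofPt g ⁻¹' E))) :=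
    (T.left.affineCover.f j).isOpenEmbedding.isOpenMap _ this
  rw [Set.image_preimage_eq_inter_range] at ho
  exact isOpen_induced_iff.2 ⟨_, ho, by ext ⟨y, hy⟩; exact ⟨fun hh => hh.1, fun hh => ⟨hh, hy⟩⟩⟩

variable {Z' : Sp S} {Z'i : ι → Sp S} {s : Z' ⟶ Z} {si : ∀ i, Z'i i ⟶ Zi i} {qi : ∀ i, Z'i i ⟶ Z'}
  (sq : ∀ i, IsPullback (qi i) (si i) s (b i))

include sq in
lemma preimage_image_eq (i : ι) (E : Set (Points Z')) :
    Points.map (b i) ⁻¹' (Points.map s '' E) = Points.map (si i) '' (Points.map (qi i) ⁻¹' E) := by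
  ext z
  constructor
  · rintro ⟨x, hx, e⟩
    obtain ⟨p, rfl, rfl⟩ := exists_point_of_isPullback (sq i) x z e
    exact ⟨p, hx, rfl⟩
  · rintro ⟨p, hp, rfl⟩
    refine ⟨_, hp, ?_⟩
    rw [← Points.map_comp, ← Points.map_comp, (sq i).w]

include sq in
lemma injective_of_fpqcCover (hb : IsFpqcCover Zi b) (h : ∀ i, Function.Injective (Points.map (si i))) :
    Function.Injective (Points.map s) := fun x y e => by
  obtain ⟨i, z, hz⟩ := exists_mem_range_of_fpqcCover hb (Points.map s x)
  obtain ⟨a, ha, ha'⟩ := exists_point_of_isPullback (sq i) x z hz.symm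
  obtain ⟨a', hc, hc'⟩ := exists_point_of_isPullback (sq i) y z (e.symm.trans hz.symm)
  obtain rfl := h i (ha'.trans hc'.symm)
  exact ha.symm.trans hc

include sq in
lemma surjective_of_fpqcCover (hb : IsFpqcCover Zi b) (h : ∀ i, Function.Surjective (Points.map (si i))) :
    Function.Surjective (Points.map s) := fun z => by
  obtain ⟨i, w, rfl⟩ := exists_mem_range_of_fpqcCover hb z
  obtain ⟨p, rfl⟩ := h i w
  exact ⟨Points.map (qi i) p, by rw [← Points.map_comp, ← Points.map_comp, (sq i).w]⟩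

include sq in
lemma isOpenMap_of_fpqcCover (hb : IsFpqcCover Zi b) (h : ∀ i, IsOpenMap (Points.map (si i))) :
    IsOpenMap (Points.map s) := fun E hE => isOpen_of_fpqcCover hb fun i => by
  rw [preimage_image_eq sq]
  exact h i _ (hE.preimage (Points.continuous_map _))

include sq in
lemma isClosedMap_of_fpqcCover (hb : IsFpqcCover Zi b) (h : ∀ i, IsClosedMap (Points.map (si i))) :
    IsClosedMap (Points.map s) := fun E hE => by
  rw [← isOpen_compl_iff]
  refine isOpen_of_fpqcCover hb fun i => ?_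
  rw [Set.preimage_compl, isOpen_compl_iff, preimage_image_eq sq]
  exact h i _ (hE.preimage (Points.continuous_map _))

include sq in
lemma isQuotientMap_of_fpqcCover (hb : IsFpqcCover Zi b) (h : ∀ i, IsQuotientMap (Points.map (si i))) :
    IsQuotientMap (Points.map s) := by
  refine isQuotientMap_iff_isClosed.2 ⟨surjective_of_fpqcCover sq hb fun i => (h i).surjective,
    fun E => ⟨fun hE => hE.preimage (Points.continuous_map _), fun hE => ?_⟩⟩
  rw [← isOpen_compl_iff]
  refine isOpen_of_fpqcCover hb fun i => ?_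
  rw [Set.preimage_compl, isOpen_compl_iff, ← (h i).isClosed_preimage, ← Set.preimage_comp,
    show Points.map (b i) ∘ Points.map (si i) = Points.map s ∘ Points.map (qi i) from funext fun p => by
      simp only [Function.comp_apply, ← Points.map_comp, (sq i).w],
    Set.preimage_comp]
  exact hE.preimage (Points.continuous_map _)

/-- properties defined by base change to all algebraic spaces -/
theorem isLocalOnBase_univSp (P : MorphismProperty (Sp S))
    (h : ∀ ⦃ι : Type u⦄ ⦃Z Z' : Sp S⦄ (Zi Z'i : ι → Sp S) (b : ∀ i, Zi i ⟶ Z) (s : Z' ⟶ Z)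
      (si : ∀ i, Z'i i ⟶ Zi i) (qi : ∀ i, Z'i i ⟶ Z'), IsFpqcCover Zi b →
      (∀ i, IsPullback (qi i) (si i) s (b i)) → (∀ i, P (si i)) → P s) :
    IsLocalOnBase (IsFpqcCover (S := S)) (UnivSp P) := by
  intro ι Y Yi g hY hYi hg X f hX Xi p q hXi sq
  refine ⟨fun hf i W W' hW a fst snd sqW => hf hW (a ≫ g i) (fst ≫ q i) snd (sqW.paste_horiz (sq i)),
    fun hp W W' hW a fst snd sqW => ?_⟩
  have hb := fun i => IsPullback.of_hasPullback a (g i)
  have hWi : ∀ i, IsAlgSpace (pullback a (g i)) := fun i => isAlgSpace_of_isPullback_space hY hW (hYi i) (hb i)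
  have hs := fun i => IsPullback.of_hasPullback snd (pullback.fst a (g i))
  refine h _ _ (fun i => pullback.fst a (g i)) snd _ _ (isFpqcCover_baseChange hY hYi hW hg hb) hs fun i => ?_
  have big := ((hb i).w ▸ (hs i).paste_horiz sqW :)
  refine hp i (hWi i) (pullback.snd a (g i)) ((sq i).lift _ _ (big.w.trans (Category.assoc _ _ _).symm))
    (pullback.snd snd (pullback.fst a (g i))) ?_
  exact IsPullback.of_right (by rw [(sq i).lift_fst]; exact big) ((sq i).lift_snd _ _ _) (sq i)

/-- quasi-compactness -/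
theorem isLocalOnBase_isQuasiCompactMor : IsLocalOnBase (IsFpqcCover (S := S)) IsQuasiCompactMor := by
  intro ι Y Yi g hY hYi hg X f hX Xi p q hXi sq
  refine ⟨fun hf i W W' hW hWq a fst snd sqW => hf hW hWq (a ≫ g i) (fst ≫ q i) snd (sqW.paste_horiz (sq i)),
    fun hp W W' hW hWq a fst snd sqW => ?_⟩
  have := compactSpace_of_isQuasiCompactSp hWq
  obtain ⟨U, π, hU, hπe, hπs⟩ := exists_affine_chart_of_compact hW
  obtain ⟨K, _, A, fA, c, hA, _, _, hcs, _, hl⟩ := exists_pieces hg hU (π ≫ a)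
  choose i l hl using hl
  have hW' := isAlgSpace_of_isPullback_space hY hX hW sqW
  refine isQuasiCompactSp_of_cofan hW' (Xi := fun k => pullback (p (i k)) (l k))
    (fun k => sqW.lift (pullback.fst _ _ ≫ q (i k))
      (pullback.snd _ _ ≫ (yon S).map (sigmaInj fA k ≫ c) ≫ π)
      (by rw [Category.assoc, (sq (i k)).w, pullback.condition_assoc, hl]; simp only [Category.assoc]))
    (fun x => ?_) fun k => ?_
  · obtain ⟨u, hu⟩ := ofPt_surjective hπs (Points.map snd x)
    obtain ⟨w, rfl⟩ := hcs.surj u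
    obtain ⟨k, a', rfl⟩ : ∃ k a', Sigma.ι A k a' = w := (sigmaOpenCover A).exists_eq w
    have big : IsPullback (pullback.fst (p (i k)) (l k) ≫ q (i k)) (pullback.snd (p (i k)) (l k)) f
        ((yon S).map (sigmaInj fA k ≫ c) ≫ π ≫ a) := by
      rw [← hl]; exact (IsPullback.of_hasPullback _ _).paste_horiz (sq _)
    have sq' := IsPullback.of_right (h₁₁ := sqW.lift (pullback.fst (p (i k)) (l k) ≫ q (i k))
      (pullback.snd _ _ ≫ (yon S).map (sigmaInj fA k ≫ c) ≫ π) (by rw [big.w]; simp only [Category.assoc]))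
      (by rw [sqW.lift_fst]; simpa only [Category.assoc] using big) (sqW.lift_snd _ _ _) sqW
    obtain ⟨z, hz, -⟩ := exists_point_of_isPullback sq' x (Points.ofScheme _ a') (by
      rw [← hu, Points.map_ofPt, Category.id_comp, ofPt_comp]; rfl)
    exact ⟨k, z, hz⟩
  · refine hp (i k) (IsAlgSpace.yon_obj _) ?_ (l k) _ _ (IsPullback.of_hasPullback _ _)
    have : CompactSpace ↥(Over.mk (fA k)).left := have := hA k; inferInstanceAs (CompactSpace ↥(A k))
    have : CompactSpace (Points ((yon S).obj (Over.mk (fA k)))) := (Points.schemeHomeo _).compactSpace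
    exact isQuasiCompactSp_of_compactSpace (IsAlgSpace.yon_obj _)

end Groth.Agent.AlgSpLib
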