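import Groth.Agent.AlgSpLib.FpqcLocP
import Groth.Agent.AlgSpLib.FpqcTop
import Groth.Agent.AlgSpLib.FpqcProps

/-!
# Algebraic spaces: list of properties local on the base
-/

universe u

open CategoryTheory CategoryTheory.Limits AlgebraicGeometry Opposite Topology

set_option backward.isDefEq.respectTransparency false

namespace Groth.Agent.AlgSpLib

open _root_.AlgSp

variable {S : Scheme.{u}}

theorem isLocalOnBase_and {τ : CovNotion S} {P Q : MorphismProperty (Sp S)}
    (hP : IsLocalOnBase τ P) (hQ : IsLocalOnBase τ Q) :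
    IsLocalOnBase τ (fun _ _ f => P f ∧ Q f) := by
  intro ι Y Yi g hY hYi hg X f hX Xi p q hXi sq
  exact ((hP Yi g hY hYi hg f hX Xi p q hXi sq).and (hQ Yi g hY hYi hg f hX Xi p q hXi sq)).trans forall_and.symm

theorem isLocalOnBase_isUnivClosedMor : IsLocalOnBase (IsFpqcCover (S := S)) IsUnivClosedMor :=
  isLocalOnBase_univSp _ fun _ _ _ _ _ _ _ _ _ hb sq h => isClosedMap_of_fpqcCover sq hb h

theorem isLocalOnBase_isSeparatedMor : IsLocalOnBase (IsFpqcCover (S := S)) IsSeparatedMor :=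
  isLocalOnBase_repWith_diagonal @IsClosedImmersion

theorem isLocalOnBase_isQuasiSeparatedMor : IsLocalOnBase (IsFpqcCover (S := S)) IsQuasiSeparatedMor :=
  isLocalOnBase_repWith_diagonal @QuasiCompact

theorem isLocalOnBase_isFiniteTypeMor : IsLocalOnBase (IsFpqcCover (S := S)) IsFiniteTypeMor :=
  isLocalOnBase_and (isLocalOnBase_locP etST_lft) isLocalOnBase_isQuasiCompactMor

theorem isLocalOnBase_isFinitePresentationMor :
    IsLocalOnBase (IsFpqcCover (S := S)) IsFinitePresentationMor :=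
  isLocalOnBase_and (isLocalOnBase_locP etST_lfp)
    (isLocalOnBase_and isLocalOnBase_isQuasiCompactMor isLocalOnBase_isQuasiSeparatedMor)

theorem isLocalOnBase_isProperMor : IsLocalOnBase (IsFpqcCover (S := S)) IsProperMor :=
  isLocalOnBase_and isLocalOnBase_isSeparatedMor
    (isLocalOnBase_and isLocalOnBase_isFiniteTypeMor isLocalOnBase_isUnivClosedMor)

theorem isLocalOnBase_isEtaleMor : IsLocalOnBase (IsFpqcCover (S := S)) IsEtaleMor := by
  intro ι Y Yi g hY hYi hg X f hX Xi p q hXi sq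
  rw [isEtaleMor_iff_locP hY, forall_congr' fun i => isEtaleMor_iff_locP (f := p i) (hYi i)]
  exact isLocalOnBase_locP etST_etale Yi g hY hYi hg f hX Xi p q hXi sq

/-- affine-test properties -/
theorem isLocalOnBase_of_iff (R : MorphismProperty (Sp S)) (Q : MorphismProperty Scheme.{u})
    [Q.IsStableUnderBaseChange] [IsZariskiLocalAtTarget Q]
    [Q.DescendsAlong (@Surjective ⊓ @Flat ⊓ @QuasiCompact)]
    (hQ : ∀ ⦃A B : Scheme.{u}⦄ (q : A ⟶ B), Q q → MoreMor.IsIndQuasiAffineHom q)
    (h : ∀ ⦃F G : Sp S⦄ (f : F ⟶ G), R f ↔ RepWith Q f) :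
    IsLocalOnBase (IsFpqcCover (S := S)) R := by
  intro ι Y Yi g hY hYi hg X f hX Xi p q hXi sq
  rw [h f, forall_congr' fun i => h (p i)]
  exact isLocalOnBase_repWith Q hQ Yi g hY hYi hg f hX Xi p q hXi sq

theorem isLocalOnBase_unramified :
    IsLocalOnBase (IsFpqcCover (S := S)) (LocP (@LocallyOfFiniteType ⊓ @FormallyUnramified)) :=
  isLocalOnBase_locP etST_unramified

end Groth.Agent.AlgSpLib
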