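import Groth.Agent.AlgSpLib.FpqcBase
import Groth.Agent.AlgSpLib.LocP

/-!
# Algebraic spaces: fpqc locality on the base of `LocP`, isomorphisms, monomorphisms
-/

universe u

open CategoryTheory CategoryTheory.Limits AlgebraicGeometry Opposite

set_option backward.isDefEq.respectTransparency false

namespace Groth.Agent.AlgSpLib

open _root_.AlgSp

variable {S : Scheme.{u}}

theorem isLocalOnBase_locP {P : MorphismProperty Scheme.{u}} (hP : EtST P) [IsZariskiLocalAtTarget P]
    [P.DescendsAlong (@Surjective ⊓ @Flat ⊓ @QuasiCompact)] :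
    IsLocalOnBase (IsFpqcCover (S := S)) (LocP P) := by
  intro ι Y Yi g hY hYi hg X f hX Xi p q hXi sq
  refine ⟨fun hf i => locP_baseChange hP hX hY (hXi i) (hYi i) (sq i) hf, fun hp U V a b h ha hb comm => ?_⟩
  have := hP.baseChange
  have sqF := IsPullback.of_hasPullback f b
  have hF : IsAlgSpace (pullback f b) := isAlgSpace_of_isPullback_space hY hX (IsAlgSpace.yon_obj V) sqF
  let l := pullback.lift a ((yon S).map h) comm
  have hl : RepWith @Etale l := by
    refine repWith_etale_of_comp hF hX ?_ (isEtaleMor_of_repWith' (repWith_baseChange sqF.flip hb))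
    rw [pullback.lift_fst]; exact ha
  rw [IsZariskiLocalAtTarget.iff_of_openCover (P := P) V.left.affineCover]
  intro j
  let O : Over S := Over.mk (V.left.affineCover.f j ≫ V.hom)
  let κ : O ⟶ V := Over.homMk (V.left.affineCover.f j) rfl
  obtain ⟨K, _, A, fA, c, hA, _, _, _, _, hk⟩ :=
    exists_pieces hg (Z := O) (inferInstanceAs (IsAffine (V.left.affineCover.X j))) ((yon S).map κ ≫ b)
  refine MorphismProperty.of_pullback_snd_of_descendsAlong (P := P)
    (Q := @Surjective ⊓ @Flat ⊓ @QuasiCompact) (g := c.left) ⟨⟨‹_›, ‹_›⟩, ‹_›⟩ ?_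
  rw [IsZariskiLocalAtTarget.iff_of_openCover (P := P) (sigmaOpenCover A)]
  intro k
  obtain ⟨i, m, hm⟩ := hk k
  let κk : Over.mk (fA k) ⟶ V := sigmaInj fA k ≫ c ≫ κ
  have hκ : (yon S).map κk ≫ b = m ≫ g i := by
    rw [hm]; simp only [κk, Functor.map_comp, Category.assoc]
  have sqk := IsPullback.of_hasPullback (pullback.snd f b) ((yon S).map κk)
  have hFk := isAlgSpace_of_isPullback_space (IsAlgSpace.yon_obj V) hF (IsAlgSpace.yon_obj _) sqk
  have big : IsPullback (pullback.fst (pullback.snd f b) ((yon S).map κk) ≫ pullback.fst f b)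
      (pullback.snd _ _) f (m ≫ g i) := hκ ▸ sqk.paste_horiz sqF
  have sqP : IsPullback ((sq i).lift _ (pullback.snd (pullback.snd f b) ((yon S).map κk) ≫ m)
      (big.w.trans (Category.assoc _ _ _).symm)) (pullback.snd _ _) (p i) m :=
    IsPullback.of_right (by rw [(sq i).lift_fst]; exact big) ((sq i).lift_snd _ _ _) (sq i)
  have hPk := locP_baseChange hP (hXi i) (hYi i) hFk (IsAlgSpace.yon_obj _) sqP (hp i)
  obtain ⟨Uk, u₁, u₂, sqU⟩ := exists_pullback (IsAlgSpace.yon_obj V).diag ((yon S).map h) ((yon S).map κk)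
  let lk : (yon S).obj Uk ⟶ pullback (pullback.snd f b) ((yon S).map κk) :=
    sqk.lift ((yon S).map u₁ ≫ l) ((yon S).map u₂) (by rw [Category.assoc, pullback.lift_snd]; exact sqU.w)
  have sql : IsPullback ((yon S).map u₁) lk l (pullback.fst _ _) :=
    IsPullback.of_bot (by rw [pullback.lift_snd, sqk.lift_snd]; exact sqU) (sqk.lift_fst _ _ _).symm sqk
  have hu : P u₂.left := hPk lk (𝟙 _) u₂ (repWith_baseChange sql hl) repWith_id'
    (by rw [Category.comp_id]; exact sqk.lift_snd _ _ _)
  have e' := (IsPullback.of_hasPullback (pullback.snd (pullback.snd h.left (V.left.affineCover.f j)) c.left)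
    (Sigma.ι A k)).paste_horiz ((IsPullback.of_hasPullback (pullback.snd h.left (V.left.affineCover.f j)) c.left).paste_horiz
      (IsPullback.of_hasPullback h.left (V.left.affineCover.f j)))
  have sqr : IsPullback u₁.left u₂.left h.left κk.left := isPullback_yon_iff.1 sqU
  exact (P.arrow_mk_iso_iff (Arrow.isoMk (sqr.isoIsPullback _ _ e') (Iso.refl _)
    ((sqr.isoIsPullback_hom_snd _ _ e').trans (Category.comp_id _).symm))).1 hu

theorem isIso_iff_repWith {F G : Sp S} (f : F ⟶ G) :
    IsIso f ↔ RepWith (MorphismProperty.isomorphisms Scheme.{u}) f := by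
  refine ⟨fun _ => repWith_of_isIso f, fun h => isIso_of_points f fun T => ?_⟩
  refine ⟨fun a b e => ?_, fun ξ => ?_⟩
  · obtain ⟨W, fst, snd, sq, hs⟩ := exists_repWith h (a ≫ f)
    have : IsIso ((Over.forget S).map snd) := hs
    have : IsIso snd := isIso_of_reflects_iso snd (Over.forget S)
    have e₁ := sq.lift_snd a (𝟙 _) (by rw [Category.id_comp])
    have e₂ := sq.lift_snd b (𝟙 _) (by rw [Category.id_comp]; exact e.symm)
    rw [← sq.lift_fst a (𝟙 _) (by rw [Category.id_comp]),
      ← sq.lift_fst b (𝟙 _) (by rw [Category.id_comp]; exact e.symm)]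
    congr 1
    rw [← cancel_mono ((yon S).map snd), e₁, e₂]
  · obtain ⟨W, fst, snd, sq, hs⟩ := exists_repWith h ξ
    have : IsIso ((Over.forget S).map snd) := hs
    have : IsIso snd := isIso_of_reflects_iso snd (Over.forget S)
    exact ⟨inv ((yon S).map snd) ≫ fst, by
      show (inv ((yon S).map snd) ≫ fst) ≫ f = ξ
      rw [Category.assoc, sq.w, IsIso.inv_hom_id_assoc]⟩

theorem isLocalOnBase_isomorphisms :
    IsLocalOnBase (IsFpqcCover (S := S)) (MorphismProperty.isomorphisms (Sp S)) := by
  intro ι Y Yi g hY hYi hg X f hX Xi p q hXi sq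
  simp only [MorphismProperty.isomorphisms.iff, isIso_iff_repWith]
  exact isLocalOnBase_repWith (MorphismProperty.isomorphisms Scheme.{u})
    (fun _ _ r hr => by
      have : IsIso r := hr
      exact QA.IndQA.of_isImmersion r) Yi g hY hYi hg f hX Xi p q hXi sq

theorem isLocalOnBase_monomorphisms :
    IsLocalOnBase (IsFpqcCover (S := S)) (MorphismProperty.monomorphisms (Sp S)) := by
  intro ι Y Yi g hY hYi hg X f hX Xi p q hXi sq
  have := isLocalOnBase_diagonal _ (isLocalOnBase_isomorphisms (S := S)) Yi g hY hYi hg f hX Xi p q hXi sq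
  simp only [MorphismProperty.isomorphisms.iff, pullback.isIso_diagonal_iff] at this
  simpa only [MorphismProperty.monomorphisms.iff] using this

end Groth.Agent.AlgSpLib
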