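import Groth.Agent.AlgSpLib.FpqcBase
import Groth.Agent.AlgSpLib.Points
import Groth.Agent.FpqcDescent.Immersion
import Groth.Agent.QA.IndQAComp

/-!
# Algebraic spaces: descent of properties of representable morphisms along fppf coverings
-/

universe u

open CategoryTheory CategoryTheory.Limits AlgebraicGeometry Opposite

set_option backward.isDefEq.respectTransparency false

namespace Groth.Agent.AlgSpLib

open _root_.AlgSp

variable {S : Scheme.{u}}

/-- an fppf covering of an algebraic space pulled back to a scheme is refined by one fppf morphism -/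
theorem exists_fppf_pieces {ι : Type u} {Y : Sp S} {Yi : ι → Sp S} {g : ∀ i, Yi i ⟶ Y} (hY : IsAlgSpace Y)
    (hYi : ∀ i, IsAlgSpace (Yi i)) (hg : IsFppfCover Yi g) {T : Over S} (ξ : (yon S).obj T ⟶ Y) :
    ∃ (A : ι → Scheme.{u}) (fA : ∀ i, A i ⟶ S) (c : Over.mk (Sigma.desc fA) ⟶ T),
      Flat c.left ∧ Surjective c.left ∧ LocallyOfFinitePresentation c.left ∧
        ∀ i, ∃ l : (yon S).obj (Over.mk (fA i)) ⟶ Yi i, l ≫ g i = (yon S).map (sigmaInj fA i ≫ c) ≫ ξ := by
  have sq := fun i => IsPullback.of_hasPullback (g i) ξ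
  have hTi := fun i => isAlgSpace_of_isPullback_space hY (hYi i) (IsAlgSpace.yon_obj T) (sq i)
  choose U π hπe hπs using fun i => (hTi i).atlas
  choose d hd using fun i => exists_map_eq (π i ≫ pullback.snd (g i) ξ)
  let A : ι → Scheme.{u} := fun i => (U i).left
  let fA : ∀ i, A i ⟶ S := fun i => (U i).hom
  let c : Over.mk (Sigma.desc fA) ⟶ T := Over.homMk (Sigma.desc fun i => (d i).left)
    (by refine Sigma.hom_ext _ _ fun i => ?_
        exact (Sigma.ι_desc_assoc _ _ _).trans ((Over.w (d i)).trans (Sigma.ι_desc fA i).symm))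
  have hι : ∀ i, Sigma.ι A i ≫ c.left = (d i).left := fun i => Sigma.ι_desc _ _
  have hdP : ∀ i, Flat (d i).left ∧ LocallyOfFinitePresentation (d i).left := fun i =>
    ⟨locP_baseChange etST_flat (hYi i) hY (hTi i) (IsAlgSpace.yon_obj T) (sq i) (hg.1 i).1
        (π i) (𝟙 _) (d i) (hπe i) repWith_id' (by rw [Category.comp_id, hd]),
      locP_baseChange etST_lfp (hYi i) hY (hTi i) (IsAlgSpace.yon_obj T) (sq i) (hg.1 i).2
        (π i) (𝟙 _) (d i) (hπe i) repWith_id' (by rw [Category.comp_id, hd])⟩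
  refine ⟨A, fA, c, ?_, ⟨fun t => ?_⟩, ?_, fun i => ⟨π i ≫ pullback.fst (g i) ξ, ?_⟩⟩
  · exact (IsZariskiLocalAtSource.iff_of_openCover (P := @Flat) (sigmaOpenCover A)).2
      fun i => by rw [show (sigmaOpenCover A).f i = Sigma.ι A i from rfl, hι]; exact (hdP i).1
  · obtain ⟨i, y, hy⟩ := hg.2 (Points.map ξ (Points.ofScheme T t))
    obtain ⟨x, -, hx⟩ := exists_point_of_isPullback (sq i) y (Points.ofScheme T t) hy
    obtain ⟨v, rfl⟩ := ofPt_surjective (hπs i) x
    refine ⟨Sigma.ι A i v, ?_⟩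
    rw [Points.map_ofPt, ← hd, ofScheme_map] at hx
    exact (congr($(hι i) v)).trans ((Points.schemeEquiv T).injective hx)
  · exact (IsZariskiLocalAtSource.iff_of_openCover (P := @LocallyOfFinitePresentation) (sigmaOpenCover A)).2
      fun i => by rw [show (sigmaOpenCover A).f i = Sigma.ι A i from rfl, hι]; exact (hdP i).2
  · rw [show sigmaInj fA i ≫ c = d i from Over.OverMorphism.ext (hι i), hd, Category.assoc, Category.assoc,
      (sq i).w]

/-- having a property of representable morphisms descends along fppf coverings of algebraic spaces -/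
theorem repWith_of_fppfCover (Q : MorphismProperty Scheme.{u}) [Q.IsStableUnderBaseChange]
    [IsZariskiLocalAtTarget Q] [Q.DescendsAlong (@Surjective ⊓ @Flat ⊓ @LocallyOfFinitePresentation)]
    (hQ : ∀ ⦃A B : Scheme.{u}⦄ (q : A ⟶ B), Q q → MoreMor.IsIndQuasiAffineHom q)
    {ι : Type u} {X Y : Sp S} {Yi : ι → Sp S} {g : ∀ i, Yi i ⟶ Y} (hY : IsAlgSpace Y)
    (hYi : ∀ i, IsAlgSpace (Yi i))
    (hg : IsFppfCover Yi g) (f : X ⟶ Y) (Xi : ι → Sp S) (p : ∀ i, Xi i ⟶ Yi i) (q : ∀ i, Xi i ⟶ X)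
    (sq : ∀ i, IsPullback (q i) (p i) f (g i)) (h : ∀ i, RepWith Q (p i)) : RepWith Q f := by
  refine repWith_of_exists fun T ξ => ?_
  have sqT := IsPullback.of_hasPullback f ξ
  obtain ⟨A, fA, c, _, _, _, hl⟩ := exists_fppf_pieces hY hYi hg ξ
  have sq' := IsPullback.of_hasPullback (pullback.snd f ξ) ((yon S).map c)
  have big := sq'.paste_horiz sqT
  obtain ⟨V', v', z', hz', e', hQ'⟩ := exists_rep_sigma Q fA (pullback.snd (pullback.snd f ξ) ((yon S).map c))
    (fun k => by
      obtain ⟨l, hl⟩ := hl k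
      obtain ⟨V, z, v, sqk, hv⟩ := exists_repWith (h k) l
      have sqk' : IsPullback (z ≫ q k) ((yon S).map v) f ((yon S).map (sigmaInj fA k) ≫ (yon S).map c ≫ ξ) := by
        rw [← Category.assoc, ← Functor.map_comp, ← hl]
        exact sqk.paste_horiz (sq k)
      refine ⟨V, v, big.lift (z ≫ q k) ((yon S).map (v ≫ sigmaInj fA k))
        (by rw [sqk'.w, Functor.map_comp, Category.assoc]), ?_, hv⟩
      refine IsPullback.of_right ?_ (by rw [big.lift_snd, Functor.map_comp]) big
      rw [big.lift_fst]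
      exact sqk')
  have sqV : IsPullback (z' ≫ pullback.fst (pullback.snd f ξ) ((yon S).map c)) ((yon S).map v')
      (pullback.snd f ξ) ((yon S).map c) := by
    simpa using (IsPullback.of_horiz_isIso
      (show CommSq z' ((yon S).map v') _ (𝟙 _) from ⟨by rw [Category.comp_id, e']⟩)).paste_horiz sq'
  obtain ⟨W, w, i, g', hiw, hg'⟩ := exists_rep_of_indQA sqV (hQ _ hQ')
  refine ⟨W, i.hom ≫ pullback.fst f ξ, w, ?_, ?_⟩
  · simpa using (IsPullback.of_horiz_isIso
      (show CommSq i.hom ((yon S).map w) _ (𝟙 _) from ⟨by rw [Category.comp_id, hiw]⟩)).paste_horiz sqT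
  · exact MorphismProperty.of_isPullback_of_descendsAlong (P := Q)
      (Q := @Surjective ⊓ @Flat ⊓ @LocallyOfFinitePresentation) hg'.flip ⟨⟨‹_›, ‹_›⟩, ‹_›⟩ hQ'

end Groth.Agent.AlgSpLib
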