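import Groth.Agent.AlgSpLib.FpqcList
import Groth.Agent.AlgSpLib.FppfBase

/-!
# Algebraic spaces: criteria on affine test objects and on charts
-/

universe u

open CategoryTheory CategoryTheory.Limits AlgebraicGeometry Opposite Topology

set_option backward.isDefEq.respectTransparency false

namespace Groth.Agent.AlgSpLib

open _root_.AlgSp

variable {S : Scheme.{u}}

/-- fppf coverings are fpqc coverings -/
theorem isFpqcCover_of_fppf {ι : Type u} {Y : Sp S} {Yi : ι → Sp S} {g : ∀ i, Yi i ⟶ Y} (hY : IsAlgSpace Y)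
    (hYi : ∀ i, IsAlgSpace (Yi i)) (hg : IsFppfCover Yi g) : IsFpqcCover Yi g := by
  refine ⟨fun i => (hg.1 i).1, fun Z hZ ξ => ?_⟩
  obtain ⟨A, fA, c, _, _, _, hl⟩ := exists_fppf_pieces hY hYi hg ξ
  let J := Σ i : ι, {U : (A i).Opens // IsAffineOpen U}
  have hcov : ∀ z : ↥Z.left, ∃ j : J, z ∈ (fun a => c.left (Sigma.ι A j.1 a)) '' (j.2.1 : Set _) := fun z => by
    obtain ⟨w, rfl⟩ := c.left.surjective z
    obtain ⟨i, a, rfl⟩ : ∃ i a, Sigma.ι A i a = w := (sigmaOpenCover A).exists_eq w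
    obtain ⟨U, hU, ha, -⟩ := exists_isAffineOpen_mem_and_subset (X := A i) (x := a) (U := ⊤) trivial
    exact ⟨⟨i, U, hU⟩, a, ha, rfl⟩
  have hopen : ∀ j : J, IsOpen ((fun a => c.left (Sigma.ι A j.1 a)) '' (j.2.1 : Set _)) := fun j =>
    ((c.left.isOpenMap.comp (Sigma.ι A j.1).isOpenEmbedding.isOpenMap) : IsOpenMap (c.left ∘ Sigma.ι A j.1)) _ j.2.1.2
  obtain ⟨t, ht⟩ := isCompact_univ.elim_finite_subcover _ hopen fun z _ => Set.mem_iUnion.mpr (hcov z)
  let e := t.equivFin.symm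
  refine ⟨t.card, fun k => Over.mk ((e k).1.2.1.ι ≫ fA (e k).1.1),
    fun k => Over.homMk ((e k).1.2.1.ι ≫ Sigma.ι A (e k).1.1) (by
      show (_ ≫ Sigma.ι A _) ≫ (Over.mk (Sigma.desc fA)).hom = _
      simp) ≫ c, fun k => (e k).1.2.2, fun k => ?_, fun z => ?_, fun k => ?_⟩
  · exact MorphismProperty.comp_mem @Flat ((e k).1.2.1.ι ≫ Sigma.ι A (e k).1.1) c.left inferInstance ‹_›
  · obtain ⟨j, hj⟩ := Set.mem_iUnion.mp (ht (Set.mem_univ z))
    obtain ⟨hjt, a, ha, rfl⟩ := Set.mem_iUnion.mp hj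
    obtain ⟨k, hk⟩ : ∃ k, e k = ⟨j, hjt⟩ := e.surjective _
    have key : ∀ (jj : t), jj = ⟨j, hjt⟩ →
        ∃ b : ↥jj.1.2.1, c.left (Sigma.ι A jj.1.1 b.1) = c.left (Sigma.ι A j.1 a) := by
      rintro _ rfl; exact ⟨⟨a, ha⟩, rfl⟩
    obtain ⟨b, hb⟩ := key _ hk
    exact ⟨k, b, hb⟩
  · obtain ⟨l, hl⟩ := hl (e k).1.1
    refine ⟨(e k).1.1, (yon S).map (show Over.mk ((e k).1.2.1.ι ≫ fA (e k).1.1) ⟶ Over.mk (fA (e k).1.1) from
      Over.homMk (e k).1.2.1.ι rfl) ≫ l, ?_⟩
    rw [Category.assoc, hl, ← Category.assoc, ← Functor.map_comp]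
    congr 2

/-- a chart is an fpqc covering -/
theorem isFpqcCover_chart {Y : Sp S} (hY : IsAlgSpace Y) {V : Over S} {p : (yon S).obj V ⟶ Y}
    (hp : RepWith @Etale p) (hps : RepWith @Surjective p) :
    IsFpqcCover (fun _ : PUnit.{u + 1} => (yon S).obj V) (fun _ => p) :=
  isFpqcCover_of_fppf hY (fun _ => IsAlgSpace.yon_obj V)
    ⟨fun _ => ⟨(locP_iff_repWith etST_flat hY hp.1).2 (repWith_mono (fun _ _ r hr => by
        have : Etale r := hr
        infer_instance) hp),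
      (locP_iff_repWith etST_lfp hY hp.1).2 (repWith_mono (fun _ _ r hr => by
        have : Etale r := hr
        infer_instance) hp)⟩,
      fun x => ⟨PUnit.unit, isSurjectiveMor_of_repWith hps x⟩⟩

/-- an algebraic space has an fpqc covering by affine schemes etale over it -/
theorem exists_affine_cover {Y : Sp S} (hY : IsAlgSpace Y) :
    ∃ (ι : Type u) (Z : ι → Over S) (g : ∀ i, (yon S).obj (Z i) ⟶ Y),
      (∀ i, IsAffine (Z i).left) ∧ (∀ i, RepWith @Etale (g i)) ∧ IsFpqcCover (fun i => (yon S).obj (Z i)) g := by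
  obtain ⟨U, p, ι, Z, he, hs, hZ, -, hcov⟩ := exists_affine_chart_family hY
  let W : ι → Over S := fun i => Over.mk ((Z i).ι ≫ U.hom)
  let j : ∀ i, W i ⟶ U := fun i => Over.homMk (Z i).ι rfl
  have he' : ∀ i, RepWith @Etale ((yon S).map (j i) ≫ p) := fun i =>
    repWith_comp ((repWith_yon_iff _).2 (inferInstanceAs (Etale (Z i).ι))) he
  refine ⟨ι, W, fun i => (yon S).map (j i) ≫ p, hZ, he', ?_⟩
  refine isFpqcCover_of_fppf hY (fun _ => IsAlgSpace.yon_obj _) ⟨fun i =>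
    ⟨(locP_iff_repWith etST_flat hY (he' i).1).2 (repWith_mono (fun _ _ r hr => by
        have : Etale r := hr
        infer_instance) (he' i)),
      (locP_iff_repWith etST_lfp hY (he' i).1).2 (repWith_mono (fun _ _ r hr => by
        have : Etale r := hr
        infer_instance) (he' i))⟩, fun x => ?_⟩
  obtain ⟨u, rfl⟩ := ofPt_surjective hs x
  obtain ⟨i, hi⟩ := hcov u
  exact ⟨i, Points.ofScheme (W i) ⟨u, hi⟩, by rw [Points.map_ofPt, Category.id_comp, ofPt_comp]; rfl⟩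

/-- a base-local property is tested on affine schemes over the base -/
theorem of_forall_affine {P : MorphismProperty (Sp S)} (hP : IsLocalOnBase (IsFpqcCover (S := S)) P)
    {X Y : Sp S} (hX : IsAlgSpace X) (hY : IsAlgSpace Y) (f : X ⟶ Y)
    (h : ∀ (Z : Over S), IsAffine Z.left → ∀ (g : (yon S).obj Z ⟶ Y) (W : Sp S) (fst : W ⟶ X)
      (snd : W ⟶ (yon S).obj Z), IsPullback fst snd f g → P snd) : P f := by
  obtain ⟨ι, Z, g, hZ, -, hg⟩ := exists_affine_cover hY
  have sq := fun i => IsPullback.of_hasPullback f (g i)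
  exact (hP _ g hY (fun _ => IsAlgSpace.yon_obj _) hg f hX _ _ _
    (fun i => isAlgSpace_of_isPullback_space hY hX (IsAlgSpace.yon_obj _) (sq i)) sq).2
      fun i => h _ (hZ i) (g i) _ _ _ (sq i)

/-- a base-local property is tested on a chart of the base -/
theorem of_chart {P : MorphismProperty (Sp S)} (hP : IsLocalOnBase (IsFpqcCover (S := S)) P)
    {X Y : Sp S} (hX : IsAlgSpace X) (hY : IsAlgSpace Y) (f : X ⟶ Y) {V : Over S} {p : (yon S).obj V ⟶ Y}
    (hp : RepWith @Etale p) (hps : RepWith @Surjective p) {W : Sp S} {fst : W ⟶ X}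
    {snd : W ⟶ (yon S).obj V} (sq : IsPullback fst snd f p) (h : P snd) : P f :=
  (hP _ _ hY (fun _ => IsAlgSpace.yon_obj _) (isFpqcCover_chart hY hp hps) f hX _ _ _
    (fun _ => isAlgSpace_of_isPullback_space hY hX (IsAlgSpace.yon_obj _) sq) (fun _ => sq)).2 fun _ => h

/-- base change of diagonals -/
theorem exists_isPullback_diagonal {X Y X' Y' : Sp S} {f : X ⟶ Y} {g : Y' ⟶ Y} {q : X' ⟶ X} {p : X' ⟶ Y'}
    (sq : IsPullback q p f g) :
    ∃ b : pullback p p ⟶ pullback f f, IsPullback q (pullback.diagonal p) (pullback.diagonal f) b := by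
  let b : pullback p p ⟶ pullback f f := pullback.map _ _ _ _ q q g sq.w.symm sq.w.symm
  have h₁ := (IsPullback.of_hasPullback p p).flip.paste_horiz sq
  have h₂ : IsPullback b (pullback.fst p p) (pullback.fst f f) q := by
    refine IsPullback.of_right ?_ (pullback.lift_fst _ _ _) (IsPullback.of_hasPullback f f).flip
    rw [sq.w]
    convert h₁ using 1
    exact pullback.lift_snd _ _ _
  refine ⟨b, IsPullback.of_bot ?_ ?_ (h₂.paste_vert sq)⟩
  · simpa only [pullback.diagonal_fst_assoc] using sq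
  · apply pullback.hom_ext <;> simp [b]

theorem isSeparatedMor_baseChange {X Y X' Y' : Sp S} {f : X ⟶ Y} {g : Y' ⟶ Y} {q : X' ⟶ X} {p : X' ⟶ Y'}
    (sq : IsPullback q p f g) (h : IsSeparatedMor f) : IsSeparatedMor p := by
  obtain ⟨b, hb⟩ := exists_isPullback_diagonal sq
  exact repWith_baseChange hb h

theorem isQuasiSeparatedMor_baseChange {X Y X' Y' : Sp S} {f : X ⟶ Y} {g : Y' ⟶ Y} {q : X' ⟶ X} {p : X' ⟶ Y'}
    (sq : IsPullback q p f g) (h : IsQuasiSeparatedMor f) : IsQuasiSeparatedMor p := by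
  obtain ⟨b, hb⟩ := exists_isPullback_diagonal sq
  exact repWith_baseChange hb h

/-- universal properties are tested on affine schemes -/
theorem univSp_of_affine (P : MorphismProperty (Sp S))
    (h : ∀ ⦃ι : Type u⦄ ⦃Z Z' : Sp S⦄ (Zi Z'i : ι → Sp S) (b : ∀ i, Zi i ⟶ Z) (s : Z' ⟶ Z)
      (si : ∀ i, Z'i i ⟶ Zi i) (qi : ∀ i, Z'i i ⟶ Z'), IsFpqcCover Zi b →
      (∀ i, IsPullback (qi i) (si i) s (b i)) → (∀ i, P (si i)) → P s)
    {X Y : Sp S} (f : X ⟶ Y)
    (hf : ∀ (Z : Over S), IsAffine Z.left → ∀ (g : (yon S).obj Z ⟶ Y) (W : Sp S) (fst : W ⟶ X)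
      (snd : W ⟶ (yon S).obj Z), IsPullback fst snd f g → P snd) : UnivSp P f := by
  intro W W' hW a fst snd sqW
  obtain ⟨ι, Z, g, hZ, -, hg⟩ := exists_affine_cover hW
  exact h _ _ g snd _ _ hg (fun i => IsPullback.of_hasPullback snd (g i)) fun i =>
    hf (Z i) (hZ i) (g i ≫ a) _ _ _ ((IsPullback.of_hasPullback snd (g i)).paste_horiz sqW)

/-- quasi-compactness is tested on affine schemes -/
theorem isQuasiCompactMor_of_affine {X Y : Sp S} (hX : IsAlgSpace X) (hY : IsAlgSpace Y) (f : X ⟶ Y)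
    (hf : ∀ (Z : Over S), IsAffine Z.left → ∀ (g : (yon S).obj Z ⟶ Y) (W : Sp S) (fst : W ⟶ X)
      (snd : W ⟶ (yon S).obj Z), IsPullback fst snd f g → IsQuasiCompactSp W) : IsQuasiCompactMor f := by
  intro W W' hW hWq a fst snd sqW
  have := compactSpace_of_isQuasiCompactSp hWq
  obtain ⟨U, π, hU, -, hπs⟩ := exists_affine_chart_of_compact hW
  have sq := IsPullback.of_hasPullback snd π
  exact isQuasiCompactSp_of_isSurjectiveMor (isAlgSpace_of_isPullback_space hY hX hW sqW) _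
    (isSurjectiveMor_baseChange sq.flip (isSurjectiveMor_of_repWith hπs))
    (hf U hU (π ≫ a) _ _ _ (sq.paste_horiz sqW))

lemma isQuasiCompactSp_yon (Z : Over S) [CompactSpace ↥Z.left] : IsQuasiCompactSp ((yon S).obj Z) :=
  have : CompactSpace (Points ((yon S).obj Z)) := (Points.schemeHomeo _).compactSpace
  isQuasiCompactSp_of_compactSpace (IsAlgSpace.yon_obj _)

/-- quasi-compact flat surjective morphisms are fpqc coverings -/
theorem isFpqcCover_of_flat_qc_surjective {X Y : Sp S} (hX : IsAlgSpace X) (hY : IsAlgSpace Y) (f : X ⟶ Y)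
    (hfl : LocP @Flat f) (hqc : IsQuasiCompactMor f) (hs : IsSurjectiveMor f) :
    IsFpqcCover (fun _ : PUnit.{u + 1} => X) (fun _ => f) := by
  refine ⟨fun _ => hfl, fun Z hZ ξ => ?_⟩
  have sq := IsPullback.of_hasPullback f ξ
  have hP := isAlgSpace_of_isPullback_space hY hX (IsAlgSpace.yon_obj Z) sq
  have := compactSpace_of_isQuasiCompactSp
    (hqc (IsAlgSpace.yon_obj Z) (isQuasiCompactSp_yon Z) ξ _ _ sq)
  obtain ⟨U, π, hU, hπe, hπs⟩ := exists_affine_chart_of_compact hP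
  obtain ⟨c, hc⟩ := exists_map_eq (π ≫ pullback.snd f ξ)
  refine ⟨1, fun _ => U, fun _ => c, fun _ => hU, fun _ => locP_baseChange etST_flat hX hY hP (IsAlgSpace.yon_obj Z) sq hfl
    π (𝟙 _) c hπe repWith_id' (by rw [Category.comp_id, hc]), fun z => ?_, fun _ => ⟨PUnit.unit, π ≫ pullback.fst f ξ, ?_⟩⟩
  · obtain ⟨x, hx⟩ := isSurjectiveMor_baseChange sq hs (Points.ofScheme Z z)
    obtain ⟨v, rfl⟩ := ofPt_surjective hπs x
    refine ⟨0, v, ?_⟩
    rw [Points.map_ofPt, ← hc, ofScheme_map] at hx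
    exact (Points.schemeEquiv Z).injective hx
  · rw [hc, Category.assoc, Category.assoc, sq.w]

/-- quasi-compact flat surjective morphisms are submersive -/
theorem isSubmersiveMor_of_flat_qc_surjective {X Y : Sp S} (hX : IsAlgSpace X) (hY : IsAlgSpace Y) (f : X ⟶ Y)
    (hfl : LocP @Flat f) (hqc : IsQuasiCompactMor f) (hs : IsSurjectiveMor f) : IsSubmersiveMor f := by
  have hg := isFpqcCover_of_flat_qc_surjective hX hY f hfl hqc hs
  refine isQuotientMap_iff_isClosed.2 ⟨hs, fun E => ⟨fun hE => hE.preimage (Points.continuous_map _), fun hE => ?_⟩⟩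
  rw [← isOpen_compl_iff]
  exact isOpen_of_fpqcCover hg fun _ => hE.isOpen_compl

end Groth.Agent.AlgSpLib
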