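import Groth.Agent.Bootstrap.Cover
import Groth.Agent.LqfRep.Main
import Groth.Agent.AlgSpLib.FpqcList
import Groth.Agent.AlgSpLib.FpqcLocP
import Groth.Agent.S10505

/-!
# Representability by spaces descends along fppf maps
-/

set_option autoImplicit false

universe u

open CategoryTheory CategoryTheory.Limits AlgebraicGeometry

set_option backward.isDefEq.respectTransparency false

namespace Groth.Agent.AlgSpLib.BootDescent

open _root_.AlgSp Groth.Agent.Bootstrap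

variable {S : Scheme.{u}}

theorem isFppfRep_baseChange {X F X' F' : Sp S} {p : X ⟶ F} {fst : X' ⟶ X} {p' : X' ⟶ F'} {u : F' ⟶ F}
    (sq : IsPullback fst p' p u) (hp : IsFppfRep p) : IsFppfRep p' :=
  fun T ξ Q f s sq' => hp (ξ ≫ u) (f ≫ fst) s (sq'.paste_horiz sq)

theorem repBySp_baseChange {X F X' F' : Sp S} {p : X ⟶ F} {fst : X' ⟶ X} {p' : X' ⟶ F'} {u : F' ⟶ F}
    (sq : IsPullback fst p' p u) (hp : RepBySp p.hom) : RepBySp p'.hom :=
  (repBySp_hom_iff p').2 fun T ξ Q f s sq' => (repBySp_hom_iff p).1 hp (ξ ≫ u) (f ≫ fst) s (sq'.paste_horiz sq)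

theorem repBySp_of_precomp_fppf {F G H : Sp S} (a : F ⟶ G) (b : G ⟶ H) (ha : IsFppfRep a)
    (hab : RepBySp (a ≫ b).hom) : RepBySp b.hom := by
  refine (repBySp_hom_iff b).2 fun T ξ Q fst snd sq => ?_
  have sq2 := IsPullback.of_hasPullback a fst
  have hQ2 := (repBySp_hom_iff (a ≫ b)).1 hab ξ _ _ (sq2.paste_vert sq)
  exact (isFppfRep_baseChange sq2 ha).isAlgSpace hQ2

theorem exists_scheme_fibre {E F G H : Sp S} (a : E ⟶ F) (f : E ⟶ H) (g : F ⟶ G) (b : H ⟶ G)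
    (sq : IsPullback a f g b)
    (hg : RepBySpWith (IsSurjectiveMor ⊓ LocP @Flat ⊓ LocP @LocallyOfFinitePresentation) g.hom)
    (ha : RepBySpWith (IsSeparatedMor ⊓ LocP (@LocallyQuasiFinite ⊓ @LocallyOfFiniteType)) a.hom)
    {T : Over S} (ξ : (yon S).obj T ⟶ G) {Q : Sp S} {fstQ : Q ⟶ H} {sndQ : Q ⟶ (yon S).obj T}
    (sq0 : IsPullback fstQ sndQ b ξ) :
    ∃ (V : Over S) (φ : Q ≅ (yon S).obj V) (v : V ⟶ T), φ.inv ≫ sndQ = (yon S).map v ∧
      IsSeparated v.left ∧ LocallyQuasiFinite v.left ∧ LocallyOfFiniteType v.left := by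
  have sqP := IsPullback.of_hasPullback g ξ
  obtain ⟨hP, ⟨hsurj, hflat⟩, hlfp⟩ := (repBySpWith_hom_iff _ g).1 hg ξ _ _ sqP
  have sqW := IsPullback.of_hasPullback (pullback.snd g ξ) sndQ
  let W := pullback (pullback.snd g ξ) sndQ
  let w1 : W ⟶ pullback g ξ := pullback.fst _ _
  let w2 : W ⟶ Q := pullback.snd _ _
  have sqB : IsPullback (w2 ≫ fstQ) w1 b (pullback.fst g ξ ≫ g) := by
    rw [pullback.condition]
    exact sqW.flip.paste_horiz sq0
  let e : W ⟶ E := sq.lift (w1 ≫ pullback.fst g ξ) (w2 ≫ fstQ) (by rw [Category.assoc]; exact sqB.w.symm)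
  have he1 : e ≫ a = w1 ≫ pullback.fst g ξ := sq.lift_fst _ _ _
  have he2 : e ≫ f = w2 ≫ fstQ := sq.lift_snd _ _ _
  have sqE : IsPullback e w1 a (pullback.fst g ξ) := IsPullback.of_right (by rw [he2]; exact sqB) he1 sq.flip
  have hrep : RepBySp w1.hom := repBySp_baseChange sqE ((repBySp_hom_iff a).2 fun T' ξ' Q' f' s' sq' =>
    ((repBySpWith_hom_iff _ a).1 ha ξ' f' s' sq').1)
  have hW : IsAlgSpace W := isAlgSpace_of_repBySp hrep hP
  have hgF : IsFppfRep g := isFppfRep_of_repBySpWith g hg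
  have hQ : IsAlgSpace Q :=
    (isFppfRep_baseChange (sqW.paste_horiz sqP |> fun s => (s : IsPullback _ w2 g (sndQ ≫ ξ))) hgF).isAlgSpace hW
  obtain ⟨U, u, hue, hus⟩ := hP.atlas
  have sqU := IsPullback.of_hasPullback w1 u
  obtain ⟨hWU, hsep, hqf⟩ := (repBySpWith_hom_iff _ a).1 ha (u ≫ pullback.fst g ξ) _ _ (sqU.paste_horiz sqE)
  have sqT : IsPullback (pullback.fst w1 u ≫ w2) (pullback.snd w1 u) sndQ (u ≫ pullback.snd g ξ) :=
    sqU.paste_horiz sqW.flip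
  have hue' : ∀ (P : MorphismProperty Scheme.{u}) (hP' : EtST P), (∀ ⦃A B : Scheme.{u}⦄ (r : A ⟶ B), Etale r → P r) →
      LocP P (pullback.snd g ξ) → LocP P (u ≫ pullback.snd g ξ) := fun P hP' hm h2 => by
    have := hP'.baseChange
    exact locP_comp hP' hP (IsAlgSpace.yon_obj T) ((locP_iff_repWith hP' hP hue.1).2 (repWith_mono hm hue)) h2
  have hcov : IsFppfCover (fun _ : PUnit.{u + 1} => (yon S).obj U) (fun _ => u ≫ pullback.snd g ξ) := by
    refine ⟨fun _ => ⟨hue' _ etST_flat (fun _ _ r hr => inferInstance) hflat,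
      hue' _ etST_lfp (fun _ _ r hr => inferInstance) hlfp⟩, fun x => ?_⟩
    obtain ⟨y, rfl⟩ := hsurj x
    obtain ⟨z, rfl⟩ := isSurjectiveMor_of_repWith hus y
    exact ⟨PUnit.unit, z, Points.map_comp _ _ _⟩
  have hfpqc := S10505.result ((ofScheme S).obj T) (fun _ : PUnit.{u + 1} => (ofScheme S).obj U)
    (fun _ => ObjectProperty.homMk (u ≫ pullback.snd g ξ)) hcov
  have h1 : IsSeparatedMor sndQ :=
    (isLocalOnBase_isSeparatedMor (fun _ : PUnit.{u + 1} => (yon S).obj U) (fun _ => u ≫ pullback.snd g ξ)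
      (IsAlgSpace.yon_obj T) (fun _ => IsAlgSpace.yon_obj U) hfpqc sndQ hQ _ (fun _ => pullback.snd w1 u)
      (fun _ => pullback.fst w1 u ≫ w2) (fun _ => hWU) (fun _ => sqT)).2 fun _ => hsep
  have h2 : LocP (@LocallyQuasiFinite ⊓ @LocallyOfFiniteType) sndQ :=
    (isLocalOnBase_locP etST_lqf (fun _ : PUnit.{u + 1} => (yon S).obj U) (fun _ => u ≫ pullback.snd g ξ)
      (IsAlgSpace.yon_obj T) (fun _ => IsAlgSpace.yon_obj U) hfpqc sndQ hQ _ (fun _ => pullback.snd w1 u)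
      (fun _ => pullback.fst w1 u ≫ w2) (fun _ => hWU) (fun _ => sqT)).2 fun _ => hqf
  obtain ⟨V, ⟨φ⟩⟩ := LqfRep.exists_iso_yon_of_lqf_separated hQ sndQ h2 h1
  obtain ⟨v, hv⟩ := exists_map_eq (φ.inv ≫ sndQ)
  have h3 := h2 φ.inv (𝟙 _) v (repWith_of_isIso _) repWith_id' (by rw [Category.comp_id, hv])
  have : IsSeparatedMor ((yon S).map v) := by
    rw [hv]
    exact isSeparatedMor_baseChange
      (IsPullback.of_horiz_isIso ⟨(Category.comp_id (φ.inv ≫ sndQ)).symm⟩ :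
        IsPullback φ.inv (φ.inv ≫ sndQ) sndQ (𝟙 _)) h1
  exact ⟨V, φ, v, hv.symm, (isSeparatedMor_yon_map_iff v).1 this, h3.1, h3.2⟩

theorem repWith_of_fppf {E F G H : Sp S} (a : E ⟶ F) (f : E ⟶ H) (g : F ⟶ G) (b : H ⟶ G)
    (sq : IsPullback a f g b)
    (hg : RepBySpWith (IsSurjectiveMor ⊓ LocP @Flat ⊓ LocP @LocallyOfFinitePresentation) g.hom)
    (ha : RepBySpWith (IsSeparatedMor ⊓ LocP (@LocallyQuasiFinite ⊓ @LocallyOfFiniteType)) a.hom) :
    RepWith @IsSeparated b ∧ RepWith (@LocallyQuasiFinite ⊓ @LocallyOfFiniteType) b := by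
  constructor <;> refine repWith_of_exists fun T ξ => ?_
  all_goals
    have sq0 := IsPullback.of_hasPullback b ξ
    obtain ⟨V, φ, v, hv, h1, h2, h3⟩ := exists_scheme_fibre a f g b sq hg ha ξ sq0
    refine ⟨V, φ.inv ≫ pullback.fst b ξ, v, sq0.of_iso φ (Iso.refl _) (Iso.refl _) (Iso.refl _)
      (by simp) (by simp [← hv]) (by simp) (by simp), ?_⟩
  · exact h1
  · exact ⟨h2, h3⟩

end Groth.Agent.AlgSpLib.BootDescent
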