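import Groth.Agent.AlgSpLib.Diag
import Groth.Prelude.Def_AlgSp4
import Mathlib.AlgebraicGeometry.Morphisms.Separated
import Mathlib.AlgebraicGeometry.Pullbacks
import Mathlib.RingTheory.TensorProduct.Maps

/-!
# Separated and quasi-separated algebraic spaces: fibre products of affine schemes
-/

set_option autoImplicit false
set_option linter.style.haveILetI false

universe u

open CategoryTheory CategoryTheory.Limits AlgebraicGeometry Opposite
open scoped TensorProduct

set_option backward.isDefEq.respectTransparency false

namespace Groth.Agent.AlgSpLib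

open _root_.AlgSp

/-- for affine `U`, `V`, `W`: the pair `(u, v)` is a closed immersion into the absolute product iff the
ring map from the tensor product is surjective -/
theorem isClosedImmersion_lift_iff {U V W : Scheme.{u}} [IsAffine U] [IsAffine V] [IsAffine W]
    (u : W ⟶ U) (v : W ⟶ V) :
    IsClosedImmersion (pullback.lift u v (terminal.hom_ext _ _) :
      W ⟶ pullback (terminal.from U) (terminal.from V)) ↔
      Function.Surjective
        (Algebra.TensorProduct.productMap u.appTop.hom.toIntAlgHom v.appTop.hom.toIntAlgHom) := by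
  let A := Γ(U, ⊤)
  let B := Γ(V, ⊤)
  let l : W ⟶ pullback (terminal.from U) (terminal.from V) := pullback.lift u v (terminal.hom_ext _ _)
  have hA : IsAffine (pullback (terminal.from U) (terminal.from V)) := inferInstance
  let φ := Algebra.TensorProduct.productMap u.appTop.hom.toIntAlgHom v.appTop.hom.toIntAlgHom
  have key : ∀ t : (A : Type u) ⊗[ℤ] (B : Type u), φ t ∈ l.appTop.hom.range := by
    intro t
    induction t using TensorProduct.induction_on with
    | zero => rw [map_zero]; exact zero_mem _
    | tmul a b =>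
      show φ (a ⊗ₜ b) ∈ _
      rw [Algebra.TensorProduct.productMap_apply_tmul]
      refine mul_mem ⟨(pullback.fst (terminal.from U) (terminal.from V)).appTop a, ?_⟩
        ⟨(pullback.snd (terminal.from U) (terminal.from V)).appTop b, ?_⟩
      · show (l ≫ pullback.fst _ _).appTop a = _
        rw [pullback.lift_fst]; rfl
      · show (l ≫ pullback.snd _ _).appTop b = _
        rw [pullback.lift_snd]; rfl
    | add x y hx hy => rw [map_add]; exact add_mem hx hy
  constructor
  · intro h w
    have := h
    let C := CommRingCat.of φ.range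
    let ι : C ⟶ Γ(W, ⊤) := CommRingCat.ofHom φ.range.val.toRingHom
    let uC : Γ(U, ⊤) ⟶ C := CommRingCat.ofHom (u.appTop.hom.codRestrict φ.range fun a => ⟨a ⊗ₜ 1, by
      show φ (a ⊗ₜ 1) = _
      rw [Algebra.TensorProduct.productMap_apply_tmul, map_one, mul_one]; rfl⟩)
    let vC : Γ(V, ⊤) ⟶ C := CommRingCat.ofHom (v.appTop.hom.codRestrict φ.range fun b => ⟨1 ⊗ₜ b, by
      show φ (1 ⊗ₜ b) = _
      rw [Algebra.TensorProduct.productMap_apply_tmul, map_one, one_mul]; rfl⟩)
    have hu : uC ≫ ι = u.appTop := rfl
    have hv : vC ≫ ι = v.appTop := rfl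
    let j : W ⟶ Spec C := W.toSpecΓ ≫ Spec.map ι
    let l' : Spec C ⟶ pullback (terminal.from U) (terminal.from V) :=
      pullback.lift (Spec.map uC ≫ inv U.toSpecΓ) (Spec.map vC ≫ inv V.toSpecΓ) (terminal.hom_ext _ _)
    have hl : j ≫ l' = l := by
      apply pullback.hom_ext
      · simp only [j, l', l, Category.assoc, pullback.lift_fst]
        rw [← Spec.map_comp_assoc, hu, ← Scheme.toSpecΓ_naturality_assoc, IsIso.hom_inv_id, Category.comp_id]
      · simp only [j, l', l, Category.assoc, pullback.lift_snd]
        rw [← Spec.map_comp_assoc, hv, ← Scheme.toSpecΓ_naturality_assoc, IsIso.hom_inv_id, Category.comp_id]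
    have : IsClosedImmersion l := h
    obtain ⟨a, ha⟩ := l.app_surjective ⊤ (isAffineOpen_top _) w
    change l.appTop a = w at ha
    rw [← hl, Scheme.Hom.comp_appTop] at ha
    have hj : j.appTop = (Scheme.ΓSpecIso C).hom ≫ ι := by
      simp only [j, Scheme.Hom.comp_appTop, Scheme.toSpecΓ_appTop]
      exact Scheme.ΓSpecIso_naturality ι
    rw [hj] at ha
    exact ((Scheme.ΓSpecIso C).hom (l'.appTop a)).2.imp fun t ht => ht.trans ha
  · intro h
    refine IsClosedImmersion.of_surjective_of_isAffine _ fun w => ?_
    obtain ⟨t, rfl⟩ := h w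
    exact key t

variable {S : Scheme.{u}}

/-- the map from the product over `S` to the absolute product -/
noncomputable def magic (U V : Over S) :
    (U ⨯ V).left ⟶ pullback (terminal.from U.left) (terminal.from V.left) :=
  pullback.lift (prod.fst : U ⨯ V ⟶ U).left (prod.snd : U ⨯ V ⟶ V).left (terminal.hom_ext _ _)

lemma lift_magic {U V W : Over S} (u : W ⟶ U) (v : W ⟶ V) :
    (prod.lift u v).left ≫ magic U V = pullback.lift u.left v.left (terminal.hom_ext _ _) := by
  apply pullback.hom_ext
  · simp only [magic, Category.assoc, pullback.lift_fst]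
    rw [← Over.comp_left, prod.lift_fst]
  · simp only [magic, Category.assoc, pullback.lift_snd]
    rw [← Over.comp_left, prod.lift_snd]

lemma magic_eq (U V : Over S) : magic U V = (Over.prodLeftIsoPullback U V).hom ≫
    pullback.mapDesc U.hom V.hom (terminal.from S) ≫
      (pullback.congrHom (terminal.hom_ext _ _) (terminal.hom_ext _ _)).hom := by
  apply pullback.hom_ext
  · simp [magic, pullback.mapDesc]
  · simp [magic, pullback.mapDesc]

instance isImmersion_magic (U V : Over S) : IsImmersion (magic U V) := by
  rw [magic_eq]; infer_instance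

instance isSeparated_prod_affine (U V : Over S) [IsAffine U.left] [IsAffine V.left] :
    (U ⨯ V).left.IsSeparated :=
  ⟨by
    have : IsSeparated (magic U V ≫ terminal.from _) := inferInstance
    rwa [show magic U V ≫ terminal.from _ = terminal.from _ from terminal.hom_ext _ _] at this⟩

instance isClosedImmersion_magic [S.IsSeparated] (U V : Over S) : IsClosedImmersion (magic U V) := by
  rw [magic_eq]; infer_instance

instance quasiCompact_magic [QuasiSeparatedSpace ↥S] (U V : Over S) : QuasiCompact (magic U V) := by
  have : QuasiSeparated (terminal.from S) := (quasiSeparatedSpace_iff_quasiSeparated S).1 ‹_›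
  have : QuasiCompact (pullback.mapDesc U.hom V.hom (terminal.from S)) :=
    MorphismProperty.of_isPullback (pullback_map_diagonal_isPullback U.hom V.hom (terminal.from S)) inferInstance
  rw [magic_eq]; infer_instance

theorem repWith_iso_transfer {Q : MorphismProperty Scheme.{u}} [Q.IsStableUnderBaseChange] {A A' B C D : Sp S}
    {f₁ : A ⟶ C} {g₁ : A ⟶ B} {f₂ : A' ⟶ C} {g₂ : A' ⟶ B} {h : C ⟶ D} {k : B ⟶ D}
    (s₁ : IsPullback f₁ g₁ h k) (s₂ : IsPullback f₂ g₂ h k) (hg : RepWith Q g₁) : RepWith Q g₂ := by
  rw [← s₁.isoIsPullback_inv_snd _ _ s₂]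
  exact (repWith_iso_comp_iff (P := Q) _ _).2 hg

/-- the diagonal has a property as soon as affine schemes mapping to the space have it -/
theorem repWith_diag_of_affine (P : MorphismProperty Scheme.{u}) [IsZariskiLocalAtTarget P]
    [P.IsStableUnderBaseChange] {X : Sp S} (hΔ : Representable (Limits.diag X))
    (h : ∀ (T : Over S), IsAffine T.left → ∀ (a b : (yon S).obj T ⟶ X) (W : Over S) (p q : W ⟶ T),
      IsPullback ((yon S).map p) ((yon S).map q) a b → P (prod.lift p q).left) :
    RepWith P (Limits.diag X) := by
  refine repWith_of_exists fun T ξ => ?_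
  obtain ⟨E, fst, snd, sq⟩ := exists_isPullback_of_representable hΔ ξ
  refine ⟨E, fst, snd, sq, ?_⟩
  show P snd.left
  rw [IsZariskiLocalAtTarget.iff_of_openCover (P := P) T.left.affineCover]
  intro i
  let Ti : Over S := Over.mk (T.left.affineCover.f i ≫ T.hom)
  let t : Ti ⟶ T := Over.homMk (T.left.affineCover.f i) rfl
  let Vi : Over S := Over.mk (pullback.fst snd.left (T.left.affineCover.f i) ≫ E.hom)
  let vE : Vi ⟶ E := Over.homMk (pullback.fst snd.left (T.left.affineCover.f i)) rfl
  let vT : Vi ⟶ Ti := Over.homMk (pullback.snd snd.left (T.left.affineCover.f i)) (by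
    show pullback.snd snd.left (T.left.affineCover.f i) ≫ T.left.affineCover.f i ≫ T.hom =
      pullback.fst snd.left (T.left.affineCover.f i) ≫ E.hom
    rw [← pullback.condition_assoc, Over.w snd])
  have sqi : IsPullback ((yon S).map vE) ((yon S).map vT) ((yon S).map snd) ((yon S).map t) :=
    isPullback_yon_iff.2 (IsPullback.of_hasPullback _ _)
  have sq' := sqi.paste_horiz sq
  show P vT.left
  obtain ⟨W, p, q, sqW⟩ := exists_pullback hΔ (((yon S).map t ≫ ξ) ≫ prod.fst) (((yon S).map t ≫ ξ) ≫ prod.snd)
  obtain ⟨E', e₁, e₂, fst', sqΔ, sqE⟩ := exists_pullback_diag sqW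
  have he₂ : P e₂.left :=
    P.of_isPullback (sqE.map (Over.forget S)) (h Ti (inferInstanceAs (IsAffine (T.left.affineCover.X i))) _ _ W p q sqW)
  exact (repWith_yon_iff vT).1 (repWith_iso_transfer sqΔ sq' ((repWith_yon_iff e₂).2 he₂))

theorem repWith_lift_of_diag {Q : MorphismProperty Scheme.{u}} [Q.IsStableUnderBaseChange] {X : Sp S}
    (hX : RepWith Q (Limits.diag X)) {U V W : Over S} {a : (yon S).obj U ⟶ X} {b : (yon S).obj V ⟶ X}
    {p : W ⟶ U} {q : W ⟶ V} (sq : IsPullback ((yon S).map p) ((yon S).map q) a b) :
    RepWith Q ((yon S).map (prod.lift p q)) := by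
  have h := repWith_baseChange (isPullback_lift_diag sq) hX
  have e : prod.lift ((yon S).map p) ((yon S).map q) =
      (yon S).map (prod.lift p q) ≫ prodComparison (yon S) U V := by
    apply prod.hom_ext <;> simp [prodComparison, ← Functor.map_comp]
  rw [e] at h
  exact (repWith_comp_iso_iff (P := Q) _ _).1 h

theorem isSeparatedSp_of_affine {X : Sp S} (hX : IsAlgSpace X)
    (h : ∀ (U V P : Over S) (a : (yon S).obj U ⟶ X) (b : (yon S).obj V ⟶ X) (fst : P ⟶ U) (snd : P ⟶ V),
      IsAffine U.left → IsAffine V.left → IsPullback ((yon S).map fst) ((yon S).map snd) a b →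
        IsAffine P.left ∧ Function.Surjective
          (Algebra.TensorProduct.productMap fst.left.appTop.hom.toIntAlgHom snd.left.appTop.hom.toIntAlgHom)) :
    IsSeparatedSp X := by
  refine repWith_diag_of_affine _ hX.diag fun T _ a b W p q sq => ?_
  obtain ⟨_, hs⟩ := h T T W a b p q ‹_› ‹_› sq
  have : IsClosedImmersion ((prod.lift p q).left ≫ magic T T) := by
    rw [lift_magic]; exact (isClosedImmersion_lift_iff p.left q.left).2 hs
  exact IsClosedImmersion.of_comp (prod.lift p q).left (magic T T)

theorem isQuasiSeparatedSp_of_affine {X : Sp S} (hX : IsAlgSpace X)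
    (h : ∀ (U V P : Over S) (a : (yon S).obj U ⟶ X) (b : (yon S).obj V ⟶ X) (fst : P ⟶ U) (snd : P ⟶ V),
      IsAffine U.left → IsAffine V.left → IsPullback ((yon S).map fst) ((yon S).map snd) a b →
        CompactSpace ↥P.left) :
    IsQuasiSeparatedSp X := by
  refine repWith_diag_of_affine _ hX.diag fun T _ a b W p q sq => ?_
  have := h T T W a b p q ‹_› ‹_› sq
  have : QuasiCompact ((prod.lift p q).left ≫ terminal.from (T ⨯ T).left) :=
    (compactSpace_iff_quasiCompact W.left).1 this |> fun hq => by rwa [terminal.hom_ext (_ ≫ _) (terminal.from _)]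
  exact QuasiCompact.of_comp (prod.lift p q).left (terminal.from _)

/-- fibre products of affine schemes over a separated space with separated base -/
theorem affine_pullback_of_isSeparatedSp [S.IsSeparated] {X : Sp S} (hX : IsSeparatedSp X)
    {U V P : Over S} [IsAffine U.left] [IsAffine V.left] {a : (yon S).obj U ⟶ X} {b : (yon S).obj V ⟶ X}
    {fst : P ⟶ U} {snd : P ⟶ V} (sq : IsPullback ((yon S).map fst) ((yon S).map snd) a b) :
    IsAffine P.left ∧ Function.Surjective
      (Algebra.TensorProduct.productMap fst.left.appTop.hom.toIntAlgHom snd.left.appTop.hom.toIntAlgHom) := by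
  have : IsClosedImmersion (prod.lift fst snd).left :=
    (repWith_yon_iff _).1 (repWith_lift_of_diag hX sq)
  have : IsClosedImmersion ((prod.lift fst snd).left ≫ magic U V) := inferInstance
  rw [lift_magic] at this
  have : IsAffine P.left := isAffine_of_isAffineHom
    (pullback.lift fst.left snd.left (terminal.hom_ext _ _) :
      P.left ⟶ pullback (terminal.from U.left) (terminal.from V.left))
  exact ⟨this, (isClosedImmersion_lift_iff _ _).1 ‹_›⟩

theorem compact_pullback_of_isQuasiSeparatedSp [QuasiSeparatedSpace ↥S] {X : Sp S} (hX : IsQuasiSeparatedSp X)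
    {U V P : Over S} [CompactSpace ↥U.left] [CompactSpace ↥V.left] {a : (yon S).obj U ⟶ X} {b : (yon S).obj V ⟶ X}
    {fst : P ⟶ U} {snd : P ⟶ V} (sq : IsPullback ((yon S).map fst) ((yon S).map snd) a b) :
    CompactSpace ↥P.left := by
  have : QuasiCompact (prod.lift fst snd).left := (repWith_yon_iff _).1 (repWith_lift_of_diag hX sq)
  have : QuasiCompact (terminal.from U.left) := (compactSpace_iff_quasiCompact U.left).1 ‹_›
  have : QuasiCompact (terminal.from V.left) := (compactSpace_iff_quasiCompact V.left).1 ‹_›
  have : QuasiCompact (((prod.lift fst snd).left ≫ magic U V) ≫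
    pullback.fst (terminal.from U.left) (terminal.from V.left) ≫ terminal.from U.left) := inferInstance
  rw [terminal.hom_ext (((prod.lift fst snd).left ≫ magic U V) ≫ _) (terminal.from P.left)] at this
  exact (compactSpace_iff_quasiCompact P.left).2 this

end Groth.Agent.AlgSpLib
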