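import Groth.Agent.AlgSpLib.Subspace
import Groth.Agent.AlgSpLib.SepAffine

/-!
# Charts: subterminal sheaves, factorisation through the image, separatedness of charts
-/

set_option autoImplicit false

universe u

open CategoryTheory CategoryTheory.Limits AlgebraicGeometry Opposite

set_option backward.isDefEq.respectTransparency false

namespace Groth.Agent.AlgSpLib

open _root_.AlgSp

variable {S : Scheme.{u}}

/-- subsheaves of the terminal sheaf correspond to opens of the space of points -/
theorem existsUnique_open_of_subterminal {X : Sp S} (hX : IsAlgSpace X) (F : EtSh X (Type (u + 1)))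
    (hF : ∀ E : EtOver X, Subsingleton (F.obj.obj (op E))) :
    ∃! W : Set (Points X), IsOpen W ∧
      ∀ E : EtOver X, Nonempty (F.obj.obj (op E)) ↔ Set.range (Points.ofPt E.obj.hom) ⊆ W := by
  let W : Set (Points X) := ⋃ E ∈ {E : EtOver X | Nonempty (F.obj.obj (op E))}, Set.range (Points.ofPt E.obj.hom)
  have hW : IsOpen W := isOpen_biUnion fun E _ =>
    (isOpenMap_ofPt (repWith_universallyOpen_of_etale E.property)).isOpen_range
  refine ⟨W, ⟨hW, fun E => ⟨fun h => Set.subset_biUnion_of_mem (u := fun E : EtOver X =>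
    Set.range (Points.ofPt E.obj.hom)) h, fun hsub => ?_⟩⟩, ?_⟩
  · have key : ∀ v : ↥E.obj.left.left, ∃ (E' : EtOver X) (g : E' ⟶ E),
        Nonempty (F.obj.obj (op E')) ∧ v ∈ Set.range g.hom.left.left := by
      intro v
      obtain ⟨E', hE', v', hv'⟩ := Set.mem_iUnion₂.1 (hsub ⟨v, rfl⟩)
      obtain ⟨⟨s⟩⟩ : Nonempty (Nonempty (F.obj.obj (op E'))) := ⟨hE'⟩
      obtain ⟨P, p, q, sq⟩ := exists_pullback hX.diag E'.obj.hom E.obj.hom
      obtain ⟨w, -, hw⟩ := (ofPt_eq_iff sq v' v).1 hv'
      have hq : Etale q.left := (repWith_yon_iff q).1 (repWith_baseChange sq E'.property)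
      let P' : EtOver X := EtOver.mk ((yon S).map q ≫ E.obj.hom)
        (repWith_comp ((repWith_yon_iff q).2 hq) E.property)
      exact ⟨P', EtOver.homMk q rfl,
        ⟨F.obj.map (EtOver.homMk p sq.w : P' ⟶ E').op s⟩, ⟨w, hw⟩⟩
    choose E' g hne hv using key
    have hcov : Sieve.ofArrows (fun v : ↥E.obj.left.left => E' v) g ∈ etTop X E :=
      ofArrows_mem_etTop _ _ fun v => ⟨v, hv v⟩
    have hs := ((isSheaf_iff_isSheaf_of_type _ _).1 F.property) _ hcov
    have hn : ∀ ⦃D : EtOver X⦄ (f : D ⟶ E), Sieve.ofArrows (fun v => E' v) g f → Nonempty (F.obj.obj (op D)) := by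
      intro D f hf
      obtain ⟨Z, a, _, ⟨v⟩, -⟩ := hf
      obtain ⟨s⟩ := hne v
      exact ⟨F.obj.map a.op s⟩
    obtain ⟨t, -, -⟩ := hs (fun D f hf => (hn f hf).some) (fun Y₁ Y₂ Z g₁ g₂ f₁ f₂ h₁ h₂ _ =>
      @Subsingleton.elim _ (hF Z) _ _)
    exact ⟨t⟩
  · rintro W' ⟨hW', hW'E⟩
    refine le_antisymm (fun x hx => ?_) (Set.iUnion₂_subset fun E hE => (hW'E E).1 hE)
    obtain ⟨U, a, ha, has⟩ := hX.atlas
    obtain ⟨u, rfl⟩ := ofPt_surjective has x
    let O : U.left.Opens := ⟨Points.ofPt a ⁻¹' W', hW'.preimage (Points.continuous_ofPt a)⟩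
    let V : Over S := Over.mk (O.ι ≫ U.hom)
    let j : V ⟶ U := Over.homMk O.ι rfl
    have hj : Etale j.left := (inferInstance : Etale O.ι)
    let E : EtOver X := EtOver.mk ((yon S).map j ≫ a) (repWith_comp ((repWith_yon_iff j).2 hj) ha)
    have hE : Set.range (Points.ofPt E.obj.hom) ⊆ W' := by
      rintro _ ⟨v, rfl⟩
      show Points.ofPt ((yon S).map j ≫ a) v ∈ W'
      rw [ofPt_comp]
      exact v.2
    exact Set.mem_iUnion₂.2 ⟨E, (hW'E E).2 hE, ⟨u, hx⟩, ofPt_comp j a _⟩

/-- the presentation of the image of an etale chart -/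
theorem exists_presentation_image {X X' : Sp S} (hX : IsAlgSpace X) (hX' : IsAlgSpace X') {U : Over S}
    {a : (yon S).obj U ⟶ X} (ha : RepWith @Etale a) {j : X' ⟶ X} (hj : RepWith @IsOpenImmersion j)
    (himage : Set.range (Points.map j) = Set.range (Points.ofPt a)) :
    ∃ a' : (yon S).obj U ⟶ X', a' ≫ j = a ∧ RepWith @Etale a' ∧ RepWith @Surjective a' ∧
      ∀ (R : Over S) (s t : R ⟶ U), IsPullback ((yon S).map t) ((yon S).map s) a a →
        IsPresentation s t a' := by
  obtain ⟨a', ha'⟩ := (exists_factor_iff hX' hX j hj a).2 (by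
    rintro _ ⟨z, rfl⟩
    obtain ⟨u, rfl⟩ := (Points.schemeEquiv U).surjective z
    rw [himage]
    exact ⟨u, ((Points.map_ofPt (𝟙 _) a u).trans (by rw [Category.id_comp])).symm⟩)
  have hje : RepWith @Etale j := repWith_mono (P := @IsOpenImmersion) (Q := @Etale)
    (fun _ _ g hg => have : IsOpenImmersion g := hg; inferInstance) hj
  have he : RepWith @Etale a' := repWith_etale_of_comp hX' hX (ha'.symm ▸ ha) (isEtaleMor_of_repWith' hje)
  have : Mono j := mono_of_repWith_immersion (repWith_mono (P := @IsOpenImmersion) (Q := @IsImmersion)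
    (fun _ _ g hg => have : IsOpenImmersion g := hg; inferInstance) hj)
  have hs : RepWith @Surjective a' := repWith_surjective_of_isSurjectiveMor he.1 fun y => by
    obtain ⟨u, hu⟩ : Points.map j y ∈ Set.range (Points.ofPt a) := himage ▸ ⟨y, rfl⟩
    refine ⟨Points.ofScheme U u, ?_⟩
    rw [Points.map_ofPt, Category.id_comp]
    obtain ⟨T, b, t, rfl⟩ := exists_ofPt y
    rw [Points.map_ofPt, ← ha'] at hu
    obtain ⟨K, α, β, k, e, rfl, rfl⟩ := exists_of_ofPt_eq hu
    rw [← ofPt_comp, ← ofPt_comp]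
    congr 1
    rw [← cancel_mono j, Category.assoc, Category.assoc]
    exact e
  refine ⟨a', ha', he, hs, fun R s t sq => ?_⟩
  have hcond : (yon S).map t ≫ a' = (yon S).map s ≫ a' := by
    rw [← cancel_mono j, Category.assoc, Category.assoc, ha', sq.w]
  have sq' : IsPullback ((yon S).map t) ((yon S).map s) a' a' :=
    isPullback_of_points hcond fun T x y e => by
      have e' : x ≫ a = y ≫ a := by rw [← ha', reassoc_of% e]
      exact ⟨sq.lift _ _ e', ⟨sq.lift_fst _ _ e', sq.lift_snd _ _ e'⟩,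
        fun c hc => sq.hom_ext (hc.1.trans (sq.lift_fst _ _ e').symm) (hc.2.trans (sq.lift_snd _ _ e').symm)⟩
  exact ⟨isEtaleEqvRel_of_isPullback sq' he, he, hs, sq'⟩

/-- a chart from a separated scheme is separated -/
theorem isSeparated_chart {X : Sp S} (hX : IsAlgSpace X) {U : Over S} (a : (yon S).obj U ⟶ X)
    (ha : Representable a) [U.left.IsSeparated] :
    RepWith @IsSeparated a ∧
      ∀ (R : Over S) (s t : R ⟶ U), IsPullback ((yon S).map t) ((yon S).map s) a a → R.left.IsSeparated := by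
  have hU : IsSeparated U.hom := by
    have : IsSeparated (U.hom ≫ terminal.from S) := by
      rw [terminal.hom_ext (U.hom ≫ _) (terminal.from U.left)]; infer_instance
    exact IsSeparated.of_comp U.hom (terminal.from S)
  have key : RepWith @IsSeparated a := by
    refine ⟨ha, fun T V b fst snd sq => ?_⟩
    obtain ⟨fst, rfl⟩ := exists_map_eq fst
    have : IsSeparated (prod.lift fst snd).left :=
      (repWith_yon_iff _).1 (repWith_lift_of_diag (repWith_diag_isSeparated hX) sq)
    have : IsSeparated (prod.snd : U ⨯ T ⟶ T).left := by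
      rw [show (prod.snd : U ⨯ T ⟶ T).left =
        (Over.prodLeftIsoPullback U T).hom ≫ pullback.snd U.hom T.hom from
          (Over.prodLeftIsoPullback_hom_snd U T).symm]
      infer_instance
    show IsSeparated snd.left
    rw [← prod.lift_snd fst snd, Over.comp_left]
    infer_instance
  refine ⟨key, fun R s t sq => ?_⟩
  have : IsSeparated s.left := key.2 a _ s sq
  have : IsSeparated (s.left ≫ terminal.from U.left) := inferInstance
  rw [terminal.hom_ext (s.left ≫ _) (terminal.from R.left)] at this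
  exact ⟨this⟩

end Groth.Agent.AlgSpLib
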