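import Groth.Agent.AlgSpLib.ConstrCharts
import Groth.Agent.AlgSpLib.QCompact
import Groth.Agent.AlgSpLib.Criteria

/-!
# Images of constructible sets
-/

set_option autoImplicit false

universe u

open CategoryTheory CategoryTheory.Limits AlgebraicGeometry Opposite Topology

set_option backward.isDefEq.respectTransparency false

namespace Groth.Agent.AlgSpLib

open _root_.AlgSp

variable {S : Scheme.{u}}

theorem image_constructible {X Y : Sp S} (hX : IsAlgSpace X) (hY : IsAlgSpace Y) (f : X ⟶ Y)
    (hq : IsQuasiCompactMor f) (hfp : LocP @LocallyOfFinitePresentation f) {E : Set (Points X)}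
    (hE : ∀ (U : Over S) (φ : (yon S).obj U ⟶ X), RepWith @Etale φ → IsLocallyConstructible (Points.ofPt φ ⁻¹' E))
    {U : Over S} (φ : (yon S).obj U ⟶ Y) :
    IsLocallyConstructible (Points.ofPt φ ⁻¹' (Points.map f '' E)) := by
  refine IsLocallyConstructible.of_isOpenCover U.left.affineCover.isOpenCover_opensRange fun i => ?_
  set O := (U.left.affineCover.f i).opensRange with hO
  let UO : Over S := Over.mk (O.ι ≫ U.hom)
  let o : UO ⟶ U := Over.homMk O.ι rfl
  have : IsAffine UO.left := isAffineOpen_opensRange (U.left.affineCover.f i)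
  have : CompactSpace UO.left := inferInstance
  have sq := IsPullback.of_hasPullback f ((yon S).map o ≫ φ)
  have hP := isAlgSpace_of_isPullback_space hY hX (IsAlgSpace.yon_obj UO) sq
  have := compactSpace_of_isQuasiCompactSp (hq (IsAlgSpace.yon_obj UO) (isQuasiCompactSp_yon UO) _ _ _ sq)
  obtain ⟨W, p, hW, hpe, hps⟩ := exists_affine_chart_of_compact hP
  obtain ⟨k, hk⟩ := exists_map_eq (p ≫ pullback.snd f ((yon S).map o ≫ φ))
  have : LocallyOfFinitePresentation k.left :=
    locP_baseChange etST_lfp hX hY hP (IsAlgSpace.yon_obj UO) sq hfp p (𝟙 _) k hpe repWith_id'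
      (by rw [Category.comp_id, hk])
  have : QuasiCompact k.left := quasiCompact_of_compactSpace _
  have hc : IsLocallyConstructible (Points.ofPt (p ≫ pullback.fst f ((yon S).map o ≫ φ)) ⁻¹' E) := by
    have h := isLocallyConstructible_preimage_mor hP hX (pullback.fst f ((yon S).map o ≫ φ)) hE W p
    convert h using 1
    ext w
    show _ ∈ E ↔ Points.map (pullback.fst f ((yon S).map o ≫ φ)) (Points.ofPt p w) ∈ E
    rw [Points.map_ofPt]
  have hi := k.left.isLocallyConstructible_image hc
  have e : (k.left '' (Points.ofPt (p ≫ pullback.fst f ((yon S).map o ≫ φ)) ⁻¹' E) : Set UO.left) =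
      (fun v : UO.left => Points.ofPt φ (o.left v)) ⁻¹' (Points.map f '' E) := by
    apply Set.ext
    intro v
    show _ ↔ Points.ofPt φ (o.left v) ∈ Points.map f '' E
    constructor
    · rintro ⟨w, hw, rfl⟩
      refine ⟨_, hw, ?_⟩
      rw [Points.map_ofPt, Category.assoc, sq.w, ← Category.assoc, ← hk, ← Category.assoc, ← Functor.map_comp,
        ofPt_comp]
      rfl
    · rintro ⟨x, hx, he⟩
      obtain ⟨z, hz₁, hz₂⟩ := exists_point_of_isPullback sq x (Points.ofScheme UO v) (by
        rw [he, ← Points.ofPt_eq_map_ofScheme, ofPt_comp])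
      obtain ⟨w, hw⟩ := ofPt_surjective hps z
      refine ⟨w, ?_, ?_⟩
      · show Points.ofPt (p ≫ pullback.fst f ((yon S).map o ≫ φ)) w ∈ E
        rw [← Points.map_ofPt, hw, hz₁]
        exact hx
      · refine (Points.schemeEquiv UO).injective ?_
        show Points.ofScheme UO (k.left w) = Points.ofScheme UO v
        rw [← hz₂, ← hw, Points.map_ofPt, ← hk, ← ofScheme_map]
  rw [e] at hi
  exact hi

end Groth.Agent.AlgSpLib
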