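import Groth.Agent.AlgSpLib.LocPMore
import Groth.Agent.SpQS.GenPts

/-!
# Points of codimension zero
-/

set_option autoImplicit false

universe u

open CategoryTheory CategoryTheory.Limits AlgebraicGeometry Opposite

set_option backward.isDefEq.respectTransparency false

namespace Groth.Agent.AlgSpLib

open _root_.AlgSp

variable {S : Scheme.{u}}

theorem dense_codimZero {X : Sp S} (hX : IsAlgSpace X) :
    Dense {x : Points X | HasAt (fun U u => ringKrullDim ↥(U.presheaf.stalk u) = 0) X x} := by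
  refine dense_iff_inter_open.2 fun W hW hne => ?_
  obtain ⟨x, hx⟩ := hne
  obtain ⟨U, a, ha, has⟩ := hX.atlas
  obtain ⟨u, rfl⟩ := ofPt_surjective has x
  obtain ⟨g, hg, hmax⟩ := SpQS.exists_isMaxPt_specializes u
  exact ⟨Points.ofPt a g, (hg.map (Points.continuous_ofPt a)).mem_open hW hx,
    U, a, g, ha, rfl, (SpQS.stalk_dim_zero_iff g).2 hmax⟩

theorem isMaxPt_map_of_flat {A B : Scheme.{u}} (g : A ⟶ B) [Flat g] {w : A} (hw : SpQS.IsMaxPt w) :
    SpQS.IsMaxPt (g w) := fun y hy => by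
  obtain ⟨w', hw', rfl⟩ := Flat.generalizingMap g hy
  rw [hw w' hw']

theorem isMaxPt_of_map_etale {A B : Scheme.{u}} (g : A ⟶ B) [LocallyQuasiFinite g] {w : A}
    (hw : SpQS.IsMaxPt (g w)) : SpQS.IsMaxPt w := fun y hy => by
  have e : g y = g w := hw _ (hy.map g.continuous)
  have hd := g.isDiscrete_preimage_singleton (g w)
  rw [isDiscrete_iff_discreteTopology] at hd
  have h : (⟨y, e⟩ : ↥(g ⁻¹' {g w})) ⤳ ⟨w, rfl⟩ := (subtype_specializes_iff _ _).2 hy
  exact congrArg Subtype.val h.eq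

theorem hasAt_codimZero_map {X Y : Sp S} (hX : IsAlgSpace X) (hY : IsAlgSpace Y) {f : X ⟶ Y}
    (hf : LocP @Flat f) {x : Points X}
    (hx : HasAt (fun U u => ringKrullDim ↥(U.presheaf.stalk u) = 0) X x) :
    HasAt (fun U u => ringKrullDim ↥(U.presheaf.stalk u) = 0) Y (Points.map f x) := by
  obtain ⟨U, a, u, ha, rfl, hu⟩ := hx
  obtain ⟨V, b, hb, hbs⟩ := hY.atlas
  obtain ⟨v, hv⟩ := ofPt_surjective hbs (Points.ofPt (a ≫ f) u)
  obtain ⟨W, p, q, sq⟩ := exists_pullback hY.diag (a ≫ f) b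
  obtain ⟨w, rfl, rfl⟩ := (ofPt_eq_iff sq u v).1 hv.symm
  have hp : Etale p.left := (repWith_yon_iff p).1 (repWith_baseChange sq.flip hb)
  have : LocallyQuasiFinite p.left := FpqcDescent.locallyQuasiFinite_of_etale _
  have : Flat q.left := hf ((yon S).map p ≫ a) b q (repWith_comp ((repWith_yon_iff p).2 hp) ha) hb
    (by rw [Category.assoc]; exact sq.w)
  refine ⟨V, b, q.left w, hb, ?_, (SpQS.stalk_dim_zero_iff _).2 (isMaxPt_map_of_flat q.left
    (isMaxPt_of_map_etale p.left ((SpQS.stalk_dim_zero_iff _).1 hu)))⟩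
  rw [Points.map_ofPt]
  exact hv

end Groth.Agent.AlgSpLib
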