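import Groth.Agent.AlgSpLib.Points
import Groth.Agent.AlgSpLib.DiagProp
import Groth.Agent.ConsEngine.SetProp
import Mathlib.AlgebraicGeometry.Morphisms.FinitePresentation
import Mathlib.AlgebraicGeometry.Morphisms.UniversallyOpen

/-!
# Etale local constructibility
-/

set_option autoImplicit false

universe u

open CategoryTheory CategoryTheory.Limits AlgebraicGeometry Opposite Topology

set_option backward.isDefEq.respectTransparency false

namespace Groth.Agent.AlgSpLib

open _root_.AlgSp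

theorem isLocallyConstructible_of_preimage {X Y : Scheme.{u}} (f : X ⟶ Y) [LocallyOfFinitePresentation f]
    (ho : IsOpenMap f) (hs : Function.Surjective f) {E : Set Y} (hE : IsLocallyConstructible (f ⁻¹' E : Set X)) :
    IsLocallyConstructible E := by
  refine IsLocallyConstructible.of_isOpenCover Y.affineCover.isOpenCover_opensRange fun i => ?_
  set O := (Y.affineCover.f i).opensRange with hOdef
  have hO : IsAffineOpen O := isAffineOpen_opensRange _
  have hcov : (O : Set Y) ⊆ ⋃ W : {W : X.affineOpens // W.1 ≤ f ⁻¹ᵁ O}, f '' (W.1.1 : Set X) := by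
    intro y hy
    obtain ⟨x, rfl⟩ := hs y
    obtain ⟨W, hW, hxW, hle⟩ := exists_isAffineOpen_mem_and_subset (X := X) (U := f ⁻¹ᵁ O) hy
    exact Set.mem_iUnion.2 ⟨⟨⟨W, hW⟩, hle⟩, x, hxW, rfl⟩
  obtain ⟨t, ht⟩ := hO.isCompact.elim_finite_subcover _ (fun W => ho _ W.1.1.2) hcov
  have e : (Subtype.val ⁻¹' E : Set ↥(O : Set Y)) = ⋃ W : t, (f.resLE O W.1.1.1 W.1.2) '' (W.1.1.1.ι ⁻¹' (f ⁻¹' E)) := by
    ext ⟨y, hy⟩
    constructor
    · intro hyE
      obtain ⟨W, hW, x, hx, hxy⟩ := Set.mem_iUnion₂.1 (ht hy)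
      refine Set.mem_iUnion.2 ⟨⟨W, hW⟩, ⟨x, hx⟩, ?_, Subtype.ext ?_⟩
      · show f x ∈ E
        rw [hxy]; exact hyE
      · rw [Scheme.Hom.coe_resLE_apply]; exact hxy
    · intro hyu
      obtain ⟨W, x, hx, hxy⟩ := Set.mem_iUnion.1 hyu
      show y ∈ E
      have := congrArg Subtype.val hxy
      rw [Scheme.Hom.coe_resLE_apply] at this
      exact (show f x.1 = y from this) ▸ hx
  rw [e]
  refine IsLocallyConstructible.iUnion fun W => ?_
  have : IsAffine (W.1.1.1 : Scheme.{u}) := W.1.1.2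
  have : IsAffine (O : Scheme.{u}) := hO
  exact (f.resLE O W.1.1.1 W.1.2).isLocallyConstructible_image
    (hE.preimage_of_isOpenEmbedding W.1.1.1.ι.isOpenEmbedding)

variable {S : Scheme.{u}}

theorem isLocallyConstructible_chart {X : Sp S} (hX : IsAlgSpace X) {E : Set (Points X)} {U : Over S}
    {p : (yon S).obj U ⟶ X} (hp : RepWith @Etale p) (hps : RepWith @Surjective p)
    (hE : IsLocallyConstructible (Points.ofPt p ⁻¹' E)) {V : Over S} {a : (yon S).obj V ⟶ X}
    : IsLocallyConstructible (Points.ofPt a ⁻¹' E) := by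
  obtain ⟨W, w, v, sq⟩ := exists_pullback hX.diag p a
  have : Etale v.left := (repWith_yon_iff v).1 (repWith_baseChange sq hp)
  have : Surjective v.left := (repWith_yon_iff v).1 (repWith_baseChange sq hps)
  refine isLocallyConstructible_of_preimage v.left v.left.isOpenMap v.left.surjective ?_
  have e : (v.left ⁻¹' (Points.ofPt a ⁻¹' E) : Set W.left) = w.left ⁻¹' (Points.ofPt p ⁻¹' E) := by
    ext t
    show Points.ofPt a (v.left t) ∈ E ↔ Points.ofPt p (w.left t) ∈ E
    rw [← ofPt_comp, ← ofPt_comp, sq.w]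
  rw [e]
  exact ConsEngine.isLocallyConstructible_preimage w.left hE

theorem isLocallyConstructible_preimage_mor {X Y : Sp S} (hX : IsAlgSpace X) (hY : IsAlgSpace Y) (f : X ⟶ Y)
    {E : Set (Points Y)}
    (hE : ∀ (U : Over S) (φ : (yon S).obj U ⟶ Y), RepWith @Etale φ → IsLocallyConstructible (Points.ofPt φ ⁻¹' E))
    (U : Over S) (φ : (yon S).obj U ⟶ X) : IsLocallyConstructible (Points.ofPt φ ⁻¹' (Points.map f ⁻¹' E)) := by
  obtain ⟨V, q, hq, hqs⟩ := hY.atlas
  have e : (Points.ofPt φ ⁻¹' (Points.map f ⁻¹' E) : Set U.left) = Points.ofPt (φ ≫ f) ⁻¹' E := by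
    ext t
    show Points.map f (Points.ofPt φ t) ∈ E ↔ _
    rw [Points.map_ofPt]
    rfl
  rw [e]
  exact isLocallyConstructible_chart hY hq hqs (hE V q hq)

end Groth.Agent.AlgSpLib
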