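import Groth.Agent.FpqcDescent.Affine
import Groth.Agent.FpqcDescent.Sep
import Groth.Agent.FpqcDescent.Immersion
import Groth.Agent.S0087
import Mathlib.AlgebraicGeometry.Morphisms.LocalFlatDescent
import Mathlib.AlgebraicGeometry.Morphisms.FlatDescent
import Mathlib.AlgebraicGeometry.Sites.Etale

/-!
# Properties of morphisms of schemes that are fppf local on the target
-/

universe u

open CategoryTheory CategoryTheory.Limits AlgebraicGeometry MorphismProperty

set_option backward.isDefEq.respectTransparency false

namespace Groth.Agent.AlgSpLib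

theorem isLocalAtTarget_fpqc (P : MorphismProperty Scheme.{u}) [P.IsStableUnderBaseChange]
    [IsZariskiLocalAtTarget P] [P.DescendsAlong (@Surjective ⊓ @Flat ⊓ @QuasiCompact)] :
    P.IsLocalAtTarget Scheme.fpqcPrecoverage :=
  have : P.RespectsIso := IsStableUnderBaseChange.respectsIso
  { pullbackSnd := fun _ _ hf => P.pullback_snd _ _ hf
    of_forall_pullbackSnd := fun {X Y f R} hR h =>
      FpqcDescent.of_fpqcPrecoverage P f hR fun _ g hg => h hg }

instance isLocalAtTarget_fppf (P : MorphismProperty Scheme.{u}) [P.IsStableUnderBaseChange]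
    [IsZariskiLocalAtTarget P] [P.DescendsAlong (@Surjective ⊓ @Flat ⊓ @QuasiCompact)] :
    P.IsLocalAtTarget Scheme.fppfPrecoverage :=
  have : P.RespectsIso := IsStableUnderBaseChange.respectsIso
  { pullbackSnd := fun _ _ hf => P.pullback_snd _ _ hf
    of_forall_pullbackSnd := fun {X Y f R} hR h =>
      FpqcDescent.of_fpqcPrecoverage P f (Scheme.fppfPrecoverage_le_fpqcPrecoverage _ hR)
        fun _ g hg => h hg }

instance isLocalAtTarget_etale (P : MorphismProperty Scheme.{u}) [P.IsStableUnderBaseChange]
    [IsZariskiLocalAtTarget P] [P.DescendsAlong (@Surjective ⊓ @Flat ⊓ @QuasiCompact)] :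
    P.IsLocalAtTarget Scheme.etalePrecoverage :=
  have : P.RespectsIso := IsStableUnderBaseChange.respectsIso
  { pullbackSnd := fun _ _ hf => P.pullback_snd _ _ hf
    of_forall_pullbackSnd := fun {X Y f R} hR h =>
      FpqcDescent.of_fpqcPrecoverage P f (Scheme.fppfPrecoverage_le_fpqcPrecoverage _
        (Scheme.precoverage_mono (Q := @Flat ⊓ @LocallyOfFinitePresentation)
          (fun _ _ f hf => by have : Etale f := hf; exact ⟨(inferInstance : Flat f), (inferInstance : LocallyOfFinitePresentation f)⟩) _ hR)) fun _ g hg => h hg }

instance lft_inf_descendsAlong : MorphismProperty.DescendsAlong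
    (@LocallyQuasiFinite ⊓ @LocallyOfFiniteType : MorphismProperty Scheme.{u})
    (@Surjective ⊓ @Flat ⊓ @QuasiCompact : MorphismProperty Scheme.{u}) := Groth.Agent.S0087.result

example : MorphismProperty.IsLocalAtTarget (@Etale : MorphismProperty Scheme.{u}) Scheme.fppfPrecoverage := inferInstance
example : MorphismProperty.IsLocalAtTarget (@Surjective : MorphismProperty Scheme.{u}) Scheme.fppfPrecoverage := inferInstance
example : MorphismProperty.IsLocalAtTarget (@IsSeparated : MorphismProperty Scheme.{u}) Scheme.fppfPrecoverage := inferInstance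
example : MorphismProperty.IsLocalAtTarget (@Flat : MorphismProperty Scheme.{u}) Scheme.fppfPrecoverage := inferInstance
example : MorphismProperty.IsLocalAtTarget (@IsClosedImmersion : MorphismProperty Scheme.{u}) Scheme.fppfPrecoverage := inferInstance
example : MorphismProperty.IsLocalAtTarget (@QuasiCompact : MorphismProperty Scheme.{u}) Scheme.fppfPrecoverage := inferInstance
example : MorphismProperty.IsLocalAtTarget (@IsOpenImmersion : MorphismProperty Scheme.{u}) Scheme.fppfPrecoverage := inferInstance
example : (monomorphisms Scheme.{u}).IsLocalAtTarget Scheme.fppfPrecoverage := inferInstance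
example : MorphismProperty.IsLocalAtTarget (@Flat ⊓ @LocallyOfFinitePresentation : MorphismProperty Scheme.{u}) Scheme.fppfPrecoverage := inferInstance
example : MorphismProperty.IsLocalAtTarget (@LocallyQuasiFinite ⊓ @LocallyOfFiniteType : MorphismProperty Scheme.{u}) Scheme.fppfPrecoverage := inferInstance
example : (isomorphisms Scheme.{u}).IsLocalAtTarget Scheme.fppfPrecoverage := inferInstance

end Groth.Agent.AlgSpLib
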