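import Groth.Agent.AlgSpLib.Basic
import Groth.Agent.AlgSpLib.LocalTarget
import Groth.Agent.QuotShLib.Fppf
import Mathlib.CategoryTheory.Sites.LocallySurjective

/-!
# Algebraic spaces: fppf locally surjective morphisms and descent of properties
-/

universe u

open CategoryTheory CategoryTheory.Limits AlgebraicGeometry Opposite

set_option backward.isDefEq.respectTransparency false

namespace Groth.Agent.AlgSpLib

open _root_.AlgSp

variable {S : Scheme.{u}}

/-- an fppf morphism of schemes is locally surjective as a map of sheaves -/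
lemma isLocallySurjective_yon_map {V T : Over S} (g : V ⟶ T) [Flat g.left] [Surjective g.left]
    [LocallyOfFinitePresentation g.left] : Sheaf.IsLocallySurjective ((yon S).map g) := by
  constructor
  intro U s
  obtain ⟨x⟩ := s
  let P := pullback g.left x.left
  let π : Over.mk (pullback.snd g.left x.left ≫ U.hom) ⟶ U := Over.homMk (pullback.snd g.left x.left)
  refine GrothendieckTopology.superset_covering _ ?_
    (QuotShLib.generate_singleton_mem_J (K := Scheme.fppfPrecoverage) (q := π)
      (pullback.snd g.left x.left).singleton_mem_fppfPrecoverage)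
  rintro Z _ ⟨W, a, _, ⟨⟩, rfl⟩
  refine ⟨⟨a ≫ (Over.homMk (pullback.fst g.left x.left) ?_ : Over.mk (pullback.snd g.left x.left ≫ U.hom) ⟶ V)⟩, ?_⟩
  · show pullback.fst g.left x.left ≫ V.hom = pullback.snd g.left x.left ≫ U.hom
    rw [← Over.w g, ← Category.assoc, pullback.condition, Category.assoc, Over.w x]
  · apply ULift.ext
    show (a ≫ _) ≫ g = (a ≫ π) ≫ x
    refine (Category.assoc _ _ _).trans (Eq.trans ?_ (Category.assoc _ _ _).symm)
    exact congrArg (a ≫ ·) (Over.OverMorphism.ext pullback.condition)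

/-- composing with the inverse Yoneda bijection: maps out of schemes are sections -/
lemma uliftYonedaEquiv_comp' {U : Over S} {F G : Sp S} (a : (yon S).obj U ⟶ F) (f : F ⟶ G) :
    (J S).uliftYonedaEquiv (a ≫ f) = f.hom.app _ ((J S).uliftYonedaEquiv a) := rfl

/-- a representable surjective flat locally finitely presented map of sheaves is locally surjective -/
lemma isLocallySurjective_of_repWith {F G : Sp S} (a : F ⟶ G) (h₁ : RepWith @Flat a)
    (h₂ : RepWith @LocallyOfFinitePresentation a) (h₃ : RepWith @Surjective a) :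
    Sheaf.IsLocallySurjective a := by
  constructor
  intro U s
  obtain ⟨V, fst, snd, sq⟩ := exists_isPullback_of_representable h₁.1 ((J S).uliftYonedaEquiv.symm s)
  have : Flat snd.left := h₁.2 _ fst snd sq
  have : LocallyOfFinitePresentation snd.left := h₂.2 _ fst snd sq
  have : Surjective snd.left := h₃.2 _ fst snd sq
  refine GrothendieckTopology.superset_covering _ ?_
    (QuotShLib.generate_singleton_mem_J (K := Scheme.fppfPrecoverage) (q := snd)
      snd.left.singleton_mem_fppfPrecoverage)
  rintro Z _ ⟨W, b, _, ⟨⟩, rfl⟩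
  refine ⟨(J S).uliftYonedaEquiv ((yon S).map b ≫ fst), ?_⟩
  rw [← uliftYonedaEquiv_comp', Category.assoc, sq.w, ← Category.assoc, ← Functor.map_comp]
  rw [← Equiv.eq_symm_apply, ← GrothendieckTopology.uliftYonedaEquiv_symm_naturality_left]

/-- a locally surjective map lifts sections over the members of an fppf covering -/
lemma exists_lift_cover {H G : Sp S} (b : H ⟶ G) [Sheaf.IsLocallySurjective b] {U : Over S}
    (ξ : (yon S).obj U ⟶ G) :
    ∃ R ∈ Scheme.fppfPrecoverage U.left, ∀ ⦃Z : Scheme.{u}⦄ (g : Z ⟶ U.left), R g →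
      ∃ l : (yon S).obj (Over.mk (g ≫ U.hom)) ⟶ H,
        l ≫ b = (yon S).map (Over.homMk g rfl : Over.mk (g ≫ U.hom) ⟶ U) ≫ ξ := by
  have h := Presheaf.imageSieve_mem (J S) b.hom (U := op U) ((J S).uliftYonedaEquiv ξ)
  rw [GrothendieckTopology.mem_over_iff] at h
  obtain ⟨R, hR, hle⟩ := Precoverage.mem_toGrothendieck_iff_of_isStableUnderComposition.1 h
  refine ⟨R, hR, fun Z g hg => ?_⟩
  obtain ⟨t, ht⟩ := (Sieve.overEquiv_iff _ _).1 (hle _ _ hg)
  refine ⟨(J S).uliftYonedaEquiv.symm t, (J S).uliftYonedaEquiv.injective ?_⟩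
  rw [uliftYonedaEquiv_comp', Equiv.apply_symm_apply]
  exact ht.trans ((J S).uliftYonedaEquiv_naturality ξ _)

variable {P : MorphismProperty Scheme.{u}}

/-- properties fppf local on the target descend along locally surjective maps -/
theorem repWith_of_isLocallySurjective [P.IsLocalAtTarget Scheme.fppfPrecoverage]
    {F G H Q : Sp S} {a : F ⟶ G} (ha : Representable a) {b : H ⟶ G} [Sheaf.IsLocallySurjective b]
    {b' : Q ⟶ F} {a' : Q ⟶ H} (sq : IsPullback b' a' a b) (h : RepWith P a') : RepWith P a := by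
  refine ⟨ha, fun U V ξ fst snd sqU => ?_⟩
  obtain ⟨R, hR, hlift⟩ := exists_lift_cover b ξ
  show P snd.left
  refine MorphismProperty.IsLocalAtTarget.of_forall_pullbackSnd (K := Scheme.fppfPrecoverage) hR
    fun {Z g} _ hg => ?_
  obtain ⟨l, hl⟩ := hlift g hg
  let W : Over S := Over.mk (pullback.fst snd.left g ≫ V.hom)
  let w₁ : W ⟶ V := Over.homMk (pullback.fst snd.left g) rfl
  let w₂ : W ⟶ Over.mk (g ≫ U.hom) := Over.homMk (pullback.snd snd.left g) (by
    show pullback.snd snd.left g ≫ g ≫ U.hom = pullback.fst snd.left g ≫ V.hom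
    rw [← pullback.condition_assoc, Over.w snd])
  have sqW : IsPullback ((yon S).map w₁) ((yon S).map w₂) ((yon S).map snd)
      ((yon S).map (Over.homMk g rfl : Over.mk (g ≫ U.hom) ⟶ U)) :=
    isPullback_yon_iff.2 (IsPullback.of_hasPullback snd.left g)
  have big : IsPullback ((yon S).map w₁ ≫ fst) ((yon S).map w₂) a (l ≫ b) := by
    rw [hl]
    exact sqW.paste_horiz sqU
  have hw : ((yon S).map w₁ ≫ fst) ≫ a = ((yon S).map w₂ ≫ l) ≫ b :=
    big.w.trans (Category.assoc _ _ _).symm
  let L := sq.lift ((yon S).map w₁ ≫ fst) ((yon S).map w₂ ≫ l) hw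
  have e : L ≫ b' = (yon S).map w₁ ≫ fst := sq.lift_fst _ _ _
  exact h.2 l L w₂ (IsPullback.of_right (e.symm ▸ big) (sq.lift_snd _ _ _) sq)

end Groth.Agent.AlgSpLib
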