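import Groth.Agent.AlgSpLib.Sigma
import Groth.Agent.AlgSpLib.DiagProp
import Groth.Prelude.Def_AlgSp3
import Mathlib.AlgebraicGeometry.Morphisms.Finite
import Mathlib.AlgebraicGeometry.Limits
import Mathlib.CategoryTheory.Extensive
import Mathlib.CategoryTheory.Sites.LeftExact

/-!
# Finite morphisms out of finite disjoint unions
-/

set_option autoImplicit false

universe u

open CategoryTheory CategoryTheory.Limits AlgebraicGeometry Opposite

set_option backward.isDefEq.respectTransparency false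

namespace Groth.Agent.AlgSpLib

open _root_.AlgSp

variable {S : Scheme.{u}}

theorem isFinite_sigmaDesc_of_isAffine {ι : Type u} [Finite ι] {Z : Scheme.{u}} [IsAffine Z] {W : ι → Scheme.{u}}
    [∀ i, IsAffine (W i)] (f : ∀ i, W i ⟶ Z) (hf : ∀ i, IsFinite (f i)) : IsFinite (Sigma.desc f) := by
  let A : ι → CommRingCat.{u} := fun i => Γ(W i, ⊤)
  let φ : Γ(Z, ⊤) ⟶ CommRingCat.of (∀ i, A i) := CommRingCat.ofHom (Pi.ringHom fun i => (f i).appTop.hom)
  have hφ : φ.hom.Finite := by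
    let _ : ∀ i, Algebra Γ(Z, ⊤) (A i) := fun i => (f i).appTop.hom.toAlgebra
    have : ∀ i, Module.Finite Γ(Z, ⊤) (A i) := fun i => by
      have := ((HasAffineProperty.iff_of_isAffine (P := @IsFinite) (f := f i)).1 (hf i)).2
      exact this
    have : Module.Finite Γ(Z, ⊤) (∀ i, A i) := Module.Finite.pi
    have e : φ.hom = algebraMap Γ(Z, ⊤) (∀ i, A i) := rfl
    rw [e]
    exact RingHom.finite_algebraMap.mpr this
  have : IsFinite (Spec.map φ) := (IsFinite.SpecMap_iff φ).2 hφ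
  have e : Sigma.desc f = ((Sigma.mapIso fun i => (W i).isoSpec).hom ≫ sigmaSpec A) ≫ Spec.map φ ≫ Z.isoSpec.inv := by
    refine Sigma.hom_ext _ _ fun i => ?_
    rw [Sigma.ι_desc]
    rw [Category.assoc, Sigma.ι_mapIso_hom_assoc, ι_sigmaSpec_assoc]
    rw [← Spec.map_comp_assoc]
    have e1 : φ ≫ CommRingCat.ofHom (Pi.evalRingHom (fun i => (A i : Type u)) i) = (f i).appTop := by ext x; rfl
    rw [e1, Scheme.isoSpec_hom_naturality_assoc, Iso.hom_inv_id, Category.comp_id]
  rw [e]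
  have : IsIso ((Sigma.mapIso fun i => (W i).isoSpec).hom ≫ sigmaSpec A) := by
    infer_instance
  have : IsFinite ((Sigma.mapIso fun i => (W i).isoSpec).hom ≫ sigmaSpec A) :=
    MorphismProperty.of_isIso @IsFinite _
  have : IsFinite Z.isoSpec.inv := inferInstance
  exact MorphismProperty.comp_mem @IsFinite _ _ ‹_› (MorphismProperty.comp_mem @IsFinite _ _ ‹_› ‹_›)

theorem nonempty_isColimit_pullback_cofan {C : Type*} [Category C] [FinitaryExtensive C] {ι : Type*} [Finite ι]
    {X : ι → C} (c : Cofan X) (hc : IsColimit c) {P : C} (π : P ⟶ c.pt) {W : ι → C} (w : ∀ i, W i ⟶ P)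
    (q : ∀ i, W i ⟶ X i) (sq : ∀ i, IsPullback (w i) (q i) π (c.inj i)) : Nonempty (IsColimit (Cofan.mk P w)) :=
  (FinitaryExtensive.isVanKampen_finiteCoproducts hc).isUniversal (Cofan.mk P w)
    (Discrete.natTrans fun i => q i.as) π (by ext ⟨i⟩; exact (sq i).w.symm) (NatTrans.equifibered_of_discrete _)
    (fun i => sq i.as)

theorem exists_iso_yon_sigma {ι : Type u} {W : ι → Over S} {P : Sp S} (w : ∀ i, (yon S).obj (W i) ⟶ P)
    (hw : IsColimit (Cofan.mk P w)) :
    ∃ L : (yon S).obj (Over.mk (Sigma.desc fun i => (W i).hom)) ⟶ P, IsIso L ∧ ∀ i,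
      (yon S).map (Over.homMk (Sigma.ι (fun i => (W i).left) i) (Sigma.ι_desc _ i) :
        W i ⟶ Over.mk (Sigma.desc fun i => (W i).hom)) ≫ L = w i := by
  let T : Over S := Over.mk (Sigma.desc fun i => (W i).hom)
  let j : ∀ i, W i ⟶ T := fun i => Over.homMk (Sigma.ι (fun i => (W i).left) i) (Sigma.ι_desc _ i)
  obtain ⟨L, hL⟩ := exists_sigma_hom (fun i => (W i).hom) w
  let M : P ⟶ (yon S).obj T := Cofan.IsColimit.desc hw fun i => (yon S).map (j i)
  have hM : ∀ i, w i ≫ M = (yon S).map (j i) := fun i => Cofan.IsColimit.fac hw _ i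
  refine ⟨L, ⟨M, ?_, ?_⟩, hL⟩
  · obtain ⟨m, hm⟩ := exists_map_eq (L ≫ M)
    have : m = 𝟙 T := by
      refine Over.OverMorphism.ext (Sigma.hom_ext _ _ fun i => ?_)
      have : j i ≫ m = j i := (yon S).map_injective (by rw [Functor.map_comp, hm, reassoc_of% hL i, hM])
      exact (congrArg (fun k => k.left) this).trans (Category.comp_id _).symm
    rw [← hm, this]
    exact (yon S).map_id _
  · refine Cofan.IsColimit.hom_ext hw _ _ fun i => ?_
    show w i ≫ M ≫ L = w i ≫ 𝟙 _
    rw [reassoc_of% hM i, hL, Category.comp_id]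

theorem isFiniteMor_cofan_desc {ι : Type u} [Finite ι] {X : ι → Sp S} {Y : Sp S} (g : ∀ i, X i ⟶ Y)
    (hg : ∀ i, IsFiniteMor (g i)) (c : Cofan X) (hc : IsColimit c) (d : c.pt ⟶ Y) (hd : ∀ i, c.inj i ≫ d = g i) :
    IsFiniteMor d := by
  intro Z hZ t
  choose W i fst sq hWa hWf using fun k => hg k hZ t
  have sqP := IsPullback.of_hasPullback d t
  let w : ∀ k, (yon S).obj (W k) ⟶ pullback d t := fun k =>
    pullback.lift (fst k ≫ c.inj k) ((yon S).map (i k)) (by rw [Category.assoc, hd, (sq k).w])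
  obtain ⟨hw⟩ := nonempty_isColimit_pullback_cofan c hc (pullback.fst d t) w fst fun k => by
    refine IsPullback.of_right ?_ (pullback.lift_fst _ _ _) sqP.flip
    rw [pullback.lift_snd, hd]
    exact (sq k).flip
  obtain ⟨L, hL, hjL⟩ := exists_iso_yon_sigma w hw
  let T : Over S := Over.mk (Sigma.desc fun k => (W k).hom)
  let iT : T ⟶ Z := Over.homMk (Sigma.desc fun k => (i k).left) (by
    refine Sigma.hom_ext _ _ fun k => ?_
    exact (Sigma.ι_desc_assoc _ _ _).trans ((Over.w (i k)).trans (Sigma.ι_desc (fun k => (W k).hom) k).symm))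
  have hiT : L ≫ pullback.snd d t = (yon S).map iT := by
    obtain ⟨m, hm⟩ := exists_map_eq (L ≫ pullback.snd d t)
    have : m = iT := by
      refine Over.OverMorphism.ext (Sigma.hom_ext _ _ fun k => ?_)
      have h1 : (Over.homMk (Sigma.ι (fun i => (W i).left) k) (Sigma.ι_desc _ k) : W k ⟶ T) ≫ m = i k :=
        (yon S).map_injective (by rw [Functor.map_comp, hm, reassoc_of% hjL k, pullback.lift_snd])
      exact (congrArg (fun k => k.left) h1).trans (Sigma.ι_desc (fun k => (i k).left) k).symm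
    rw [← hm, this]
  refine ⟨T, iT, L ≫ pullback.fst d t, ?_, inferInstanceAs (IsAffine (∐ fun k => (W k).left)), ?_⟩
  · exact IsPullback.of_iso_pullback ⟨by rw [Category.assoc, sqP.w, ← hiT, Category.assoc]⟩ (asIso L) rfl hiT
  · have : IsAffine Z.left := hZ
    exact isFinite_sigmaDesc_of_isAffine _ hWf

theorem isFiniteMor_cofan_desc_fin {n : ℕ} {X : Fin n → Sp S} {Y : Sp S} (g : ∀ i, X i ⟶ Y)
    (hg : ∀ i, IsFiniteMor (g i)) (c : Cofan X) (hc : IsColimit c) (d : c.pt ⟶ Y) (hd : ∀ i, c.inj i ≫ d = g i) :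
    IsFiniteMor d := by
  let c' : Cofan (fun k : ULift.{u} (Fin n) => X k.down) := Cofan.mk c.pt fun k => c.inj k.down
  have hc' : IsColimit c' := mkCofanColimit _ (fun s => Cofan.IsColimit.desc hc fun k => s.inj ⟨k⟩)
    (fun s k => Cofan.IsColimit.fac hc _ k.down)
    (fun s m hm => Cofan.IsColimit.hom_ext hc _ _ fun k => (hm ⟨k⟩).trans (Cofan.IsColimit.fac hc (fun k => s.inj ⟨k⟩) k).symm)
  exact isFiniteMor_cofan_desc (ι := ULift.{u} (Fin n)) (fun k => g k.down) (fun k => hg k.down) c' hc' d fun k => hd k.down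

end Groth.Agent.AlgSpLib
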