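import Groth.Agent.AlgSpLib.Covers
import Groth.Agent.AlgSpLib.FiniteCofan
import Mathlib.CategoryTheory.Sites.RegularEpi

/-!
# Descent of morphisms along finite fppf coverings of algebraic spaces
-/

set_option autoImplicit false

universe u

open CategoryTheory CategoryTheory.Limits AlgebraicGeometry Opposite

set_option backward.isDefEq.respectTransparency false

namespace Groth.Agent.AlgSpLib

open _root_.AlgSp

variable {S : Scheme.{u}}

/-- two maps out of an algebraic space agreeing on an fppf covering are equal -/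
theorem hom_ext_of_fppfCover {ι : Type u} {Y Z : Sp S} {Yi : ι → Sp S} {g : ∀ i, Yi i ⟶ Y} (hY : IsAlgSpace Y)
    (hYi : ∀ i, IsAlgSpace (Yi i)) (hg : IsFppfCover Yi g) {a b : Y ⟶ Z} (h : ∀ i, g i ≫ a = g i ≫ b) :
    a = b := by
  have : IsIso (equalizer.ι a b) := isIso_of_points _ fun T =>
    ⟨fun c d e => (cancel_mono (equalizer.ι a b)).1 e, fun t => by
      obtain ⟨κ, Tk, c, hc, hl⟩ := exists_lift_fppfCover hY hYi hg T t
      have e : t ≫ a = t ≫ b := by
        apply (J S).uliftYonedaEquiv.injective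
        refine (((isSheaf_iff_isSheaf_of_type _ _).1 Z.property) _ hc).isSeparatedFor.ext ?_
        rintro W w ⟨W', k, _, ⟨m⟩, rfl⟩
        obtain ⟨i, l, hl⟩ := hl m
        rw [GrothendieckTopology.uliftYonedaEquiv_naturality, GrothendieckTopology.uliftYonedaEquiv_naturality]
        congr 1
        show (yon S).map (k ≫ c m) ≫ t ≫ a = (yon S).map (k ≫ c m) ≫ t ≫ b
        simp only [Functor.map_comp, Category.assoc, ← reassoc_of% hl, h i]
      exact ⟨equalizer.lift t e, equalizer.lift_ι _ _⟩⟩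
  exact (cancel_epi (equalizer.ι a b)).1 (equalizer.condition a b)

/-- maps out of an algebraic space glue along finite fppf coverings -/
theorem exists_desc_of_fppfCover {ι : Type u} [Finite ι] {Y Z : Sp S} {Yi : ι → Sp S} {g : ∀ i, Yi i ⟶ Y}
    (hY : IsAlgSpace Y) (hYi : ∀ i, IsAlgSpace (Yi i)) (hg : IsFppfCover Yi g) (φ : ∀ i, Yi i ⟶ Z)
    (h : ∀ i j, pullback.fst (g i) (g j) ≫ φ i = pullback.snd (g i) (g j) ≫ φ j) :
    ∃ ψ : Y ⟶ Z, ∀ i, g i ≫ ψ = φ i := by
  let π := Sigma.desc g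
  have : Epi π := ⟨fun a b e => hom_ext_of_fppfCover hY hYi hg fun i => by
    rw [← Sigma.ι_desc g i, Category.assoc, Category.assoc, e]⟩
  let Φ := Sigma.desc φ
  have key : pullback.fst π π ≫ Φ = pullback.snd π π ≫ Φ := by
    have sq₁ : ∀ i, IsPullback (pullback.fst (pullback.fst π π) (Sigma.ι Yi i))
        (pullback.snd (pullback.fst π π) (Sigma.ι Yi i)) (pullback.fst π π) (Sigma.ι Yi i) :=
      fun i => IsPullback.of_hasPullback _ _
    obtain ⟨h₁⟩ : Nonempty (IsColimit (Cofan.mk _ fun i => pullback.fst (pullback.fst π π) (Sigma.ι Yi i))) :=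
      nonempty_isColimit_pullback_cofan _ (coproductIsCoproduct Yi) (pullback.fst π π) _ _ sq₁
    refine Cofan.IsColimit.hom_ext h₁ _ _ fun i => ?_
    have sq₂ : ∀ j, IsPullback
        (pullback.fst (pullback.fst (pullback.fst π π) (Sigma.ι Yi i) ≫ pullback.snd π π) (Sigma.ι Yi j))
        (pullback.snd (pullback.fst (pullback.fst π π) (Sigma.ι Yi i) ≫ pullback.snd π π) (Sigma.ι Yi j))
        (pullback.fst (pullback.fst π π) (Sigma.ι Yi i) ≫ pullback.snd π π) (Sigma.ι Yi j) :=
      fun j => IsPullback.of_hasPullback _ _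
    obtain ⟨h₂⟩ : Nonempty (IsColimit (Cofan.mk _ fun j =>
        pullback.fst (pullback.fst (pullback.fst π π) (Sigma.ι Yi i) ≫ pullback.snd π π) (Sigma.ι Yi j))) :=
      nonempty_isColimit_pullback_cofan _ (coproductIsCoproduct Yi) _ _ _ sq₂
    refine Cofan.IsColimit.hom_ext h₂ _ _ fun j => ?_
    simp only [Cofan.mk_pt, Cofan.inj, Cofan.mk_ι_app]
    let u := pullback.fst (pullback.fst (pullback.fst π π) (Sigma.ι Yi i) ≫ pullback.snd π π) (Sigma.ι Yi j)
    let a := u ≫ pullback.snd (pullback.fst π π) (Sigma.ι Yi i)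
    let b := pullback.snd (pullback.fst (pullback.fst π π) (Sigma.ι Yi i) ≫ pullback.snd π π) (Sigma.ι Yi j)
    have ea : u ≫ pullback.fst (pullback.fst π π) (Sigma.ι Yi i) ≫ pullback.fst π π = a ≫ Sigma.ι Yi i := by
      rw [(sq₁ i).w, Category.assoc]
    have eb : u ≫ pullback.fst (pullback.fst π π) (Sigma.ι Yi i) ≫ pullback.snd π π = b ≫ Sigma.ι Yi j :=
      (sq₂ j).w
    have hab : a ≫ g i = b ≫ g j := by
      rw [← Sigma.ι_desc g i, ← Sigma.ι_desc g j, ← Category.assoc, ← ea, ← Category.assoc b, ← eb]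
      simp only [Category.assoc]
      rw [pullback.condition]
    show u ≫ pullback.fst (pullback.fst π π) (Sigma.ι Yi i) ≫ pullback.fst π π ≫ Φ =
      u ≫ pullback.fst (pullback.fst π π) (Sigma.ι Yi i) ≫ pullback.snd π π ≫ Φ
    calc _ = (u ≫ pullback.fst (pullback.fst π π) (Sigma.ι Yi i) ≫ pullback.fst π π) ≫ Φ := by
          simp only [Category.assoc]
      _ = a ≫ φ i := by rw [ea, Category.assoc, Sigma.ι_desc]
      _ = b ≫ φ j := by
          rw [← pullback.lift_fst a b hab, Category.assoc, h, pullback.lift_snd_assoc]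
      _ = (u ≫ pullback.fst (pullback.fst π π) (Sigma.ι Yi i) ≫ pullback.snd π π) ≫ Φ := by
          rw [eb, Category.assoc, Sigma.ι_desc]
      _ = _ := by simp only [Category.assoc]
  have hr := IsRegularEpiCategory.regularEpiOfEpi π
  have hlr : (IsRegularEpi.getStruct π).left ≫ Φ = (IsRegularEpi.getStruct π).right ≫ Φ := by
    rw [← pullback.lift_fst _ _ (IsRegularEpi.getStruct π).w, Category.assoc, key, pullback.lift_snd_assoc]
  obtain ⟨ψ, hψ⟩ := RegularEpi.desc' (IsRegularEpi.getStruct π) Φ hlr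
  exact ⟨ψ, fun i => by rw [← Sigma.ι_desc g i, Category.assoc, hψ, Sigma.ι_desc]⟩

end Groth.Agent.AlgSpLib
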