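import Groth.Agent.AlgSpLib.Criteria
import Groth.Prelude.Def_SGA1

/-!
# Algebraic spaces: universal properties of representable morphisms
-/

universe u

open CategoryTheory CategoryTheory.Limits AlgebraicGeometry Opposite Topology MorphismProperty

set_option backward.isDefEq.respectTransparency false

namespace Groth.Agent.AlgSpLib

open _root_.AlgSp

variable {S : Scheme.{u}}

/-- the universal property of a representable morphism -/
theorem univSp_iff_repWith (P : MorphismProperty (Sp S)) [P.RespectsIso] (Q : MorphismProperty Scheme.{u})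
    [Q.RespectsIso]
    (hPQ : ∀ ⦃A B : Over S⦄ (φ : A ⟶ B), P ((yon S).map φ) ↔ Q φ.left)
    (h : ∀ ⦃ι : Type u⦄ ⦃Z Z' : Sp S⦄ (Zi Z'i : ι → Sp S) (b : ∀ i, Zi i ⟶ Z) (s : Z' ⟶ Z)
      (si : ∀ i, Z'i i ⟶ Zi i) (qi : ∀ i, Z'i i ⟶ Z'), IsFpqcCover Zi b →
      (∀ i, IsPullback (qi i) (si i) s (b i)) → (∀ i, P (si i)) → P s)
    {X Y : Sp S} {f : X ⟶ Y} (hf : Representable f) : UnivSp P f ↔ RepWith Q.universally f := by
  refine ⟨fun hP => repWith_of_exists fun T ξ => ?_, fun hQ => univSp_of_affine P h f fun Z hZ g W fst snd sq => ?_⟩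
  · obtain ⟨W, fst, w, sqW⟩ := exists_isPullback_of_representable hf ξ
    refine ⟨W, fst, w, sqW, ?_⟩
    intro W' T' i₁ i₂ w' H
    let T₁ : Over S := Over.mk (i₂ ≫ T.hom)
    let W₁ : Over S := Over.mk (i₁ ≫ W.hom)
    let a : T₁ ⟶ T := Over.homMk i₂ rfl
    let b : W₁ ⟶ W := Over.homMk i₁ rfl
    let c : W₁ ⟶ T₁ := Over.homMk w' (by
      show w' ≫ i₂ ≫ T.hom = i₁ ≫ W.hom
      rw [← Over.w w, ← Category.assoc, ← Category.assoc, H.w])
    have sqb : IsPullback ((yon S).map b) ((yon S).map c) ((yon S).map w) ((yon S).map a) :=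
      isPullback_yon_iff.2 H.flip
    exact (hPQ c).1 (hP (IsAlgSpace.yon_obj T₁) ((yon S).map a ≫ ξ) _ _ (sqb.paste_horiz sqW))
  · obtain ⟨V, z, v, sqV, hv⟩ := exists_repWith hQ g
    let e := sqV.isoIsPullback _ _ sq
    have he : e.hom ≫ snd = (yon S).map v := sqV.isoIsPullback_hom_snd _ _ sq
    rw [← P.cancel_left_of_respectsIso e.hom, he, hPQ]
    exact Q.universally_le _ hv

lemma map_yon_iff {A B : Over S} (φ : A ⟶ B) (p : ∀ {α β : Type u} [TopologicalSpace α] [TopologicalSpace β], (α → β) → Prop)
    (p' : ∀ {α β : Type (u + 1)} [TopologicalSpace α] [TopologicalSpace β], (α → β) → Prop)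
    (hp : ∀ {α β : Type u} {α' β' : Type (u + 1)} [TopologicalSpace α] [TopologicalSpace β] [TopologicalSpace α']
      [TopologicalSpace β'] (e : α ≃ₜ α') (e' : β ≃ₜ β') (k : α → β), p k ↔ p' (e' ∘ k ∘ e.symm)) :
    p' (Points.map ((yon S).map φ)) ↔ p (fun t => φ.left t) := by
  rw [Points.map_yon_map_eq]
  exact (hp _ _ _).symm

lemma isClosedMap_map_yon_iff {A B : Over S} (φ : A ⟶ B) :
    IsClosedMap (Points.map ((yon S).map φ)) ↔ IsClosedMap (fun t => φ.left t) :=
  map_yon_iff φ (fun k => IsClosedMap k) (fun k => IsClosedMap k) fun e e' k => by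
    refine ⟨fun h => e'.isClosedMap.comp (h.comp e.symm.isClosedMap), fun h => ?_⟩
    have := e'.symm.isClosedMap.comp (h.comp e.isClosedMap)
    simpa [Function.comp_def] using this

lemma isOpenMap_map_yon_iff {A B : Over S} (φ : A ⟶ B) :
    IsOpenMap (Points.map ((yon S).map φ)) ↔ IsOpenMap (fun t => φ.left t) :=
  map_yon_iff φ (fun k => IsOpenMap k) (fun k => IsOpenMap k) fun e e' k => by
    refine ⟨fun h => e'.isOpenMap.comp (h.comp e.symm.isOpenMap), fun h => ?_⟩
    have := e'.symm.isOpenMap.comp (h.comp e.isOpenMap)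
    simpa [Function.comp_def] using this

lemma isQuotientMap_map_yon_iff {A B : Over S} (φ : A ⟶ B) :
    IsQuotientMap (Points.map ((yon S).map φ)) ↔ IsQuotientMap (fun t => φ.left t) :=
  map_yon_iff φ (fun k => IsQuotientMap k) (fun k => IsQuotientMap k) fun e e' k => by
    refine ⟨fun h => e'.isQuotientMap.comp (h.comp e.symm.isQuotientMap), fun h => ?_⟩
    have := e'.symm.isQuotientMap.comp (h.comp e.isQuotientMap)
    simpa [Function.comp_def] using this

/-- points maps of isomorphisms -/
lemma isHomeomorph_map_of_isIso {F G : Sp S} (e : F ⟶ G) [IsIso e] : IsHomeomorph (Points.map e) :=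
  isHomeomorph_iff_exists_homeomorph.2 ⟨
    { toFun := Points.map e
      invFun := Points.map (inv e)
      left_inv := fun x => by rw [← Points.map_comp, IsIso.hom_inv_id, Points.map_id]
      right_inv := fun x => by rw [← Points.map_comp, IsIso.inv_hom_id, Points.map_id]
      continuous_toFun := Points.continuous_map _
      continuous_invFun := Points.continuous_map _ }, rfl⟩

instance : (IsClosedMor (S := S)).RespectsIso := by
  refine RespectsIso.mk _ (fun e f hf => ?_) fun e f hf => ?_
  · show IsClosedMap (Points.map _)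
    rw [show Points.map (e.hom ≫ f) = Points.map f ∘ Points.map e.hom from funext fun x => Points.map_comp _ _ x]
    exact IsClosedMap.comp hf (isHomeomorph_map_of_isIso e.hom).isClosedMap
  · show IsClosedMap (Points.map _)
    rw [show Points.map (f ≫ e.hom) = Points.map e.hom ∘ Points.map f from funext fun x => Points.map_comp _ _ x]
    exact (isHomeomorph_map_of_isIso e.hom).isClosedMap.comp hf

instance : (IsOpenMor (S := S)).RespectsIso := by
  refine RespectsIso.mk _ (fun e f hf => ?_) fun e f hf => ?_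
  · show IsOpenMap (Points.map _)
    rw [show Points.map (e.hom ≫ f) = Points.map f ∘ Points.map e.hom from funext fun x => Points.map_comp _ _ x]
    exact IsOpenMap.comp hf (isHomeomorph_map_of_isIso e.hom).isOpenMap
  · show IsOpenMap (Points.map _)
    rw [show Points.map (f ≫ e.hom) = Points.map e.hom ∘ Points.map f from funext fun x => Points.map_comp _ _ x]
    exact (isHomeomorph_map_of_isIso e.hom).isOpenMap.comp hf

instance : (IsSubmersiveMor (S := S)).RespectsIso := by
  refine RespectsIso.mk _ (fun e f hf => ?_) fun e f hf => ?_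
  · show IsQuotientMap (Points.map _)
    rw [show Points.map (e.hom ≫ f) = Points.map f ∘ Points.map e.hom from funext fun x => Points.map_comp _ _ x]
    exact IsQuotientMap.comp hf (isHomeomorph_map_of_isIso e.hom).isQuotientMap
  · show IsQuotientMap (Points.map _)
    rw [show Points.map (f ≫ e.hom) = Points.map e.hom ∘ Points.map f from funext fun x => Points.map_comp _ _ x]
    exact (isHomeomorph_map_of_isIso e.hom).isQuotientMap.comp hf

theorem isUnivClosedMor_iff_repWith {X Y : Sp S} {f : X ⟶ Y} (hf : Representable f) :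
    IsUnivClosedMor f ↔ RepWith @UniversallyClosed f := by
  rw [universallyClosed_eq]
  exact univSp_iff_repWith IsClosedMor (topologically @IsClosedMap) (fun A B φ => isClosedMap_map_yon_iff φ)
    (fun _ _ _ _ _ _ _ _ _ hb sq h => isClosedMap_of_fpqcCover sq hb h) hf

theorem isUnivOpenMor_iff_repWith {X Y : Sp S} {f : X ⟶ Y} (hf : Representable f) :
    IsUnivOpenMor f ↔ RepWith @UniversallyOpen f := by
  rw [show @UniversallyOpen = universally (topologically @IsOpenMap) by ext; rw [universallyOpen_iff]]
  exact univSp_iff_repWith IsOpenMor (topologically @IsOpenMap) (fun A B φ => isOpenMap_map_yon_iff φ)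
    (fun _ _ _ _ _ _ _ _ _ hb sq h => isOpenMap_of_fpqcCover sq hb h) hf

theorem isUnivSubmersiveMor_iff_repWith {X Y : Sp S} {f : X ⟶ Y} (hf : Representable f) :
    IsUnivSubmersiveMor f ↔ RepWith SGA1.UnivSubmersive f := by
  have : (topologically fun {α β : Type u} [TopologicalSpace α] [TopologicalSpace β] (k : α → β) => IsQuotientMap k).RespectsIso :=
    topologically_respectsIso _ (fun e => e.isQuotientMap) fun _ _ hf hg => hg.comp hf
  exact univSp_iff_repWith IsSubmersiveMor (topologically fun f => IsQuotientMap f) (fun A B φ => isQuotientMap_map_yon_iff φ)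
    (fun _ _ _ _ _ _ _ _ _ hb sq h => isQuotientMap_of_fpqcCover sq hb h) hf

end Groth.Agent.AlgSpLib
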