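import Groth.Agent.AlgSpLib.LocPMore
import Groth.Agent.AlgSpLib.RepUniv
import Groth.Agent.AlgSpLib.DiagCrit
import Groth.Agent.AlgSpLib.QCompact
import Groth.Agent.LimDesc.FPCancel

/-!
# Diagonals of morphisms of finite presentation; noetherian sources
-/

set_option autoImplicit false

universe u

open CategoryTheory CategoryTheory.Limits AlgebraicGeometry Opposite

set_option backward.isDefEq.respectTransparency false

namespace Groth.Agent.AlgSpLib

open _root_.AlgSp

variable {S : Scheme.{u}}

theorem locP_id {P : MorphismProperty Scheme.{u}} (hP : EtST P) {X : Sp S} (hX : IsAlgSpace X) : LocP P (𝟙 X) :=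
  fun U V a b h ha hb comm => hP.of_etale _ ((isEtaleMor_iff_locP hX).1
    (fun W φ hφ => by rwa [Category.comp_id]) a b h ha hb comm)

theorem diagonal_lfp {X Y : Sp S} (hX : IsAlgSpace X) (hY : IsAlgSpace Y) {f : X ⟶ Y}
    (hf : LocP @LocallyOfFiniteType f) :
    LocP @LocallyOfFinitePresentation (pullback.diagonal f) ∧
      (IsQuasiSeparatedMor f → IsFinitePresentationMor (pullback.diagonal f)) := by
  have sq := IsPullback.of_hasPullback f f
  have hP := isAlgSpace_of_isPullback_space hY hX hX sq
  have hlft : LocP @LocallyOfFiniteType (pullback.fst f f) :=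
    locP_baseChange etST_lft hX hY hP hX sq.flip hf
  have h1 : LocP @LocallyOfFinitePresentation (pullback.diagonal f) :=
    locP_cancel etST_lfp (Q := @LocallyOfFiniteType)
      (fun _ _ _ f' g' (hg : LocallyOfFiniteType g') (h : LocallyOfFinitePresentation (f' ≫ g')) =>
        LimDesc.lfp_of_comp f' g') hX
      (by rw [pullback.diagonal_fst]; exact locP_id etST_lfp hX) hlft
  refine ⟨h1, fun hq => ⟨h1, (isQuasiCompactMor_iff_repWith hX hP hq.1).2 hq, ?_⟩⟩
  have : Mono (pullback.diagonal f) := inferInstance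
  exact repWith_of_isIso _

theorem isQuasiSeparatedSp_of_mor {X Y : Sp S} {f : X ⟶ Y} (hf : IsQuasiSeparatedMor f)
    (hY : IsQuasiSeparatedSp Y) : IsQuasiSeparatedSp X := by
  let j : pullback f f ⟶ X ⨯ X := prod.lift (pullback.fst f f) (pullback.snd f f)
  have hj : RepWith @QuasiCompact j := by
    refine repWith_baseChange (fst := pullback.fst f f ≫ f) (g := prod.map f f) ?_ hY
    refine isPullback_of_points ?_ fun T a b e => ?_
    · apply prod.hom_ext <;> simp [j, pullback.condition]
    · have e1 : a = (b ≫ prod.fst) ≫ f := by simpa using congrArg (· ≫ prod.fst) e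
      have e2 : a = (b ≫ prod.snd) ≫ f := by simpa using congrArg (· ≫ prod.snd) e
      refine ⟨pullback.lift (b ≫ prod.fst) (b ≫ prod.snd) (e1.symm.trans e2), ⟨?_, ?_⟩, fun c hc => ?_⟩
      · rw [pullback.lift_fst_assoc, e1]
      · apply prod.hom_ext <;> simp [j]
      · apply pullback.hom_ext
        · simp [← hc.2, j]
        · simp [← hc.2, j]
  have e : Limits.diag X = pullback.diagonal f ≫ j := by apply prod.hom_ext <;> simp [j]
  show RepWith @QuasiCompact (Limits.diag X)
  rw [e]
  exact repWith_comp hf hj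

theorem noetherian_source {X Y : Sp S} (hX : IsAlgSpace X) (hY : IsAlgSpace Y) {f : X ⟶ Y}
    (hf : IsFinitePresentationMor f)
    (h : IsQuasiCompactSp Y ∧ IsQuasiSeparatedSp Y ∧ IsLocNoethSp Y) :
    IsQuasiCompactSp X ∧ IsQuasiSeparatedSp X ∧ IsLocNoethSp X :=
  ⟨hf.2.1 hY h.1 (𝟙 Y) (𝟙 X) f IsPullback.of_id_fst, isQuasiSeparatedSp_of_mor hf.2.2 h.2.1,
    isLocNoethSp_of_lft hX hY f (fun _ _ a b k ha hb c => have := hf.1 a b k ha hb c; inferInstance) h.2.2⟩

end Groth.Agent.AlgSpLib
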