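import Groth.Agent.AlgSpLib.LocPMore
import Groth.Agent.BlowUpLib.Cartier
import Groth.Prelude.Def_AlgSpSub

/-!
# Effective Cartier divisors on algebraic spaces and flat base change
-/

set_option autoImplicit false

universe u

open CategoryTheory CategoryTheory.Limits AlgebraicGeometry Opposite

set_option backward.isDefEq.respectTransparency false

namespace Groth.Agent.AlgSpLib

open _root_.AlgSp

variable {S : Scheme.{u}}

theorem exists_comap_square {U V : Over S} (α : U ⟶ V) (I : V.left.IdealSheafData) :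
    ∃ j : Over.mk ((I.comap α.left).subschemeι ≫ U.hom) ⟶ Over.mk (I.subschemeι ≫ V.hom),
      IsPullback ((yon S).map j)
        ((yon S).map (Over.homMk (I.comap α.left).subschemeι rfl : Over.mk ((I.comap α.left).subschemeι ≫ U.hom) ⟶ U))
        ((yon S).map (Over.homMk I.subschemeι rfl : Over.mk (I.subschemeι ≫ V.hom) ⟶ V)) ((yon S).map α) := by
  let e := I.comapIso α.left
  have sq : IsPullback (e.hom ≫ pullback.snd _ _) (I.comap α.left).subschemeι I.subschemeι α.left := by
    refine IsPullback.of_iso_pullback ⟨?_⟩ (e ≪≫ pullbackSymmetry _ _) ?_ ?_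
    · rw [Category.assoc, ← pullback.condition, ← Category.assoc, I.comapIso_hom_fst]
    · simp [e]
    · simp [e]
  exact ⟨Over.homMk (e.hom ≫ pullback.snd _ _) (by
      show (e.hom ≫ pullback.snd _ _) ≫ I.subschemeι ≫ V.hom = (I.comap α.left).subschemeι ≫ U.hom
      rw [← Category.assoc, sq.w, Category.assoc, Over.w α]),
    isPullback_yon_iff.2 sq⟩

theorem isEffCartierSub_flat_baseChange {X Y D P : Sp S} (hX : IsAlgSpace X) (hY : IsAlgSpace Y) {f : X ⟶ Y}
    (hf : LocP @Flat f) {i : D ⟶ Y} (hD : IsEffCartierSub i) {fst : P ⟶ D} {snd : P ⟶ X}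
    (hP : IsPullback fst snd i f) : IsEffCartierSub snd := by
  obtain ⟨hi, V, φ, I, fstV, hφ, hφs, sqV, hI⟩ := hD
  obtain ⟨U, a, α, ha, has, hα⟩ := exists_chart_lift hX hY f hφ hφs
  have : Flat α.left := hf a φ α ha hφ hα
  obtain ⟨j, sqj⟩ := exists_comap_square α I
  have big := sqj.paste_horiz sqV
  rw [← hα] at big
  refine ⟨repWith_baseChange hP hi, U, a, I.comap α.left,
    hP.lift ((yon S).map j ≫ fstV) ((yon S).map (Over.homMk (I.comap α.left).subschemeι rfl :
      Over.mk ((I.comap α.left).subschemeι ≫ U.hom) ⟶ U) ≫ a) (by rw [big.w, Category.assoc]),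
    ha, has, ?_, BlowUpLib.cartier_comap_flat hI α.left⟩
  refine IsPullback.of_right ?_ (hP.lift_snd _ _ _) hP
  rw [hP.lift_fst]
  exact big

end Groth.Agent.AlgSpLib
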