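import Groth.Agent.AlgSpLib.Cover
import Mathlib.CategoryTheory.Sites.LeftExact
import Mathlib.CategoryTheory.Sites.EpiMono

/-!
# Algebraic spaces: sheaf lemmas (base change of local surjections, descent of morphisms, monos)
-/

universe u

open CategoryTheory CategoryTheory.Limits AlgebraicGeometry Opposite

set_option backward.isDefEq.respectTransparency false

namespace Groth.Agent.AlgSpLib

open _root_.AlgSp

variable {S : Scheme.{u}}

/-- locally surjective maps are stable under base change -/
lemma isLocallySurjective_of_isPullback {F G H Q : Sp S} {a : F ⟶ G} {b : H ⟶ G} {b' : Q ⟶ F}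
    {a' : Q ⟶ H} (sq : IsPullback b' a' a b) [Sheaf.IsLocallySurjective b] :
    Sheaf.IsLocallySurjective b' := by
  constructor
  intro U s
  let ζ : (yon S).obj U ⟶ F := (J S).uliftYonedaEquiv.symm s
  refine (J S).superset_covering ?_ (Presheaf.imageSieve_mem (J S) b.hom (U := op U) ((J S).uliftYonedaEquiv (ζ ≫ a)))
  intro V i hi
  obtain ⟨t, ht⟩ := hi
  let l : (yon S).obj V ⟶ H := (J S).uliftYonedaEquiv.symm t
  have hl : ((yon S).map i ≫ ζ) ≫ a = l ≫ b := by
    apply (J S).uliftYonedaEquiv.injective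
    rw [Category.assoc]
    refine ((J S).uliftYonedaEquiv_naturality (ζ ≫ a) i).symm.trans (ht.symm.trans ?_)
    rw [uliftYonedaEquiv_comp', Equiv.apply_symm_apply]
  refine ⟨(J S).uliftYonedaEquiv (sq.lift _ _ hl), ?_⟩
  rw [← uliftYonedaEquiv_comp', sq.lift_fst]
  refine ((J S).uliftYonedaEquiv_naturality ζ i).symm.trans ?_
  rw [Equiv.apply_symm_apply]

lemma epi_yon_map {V U : Over S} (g : V ⟶ U) [Flat g.left] [Surjective g.left]
    [LocallyOfFinitePresentation g.left] : Epi ((yon S).map g) :=
  have := isLocallySurjective_yon_map g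
  inferInstance

/-- maps out of a scheme descend along fppf morphisms of schemes -/
lemma exists_desc {V U : Over S} (g : V ⟶ U) [Flat g.left] [Surjective g.left]
    [LocallyOfFinitePresentation g.left] {F : Sp S} (α : (yon S).obj V ⟶ F)
    (h : ∀ ⦃W : Over S⦄ (p q : W ⟶ V), p ≫ g = q ≫ g → (yon S).map p ≫ α = (yon S).map q ≫ α) :
    ∃ β : (yon S).obj U ⟶ F, (yon S).map g ≫ β = α := by
  have hsh : Presieve.IsSheafFor F.obj (Presieve.singleton g) :=
    (Presieve.isSheafFor_iff_generate _).2 (((isSheaf_iff_isSheaf_of_type _ _).1 F.property) _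
      (QuotShLib.generate_singleton_mem_J (K := Scheme.fppfPrecoverage) g.left.singleton_mem_fppfPrecoverage))
  rw [Presieve.isSheafFor_singleton] at hsh
  obtain ⟨y, hy, -⟩ := hsh ((J S).uliftYonedaEquiv α) fun {Z} p q e => by
    exact ((J S).uliftYonedaEquiv_naturality α p).trans ((congrArg _ (h p q e)).trans
      ((J S).uliftYonedaEquiv_naturality α q).symm)
  refine ⟨(J S).uliftYonedaEquiv.symm y, (J S).uliftYonedaEquiv.injective ?_⟩
  rw [← GrothendieckTopology.uliftYonedaEquiv_naturality, Equiv.apply_symm_apply]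
  exact hy

/-- monomorphisms of sheaves are tested on maps from schemes -/
lemma mono_of_points {F G : Sp S} (f : F ⟶ G)
    (h : ∀ ⦃U : Over S⦄ (a b : (yon S).obj U ⟶ F), a ≫ f = b ≫ f → a = b) : Mono f where
  right_cancellation := fun {Z} p q e => by
    refine (J S).hom_ext_uliftYoneda.{u + 1} fun X x => ?_
    apply h
    rw [Category.assoc, Category.assoc, e]

/-- maps out of a scheme agree if they do on an fppf covering -/
lemma hom_ext_cover {F : Sp S} {T : Over S} {a b : (yon S).obj T ⟶ F} {R : Presieve T.left}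
    (hR : R ∈ Scheme.fppfPrecoverage T.left)
    (h : ∀ ⦃Z : Scheme.{u}⦄ (g : Z ⟶ T.left), R g →
      (yon S).map (Over.homMk g rfl : Over.mk (g ≫ T.hom) ⟶ T) ≫ a =
        (yon S).map (Over.homMk g rfl : Over.mk (g ≫ T.hom) ⟶ T) ≫ b) : a = b := by
  apply (J S).uliftYonedaEquiv.injective
  have hS : (Sieve.overEquiv T).symm (Sieve.generate R) ∈ J S T := by
    refine (GrothendieckTopology.mem_over_iff _ _).2 ?_
    exact ((Sieve.overEquiv T).apply_symm_apply (Sieve.generate R)).symm ▸
      Precoverage.generate_mem_toGrothendieck hR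
  refine (((isSheaf_iff_isSheaf_of_type _ _).1 F.property) _ hS).isSeparatedFor.ext ?_
  intro W i hi
  rw [Sieve.overEquiv_symm_iff] at hi
  obtain ⟨Z, k, g, hg, hk⟩ := hi
  let i' : W ⟶ Over.mk (g ≫ T.hom) := Over.homMk k (by
    show k ≫ g ≫ T.hom = W.hom
    rw [← Category.assoc, hk]; exact Over.w i)
  have hi' : i' ≫ Over.homMk g rfl = i := Over.OverMorphism.ext hk
  rw [GrothendieckTopology.uliftYonedaEquiv_naturality, GrothendieckTopology.uliftYonedaEquiv_naturality,
    ← hi', Functor.map_comp, Category.assoc, Category.assoc, h g hg]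

end Groth.Agent.AlgSpLib
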