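import Groth.Agent.AlgSpLib.Covers
import Groth.Agent.AlgSpLib.SheafLemmas
import Groth.Prelude.Def_AlgSpRep
import Mathlib.CategoryTheory.Sites.EpiMono

/-!
# Representable fppf surjections are epimorphisms of sheaves
-/

set_option autoImplicit false

universe u

open CategoryTheory CategoryTheory.Limits AlgebraicGeometry Opposite

set_option backward.isDefEq.respectTransparency false

namespace Groth.Agent.AlgSpLib

open _root_.AlgSp

variable {S : Scheme.{u}}

theorem isLocallySurjective_of_repBySpWith_fppf {F G : Sp S} (a : F ⟶ G)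
    (ha : RepBySpWith (IsSurjectiveMor ⊓ LocP @Flat ⊓ LocP @LocallyOfFinitePresentation) a.hom) :
    Sheaf.IsLocallySurjective a := by
  constructor
  intro U s
  let ξ : (yon S).obj U ⟶ G := (J S).uliftYonedaEquiv.symm s
  have sq := IsPullback.of_hasPullback a ξ
  obtain ⟨hs, hP, ⟨hsurj, hfl⟩, hfp⟩ := ha ξ.hom (pullback.fst a ξ).hom (pullback.snd a ξ).hom
    (sq.map (sheafToPresheaf (J S) _))
  have hP' : IsAlgSpace (pullback a ξ) := hP
  obtain ⟨κ, Tk, c, hc, hl⟩ := exists_lift_fppfCover (ι := PUnit.{u + 1}) (g := fun _ => pullback.snd a ξ)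
    (IsAlgSpace.yon_obj U) (fun _ => hP') ⟨fun _ => ⟨hfl, hfp⟩, fun z => ⟨⟨⟩, hsurj z⟩⟩ U (𝟙 _)
  refine GrothendieckTopology.superset_covering _ ?_ hc
  rw [Sieve.ofArrows, Sieve.generate_le_iff]
  rintro Z _ ⟨k⟩
  obtain ⟨-, l, hl⟩ := hl k
  refine ⟨(J S).uliftYonedaEquiv (l ≫ pullback.fst a ξ), ?_⟩
  rw [← uliftYonedaEquiv_comp', Category.assoc, sq.w, reassoc_of% hl]
  refine ((J S).uliftYonedaEquiv_naturality ξ (c k)).symm.trans ?_
  rw [Equiv.apply_symm_apply]

theorem epi_of_repBySpWith_fppf {F G : Sp S} (a : F ⟶ G)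
    (ha : RepBySpWith (IsSurjectiveMor ⊓ LocP @Flat ⊓ LocP @LocallyOfFinitePresentation) a.hom) : Epi a :=
  have := isLocallySurjective_of_repBySpWith_fppf a ha
  inferInstance

end Groth.Agent.AlgSpLib
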