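import Groth.Agent.AlgSpLib.Presentation
import Groth.Prelude.Def_AlgSpRep

/-!
# Algebraic spaces: closure properties and morphisms representable by algebraic spaces
-/

universe u

open CategoryTheory CategoryTheory.Limits AlgebraicGeometry Opposite

set_option backward.isDefEq.respectTransparency false

namespace Groth.Agent.AlgSpLib

open _root_.AlgSp

variable {S : Scheme.{u}}

/-- fibre products of algebraic spaces over a sheaf with representable diagonal -/
theorem isAlgSpace_of_isPullback {H X Y P : Sp S} (hH : Representable (Limits.diag H)) (hX : IsAlgSpace X)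
    (hY : IsAlgSpace Y) {f : X ⟶ H} {g : Y ⟶ H} {fst : P ⟶ X} {snd : P ⟶ Y}
    (h : IsPullback fst snd f g) : IsAlgSpace P := by
  obtain ⟨U, p, hpe, hps⟩ := hX.atlas
  obtain ⟨V, q, hqe, hqs⟩ := hY.atlas
  obtain ⟨W, w₁, w₂, sqW⟩ := exists_pullback hH (p ≫ f) (q ≫ g)
  let c : (yon S).obj W ⟶ P := h.lift ((yon S).map w₁ ≫ p) ((yon S).map w₂ ≫ q)
    (by rw [Category.assoc, Category.assoc]; exact sqW.w)
  let A := pullback p fst
  have sqA : IsPullback (pullback.fst p fst) (pullback.snd p fst ≫ snd) (p ≫ f) g :=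
    (IsPullback.of_hasPullback p fst).flip.paste_horiz h.flip |>.flip
  let k : (yon S).obj W ⟶ A := pullback.lift ((yon S).map w₁) c (h.lift_fst _ _ _).symm
  have hk₁ : k ≫ pullback.fst p fst = (yon S).map w₁ := pullback.lift_fst _ _ _
  have hk₂ : k ≫ pullback.snd p fst = c := pullback.lift_snd _ _ _
  have hkc : k ≫ pullback.snd p fst ≫ snd = (yon S).map w₂ ≫ q := by
    rw [← Category.assoc, hk₂, h.lift_snd]
  have sqk : IsPullback ((yon S).map w₂) k q (pullback.snd p fst ≫ snd) := by
    refine IsPullback.of_bot ?_ hkc.symm sqA.flip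
    rw [hk₁]
    exact sqW.flip
  have := (IsPullback.of_hasPullback p fst)
  refine isAlgSpace_of_atlas (p := c) ?_ ?_
  · rw [← hk₂]
    exact repWith_comp (repWith_baseChange sqk hqe) (repWith_baseChange this hpe)
  · rw [← hk₂]
    exact repWith_comp (repWith_baseChange sqk hqs) (repWith_baseChange this hps)

/-- a scheme-indexed fibre product -/
theorem isAlgSpace_of_isPullback_space {H X Y P : Sp S} (hH : IsAlgSpace H) (hX : IsAlgSpace X)
    (hY : IsAlgSpace Y) {f : X ⟶ H} {g : Y ⟶ H} {fst : P ⟶ X} {snd : P ⟶ Y}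
    (h : IsPullback fst snd f g) : IsAlgSpace P :=
  isAlgSpace_of_isPullback hH.diag hX hY h

/-- the source of a map representable by algebraic spaces to an algebraic space -/
theorem isAlgSpace_of_repBySp {F G : Sp S} {f : F ⟶ G} (hf : RepBySp f.hom) (hG : IsAlgSpace G) :
    IsAlgSpace F := by
  obtain ⟨V, q, hqe, hqs⟩ := hG.atlas
  have sq := IsPullback.of_hasPullback f q
  exact isAlgSpace_of_etale_surjective ((repBySp_hom_iff f).1 hf q _ _ sq) (pullback.fst f q)
    (repWith_baseChange sq.flip hqe) (repWith_baseChange sq.flip hqs)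

/-- maps between algebraic spaces are representable by algebraic spaces -/
theorem repBySp_of_isAlgSpace {F G : Sp S} (hF : IsAlgSpace F) (hG : IsAlgSpace G) (f : F ⟶ G) :
    RepBySp f.hom :=
  (repBySp_hom_iff f).2 fun U ξ _ _ _ sq =>
    isAlgSpace_of_isPullback hG.diag hF (IsAlgSpace.yon_obj U) sq

end Groth.Agent.AlgSpLib
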