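import Groth.Agent.AlgSpLib.Sigma
import Groth.Agent.AlgSpLib.Space
import Groth.Agent.FppfSource.Scheme
import Groth.Agent.LimDesc.FPCancel
import Groth.Prelude.Def_AlgSp3
import Mathlib.RingTheory.Flat.FaithfullyFlat.Algebra

/-!
# Properties of morphisms descend along surjections of fppf sheaves
-/

universe u

open CategoryTheory CategoryTheory.Limits AlgebraicGeometry TensorProduct

set_option backward.isDefEq.respectTransparency false

namespace Groth.Agent.AlgSpLib.EpiSource

open _root_.AlgSp

theorem flat_of_factor_ring {R S W T : Type u} [CommRing R] [CommRing S] [CommRing W] [CommRing T]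
    [Algebra R S] [Algebra R W] [Algebra R T] [Algebra S W] [Algebra S T] [Algebra W T]
    [IsScalarTower R S W] [IsScalarTower R S T] [IsScalarTower R W T] [IsScalarTower S W T]
    [Module.FaithfullyFlat S T] [Module.Flat R W] : Module.Flat R S := by
  rw [Module.Flat.iff_lTensor_injective']
  intro I x y hxy
  let α : S →ₗ[R] W := (IsScalarTower.toAlgHom R S W).toLinearMap
  let β : W →ₗ[R] T := (IsScalarTower.toAlgHom R W T).toLinearMap
  have key : ∀ z, TensorProduct.map α LinearMap.id (LinearMap.lTensor S I.subtype z) =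
      LinearMap.lTensor W I.subtype (TensorProduct.map α LinearMap.id z) := by
    intro z
    induction z with
    | zero => simp
    | tmul a b => simp
    | add a b ha hb => simp [ha, hb]
  have h1 : TensorProduct.map α LinearMap.id x = TensorProduct.map α LinearMap.id y := by
    apply Module.Flat.lTensor_preserves_injective_linearMap (M := W) I.subtype Subtype.val_injective
    rw [← key, ← key, hxy]
  let c := (TensorProduct.AlgebraTensorModule.cancelBaseChange R S T T I).toLinearMap
  have h2 : ∀ z : S ⊗[R] I, c ((1 : T) ⊗ₜ[S] z) =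
      TensorProduct.map β LinearMap.id (TensorProduct.map α LinearMap.id z) := by
    intro z
    induction z with
    | zero => simp
    | tmul a b => simp [c, α, β, Algebra.smul_def, ← IsScalarTower.algebraMap_apply]
    | add a b ha hb => rw [TensorProduct.tmul_add, map_add, ha, hb, map_add, map_add]
  apply Module.FaithfullyFlat.tensorProduct_mk_injective (A := S) (B := T) (M := S ⊗[R] I)
  apply (TensorProduct.AlgebraTensorModule.cancelBaseChange R S T T I).injective
  exact (h2 x).trans ((congrArg _ h1).trans (h2 y).symm)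

theorem flat_of_factor {T W U V : Scheme.{u}} (r : T ⟶ W) (q : W ⟶ U) (h : U ⟶ V) [Flat (r ≫ q)]
    [Surjective (r ≫ q)] [Flat (q ≫ h)] : Flat h := by
  rw [Flat.iff_flat_stalkMap]
  intro u
  obtain ⟨t, rfl⟩ := (r ≫ q).surjective u
  change (h.stalkMap (q (r t))).hom.Flat
  have e1 : ((q ≫ h).stalkMap (r t)).hom.Flat := (Flat.iff_flat_stalkMap _).1 ‹_› _
  have e2 : ((r ≫ q).stalkMap t).hom.Flat := (Flat.iff_flat_stalkMap _).1 ‹_› _
  have i2 : IsLocalHom ((r ≫ q).stalkMap t).hom := inferInstance
  rw [Scheme.Hom.stalkMap_comp] at e1 e2 i2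
  let a := (h.stalkMap (q (r t))).hom
  let b := (q.stalkMap (r t)).hom
  let c := (r.stalkMap t).hom
  letI := a.toAlgebra
  letI := b.toAlgebra
  letI := c.toAlgebra
  letI := (c.comp b).toAlgebra
  letI := (b.comp a).toAlgebra
  letI := (c.comp (b.comp a)).toAlgebra
  have : IsScalarTower (V.presheaf.stalk (h (q (r t)))) (U.presheaf.stalk (q (r t))) (W.presheaf.stalk (r t)) :=
    .of_algebraMap_eq fun _ => rfl
  have : IsScalarTower (V.presheaf.stalk (h (q (r t)))) (U.presheaf.stalk (q (r t))) (T.presheaf.stalk t) :=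
    .of_algebraMap_eq fun _ => rfl
  have : IsScalarTower (V.presheaf.stalk (h (q (r t)))) (W.presheaf.stalk (r t)) (T.presheaf.stalk t) :=
    .of_algebraMap_eq fun _ => rfl
  have : IsScalarTower (U.presheaf.stalk (q (r t))) (W.presheaf.stalk (r t)) (T.presheaf.stalk t) :=
    .of_algebraMap_eq fun _ => rfl
  have : Module.Flat (U.presheaf.stalk (q (r t))) (T.presheaf.stalk t) := e2
  have : IsLocalHom (algebraMap (U.presheaf.stalk (q (r t))) (T.presheaf.stalk t)) := i2
  have : Module.FaithfullyFlat (U.presheaf.stalk (q (r t))) (T.presheaf.stalk t) :=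
    Module.FaithfullyFlat.of_flat_of_isLocalHom
  have : Module.Flat (V.presheaf.stalk (h (q (r t)))) (W.presheaf.stalk (r t)) := e1
  exact flat_of_factor_ring (W := W.presheaf.stalk (r t)) (T := T.presheaf.stalk t)

variable {S : Scheme.{u}}

/-- descent of an etale-local property along a surjection of sheaves -/
theorem locP_of_isLocallySurjective (P : MorphismProperty Scheme.{u})
    (hd : ∀ ⦃T W U V : Scheme.{u}⦄ (r : T ⟶ W) (q : W ⟶ U) (h : U ⟶ V), Flat (r ≫ q) →
      LocallyOfFinitePresentation (r ≫ q) → Surjective (r ≫ q) → P (q ≫ h) → P h)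
    {X Y Z : Sp S} (hX : IsAlgSpace X) (hY : IsAlgSpace Y) (g : X ⟶ Y) (f : Y ⟶ Z)
    [Sheaf.IsLocallySurjective g] (h : LocP P (g ≫ f)) : LocP P f := by
  intro U V a b m ha hb comm
  obtain ⟨T, c, l, hc1, hc2, hc3, hl⟩ := exists_fppf_lift g a
  have sq := IsPullback.of_hasPullback g a
  have hP : IsAlgSpace (pullback g a) :=
    isAlgSpace_of_isPullback_space hY hX (IsAlgSpace.yon_obj U) sq
  let L : (yon S).obj T ⟶ pullback g a := pullback.lift l ((yon S).map c) hl
  obtain ⟨W, p, hpe, hps⟩ := hP.atlas
  obtain ⟨T', e, r, sqT⟩ := exists_pullback hP.diag L p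
  have he1 : Etale e.left := (repWith_yon_iff e).1 (repWith_baseChange sqT.flip hpe)
  have he2 : Surjective e.left := (repWith_yon_iff e).1 (repWith_baseChange sqT.flip hps)
  obtain ⟨q, hq⟩ := exists_map_eq (p ≫ pullback.snd g a)
  have hrq : r ≫ q = e ≫ c := (yon S).map_injective (by
    rw [Functor.map_comp, Functor.map_comp, hq, ← Category.assoc, ← sqT.w, Category.assoc,
      pullback.lift_snd])
  have ha' : RepWith @Etale (p ≫ pullback.fst g a) := repWith_comp hpe (repWith_baseChange sq.flip ha)
  have key : P (q ≫ m).left := h _ b (q ≫ m) ha' hb (by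
    rw [Functor.map_comp, hq, Category.assoc, Category.assoc, Category.assoc, pullback.condition_assoc, comm])
  have := hc1; have := hc2; have := hc3
  have e3 : r.left ≫ q.left = e.left ≫ c.left := congrArg (fun k => k.left) hrq
  exact hd r.left q.left m.left (e3 ▸ inferInstanceAs (Flat (e.left ≫ c.left)))
    (e3 ▸ inferInstanceAs (LocallyOfFinitePresentation (e.left ≫ c.left)))
    (e3 ▸ inferInstanceAs (Surjective (e.left ≫ c.left))) key

theorem flat (X Y Z : Sp S) (hX : IsAlgSpace X) (hY : IsAlgSpace Y) (g : X ⟶ Y) (f : Y ⟶ Z)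
    [Sheaf.IsLocallySurjective g] (h : LocP @Flat (g ≫ f)) : LocP @Flat f :=
  locP_of_isLocallySurjective _ (fun T W U V r q k h1 _ h3 h4 => @flat_of_factor _ _ _ _ r q k h1 h3 h4) hX hY g f h

theorem lft (X Y Z : Sp S) (hX : IsAlgSpace X) (hY : IsAlgSpace Y) (g : X ⟶ Y) (f : Y ⟶ Z)
    [Sheaf.IsLocallySurjective g] (h : LocP @LocallyOfFiniteType (g ≫ f)) : LocP @LocallyOfFiniteType f :=
  locP_of_isLocallySurjective _ (fun T W U V r q k h1 h2 h3 h4 => by
    have := h4
    have : LocallyOfFiniteType (r ≫ q) := inferInstance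
    have : LocallyOfFiniteType r := locallyOfFiniteType_of_comp r q
    have : LocallyOfFiniteType ((r ≫ q) ≫ k) := by rw [Category.assoc]; infer_instance
    exact FppfSource.lft (r ≫ q) k) hX hY g f h

theorem lfp (X Y Z : Sp S) (hX : IsAlgSpace X) (hY : IsAlgSpace Y) (g : X ⟶ Y) (f : Y ⟶ Z)
    [Sheaf.IsLocallySurjective g] (h : LocP @LocallyOfFinitePresentation (g ≫ f)) :
    LocP @LocallyOfFinitePresentation f :=
  locP_of_isLocallySurjective _ (fun T W U V r q k h1 h2 h3 h4 => by
    have := h4
    have : LocallyOfFiniteType (q ≫ k) := inferInstance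
    have : LocallyOfFiniteType q := locallyOfFiniteType_of_comp q k
    have : LocallyOfFinitePresentation r := LimDesc.lfp_of_comp r q
    have : LocallyOfFinitePresentation ((r ≫ q) ≫ k) := by rw [Category.assoc]; infer_instance
    exact FppfSource.lfp (r ≫ q) k) hX hY g f h

end Groth.Agent.AlgSpLib.EpiSource
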