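import Groth.Agent.AlgSpLib.PointMisc
import Groth.Prelude.Def_AlgSpOX3
import Mathlib.CategoryTheory.Filtered.Basic

/-!
# Etale neighbourhoods of geometric points
-/

set_option autoImplicit false

universe u

open CategoryTheory CategoryTheory.Limits AlgebraicGeometry Opposite IsLocalRing

set_option backward.isDefEq.respectTransparency false

namespace Groth.Agent.AlgSpLib

open _root_.AlgSp

variable {S : Scheme.{u}}

theorem exists_lift_covering {X : Sp S} (p : FieldPt X) (hp : p.IsGeometric) (N : EtNbhd p) {ι : Type u}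
    (Ui : ι → EtOver X) (g : ∀ i, Ui i ⟶ N.1) (hcov : Presieve.ofArrows Ui g ∈ etPre X N.1) :
    ∃ (i : ι) (ui : (FieldPt.liftsTo p).obj (Ui i)), (FieldPt.liftsTo p).map (g i) ui = N.2 := by
  have : IsAlgClosed p.K := hp
  let nu : Spec (CommRingCat.of p.K) ⟶ N.1.obj.left.left := N.2.1.left
  obtain ⟨i, v, hv⟩ := (ofArrows_mem_etPre_iff Ui g).1 hcov (nu (closedPoint p.K))
  have : Etale (g i).hom.left.left := EtOver.etale_left (g i)
  obtain ⟨l, hl⟩ := SpQS.exists_lift_of_etale (g i).hom.left.left nu hv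
  let m : p.pt ⟶ (Ui i).obj.left := Over.homMk l (by
    show l ≫ (Ui i).obj.left.hom = p.str
    rw [← Over.w (g i).hom.left, ← Category.assoc, hl]
    exact Over.w N.2.1)
  have hm : m ≫ (g i).hom.left = N.2.1 := Over.OverMorphism.ext hl
  refine ⟨i, ⟨m, ?_⟩, Subtype.ext ((FieldPt.liftsTo_map_coe p (g i) _).trans hm)⟩
  rw [← EtOver.w (g i), ← Functor.map_comp_assoc, hm]
  exact N.2.2

theorem isCofiltered_etNbhd {X : Sp S} (hX : IsAlgSpace X) (p : FieldPt X) (hp : p.IsGeometric) :
    IsCofiltered (EtNbhd p) := by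
  have hne : Nonempty (EtNbhd p) := by
    obtain ⟨U, a, ha, has⟩ := hX.atlas
    obtain ⟨x, hx⟩ := isSurjectiveMor_of_repWith has (Points.mk p)
    obtain ⟨ubar, hu, -⟩ := exists_geometric_lift_etale (IsAlgSpace.yon_obj U) hX
      (isEtaleMor_of_repWith' ha) p hp x hx
    obtain ⟨l, rfl⟩ := exists_map_eq ubar
    exact ⟨⟨EtOver.mk a ha, ⟨l, hu⟩⟩⟩
  have hobjs : ∀ N M : EtNbhd p, ∃ (P : EtNbhd p) (_ : P ⟶ N) (_ : P ⟶ M), True := by
    intro N M
    obtain ⟨W, q, r, sq⟩ := exists_pullback hX.diag N.1.obj.hom M.1.obj.hom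
    have hq : Etale q.left := (repWith_yon_iff q).1 (repWith_baseChange sq.flip M.1.property)
    let P : EtOver X := EtOver.mk ((yon S).map q ≫ N.1.obj.hom)
      (repWith_comp ((repWith_yon_iff q).2 hq) N.1.property)
    have e : (yon S).map N.2.1 ≫ N.1.obj.hom = (yon S).map M.2.1 ≫ M.1.obj.hom := N.2.2.trans M.2.2.symm
    obtain ⟨l, hl⟩ := exists_map_eq (sq.lift _ _ e)
    have h1 : l ≫ q = N.2.1 := (yon S).map_injective (by rw [Functor.map_comp, hl, sq.lift_fst])
    have h2 : l ≫ r = M.2.1 := (yon S).map_injective (by rw [Functor.map_comp, hl, sq.lift_snd])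
    let u : (FieldPt.liftsTo p).obj P := ⟨l, by
      show (yon S).map l ≫ (yon S).map q ≫ N.1.obj.hom = _
      rw [← Functor.map_comp_assoc, h1]; exact N.2.2⟩
    exact ⟨⟨P, u⟩, CategoryOfElements.homMk _ _ (EtOver.homMk q rfl : P ⟶ N.1) (Subtype.ext h1),
      CategoryOfElements.homMk _ _ (EtOver.homMk r sq.w.symm : P ⟶ M.1) (Subtype.ext h2), trivial⟩
  have hmaps : ∀ (N M : EtNbhd p) (f g : N ⟶ M), ∃ (P : EtNbhd p) (h : P ⟶ N), h ≫ f = h ≫ g := by
    intro N M f g
    obtain ⟨V, v₁, v₂, sqV⟩ := exists_pullback hX.diag M.1.obj.hom M.1.obj.hom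
    have hv : Etale v₁.left := (repWith_yon_iff v₁).1 (repWith_baseChange sqV.flip M.1.property)
    let V' : EtOver X := EtOver.mk ((yon S).map v₁ ≫ M.1.obj.hom)
      (repWith_comp ((repWith_yon_iff v₁).2 hv) M.1.property)
    obtain ⟨d, hd⟩ := exists_map_eq (sqV.lift (𝟙 _) (𝟙 _) rfl)
    have hd1 : d ≫ v₁ = 𝟙 _ := (yon S).map_injective (by
      rw [Functor.map_comp, hd, sqV.lift_fst, CategoryTheory.Functor.map_id])
    have hd2 : d ≫ v₂ = 𝟙 _ := (yon S).map_injective (by
      rw [Functor.map_comp, hd, sqV.lift_snd, CategoryTheory.Functor.map_id])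
    have hde : Etale d.left := EtOver.etale_left (EtOver.homMk d (by
      show (yon S).map d ≫ (yon S).map v₁ ≫ M.1.obj.hom = _
      rw [← Functor.map_comp_assoc, hd1, CategoryTheory.Functor.map_id, Category.id_comp]) : M.1 ⟶ V')
    have efg : (yon S).map f.1.hom.left ≫ M.1.obj.hom = (yon S).map g.1.hom.left ≫ M.1.obj.hom :=
      (EtOver.w f.1).trans (EtOver.w g.1).symm
    obtain ⟨k, hk⟩ := exists_map_eq (sqV.lift _ _ efg)
    have hk1 : k ≫ v₁ = f.1.hom.left := (yon S).map_injective (by rw [Functor.map_comp, hk, sqV.lift_fst])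
    have hk2 : k ≫ v₂ = g.1.hom.left := (yon S).map_injective (by rw [Functor.map_comp, hk, sqV.lift_snd])
    obtain ⟨Q, qN, qM, sqQ⟩ := exists_pullback (IsAlgSpace.yon_obj V).diag ((yon S).map k) ((yon S).map d)
    have hqN : Etale qN.left := MorphismProperty.of_isPullback (P := @Etale) ((isPullback_yon_iff.1 sqQ).flip) hde
    let P : EtOver X := EtOver.mk ((yon S).map qN ≫ N.1.obj.hom)
      (repWith_comp ((repWith_yon_iff qN).2 hqN) N.1.property)
    have hf : N.2.1 ≫ f.1.hom.left = M.2.1 := congrArg Subtype.val f.2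
    have hg : N.2.1 ≫ g.1.hom.left = M.2.1 := congrArg Subtype.val g.2
    have e : (yon S).map N.2.1 ≫ (yon S).map k = (yon S).map M.2.1 ≫ (yon S).map d := by
      rw [← Functor.map_comp, ← Functor.map_comp]
      refine congrArg (yon S).map ((yon S).map_injective (sqV.hom_ext ?_ ?_))
      · rw [← Functor.map_comp, ← Functor.map_comp, Category.assoc, Category.assoc, hk1, hd1, hf, Category.comp_id]
      · rw [← Functor.map_comp, ← Functor.map_comp, Category.assoc, Category.assoc, hk2, hd2, hg, Category.comp_id]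
    obtain ⟨l, hl⟩ := exists_map_eq (sqQ.lift _ _ e)
    have h1 : l ≫ qN = N.2.1 := (yon S).map_injective (by rw [Functor.map_comp, hl, sqQ.lift_fst])
    let u : (FieldPt.liftsTo p).obj P := ⟨l, by
      show (yon S).map l ≫ (yon S).map qN ≫ N.1.obj.hom = _
      rw [← Functor.map_comp_assoc, h1]; exact N.2.2⟩
    refine ⟨⟨P, u⟩, CategoryOfElements.homMk _ _ (EtOver.homMk qN rfl : P ⟶ N.1) (Subtype.ext h1),
      CategoryOfElements.ext _ _ _ (EtOver.hom_ext _ _ ?_)⟩
    have hw : qN ≫ k = qM ≫ d := (yon S).map_injective (by rw [Functor.map_comp, Functor.map_comp, sqQ.w])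
    show qN ≫ f.1.hom.left = qN ≫ g.1.hom.left
    rw [← hk1, ← hk2, ← Category.assoc, ← Category.assoc, hw, Category.assoc, Category.assoc, hd1, hd2]
  exact { cone_objs := fun N M => hobjs N M
          cone_maps := fun N M f g => hmaps N M f g
          nonempty := hne }

end Groth.Agent.AlgSpLib
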