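import Groth.Agent.AlgSpLib.LocPMore
import Groth.Agent.DimChain.Basic
import Groth.Prelude.Def_AlgSpDec

/-!
# Dimension of algebraic spaces and etale surjections
-/

set_option autoImplicit false

universe u

open CategoryTheory CategoryTheory.Limits AlgebraicGeometry Opposite

set_option backward.isDefEq.respectTransparency false

namespace Groth.Agent.AlgSpLib

open _root_.AlgSp

variable {S : Scheme.{u}}

theorem dim_eq_of_etale_surjective {F G : Sp S} (hF : IsAlgSpace F) (hG : IsAlgSpace G) {f : F ⟶ G}
    (hf : IsEtaleMor f) (hs : IsSurjectiveMor f) : AlgSp.dim F = AlgSp.dim G := by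
  refine le_antisymm (iSup_le fun U => iSup_le fun a => iSup_le fun ha => ?_)
    (iSup_le fun V => iSup_le fun b => iSup_le fun hb => ?_)
  · exact le_iSup_of_le U (le_iSup_of_le (a ≫ f) (le_iSup_of_le (hf a ha) le_rfl))
  · obtain ⟨U, a, ha, has⟩ := hF.atlas
    obtain ⟨W, p, q, sq⟩ := exists_pullback hG.diag (a ≫ f) b
    have hp : Etale p.left := (repWith_yon_iff p).1 (repWith_baseChange sq.flip hb)
    have hq : Etale q.left := (repWith_yon_iff q).1 (repWith_baseChange sq (hf a ha))
    have hqs : Function.Surjective q.left := fun v => by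
      obtain ⟨x, hx⟩ := hs (Points.ofPt b v)
      obtain ⟨u, rfl⟩ := ofPt_surjective has x
      rw [Points.map_ofPt] at hx
      obtain ⟨w, -, hw⟩ := (ofPt_eq_iff sq u v).1 hx
      exact ⟨w, hw⟩
    exact (DimChain.le_of_generalizingMap q.left (Flat.generalizingMap q.left) hqs).trans
      (le_iSup_of_le W (le_iSup_of_le ((yon S).map p ≫ a)
        (le_iSup_of_le (repWith_comp ((repWith_yon_iff p).2 hp) ha) le_rfl)))

end Groth.Agent.AlgSpLib
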