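import Groth.Agent.AlgSpLib.Space
import Groth.Agent.AlgSpLib.Points
import Groth.Prelude.Def_AlgSp3
import Mathlib.RingTheory.Flat.FaithfullyFlat.Algebra
import Mathlib.RingTheory.Ideal.GoingDown
import Mathlib.RingTheory.LocalRing.ResidueField.Fiber
import Mathlib.RingTheory.FiniteType
import Mathlib.RingTheory.Spectrum.Prime.Topology
import Mathlib.AlgebraicGeometry.Morphisms.Flat
import Mathlib.AlgebraicGeometry.Morphisms.FiniteType
import Mathlib.Topology.Irreducible

/-!
# Flat morphisms of finite type and finitely many irreducible components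
-/

set_option autoImplicit false

universe u

open CategoryTheory CategoryTheory.Limits AlgebraicGeometry TensorProduct

set_option backward.isDefEq.respectTransparency false

namespace Groth.Agent.AlgSpLib.FlatLFIC

open _root_.AlgSp

theorem finite_minimalPrimes {A B : Type u} [CommRing A] [CommRing B] [Algebra A B] [Module.Flat A B]
    [Algebra.FiniteType A B] (h : (minimalPrimes A).Finite) : (minimalPrimes B).Finite := by
  have hsub : minimalPrimes B ⊆ ⋃ p ∈ minimalPrimes A, {q | q ∈ minimalPrimes B ∧ q.comap (algebraMap A B) = p} := by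
    intro q hq
    have hqp : q.IsPrime := hq.1.1
    refine Set.mem_biUnion (x := q.comap (algebraMap A B)) ⟨⟨inferInstance, bot_le⟩, fun p' hp' hle => ?_⟩ ⟨hq, rfl⟩
    have : p'.IsPrime := hp'.1
    obtain ⟨q', hq'le, hq'p, hq'o⟩ := Ideal.exists_ideal_le_liesOver_of_le (S := B) (p := p')
      (q := q.comap (algebraMap A B)) q hle
    have : q ≤ q' := hq.2 ⟨hq'p, bot_le⟩ hq'le
    exact (Ideal.comap_mono this).trans hq'o.over.ge
  refine (h.biUnion fun p hp => ?_).subset hsub
  have : p.IsPrime := hp.1.1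
  classical
  have : IsNoetherianRing (p.Fiber B) := Algebra.FiniteType.isNoetherianRing p.ResidueField _
  have hf : (minimalPrimes (p.Fiber B)).Finite := minimalPrimes.finite_of_isNoetherianRing _
  let e := PrimeSpectrum.primesOverOrderIsoFiber A B p
  refine ((hf.image fun P => if hP : P.IsPrime then (e.symm ⟨P, hP⟩).1 else ⊥)).subset ?_
  rintro q ⟨hq, rfl⟩
  have hqp : q.IsPrime := hq.1.1
  let Q : (q.comap (algebraMap A B)).primesOver B := ⟨q, hqp, ⟨rfl⟩⟩
  refine ⟨(e Q).asIdeal, ⟨⟨(e Q).isPrime, bot_le⟩, fun P hP hle => ?_⟩, ?_⟩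
  · have : P.IsPrime := hP.1
    have hle' : e.symm ⟨P, hP.1⟩ ≤ Q := (e.symm.monotone (show (⟨P, hP.1⟩ : PrimeSpectrum _) ≤ e Q from hle)).trans
      (e.symm_apply_apply Q).le
    have : e.symm ⟨P, hP.1⟩ = Q := le_antisymm hle' (hq.2 ⟨(e.symm ⟨P, hP.1⟩).2.1, bot_le⟩ hle')
    exact (show e Q ≤ ⟨P, hP.1⟩ from (e.le_symm_apply).1 this.ge)
  · show (if hP : (e Q).asIdeal.IsPrime then (e.symm ⟨_, hP⟩).1 else ⊥) = q
    rw [dif_pos (e Q).isPrime]
    exact congrArg Subtype.val (e.symm_apply_apply Q)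

theorem finite_of_cover {X : Type u} [TopologicalSpace X] {ι : Type*} [Finite ι] (O : ι → Set X)
    (ho : ∀ i, IsOpen (O i)) (hc : ∀ x, ∃ i, x ∈ O i) (h : ∀ i, (irreducibleComponents ↥(O i)).Finite) :
    (irreducibleComponents X).Finite := by
  refine (Set.finite_iUnion fun i => (h i).image fun C => closure (Subtype.val '' C)).subset fun Z hZ => ?_
  obtain ⟨x, hx⟩ := hZ.1.1
  obtain ⟨i, hi⟩ := hc x
  refine Set.mem_iUnion.2 ⟨i, Subtype.val ⁻¹' Z,
    preimage_mem_irreducibleComponents hZ (ho i).isOpenEmbedding_subtypeVal ⟨x, hx, ⟨x, hi⟩, rfl⟩, ?_⟩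
  show closure (Subtype.val '' (Subtype.val ⁻¹' Z)) = Z
  rw [Set.image_preimage_eq_inter_range, Subtype.range_coe]
  refine subset_antisymm (closure_minimal Set.inter_subset_left (isClosed_of_mem_irreducibleComponents _ hZ)) ?_
  exact subset_closure_inter_of_isPreirreducible_of_isOpen hZ.1.2 (ho i) ⟨x, hx, hi⟩

theorem finite_of_homeomorph {X Y : Type u} [TopologicalSpace X] [TopologicalSpace Y] (e : X ≃ₜ Y)
    (h : (irreducibleComponents Y).Finite) : (irreducibleComponents X).Finite := by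
  refine (h.image fun C => e ⁻¹' C).subset fun Z hZ => ⟨e '' Z, ?_, e.preimage_image Z⟩
  have hm := preimage_mem_irreducibleComponents hZ e.symm.isOpenEmbedding (by
    obtain ⟨x, hx⟩ := hZ.1.1
    exact ⟨x, hx, e x, e.symm_apply_apply x⟩)
  rwa [e.image_eq_preimage_symm]

theorem finite_affine_iff {X : Scheme.{u}} {V : X.Opens} (hV : IsAffineOpen V) :
    (irreducibleComponents ↥V).Finite ↔ (minimalPrimes Γ(X, V)).Finite := by
  let e : ↥V ≃ₜ PrimeSpectrum Γ(X, V) := hV.isoSpec.hom.homeomorph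
  constructor
  · intro h
    have h' : (irreducibleComponents (PrimeSpectrum Γ(X, V))).Finite := finite_of_homeomorph e.symm h
    rw [← PrimeSpectrum.vanishingIdeal_irreducibleComponents]
    exact h'.image _
  · intro h
    refine finite_of_homeomorph e ?_
    rw [← PrimeSpectrum.zeroLocus_minimalPrimes]
    exact h.image _

theorem finite_irreducibleComponents_of_flat {X Y : Scheme.{u}} (f : X ⟶ Y) [Flat f] [LocallyOfFiniteType f]
    (hY : ∀ W : Y.Opens, IsCompact (W : Set ↥Y) → (irreducibleComponents ↥W).Finite) (W : X.Opens)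
    (hW : IsCompact (W : Set ↥X)) : (irreducibleComponents ↥W).Finite := by
  have key : ∀ x : W, ∃ U : X.Opens, (x : X) ∈ U ∧ U ≤ W ∧ (irreducibleComponents ↥U).Finite := by
    rintro ⟨x, hx⟩
    obtain ⟨V, hV, hxV, -⟩ := exists_isAffineOpen_mem_and_subset (TopologicalSpace.Opens.mem_top (f x))
    obtain ⟨U, hU, hxU, hUW⟩ := exists_isAffineOpen_mem_and_subset (show x ∈ W ⊓ f ⁻¹ᵁ V from ⟨hx, hxV⟩)
    refine ⟨U, hxU, fun y hy => (hUW hy).1, (finite_affine_iff hU).2 ?_⟩
    have hUV : U ≤ f ⁻¹ᵁ V := fun y hy => (hUW hy).2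
    have h1 := HasRingHomProperty.appLE @Flat f inferInstance ⟨V, hV⟩ ⟨U, hU⟩ hUV
    have h2 := HasRingHomProperty.appLE @LocallyOfFiniteType f inferInstance ⟨V, hV⟩ ⟨U, hU⟩ hUV
    algebraize [(f.appLE V U hUV).hom]
    exact finite_minimalPrimes (A := Γ(Y, V)) ((finite_affine_iff hV).1 (hY V hV.isCompact))
  choose U hxU hUW hfin using key
  obtain ⟨t, ht⟩ := hW.elim_finite_subcover (fun x : W => (U x : Set X)) (fun x => (U x).isOpen)
    (fun y hy => Set.mem_iUnion.2 ⟨⟨y, hy⟩, hxU _⟩)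
  refine finite_of_cover (ι := ↥t) (fun i => (Subtype.val : W → X) ⁻¹' (U i.1 : Set X))
    (fun i => (U i.1).isOpen.preimage continuous_subtype_val) (fun y => ?_) fun i => ?_
  · obtain ⟨i, hi, hy⟩ := Set.mem_iUnion₂.1 (ht y.2)
    exact ⟨⟨i, hi⟩, hy⟩
  · let e : ↥((Subtype.val : W → X) ⁻¹' (U i.1 : Set X)) ≃ₜ ↥(U i.1) :=
      { toFun := fun y => ⟨y.1.1, y.2⟩
        invFun := fun y => ⟨⟨y.1, hUW _ y.2⟩, y.2⟩
        left_inv := fun y => rfl
        right_inv := fun y => rfl
        continuous_toFun := by fun_prop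
        continuous_invFun := by fun_prop }
    exact finite_of_homeomorph e (hfin i.1)

theorem etaleLocally_of_flat_lft {S : Scheme.{u}} {X Y : Sp S} (hX : IsAlgSpace X) (hY' : IsAlgSpace Y) (f : X ⟶ Y)
    (hf : LocP @Flat f) (hf' : LocP @LocallyOfFiniteType f)
    (hY : EtaleLocally (fun U => ∀ W : U.Opens, IsCompact (W : Set ↥U) → (irreducibleComponents ↥W).Finite) Y) :
    EtaleLocally (fun U => ∀ W : U.Opens, IsCompact (W : Set ↥U) → (irreducibleComponents ↥W).Finite) X := by
  obtain ⟨V, b, hb, hbs, hV⟩ := hY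
  have sq := IsPullback.of_hasPullback f b
  have hQ : IsAlgSpace (pullback f b) := isAlgSpace_of_isPullback_space hY' hX (IsAlgSpace.yon_obj V) sq
  obtain ⟨W, c, hce, hcs⟩ := hQ.atlas
  obtain ⟨h, hh⟩ := exists_map_eq (c ≫ pullback.snd f b)
  have ha : RepWith @Etale (c ≫ pullback.fst f b) := repWith_comp hce (repWith_baseChange sq.flip hb)
  refine ⟨W, c ≫ pullback.fst f b, ha, repWith_comp hcs (repWith_baseChange sq.flip hbs), ?_⟩
  have e : (c ≫ pullback.fst f b) ≫ f = (yon S).map h ≫ b := by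
    rw [hh, Category.assoc, Category.assoc, pullback.condition]
  have : Flat h.left := hf _ b h ha hb e
  have : LocallyOfFiniteType h.left := hf' _ b h ha hb e
  exact fun O hO => finite_irreducibleComponents_of_flat h.left hV O hO

end Groth.Agent.AlgSpLib.FlatLFIC
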