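import Groth.Agent.AlgSpLib.FpqcLocP
import Groth.Agent.AlgSpLib.Covers
import Groth.Agent.AlgSpLib.Criteria

/-!
# Base change and local nature of fpqc coverings
-/

set_option autoImplicit false

universe u

open CategoryTheory CategoryTheory.Limits AlgebraicGeometry Opposite

set_option backward.isDefEq.respectTransparency false

namespace Groth.Agent.AlgSpLib

open _root_.AlgSp

variable {S : Scheme.{u}}

theorem isFpqcCover_of_chart {X : Sp S} (hX : IsAlgSpace X) {ι : Type u} {Xi : ι → Sp S}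
    (hXi : ∀ i, IsAlgSpace (Xi i)) (g : ∀ i, Xi i ⟶ X) {U : Over S} {b : (yon S).obj U ⟶ X}
    (hb : RepWith @Etale b) (hbs : RepWith @Surjective b) {Ui : ι → Sp S} (q : ∀ i, Ui i ⟶ (yon S).obj U)
    (p : ∀ i, Ui i ⟶ Xi i) (sq : ∀ i, IsPullback (q i) (p i) b (g i))
    (h : IsFpqcCover Ui q) : IsFpqcCover Xi g := by
  have hUi : ∀ i, IsAlgSpace (Ui i) := fun i =>
    isAlgSpace_of_isPullback_space hX (IsAlgSpace.yon_obj U) (hXi i) (sq i)
  refine ⟨fun i => of_chart (isLocalOnBase_locP etST_flat) (hXi i) hX (g i) hb hbs (sq i).flip (h.1 i),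
    fun Z hZ ξ => ?_⟩
  have hc := isFpqcCover_comp hX (fun _ : PUnit.{u + 1} => IsAlgSpace.yon_obj U) (isFpqcCover_chart hX hb hbs)
    (κ := fun _ => ι) (Xij := fun _ i => Ui i) (gij := fun _ i => q i) fun _ => h
  obtain ⟨m, W, c, hW, hc', hs, hl⟩ := hc.2 Z hZ ξ
  refine ⟨m, W, c, hW, hc', hs, fun j => ?_⟩
  obtain ⟨⟨_, i⟩, l, hl⟩ := hl j
  refine ⟨i, l ≫ p i, ?_⟩
  rw [Category.assoc, ← (sq i).w]
  exact hl

end Groth.Agent.AlgSpLib
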