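import Groth.Agent.AlgSpLib.FpqcRep
import Groth.Agent.AlgSpLib.LocP
import Groth.Agent.AlgSpLib.DiagProp

/-!
# Algebraic spaces: properties local on the base for fpqc coverings
-/

universe u

open CategoryTheory CategoryTheory.Limits AlgebraicGeometry Opposite

set_option backward.isDefEq.respectTransparency false

namespace Groth.Agent.AlgSpLib

open _root_.AlgSp

variable {S : Scheme.{u}}

/-- base change of fpqc coverings -/
theorem isFpqcCover_baseChange {ι : Type u} {Y B : Sp S} {Yi Bi : ι → Sp S} {g : ∀ i, Yi i ⟶ Y}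
    (hY : IsAlgSpace Y) (hYi : ∀ i, IsAlgSpace (Yi i)) (hB : IsAlgSpace B) (hg : IsFpqcCover Yi g)
    {h : B ⟶ Y} {b : ∀ i, Bi i ⟶ B} {a : ∀ i, Bi i ⟶ Yi i} (sq : ∀ i, IsPullback (b i) (a i) h (g i)) :
    IsFpqcCover Bi b := by
  refine ⟨fun i => locP_baseChange etST_flat (hYi i) hY
    (isAlgSpace_of_isPullback_space hY hB (hYi i) (sq i)) hB (sq i).flip (hg.1 i), fun Z hZ ξ => ?_⟩
  obtain ⟨m, W, c, hW, hc, hs, hl⟩ := hg.2 Z hZ (ξ ≫ h)
  refine ⟨m, W, c, hW, hc, hs, fun j => ?_⟩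
  obtain ⟨i, l, hl⟩ := hl j
  exact ⟨i, (sq i).lift ((yon S).map (c j) ≫ ξ) l (by rw [Category.assoc, hl]), (sq i).lift_fst _ _ _⟩

/-- representable morphisms: properties descend along fpqc coverings -/
theorem repWith_of_fpqcCover_representable (Q : MorphismProperty Scheme.{u}) [Q.IsStableUnderBaseChange]
    [IsZariskiLocalAtTarget Q] [Q.DescendsAlong (@Surjective ⊓ @Flat ⊓ @QuasiCompact)]
    {ι : Type u} {X Y : Sp S} {Yi : ι → Sp S} {g : ∀ i, Yi i ⟶ Y}
    (hg : IsFpqcCover Yi g) (f : X ⟶ Y) (hf : Representable f) (Xi : ι → Sp S) (p : ∀ i, Xi i ⟶ Yi i)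
    (q : ∀ i, Xi i ⟶ X) (sq : ∀ i, IsPullback (q i) (p i) f (g i)) (h : ∀ i, RepWith Q (p i)) :
    RepWith Q f := by
  refine repWith_of_exists fun T ξ => ?_
  obtain ⟨W, fst, w, sqW⟩ := exists_isPullback_of_representable hf ξ
  refine ⟨W, fst, w, sqW, ?_⟩
  show Q w.left
  rw [IsZariskiLocalAtTarget.iff_of_openCover (P := Q) T.left.affineCover]
  intro j
  let Z : Over S := Over.mk (T.left.affineCover.f j ≫ T.hom)
  let κ : Z ⟶ T := Over.homMk (T.left.affineCover.f j) rfl
  have : IsAffine Z.left := inferInstanceAs (IsAffine (T.left.affineCover.X j))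
  obtain ⟨K, _, A, fA, c, hA, _, _, _, _, hl⟩ := exists_pieces hg this ((yon S).map κ ≫ ξ)
  refine MorphismProperty.of_pullback_snd_of_descendsAlong (P := Q)
    (Q := @Surjective ⊓ @Flat ⊓ @QuasiCompact) (g := c.left) ⟨⟨‹_›, ‹_›⟩, ‹_›⟩ ?_
  · rw [IsZariskiLocalAtTarget.iff_of_openCover (P := Q) (sigmaOpenCover A)]
    intro k
    obtain ⟨i, l, hl⟩ := hl k
    obtain ⟨V, z, v, sqk, hv⟩ := exists_repWith (h i) l
    have big : IsPullback (z ≫ q i) ((yon S).map v) f ((yon S).map (sigmaInj fA k ≫ c ≫ κ) ≫ ξ) := by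
      rw [show (yon S).map (sigmaInj fA k ≫ c ≫ κ) ≫ ξ = l ≫ g i by
        rw [hl]; simp only [Functor.map_comp, Category.assoc]]
      exact sqk.paste_horiz (sq i)
    obtain ⟨r, hr⟩ := exists_map_eq (sqW.lift (z ≫ q i) ((yon S).map (v ≫ sigmaInj fA k ≫ c ≫ κ))
      (by rw [big.w, Functor.map_comp _ v, Category.assoc]))
    have sqr : IsPullback r.left v.left w.left (sigmaInj fA k ≫ c ≫ κ).left := by
      refine isPullback_yon_iff.1 (IsPullback.of_right ?_ (by rw [hr, sqW.lift_snd, Functor.map_comp]) sqW)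
      rw [hr, sqW.lift_fst]
      exact big
    have e := (((IsPullback.of_hasPullback (pullback.snd (w.left) (T.left.affineCover.f j)) c.left).paste_horiz
      (IsPullback.of_hasPullback w.left (T.left.affineCover.f j))))
    have e' := (IsPullback.of_hasPullback (pullback.snd (pullback.snd w.left (T.left.affineCover.f j)) c.left)
      (Sigma.ι A k)).paste_horiz e
    exact (Q.arrow_mk_iso_iff (Arrow.isoMk (sqr.isoIsPullback _ _ e') (Iso.refl _)
      ((sqr.isoIsPullback_hom_snd _ _ e').trans (Category.comp_id _).symm))).1 hv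

/-- a property of representable morphisms, ind-quasi-affine, is fpqc local on the base -/
theorem isLocalOnBase_repWith (Q : MorphismProperty Scheme.{u}) [Q.IsStableUnderBaseChange]
    [IsZariskiLocalAtTarget Q] [Q.DescendsAlong (@Surjective ⊓ @Flat ⊓ @QuasiCompact)]
    (hQ : ∀ ⦃A B : Scheme.{u}⦄ (q : A ⟶ B), Q q → MoreMor.IsIndQuasiAffineHom q) :
    IsLocalOnBase (IsFpqcCover (S := S)) (RepWith Q) := by
  intro ι Y Yi g hY _ hg X f hX Xi p q _ sq
  exact ⟨fun h i => repWith_baseChange (sq i) h,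
    fun h => repWith_of_fpqcCover Q hQ hY hX hg f Xi p q sq h⟩

/-- the diagonals of base changes are the base changes of the diagonal along an fpqc covering -/
theorem exists_diagonal_squares {ι : Type u} {X Y : Sp S} {Yi Xi : ι → Sp S} {g : ∀ i, Yi i ⟶ Y}
    (hY : IsAlgSpace Y) (hYi : ∀ i, IsAlgSpace (Yi i)) (hX : IsAlgSpace X) (hXi : ∀ i, IsAlgSpace (Xi i))
    (hg : IsFpqcCover Yi g) {f : X ⟶ Y} {p : ∀ i, Xi i ⟶ Yi i} {q : ∀ i, Xi i ⟶ X}
    (sq : ∀ i, IsPullback (q i) (p i) f (g i)) :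
    ∃ b : ∀ i, pullback (p i) (p i) ⟶ pullback f f, IsAlgSpace (pullback f f) ∧
      (∀ i, IsAlgSpace (pullback (p i) (p i))) ∧ IsFpqcCover (fun i => pullback (p i) (p i)) b ∧
      ∀ i, IsPullback (q i) (pullback.diagonal (p i)) (pullback.diagonal f) (b i) := by
  let b : ∀ i, pullback (p i) (p i) ⟶ pullback f f := fun i =>
    pullback.map _ _ _ _ (q i) (q i) (g i) (sq i).w.symm (sq i).w.symm
  have hb : ∀ i, IsPullback (b i) (pullback.fst (p i) (p i) ≫ p i) (pullback.fst f f ≫ f) (g i) := by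
    intro i
    have h₁ := (IsPullback.of_hasPullback (p i) (p i)).flip.paste_horiz (sq i)
    have h₂ : IsPullback (b i) (pullback.fst (p i) (p i)) (pullback.fst f f) (q i) := by
      refine IsPullback.of_right ?_ (pullback.lift_fst _ _ _) (IsPullback.of_hasPullback f f).flip
      rw [(sq i).w]
      convert h₁ using 1
      exact pullback.lift_snd _ _ _
    exact h₂.paste_vert (sq i)
  have hB : IsAlgSpace (pullback f f) :=
    isAlgSpace_of_isPullback_space hY hX hX (IsPullback.of_hasPullback f f)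
  refine ⟨b, hB, fun i => isAlgSpace_of_isPullback_space (hYi i) (hXi i) (hXi i) (IsPullback.of_hasPullback _ _),
    isFpqcCover_baseChange hY hYi hB hg hb, fun i => ?_⟩
  refine IsPullback.of_bot ?_ ?_ (hb i)
  · simpa only [pullback.diagonal_fst_assoc] using sq i
  · apply pullback.hom_ext <;> simp [b]

/-- properties of diagonals -/
theorem isLocalOnBase_diagonal (P : MorphismProperty (Sp S))
    (hP : IsLocalOnBase (IsFpqcCover (S := S)) P) :
    IsLocalOnBase (IsFpqcCover (S := S)) (fun _ _ f => P (pullback.diagonal f)) := by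
  intro ι Y Yi g hY hYi hg X f hX Xi p q hXi sq
  obtain ⟨b, hB, hBi, hb, sqb⟩ := exists_diagonal_squares hY hYi hX hXi hg sq
  exact hP _ b hB hBi hb _ hX Xi _ q hXi sqb

/-- properties of representable diagonals -/
theorem isLocalOnBase_repWith_diagonal (Q : MorphismProperty Scheme.{u}) [Q.IsStableUnderBaseChange]
    [IsZariskiLocalAtTarget Q] [Q.DescendsAlong (@Surjective ⊓ @Flat ⊓ @QuasiCompact)] :
    IsLocalOnBase (IsFpqcCover (S := S)) (fun _ _ f => RepWith Q (pullback.diagonal f)) := by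
  intro ι Y Yi g hY hYi hg X f hX Xi p q hXi sq
  obtain ⟨b, -, -, hb, sqb⟩ := exists_diagonal_squares hY hYi hX hXi hg sq
  exact ⟨fun h i => repWith_baseChange (sqb i) h, fun h => repWith_of_fpqcCover_representable Q hb _
    (repWith_diagonal f (repWith_diag_mono hX)).1 Xi _ q sqb h⟩

end Groth.Agent.AlgSpLib
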