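import Groth.Agent.AlgSpLib.SheafLemmas

/-!
# Algebraic spaces: quotient sheaves of equivalence relations
-/

universe u

open CategoryTheory CategoryTheory.Limits AlgebraicGeometry Opposite

set_option backward.isDefEq.respectTransparency false

namespace Groth.Agent.AlgSpLib

open _root_.AlgSp

variable {S : Scheme.{u}}

/-- isomorphisms of sheaves are tested on maps from schemes -/
lemma isIso_of_points {F G : Sp S} (f : F ⟶ G)
    (h : ∀ U : Over S, Function.Bijective (fun a : (yon S).obj U ⟶ F => a ≫ f)) : IsIso f := by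
  have : Mono f := mono_of_points f fun U a b e => (h U).1 e
  have : Sheaf.IsLocallySurjective f := by
    constructor
    intro U s
    obtain ⟨a, ha⟩ := (h U).2 ((J S).uliftYonedaEquiv.symm s)
    have e : f.hom.app (op U) ((J S).uliftYonedaEquiv a) = s := by
      rw [← uliftYonedaEquiv_comp', show a ≫ f = _ from ha, Equiv.apply_symm_apply]
    rw [← e, Presheaf.imageSieve_app]
    exact (J S).top_mem _
  exact isIso_of_mono_of_epi f

/-- cartesian squares of sheaves are tested on maps from schemes -/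
lemma isPullback_of_points {P X Y Z : Sp S} {fst : P ⟶ X} {snd : P ⟶ Y} {f : X ⟶ Z} {g : Y ⟶ Z}
    (w : fst ≫ f = snd ≫ g)
    (h : ∀ ⦃T : Over S⦄ (a : (yon S).obj T ⟶ X) (b : (yon S).obj T ⟶ Y), a ≫ f = b ≫ g →
      ∃! c : (yon S).obj T ⟶ P, c ≫ fst = a ∧ c ≫ snd = b) : IsPullback fst snd f g := by
  let c := pullback.lift fst snd w
  have : IsIso c := isIso_of_points c fun T => by
    refine ⟨fun x y e => ?_, fun z => ?_⟩
    · have e1 := congrArg (fun k => k ≫ pullback.fst f g) e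
      have e2 := congrArg (fun k => k ≫ pullback.snd f g) e
      simp only [c, Category.assoc, pullback.lift_fst, pullback.lift_snd] at e1 e2
      exact (h (x ≫ fst) (x ≫ snd) (by rw [Category.assoc, Category.assoc, w])).unique
        ⟨rfl, rfl⟩ ⟨e1.symm, e2.symm⟩
    · obtain ⟨x, ⟨hx1, hx2⟩, -⟩ := h (z ≫ pullback.fst f g) (z ≫ pullback.snd f g)
        (by rw [Category.assoc, Category.assoc, pullback.condition])
      refine ⟨x, pullback.hom_ext ?_ ?_⟩
      · simpa [c] using hx1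
      · simpa [c] using hx2
  exact IsPullback.of_iso_pullback ⟨w⟩ (asIso c) (by simp [c]) (by simp [c])

variable {R U : Over S} (s t : R ⟶ U)

/-- the relation of points -/
def Rel (T : Over S) (a b : T ⟶ U) : Prop := ∃ r : T ⟶ R, r ≫ t = a ∧ r ≫ s = b

/-- the quotient presheaf -/
noncomputable def preQuot : (Over S)ᵒᵖ ⥤ Type (u + 1) where
  obj T := ULift.{u + 1} (Quot (Rel s t T.unop))
  map {T T'} f := ↾fun x => ⟨Quot.map (fun a => f.unop ≫ a)
    (fun a b ⟨r, h₁, h₂⟩ => ⟨f.unop ≫ r, by rw [Category.assoc, h₁], by rw [Category.assoc, h₂]⟩)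
    x.down⟩
  map_id T := by
    ext ⟨x⟩
    induction x using Quot.ind
    simp [Quot.map]
  map_comp f g := by
    ext ⟨x⟩
    induction x using Quot.ind
    simp [Quot.map]

variable {s t}

/-- the quotient of an equivalence relation has it as kernel pair -/
theorem isPullback_of_coequalizer {F : Sp S} {p : (yon S).obj U ⟶ F} (h : IsEqvRel s t)
    {w : (yon S).map t ≫ p = (yon S).map s ≫ p} (hc : IsColimit (Cofork.ofπ p w)) :
    IsPullback ((yon S).map t) ((yon S).map s) p p := by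
  let Q : Sp S := (presheafToSheaf (J S) (Type (u + 1))).obj (preQuot s t)
  let γ : (yon S).obj U ⟶ Q := (J S).uliftYonedaEquiv.symm
    ((toSheafify (J S) (preQuot s t)).app (op U) ⟨Quot.mk _ (𝟙 U)⟩)
  have hγ : ∀ {T : Over S} (a : T ⟶ U), (J S).uliftYonedaEquiv ((yon S).map a ≫ γ) =
      (toSheafify (J S) (preQuot s t)).app (op T) ⟨Quot.mk _ a⟩ := by
    intro T a
    refine ((J S).uliftYonedaEquiv_naturality γ a).symm.trans ?_
    rw [Equiv.apply_symm_apply]
    refine (NatTrans.naturality_apply (toSheafify (J S) (preQuot s t)) a.op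
      (⟨Quot.mk _ (𝟙 U)⟩ : (preQuot s t).obj (op U))).symm.trans ?_
    change (toSheafify (J S) (preQuot s t)).app (op T) ⟨Quot.mk _ (a ≫ 𝟙 U)⟩ = _
    rw [Category.comp_id]
  have hγw : (yon S).map t ≫ γ = (yon S).map s ≫ γ := by
    apply (J S).uliftYonedaEquiv.injective
    rw [hγ, hγ]
    exact congrArg _ (congrArg ULift.up (Quot.sound ⟨𝟙 R, Category.id_comp _, Category.id_comp _⟩))
  let φ : F ⟶ Q := hc.desc (Cofork.ofπ γ hγw)
  have hφ : p ≫ φ = γ := hc.fac (Cofork.ofπ γ hγw) WalkingParallelPair.one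
  have hsheaf : ∀ (V : Over S), Presieve.IsSheaf (J S) (yoneda.obj V) := fun V =>
    GrothendieckTopology.Subcanonical.isSheaf_of_isRepresentable _
  refine isPullback_of_points w fun T a b hab => ?_
  obtain ⟨a, rfl⟩ := (yon S).map_surjective a
  obtain ⟨b, rfl⟩ := (yon S).map_surjective b
  have heq : (toSheafify (J S) (preQuot s t)).app (op T) ⟨Quot.mk _ a⟩ =
      (toSheafify (J S) (preQuot s t)).app (op T) ⟨Quot.mk _ b⟩ := by
    rw [← hγ, ← hγ, ← hφ, ← Category.assoc, hab, Category.assoc]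
  have hS := Presheaf.equalizerSieve_mem (J S) (toSheafify (J S) (preQuot s t)) _ _ heq
  let Sv := Presheaf.equalizerSieve (F := preQuot s t) (X := op T) ⟨Quot.mk _ a⟩ ⟨Quot.mk _ b⟩
  have hex : ∀ ⦃Z : Over S⦄ (g : Z ⟶ T), Sv g → ∃ r : Z ⟶ R, r ≫ t = g ≫ a ∧ r ≫ s = g ≫ b := by
    intro Z g hg
    have h1 : Quot.mk (Rel s t Z) (g ≫ a) = Quot.mk (Rel s t Z) (g ≫ b) := congrArg ULift.down hg
    have heqv : Equivalence (Rel s t Z) := h.equivalence Z
    rw [Quot.eq, heqv.eqvGen_iff] at h1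
    exact h1
  choose r hr₁ hr₂ using hex
  let x : Presieve.FamilyOfElements (yoneda.obj R) Sv.arrows := fun Z g hg => r g hg
  have hx : x.Compatible := fun Z₁ Z₂ Z g₁ g₂ f₁ f₂ h₁ h₂ e => by
    change g₁ ≫ r f₁ h₁ = g₂ ≫ r f₂ h₂
    refine h.injective _ _ _ ?_ ?_
    · rw [Category.assoc, Category.assoc, hr₁, hr₁, reassoc_of% e]
    · rw [Category.assoc, Category.assoc, hr₂, hr₂, reassoc_of% e]
  obtain ⟨ρ, hρ, -⟩ := hsheaf R Sv hS x hx
  have e₁ : ρ ≫ t = a := (hsheaf U Sv hS).isSeparatedFor.ext fun Z g hg => by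
    change g ≫ ρ ≫ t = g ≫ a
    rw [← Category.assoc, show g ≫ ρ = r g hg from hρ g hg, hr₁]
  have e₂ : ρ ≫ s = b := (hsheaf U Sv hS).isSeparatedFor.ext fun Z g hg => by
    change g ≫ ρ ≫ s = g ≫ b
    rw [← Category.assoc, show g ≫ ρ = r g hg from hρ g hg, hr₂]
  refine ⟨(yon S).map ρ, ⟨by rw [← Functor.map_comp, e₁], by rw [← Functor.map_comp, e₂]⟩, ?_⟩
  rintro c ⟨h1, h2⟩
  obtain ⟨c, rfl⟩ := (yon S).map_surjective c
  rw [← Functor.map_comp] at h1 h2
  exact congrArg (yon S).map (h.injective _ _ _ (((yon S).map_injective h1).trans e₁.symm)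
    (((yon S).map_injective h2).trans e₂.symm))

/-- a locally surjective map is the coequalizer of its kernel pair -/
theorem isColimit_of_isPullback {F : Sp S} {p : (yon S).obj U ⟶ F} [Sheaf.IsLocallySurjective p]
    (sq : IsPullback ((yon S).map t) ((yon S).map s) p p) :
    Nonempty (IsColimit (Cofork.ofπ p sq.w)) := by
  let c := coequalizer.desc p sq.w
  have hc : coequalizer.π ((yon S).map t) ((yon S).map s) ≫ c = p := coequalizer.π_desc _ _
  have : Epi c := epi_of_epi_fac hc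
  have : Sheaf.IsLocallySurjective (coequalizer.π ((yon S).map t) ((yon S).map s)) :=
    (Sheaf.isLocallySurjective_iff_epi _).2 inferInstance
  have : Mono c := mono_of_points c fun T a b e => by
    obtain ⟨R₁, hR₁, hl₁⟩ := exists_lift_cover (coequalizer.π ((yon S).map t) ((yon S).map s)) a
    refine hom_ext_cover hR₁ fun Z g hg => ?_
    obtain ⟨l₁, hl₁'⟩ := hl₁ g hg
    obtain ⟨R₂, hR₂, hl₂⟩ := exists_lift_cover (coequalizer.π ((yon S).map t) ((yon S).map s))
      ((yon S).map (Over.homMk g rfl : Over.mk (g ≫ T.hom) ⟶ T) ≫ b)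
    refine hom_ext_cover hR₂ fun Z' g' hg' => ?_
    obtain ⟨l₂, hl₂'⟩ := hl₂ g' hg'
    have hp : ((yon S).map (Over.homMk g' rfl : Over.mk (g' ≫ _) ⟶ Over.mk (g ≫ T.hom)) ≫ l₁) ≫ p =
        l₂ ≫ p := by
      rw [← hc, ← Category.assoc l₂, hl₂', Category.assoc, reassoc_of% hl₁']
      simp only [Category.assoc, e]
    rw [← hl₁', ← hl₂', ← Category.assoc, ← sq.lift_fst _ _ hp, Category.assoc, coequalizer.condition,
      ← Category.assoc, sq.lift_snd]
  have : IsIso c := isIso_of_mono_of_epi c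
  exact ⟨IsColimit.ofIsoColimit (coequalizerIsCoequalizer _ _) (Cofork.ext (asIso c) hc)⟩

end Groth.Agent.AlgSpLib
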