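import Groth.Agent.AlgSpLib.RepDatum
import Groth.Agent.SchDescent.IndQAEff
import Groth.Agent.QA.IndQAComp
import Groth.Agent.SchDescent.SheafDescAffine

/-!
# Algebraic spaces: descent of representability
-/

universe u

open CategoryTheory CategoryTheory.Limits AlgebraicGeometry Opposite

set_option backward.isDefEq.respectTransparency false

namespace Groth.Agent.AlgSpLib

open _root_.AlgSp RepDatum

variable {S : Scheme.{u}}

lemma Same.map_eq {Z : Sp S} {V W : Over S} {z : (yon S).obj V ⟶ Z} {p q : W ⟶ V}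
    (h : RepDatum.Same z p.left q.left) : (yon S).map p ≫ z = (yon S).map q ≫ z := by
  obtain ⟨str, ha, hb, e⟩ := h
  obtain rfl : str = W.hom := ha.symm.trans (Over.w p)
  exact e

variable {Z : Sp S} {T T' V : Over S} {h : T' ⟶ T} {π : Z ⟶ (yon S).obj T}
  {z : (yon S).obj V ⟶ Z} {v : V ⟶ T'} (sq : IsPullback z ((yon S).map v) π ((yon S).map h))

include sq in
/-- a sheaf over a scheme `T` whose base change to an fppf cover `T'` is a scheme is itself one,
provided the descent datum is effective -/
theorem exists_rep_of_effective [Flat h.left] [Surjective h.left] [LocallyOfFinitePresentation h.left]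
    {U : Over T.left} (e : (Desc.toDD h.left).obj U ≅ datum sq) :
    ∃ (W : Over S) (w : W ⟶ T) (i : (yon S).obj W ≅ Z) (g : V ⟶ W),
      i.hom ≫ π = (yon S).map w ∧ IsPullback g.left v.left w.left h.left := by
  let el : pullback h.left U.hom ⟶ V.left := Over.Hom.left (Desc.SchDD.Hom.hom e.hom)
  let el' : V.left ⟶ pullback h.left U.hom := Over.Hom.left (Desc.SchDD.Hom.hom e.inv)
  have hel : el ≫ v.left = pullback.fst _ _ := Over.w e.hom.hom
  have hel' : el' ≫ pullback.fst _ _ = v.left := Over.w e.inv.hom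
  have hi : el ≫ el' = 𝟙 _ := congrArg
    (fun k : (Desc.toDD h.left).obj U ⟶ (Desc.toDD h.left).obj U => k.hom.left) e.hom_inv_id
  have hi' : el' ≫ el = 𝟙 _ := congrArg (fun k : datum sq ⟶ datum sq => k.hom.left) e.inv_hom_id
  have : IsIso el' := ⟨el, hi', hi⟩
  let W : Over S := Over.mk (U.hom ≫ T.hom)
  let w : W ⟶ T := Over.homMk U.hom rfl
  let g : V ⟶ W := Over.homMk (el' ≫ pullback.snd _ _) (by
    show (el' ≫ pullback.snd _ _) ≫ U.hom ≫ T.hom = V.hom
    rw [Category.assoc, ← pullback.condition_assoc, reassoc_of% hel', Over.w h, Over.w v])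
  have hg : IsPullback g.left v.left w.left h.left :=
    (IsPullback.of_iso_pullback ⟨by
      show v.left ≫ h.left = (el' ≫ pullback.snd _ _) ≫ U.hom
      rw [Category.assoc, ← pullback.condition, reassoc_of% hel']⟩ (asIso el') hel' rfl).flip
  have : Flat g.left := MorphismProperty.of_isPullback (P := @Flat) hg.flip ‹Flat h.left›
  have : Surjective g.left := MorphismProperty.of_isPullback (P := @Surjective) hg.flip ‹_›
  have : LocallyOfFinitePresentation g.left :=
    MorphismProperty.of_isPullback (P := @LocallyOfFinitePresentation) hg.flip ‹_›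
  have compat : ∀ ⦃X : Over S⦄ (p q : X ⟶ V), p ≫ g = q ≫ g →
      (yon S).map p ≫ z = (yon S).map q ≫ z := by
    intro X p q hpq
    have hpq' : p.left ≫ el' ≫ pullback.snd _ _ = q.left ≫ el' ≫ pullback.snd _ _ :=
      congrArg (fun f : X ⟶ W => f.left) hpq
    have e0 : (p.left ≫ v.left) ≫ h.left = (q.left ≫ v.left) ≫ h.left := by
      have := congrArg (· ≫ U.hom) hpq'
      simpa only [Category.assoc, ← pullback.condition, reassoc_of% hel'] using this
    let a : Desc.Lifts (Over.mk v.left) (p.left ≫ v.left) := ⟨p.left, rfl⟩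
    let a' : Desc.Lifts (Over.mk (pullback.fst h.left U.hom)) (p.left ≫ v.left) :=
      ⟨p.left ≫ el', (Category.assoc _ _ _).trans (congrArg (p.left ≫ ·) hel')⟩
    have hc : (Desc.canMap h.left U _ _ e0 a').1 = (move sq _ _ e0 a).1 ≫ el' :=
      e.inv.comm (p.left ≫ v.left) (q.left ≫ v.left) e0 a a' rfl
    have hq : (Desc.canMap h.left U _ _ e0 a').1 = q.left ≫ el' := by
      apply pullback.hom_ext
      · rw [Category.assoc, hel']; exact pullback.lift_fst _ _ _
      · refine (pullback.lift_snd _ _ _).trans ?_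
        simp only [a', Category.assoc, hpq']
    have hm : (move sq _ _ e0 a).1 = q.left := (cancel_mono el').1 (hc.symm.trans hq)
    exact Same.map_eq (hm ▸ move_same sq _ _ e0 a)
  obtain ⟨ψ, hψ⟩ := exists_desc g z compat
  have := epi_yon_map g
  have hwπ : ψ ≫ π = (yon S).map w := by
    rw [← cancel_epi ((yon S).map g), reassoc_of% hψ, sq.w, ← Functor.map_comp, ← Functor.map_comp]
    exact congrArg (yon S).map (Over.OverMorphism.ext hg.w.symm)
  have : Epi ψ := by
    have := isLocallySurjective_yon_map h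
    have := isLocallySurjective_of_isPullback sq
    exact epi_of_epi_fac hψ
  have : Mono ψ := mono_of_points ψ fun X a b hab => by
    obtain ⟨a, rfl⟩ := exists_map_eq a
    obtain ⟨b, rfl⟩ := exists_map_eq b
    have hw : a ≫ w = b ≫ w := (yon S).map_injective (by
      rw [Functor.map_comp, Functor.map_comp, ← hwπ, ← Category.assoc, hab, Category.assoc])
    have hT : (a.left ≫ U.hom) ≫ T.hom = X.hom := by rw [Category.assoc]; exact Over.w a
    let P : Over S := Over.mk (pullback.fst (a.left ≫ U.hom) h.left ≫ X.hom)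
    let π₁ : P ⟶ X := Over.homMk (pullback.fst (a.left ≫ U.hom) h.left) rfl
    have : Flat π₁.left := inferInstanceAs (Flat (pullback.fst (a.left ≫ U.hom) h.left))
    have : Surjective π₁.left := inferInstanceAs (Surjective (pullback.fst (a.left ≫ U.hom) h.left))
    have : LocallyOfFinitePresentation π₁.left :=
      inferInstanceAs (LocallyOfFinitePresentation (pullback.fst (a.left ≫ U.hom) h.left))
    have := epi_yon_map π₁
    have key : ∀ c : X ⟶ W, c.left ≫ U.hom = a.left ≫ U.hom → ∃ C : P ⟶ V,
        C ≫ g = π₁ ≫ c ∧ C.left ≫ v.left = pullback.snd (a.left ≫ U.hom) h.left := by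
      intro c hc
      let Cl := pullback.lift (f := h.left) (g := U.hom) (pullback.snd (a.left ≫ U.hom) h.left)
        (pullback.fst (a.left ≫ U.hom) h.left ≫ c.left) (by rw [Category.assoc, hc, pullback.condition])
      have h1 : (Cl ≫ el) ≫ v.left = pullback.snd (a.left ≫ U.hom) h.left := by
        rw [Category.assoc, hel, pullback.lift_fst]
      refine ⟨Over.homMk (Cl ≫ el) ?_, Over.OverMorphism.ext ?_, h1⟩
      · show (Cl ≫ el) ≫ V.hom = pullback.fst (a.left ≫ U.hom) h.left ≫ X.hom
        rw [← Over.w v, ← Category.assoc (Cl ≫ el), h1, ← Over.w h, ← pullback.condition_assoc, hT]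
      · show (Cl ≫ el) ≫ el' ≫ pullback.snd _ _ = pullback.fst (a.left ≫ U.hom) h.left ≫ c.left
        rw [Category.assoc, reassoc_of% hi, pullback.lift_snd]
    obtain ⟨A, hA, hAv⟩ := key a rfl
    obtain ⟨B, hB, hBv⟩ := key b (congrArg (fun f : X ⟶ T => f.left) hw).symm
    have hAB : A = B := pt_ext sq (Over.OverMorphism.ext (hAv.trans hBv.symm)) (by
      rw [← hψ, ← Category.assoc, ← Category.assoc, ← Functor.map_comp, ← Functor.map_comp, hA, hB,
        Functor.map_comp, Functor.map_comp, Category.assoc, Category.assoc, hab])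
    have : π₁ ≫ a = π₁ ≫ b := hA.symm.trans ((congrArg (· ≫ g) hAB).trans hB)
    rw [← cancel_epi ((yon S).map π₁), ← Functor.map_comp, this, Functor.map_comp]
  have : IsIso ψ := isIso_of_mono_of_epi ψ
  exact ⟨W, w, asIso ψ, g, hwπ, hg⟩

include sq in
/-- descent of representability along fppf covers for ind-quasi-affine base changes -/
theorem exists_rep_of_indQA [Flat h.left] [Surjective h.left] [LocallyOfFinitePresentation h.left]
    (hv : MoreMor.IsIndQuasiAffineHom v.left) :
    ∃ (W : Over S) (w : W ⟶ T) (i : (yon S).obj W ≅ Z) (g : V ⟶ W),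
      i.hom ≫ π = (yon S).map w ∧ IsPullback g.left v.left w.left h.left := by
  have hp : Presieve.ofArrows (fun _ : PUnit.{u + 1} => T'.left) (fun _ => h.left) ∈
      Scheme.fpqcPrecoverage T.left := by
    rw [Presieve.ofArrows_pUnit]
    exact Scheme.fppfPrecoverage_le_fpqcPrecoverage _ h.left.singleton_mem_fppfPrecoverage
  obtain ⟨U, ⟨e⟩⟩ := SchDescent.effective_of_indQA (fun _ : PUnit.{u + 1} => h.left) hp
    ((Desc.SchDDFam.ofSchDD h.left).obj (datum sq)) (fun _ => hv)
  exact exists_rep_of_effective sq ((Desc.SchDDFam.toSchDD h.left).mapIso e)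

/-- representability descends along locally surjective maps, when the base change is ind-quasi-affine -/
theorem representable_of_indQA {F G : Sp S} (f : F ⟶ G) {H Q : Sp S} {b : H ⟶ G} {b' : Q ⟶ F}
    {f' : Q ⟶ H} (hb : ∀ ⦃T : Over S⦄ (ξ : (yon S).obj T ⟶ G), ∃ (T' : Over S) (g : T' ⟶ T)
      (l : (yon S).obj T' ⟶ H), Flat g.left ∧ Surjective g.left ∧ LocallyOfFinitePresentation g.left ∧
        l ≫ b = (yon S).map g ≫ ξ)
    (sq : IsPullback b' f' f b) (hf : RepWith (fun _ _ q => MoreMor.IsIndQuasiAffineHom q) f') :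
    Representable f := by
  intro T ξ
  obtain ⟨T', g, l, _, _, _, hl⟩ := hb ξ
  obtain ⟨V, fst, v, sqV⟩ := exists_isPullback_of_representable hf.1 l
  have hv : MoreMor.IsIndQuasiAffineHom v.left := hf.2 l fst v sqV
  let Z := pullback f ξ
  have big : IsPullback (fst ≫ b') ((yon S).map v) f ((yon S).map g ≫ ξ) := hl ▸ sqV.paste_horiz sq
  let z : (yon S).obj V ⟶ Z := pullback.lift (fst ≫ b') ((yon S).map v ≫ (yon S).map g)
    (by rw [big.w, Category.assoc])
  have sqz : IsPullback z ((yon S).map v) (pullback.snd f ξ) ((yon S).map g) := by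
    refine IsPullback.of_right ?_ (pullback.lift_snd _ _ _) (IsPullback.of_hasPullback f ξ)
    rw [pullback.lift_fst]; exact big
  obtain ⟨W, w, i, -, hw, -⟩ := exists_rep_of_indQA sqz hv
  exact ⟨W, w, i.hom ≫ pullback.fst f ξ,
    IsPullback.of_iso_pullback ⟨by rw [← hw, Category.assoc, Category.assoc, pullback.condition]⟩ i rfl hw⟩

end Groth.Agent.AlgSpLib
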