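import Groth.Agent.AlgSpLib.Space
import Groth.Agent.AlgSpLib.Sigma
import Groth.Agent.AlgSpLib.RepDescent
import Groth.Agent.AlgSpLib.LocalTarget
import Groth.Agent.AlgSpLib.Atlas
import Groth.Agent.AlgSpLib.Quot
import Groth.Agent.SchDescent.Glue
import Groth.Prelude.Def_AlgSpCov

/-!
# Algebraic spaces: fpqc descent of representability
-/

universe u

open CategoryTheory CategoryTheory.Limits AlgebraicGeometry Opposite

set_option backward.isDefEq.respectTransparency false

namespace Groth.Agent.AlgSpLib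

open _root_.AlgSp RepDatum

variable {S : Scheme.{u}}

/-- the summand inclusion of a coproduct of schemes over `S` -/
noncomputable abbrev sigmaInj {ι : Type u} {A : ι → Scheme.{u}} (f : ∀ k, A k ⟶ S) (k : ι) :
    Over.mk (f k) ⟶ Over.mk (Sigma.desc f) :=
  Over.homMk (Sigma.ι A k) (Sigma.ι_desc f k)

lemma mem_range_sigmaMap {ι : Type u} {A B : ι → Scheme.{u}} (v : ∀ k, B k ⟶ A k) {x : ↥(∐ B)} {k : ι}
    (h : Limits.Sigma.map v x ∈ Set.range (Sigma.ι A k)) : x ∈ Set.range (Sigma.ι B k) := by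
  obtain ⟨l, y, rfl⟩ : ∃ l y, Sigma.ι B l y = x := (sigmaOpenCover B).exists_eq x
  have e : Limits.Sigma.map v (Sigma.ι B l y) = Sigma.ι A l (v l y) := by
    rw [← Scheme.Hom.comp_apply, Sigma.ι_map, Scheme.Hom.comp_apply]
  obtain ⟨w, hw⟩ := h
  rw [e, sigmaι_eq_iff] at hw
  obtain rfl := (congrArg Sigma.fst hw :)
  exact ⟨y, rfl⟩

/-- a sheaf over a coproduct of schemes that is a scheme over each summand is a scheme -/
theorem exists_rep_sigma (Q : MorphismProperty Scheme.{u}) [IsZariskiLocalAtTarget Q]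
    [Q.IsStableUnderBaseChange] {ι : Type u}
    {A : ι → Scheme.{u}} (f : ∀ k, A k ⟶ S) {Z : Sp S} (π : Z ⟶ (yon S).obj (Over.mk (Sigma.desc f)))
    (h : ∀ k, ∃ (V : Over S) (v : V ⟶ Over.mk (f k)) (z : (yon S).obj V ⟶ Z),
      IsPullback z ((yon S).map v) π ((yon S).map (sigmaInj f k)) ∧ Q v.left) :
    ∃ (V : Over S) (v : V ⟶ Over.mk (Sigma.desc f)) (z : (yon S).obj V ⟶ Z),
      IsIso z ∧ z ≫ π = (yon S).map v ∧ Q v.left := by
  choose V v z sq hQ using h
  let B : ι → Scheme.{u} := fun k => (V k).left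
  obtain ⟨L, hL⟩ := exists_sigma_hom (F := Z) (Z := B) (fun k => (V k).hom) z
  let g : ∀ k, V k ⟶ Over.mk (Sigma.desc fun k => (V k).hom) := fun k =>
    Over.homMk (Sigma.ι B k) (Sigma.ι_desc (fun k => (V k).hom) k)
  let v' : Over.mk (Sigma.desc fun k => (V k).hom) ⟶ Over.mk (Sigma.desc f) :=
    Over.homMk (Limits.Sigma.map fun k => (v k).left) (by
      refine Sigma.hom_ext _ _ fun k => ?_
      show Sigma.ι B k ≫ Limits.Sigma.map (fun k => (v k).left) ≫ Sigma.desc f = Sigma.ι B k ≫ Sigma.desc _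
      rw [Sigma.ι_map_assoc, Sigma.ι_desc, Sigma.ι_desc]
      exact Over.w (v k))
  have hgv : ∀ k, g k ≫ v' = v k ≫ sigmaInj f k := fun k => Over.OverMorphism.ext (Sigma.ι_map (fun k => (v k).left) k)
  have hπ : L ≫ π = (yon S).map v' := by
    refine hom_ext_cover (R := Presieve.ofArrows B (Sigma.ι B))
      (Scheme.zariskiPrecoverage_le_fppfPrecoverage _ (sigmaOpenCover B).mem₀) ?_
    rintro _ _ ⟨k⟩
    let e : Over.mk (Sigma.ι B k ≫ Sigma.desc fun k => (V k).hom) ⟶ V k :=
      Over.homMk (𝟙 _) ((Category.id_comp _).trans (Sigma.ι_desc (fun k => (V k).hom) k).symm)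
    have he : (Over.homMk (Sigma.ι B k) rfl : Over.mk (Sigma.ι B k ≫ _) ⟶
        Over.mk (Sigma.desc fun k => (V k).hom)) = e ≫ g k := Over.OverMorphism.ext (Category.id_comp _).symm
    rw [he, Functor.map_comp, Category.assoc, Category.assoc]
    congr 1
    rw [← Category.assoc, hL, (sq k).w, ← Functor.map_comp, ← Functor.map_comp, hgv]
  -- a point over the summand `k` comes from `V k`
  have hfac : ∀ {T : Over S} (a : T ⟶ Over.mk (Sigma.desc fun k => (V k).hom)) (k : ι)
      (t : T ⟶ Over.mk (f k)), a ≫ v' = t ≫ sigmaInj f k →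
      ∃ b : T ⟶ V k, b ≫ g k = a ∧ b ≫ v k = t := by
    intro T a k t e
    have el : a.left ≫ v'.left = t.left ≫ Sigma.ι A k := congrArg (fun m : T ⟶ Over.mk (Sigma.desc f) => m.left) e
    obtain ⟨b, hb⟩ : ∃ b : T.left ⟶ B k, b ≫ Sigma.ι B k = a.left := by
      refine ⟨_, IsOpenImmersion.lift_fac (Sigma.ι B k) a.left ?_⟩
      rintro _ ⟨x, rfl⟩
      exact mem_range_sigmaMap (fun k => (v k).left) ⟨t.left x, congr($el.symm x)⟩
    have hι : Sigma.ι B k ≫ v'.left = (v k).left ≫ Sigma.ι A k := Sigma.ι_map (fun k => (v k).left) k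
    have hι' : Sigma.ι B k ≫ (Sigma.desc fun k => (V k).hom) = (V k).hom := Sigma.ι_desc _ k
    refine ⟨Over.homMk b ?_, Over.OverMorphism.ext hb, ?_⟩
    · rw [← hι', ← Category.assoc, hb]
      exact Over.w a
    · refine Over.OverMorphism.ext ((cancel_mono (Sigma.ι A k)).1 ?_)
      show (b ≫ (v k).left) ≫ Sigma.ι A k = t.left ≫ Sigma.ι A k
      rw [← el, ← hb, Category.assoc, Category.assoc, hι]
  -- the summands of a map to the base
  let P : ∀ {T : Over S}, (T ⟶ Over.mk (Sigma.desc f)) → ι → Over S := fun {T} t k =>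
    Over.mk (pullback.fst t.left (Sigma.ι A k) ≫ T.hom)
  let c : ∀ {T : Over S} (t : T ⟶ Over.mk (Sigma.desc f)) (k : ι), P t k ⟶ T := fun t k =>
    Over.homMk (pullback.fst t.left (Sigma.ι A k)) rfl
  have hpiece : ∀ {T : Over S} (t : T ⟶ Over.mk (Sigma.desc f)) (k : ι),
      ∃ t' : P t k ⟶ Over.mk (f k), c t k ≫ t = t' ≫ sigmaInj f k := by
    intro T t k
    refine ⟨Over.homMk (pullback.snd t.left (Sigma.ι A k)) ?_, Over.OverMorphism.ext pullback.condition⟩
    show _ ≫ f k = pullback.fst t.left (Sigma.ι A k) ≫ T.hom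
    rw [← Over.w t]
    exact ((congrArg (_ ≫ ·) (Sigma.ι_desc f k).symm).trans (pullback.condition_assoc _).symm)
  have hgL : ∀ k, (yon S).map (g k) ≫ L = z k := fun k => hL k
  have hinj : ∀ {T : Over S} (a b : T ⟶ Over.mk (Sigma.desc fun k => (V k).hom)),
      (yon S).map a ≫ L = (yon S).map b ≫ L → a = b := by
    intro T a b e
    have ev : a ≫ v' = b ≫ v' := (yon S).map_injective (by
      have := congrArg (· ≫ π) e
      simpa only [Category.assoc, hπ, ← Functor.map_comp] using this)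
    refine Over.OverMorphism.ext (Scheme.Cover.hom_ext ((sigmaOpenCover A).pullback₁ (a ≫ v').left) _ _
      fun k => ?_)
    show (c (a ≫ v') k).left ≫ a.left = (c (a ≫ v') k).left ≫ b.left
    obtain ⟨t', hc⟩ := hpiece (a ≫ v') k
    obtain ⟨a', ha', hav⟩ := hfac (c _ k ≫ a) k t' (by rw [Category.assoc, hc])
    obtain ⟨b', hb', hbv⟩ := hfac (c _ k ≫ b) k t' (by rw [Category.assoc, ← ev, hc])
    rw [← Over.comp_left, ← Over.comp_left, ← ha', ← hb', pt_ext (sq k) (hav.trans hbv.symm) (by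
      rw [← hgL, ← Category.assoc, ← Category.assoc, ← Functor.map_comp, ← Functor.map_comp, ha', hb',
        Functor.map_comp, Functor.map_comp, Category.assoc, Category.assoc, e])]
  have hiso : IsIso L := isIso_of_points L fun T => by
    refine ⟨fun a b e => ?_, fun ζ => ?_⟩
    · obtain ⟨a, rfl⟩ := exists_map_eq a
      obtain ⟨b, rfl⟩ := exists_map_eq b
      exact congrArg (yon S).map (hinj a b e)
    · obtain ⟨t, ht⟩ := exists_map_eq (ζ ≫ π)
      choose t' hc using hpiece t
      have hb : ∀ k, ∃ b : P t k ⟶ V k, b ≫ v k = t' k ∧ (yon S).map b ≫ z k = (yon S).map (c t k) ≫ ζ :=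
        fun k => exists_pt (sq k) (t' k) _ (by rw [Category.assoc, ← ht, ← Functor.map_comp, hc])
      choose b hbv hbz using hb
      let 𝒰 := (sigmaOpenCover A).pullback₁ t.left
      have hov : ∀ k l, pullback.fst (𝒰.f k) (𝒰.f l) ≫ (b k ≫ g k).left =
          pullback.snd (𝒰.f k) (𝒰.f l) ≫ (b l ≫ g l).left := by
        intro k l
        let W : Over S := Over.mk (pullback.fst (𝒰.f k) (𝒰.f l) ≫ (P t k).hom)
        let w₁ : W ⟶ P t k := Over.homMk (pullback.fst (𝒰.f k) (𝒰.f l)) rfl
        let w₂ : W ⟶ P t l := Over.homMk (pullback.snd (𝒰.f k) (𝒰.f l)) (by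
          show _ ≫ (c t l).left ≫ T.hom = pullback.fst (𝒰.f k) (𝒰.f l) ≫ (c t k).left ≫ T.hom
          exact (pullback.condition_assoc _).symm)
        have ew : w₁ ≫ c t k = w₂ ≫ c t l := Over.OverMorphism.ext pullback.condition
        have := hinj (w₁ ≫ b k ≫ g k) (w₂ ≫ b l ≫ g l) (by
          simp only [Functor.map_comp, Category.assoc, hgL, hbz]
          rw [← Category.assoc, ← Category.assoc, ← Functor.map_comp, ← Functor.map_comp, ew])
        exact congrArg (fun m => m.left) this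
      let α : T ⟶ Over.mk (Sigma.desc fun k => (V k).hom) := Over.homMk
        (Scheme.Cover.glueMorphisms 𝒰 (fun k => (b k ≫ g k).left) hov) (by
          refine Scheme.Cover.hom_ext 𝒰 _ _ fun k => ?_
          rw [← Category.assoc, Scheme.Cover.ι_glueMorphisms]
          exact Over.w (b k ≫ g k))
      refine ⟨(yon S).map α, hom_ext_cover (R := Presieve.ofArrows 𝒰.X 𝒰.f)
        (Scheme.zariskiPrecoverage_le_fppfPrecoverage _ 𝒰.mem₀) ?_⟩
      rintro _ _ ⟨k⟩
      have hα : c t k ≫ α = b k ≫ g k :=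
        Over.OverMorphism.ext (Scheme.Cover.ι_glueMorphisms 𝒰 _ hov k)
      show (yon S).map (c t k) ≫ (yon S).map α ≫ L = (yon S).map (c t k) ≫ ζ
      rw [← Category.assoc, ← Functor.map_comp, hα, Functor.map_comp, Category.assoc, hgL, hbz]
  refine ⟨_, v', L, hiso, hπ, ?_⟩
  rw [IsZariskiLocalAtTarget.iff_of_openCover (P := Q) (sigmaOpenCover A)]
  intro k
  have sqL : IsPullback L ((yon S).map v') π (𝟙 _) :=
    IsPullback.of_horiz_isIso ⟨by rw [Category.comp_id, hπ]⟩
  have sqk : IsPullback ((yon S).map (g k)) ((yon S).map (v k)) ((yon S).map v') ((yon S).map (sigmaInj f k)) := by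
    refine IsPullback.of_right ?_ (by rw [← Functor.map_comp, ← Functor.map_comp, hgv]) sqL
    rw [hgL, Category.comp_id]
    exact sq k
  exact (Q.arrow_mk_iso_iff (Arrow.isoMk (isPullback_yon_iff.1 sqk).isoPullback (Iso.refl _)
    (((isPullback_yon_iff.1 sqk).isoPullback_hom_snd).trans (Category.comp_id _).symm))).1 (hQ k)

/-- an algebraic space over a scheme that is a scheme, ind-quasi-affine over an fpqc cover, is a scheme -/
theorem exists_rep_fpqc {Z : Sp S} {T T' V : Over S} {h : T' ⟶ T} {π : Z ⟶ (yon S).obj T}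
    {z : (yon S).obj V ⟶ Z} {v : V ⟶ T'} (sq : IsPullback z ((yon S).map v) π ((yon S).map h))
    (hZ : IsAlgSpace Z) [Flat h.left] [Surjective h.left] [QuasiCompact h.left]
    (hv : MoreMor.IsIndQuasiAffineHom v.left) :
    ∃ (W : Over S) (w : W ⟶ T) (i : (yon S).obj W ≅ Z) (g : V ⟶ W),
      i.hom ≫ π = (yon S).map w ∧ IsPullback g.left v.left w.left h.left := by
  -- the scheme
  have hp : Presieve.ofArrows (fun _ : PUnit.{u + 1} => T'.left) (fun _ => h.left) ∈
      Scheme.fpqcPrecoverage T.left := SchDescent.mem_fpqc_singleton h.left.singleton_mem_fpqcPrecoverage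
  obtain ⟨U₀, ⟨e'⟩⟩ := SchDescent.effective_of_indQA (fun _ : PUnit.{u + 1} => h.left) hp
    ((Desc.SchDDFam.ofSchDD h.left).obj (datum sq)) (fun _ => hv)
  let e := (Desc.SchDDFam.toSchDD h.left).mapIso e'
  let el : pullback h.left U₀.hom ⟶ V.left := Over.Hom.left (Desc.SchDD.Hom.hom e.hom)
  let el' : V.left ⟶ pullback h.left U₀.hom := Over.Hom.left (Desc.SchDD.Hom.hom e.inv)
  have hel' : el' ≫ pullback.fst _ _ = v.left := Over.w e.inv.hom
  have hi : el ≫ el' = 𝟙 _ := congrArg
    (fun k : (Desc.toDD h.left).obj U₀ ⟶ (Desc.toDD h.left).obj U₀ => k.hom.left) e.hom_inv_id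
  have hi' : el' ≫ el = 𝟙 _ := congrArg (fun k : datum sq ⟶ datum sq => k.hom.left) e.inv_hom_id
  have : IsIso el' := ⟨el, hi', hi⟩
  let W : Over S := Over.mk (U₀.hom ≫ T.hom)
  let w : W ⟶ T := Over.homMk U₀.hom rfl
  let g : V ⟶ W := Over.homMk (el' ≫ pullback.snd _ _) (by
    show (el' ≫ pullback.snd _ _) ≫ U₀.hom ≫ T.hom = V.hom
    rw [Category.assoc, ← pullback.condition_assoc, reassoc_of% hel', Over.w h, Over.w v])
  have hg : IsPullback g.left v.left w.left h.left :=
    (IsPullback.of_iso_pullback ⟨by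
      show v.left ≫ h.left = (el' ≫ pullback.snd _ _) ≫ U₀.hom
      rw [Category.assoc, ← pullback.condition, reassoc_of% hel']⟩ (asIso el') hel' rfl).flip
  -- points of `V` have the same image in `Z` if and only if in `W`
  have compat : ∀ ⦃X : Over S⦄ (p q : X ⟶ V),
      (p ≫ g = q ≫ g ↔ (yon S).map p ≫ z = (yon S).map q ≫ z) := by
    intro X p q
    have key : ∀ (e0 : (p.left ≫ v.left) ≫ h.left = (q.left ≫ v.left) ≫ h.left),
        ((move sq _ _ e0 ⟨p.left, rfl⟩).1 = q.left ↔ p ≫ g = q ≫ g) ∧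
        ((move sq _ _ e0 ⟨p.left, rfl⟩).1 = q.left ↔ (yon S).map p ≫ z = (yon S).map q ≫ z) := by
      intro e0
      let a : Desc.Lifts (Over.mk v.left) (p.left ≫ v.left) := ⟨p.left, rfl⟩
      let a' : Desc.Lifts (Over.mk (pullback.fst h.left U₀.hom)) (p.left ≫ v.left) :=
        ⟨p.left ≫ el', (Category.assoc _ _ _).trans (congrArg (p.left ≫ ·) hel')⟩
      have hc : (Desc.canMap h.left U₀ _ _ e0 a').1 = (move sq _ _ e0 a).1 ≫ el' :=
        e.inv.comm (p.left ≫ v.left) (q.left ≫ v.left) e0 a a' rfl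
      refine ⟨?_, ?_⟩
      · rw [← cancel_mono el', ← hc]
        refine ⟨fun k => Over.OverMorphism.ext ?_, fun k => ?_⟩
        · have := congrArg (· ≫ pullback.snd h.left U₀.hom) k
          simp only [Desc.canMap_val, pullback.lift_snd] at this
          simpa [g, a'] using this
        · have k' : p.left ≫ el' ≫ pullback.snd _ _ = q.left ≫ el' ≫ pullback.snd _ _ :=
            congrArg (fun m : X ⟶ W => m.left) k
          apply pullback.hom_ext
          · rw [Category.assoc, hel']; exact pullback.lift_fst _ _ _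
          · refine (pullback.lift_snd _ _ _).trans ?_
            simp only [a', Category.assoc, k']
      · refine ⟨fun k => Same.map_eq (k ▸ move_same sq _ _ e0 a), fun k => ?_⟩
        have hs : Same z p.left q.left :=
          ⟨X.hom, Over.w p, Over.w q, by exact k⟩
        exact congrArg Subtype.val (lifts_ext sq (b := ⟨q.left, rfl⟩)
          ((move_same sq _ _ e0 a).symm.trans hs))
    refine ⟨fun k => ?_, fun k => ?_⟩
    · have k' := congrArg (fun m : X ⟶ W => m.left ≫ w.left) k
      simp only [Over.comp_left, Category.assoc, hg.w] at k'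
      have e0 : (p.left ≫ v.left) ≫ h.left = (q.left ≫ v.left) ≫ h.left := by simpa using k'
      exact (key e0).2.1 ((key e0).1.2 k)
    · have k' : (yon S).map (p ≫ v ≫ h) = (yon S).map (q ≫ v ≫ h) := by
        have := congrArg (· ≫ π) k
        simpa only [Category.assoc, sq.w, ← Functor.map_comp] using this
      have e0 : (p.left ≫ v.left) ≫ h.left = (q.left ≫ v.left) ≫ h.left := by
        simpa using congrArg (fun m : X ⟶ T => m.left) ((yon S).map_injective k')
      exact (key e0).1.1 ((key e0).2.2 k)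
  -- the chart
  obtain ⟨U, p, hpe, hps⟩ := hZ.atlas
  obtain ⟨uT, huT⟩ := exists_map_eq (p ≫ π)
  obtain ⟨U', u₁, u₂, sqU⟩ := exists_pullback (IsAlgSpace.yon_obj T).diag ((yon S).map uT) ((yon S).map h)
  have sqU' := isPullback_yon_iff.1 sqU
  obtain ⟨a, hav, haz⟩ := exists_pt sq u₂ ((yon S).map u₁ ≫ p) (by
    rw [Category.assoc, ← huT, sqU.w, Functor.map_comp])
  have sqp : IsPullback ((yon S).map u₁) ((yon S).map a) p z := by
    refine IsPullback.of_bot ?_ haz.symm sq
    rw [← Functor.map_comp, hav, ← huT]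
    exact sqU
  have : Flat u₁.left := MorphismProperty.of_isPullback (P := @Flat) sqU'.flip ‹_›
  have : Surjective u₁.left := MorphismProperty.of_isPullback (P := @Surjective) sqU'.flip ‹_›
  have : QuasiCompact u₁.left := MorphismProperty.of_isPullback (P := @QuasiCompact) sqU'.flip ‹_›
  obtain ⟨k₀, hk₀, -⟩ := SchDescent.existsUnique_glue_singleton
    u₁.left.singleton_mem_fpqcPrecoverage (a ≫ g).left (by
      let X : Over S := Over.mk (pullback.fst u₁.left u₁.left ≫ U'.hom)
      let x : X ⟶ U' := Over.homMk (pullback.fst u₁.left u₁.left) rfl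
      let y : X ⟶ U' := Over.homMk (pullback.snd u₁.left u₁.left) (by
        show _ ≫ U'.hom = pullback.fst u₁.left u₁.left ≫ U'.hom
        rw [← Over.w u₁, ← pullback.condition_assoc])
      have exy : x ≫ u₁ = y ≫ u₁ := Over.OverMorphism.ext pullback.condition
      have := (compat (x ≫ a) (y ≫ a)).2 (by
        rw [Functor.map_comp, Functor.map_comp, Category.assoc, Category.assoc, haz, ← Category.assoc,
          ← Category.assoc, ← Functor.map_comp, ← Functor.map_comp, exy])
      simpa [X, x, y] using congrArg (fun m : X ⟶ W => m.left) this)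
  have hkw : k₀ ≫ w.left = uT.left := by
    have := SchDescent.epi_of_mem u₁.left.singleton_mem_fpqcPrecoverage
    rw [← cancel_epi u₁.left, reassoc_of% hk₀, sqU'.w, ← hav, Over.comp_left, Over.comp_left,
      Category.assoc, Category.assoc, hg.w]
  let k : U ⟶ W := Over.homMk k₀ (by rw [← Over.w w, ← Category.assoc, hkw, Over.w uT])
  have hk : u₁ ≫ k = a ≫ g := Over.OverMorphism.ext hk₀
  have sqk : IsPullback u₁.left a.left k.left g.left := by
    refine IsPullback.of_bot ?_ (congrArg (fun m : U' ⟶ W => m.left) hk) hg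
    rw [← Over.comp_left, hav, show k.left ≫ w.left = uT.left from hkw]
    exact sqU'
  have hgf : (@Surjective ⊓ @Flat ⊓ @QuasiCompact : MorphismProperty Scheme.{u}) g.left :=
    ⟨⟨MorphismProperty.of_isPullback (P := @Surjective) hg.flip ‹_›,
      MorphismProperty.of_isPullback (P := @Flat) hg.flip ‹_›⟩,
      MorphismProperty.of_isPullback (P := @QuasiCompact) hg.flip ‹_›⟩
  have : Etale k.left := MorphismProperty.of_isPullback_of_descendsAlong (P := @Etale) sqk.flip hgf
    (hpe.2 z _ a sqp)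
  have : Surjective k.left := MorphismProperty.of_isPullback_of_descendsAlong (P := @Surjective) sqk.flip hgf
    (hps.2 z _ a sqp)
  -- the two equivalence relations on `U` agree
  obtain ⟨R, s, t, sqR⟩ := exists_pullback hZ.diag p p
  have hst : s ≫ k = t ≫ k := by
    obtain ⟨R', r₁, r₂, sqR'⟩ := exists_pullback (IsAlgSpace.yon_obj T).diag ((yon S).map (s ≫ uT)) ((yon S).map h)
    have sqR'' := isPullback_yon_iff.1 sqR'
    have : Flat r₁.left := MorphismProperty.of_isPullback (P := @Flat) sqR''.flip ‹_›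
    have : Surjective r₁.left := MorphismProperty.of_isPullback (P := @Surjective) sqR''.flip ‹_›
    have : QuasiCompact r₁.left := MorphismProperty.of_isPullback (P := @QuasiCompact) sqR''.flip ‹_›
    have est : s ≫ uT = t ≫ uT := (yon S).map_injective (by
      rw [Functor.map_comp, Functor.map_comp, huT, sqR.w_assoc])
    obtain ⟨s', hs'⟩ := exists_map_eq (sqU.lift ((yon S).map (r₁ ≫ s)) ((yon S).map r₂) (by
      rw [← sqR'.w, ← Functor.map_comp, ← Functor.map_comp, Category.assoc]))
    obtain ⟨t', ht'⟩ := exists_map_eq (sqU.lift ((yon S).map (r₁ ≫ t)) ((yon S).map r₂) (by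
      rw [← sqR'.w, est, ← Functor.map_comp, ← Functor.map_comp, Category.assoc]))
    have e₁ : s' ≫ u₁ = r₁ ≫ s := (yon S).map_injective (by rw [Functor.map_comp, hs', sqU.lift_fst])
    have e₂ : t' ≫ u₁ = r₁ ≫ t := (yon S).map_injective (by rw [Functor.map_comp, ht', sqU.lift_fst])
    have := (compat (s' ≫ a) (t' ≫ a)).2 (by
      rw [Functor.map_comp, Functor.map_comp, Category.assoc, Category.assoc, haz, ← Category.assoc,
        ← Category.assoc, ← Functor.map_comp, ← Functor.map_comp, e₁, e₂, Functor.map_comp,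
        Functor.map_comp, Category.assoc, Category.assoc, sqR.w])
    rw [Category.assoc, Category.assoc, ← hk, ← Category.assoc, ← Category.assoc, e₁, e₂] at this
    have key := this
    have := SchDescent.epi_of_mem r₁.left.singleton_mem_fpqcPrecoverage
    refine Over.OverMorphism.ext ((cancel_epi r₁.left).1 ?_)
    simpa using congrArg (fun m : R' ⟶ W => m.left) key
  obtain ⟨R₀, x₀, y₀, sq₀⟩ := exists_pullback (IsAlgSpace.yon_obj W).diag ((yon S).map k) ((yon S).map k)
  obtain ⟨r, hr⟩ := exists_map_eq (sq₀.lift ((yon S).map s) ((yon S).map t)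
    (by rw [← Functor.map_comp, ← Functor.map_comp, hst]))
  have hr₁ : r ≫ x₀ = s := (yon S).map_injective (by rw [Functor.map_comp, hr, sq₀.lift_fst])
  have hr₂ : r ≫ y₀ = t := (yon S).map_injective (by rw [Functor.map_comp, hr, sq₀.lift_snd])
  have : IsIso r.left := by
    have : Mono r := by
      refine ⟨fun {X} c d e => (yon S).map_injective (sqR.hom_ext ?_ ?_)⟩
      · rw [← Functor.map_comp, ← Functor.map_comp, ← hr₁, reassoc_of% e]
      · rw [← Functor.map_comp, ← Functor.map_comp, ← hr₂, reassoc_of% e]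
    have := mono_left r
    obtain ⟨R₁, c₁, c₂, sq₁⟩ := exists_pullback (IsAlgSpace.yon_obj T).diag ((yon S).map (x₀ ≫ uT)) ((yon S).map h)
    have sq₁' := isPullback_yon_iff.1 sq₁
    have hc₁ : (@Surjective ⊓ @Flat ⊓ @QuasiCompact : MorphismProperty Scheme.{u}) c₁.left :=
      ⟨⟨MorphismProperty.of_isPullback (P := @Surjective) sq₁'.flip ‹_›,
        MorphismProperty.of_isPullback (P := @Flat) sq₁'.flip ‹_›⟩,
        MorphismProperty.of_isPullback (P := @QuasiCompact) sq₁'.flip ‹_›⟩
    have ek : x₀ ≫ k = y₀ ≫ k := (yon S).map_injective (by rw [Functor.map_comp, Functor.map_comp, sq₀.w])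
    have exy : x₀ ≫ uT = y₀ ≫ uT := by
      rw [show uT = k ≫ w from Over.OverMorphism.ext hkw.symm, reassoc_of% ek]
    obtain ⟨x', hx'⟩ := exists_map_eq (sqU.lift ((yon S).map (c₁ ≫ x₀)) ((yon S).map c₂) (by
      rw [← sq₁.w, ← Functor.map_comp, ← Functor.map_comp, Category.assoc]))
    obtain ⟨y', hy'⟩ := exists_map_eq (sqU.lift ((yon S).map (c₁ ≫ y₀)) ((yon S).map c₂) (by
      rw [← sq₁.w, exy, ← Functor.map_comp, ← Functor.map_comp, Category.assoc]))
    have e₁ : x' ≫ u₁ = c₁ ≫ x₀ := (yon S).map_injective (by rw [Functor.map_comp, hx', sqU.lift_fst])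
    have e₂ : y' ≫ u₁ = c₁ ≫ y₀ := (yon S).map_injective (by rw [Functor.map_comp, hy', sqU.lift_fst])
    have e₃ := (compat (x' ≫ a) (y' ≫ a)).1 (by
      rw [Category.assoc, Category.assoc, ← hk, ← Category.assoc, ← Category.assoc, e₁, e₂,
        Category.assoc, Category.assoc, ek])
    simp only [Functor.map_comp, Category.assoc, haz] at e₃
    rw [← Category.assoc, ← Category.assoc, ← Functor.map_comp, ← Functor.map_comp, e₁, e₂] at e₃
    obtain ⟨σ, hσ⟩ := exists_map_eq (sqR.lift _ _ e₃)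
    have hσr : σ ≫ r = c₁ := (yon S).map_injective (sq₀.hom_ext
      (by rw [← Functor.map_comp, ← Functor.map_comp, Category.assoc, hr₁, Functor.map_comp, hσ, sqR.lift_fst])
      (by rw [← Functor.map_comp, ← Functor.map_comp, Category.assoc, hr₂, Functor.map_comp, hσ, sqR.lift_snd]))
    let m := pullback.lift σ.left (𝟙 R₁.left)
      (show σ.left ≫ r.left = 𝟙 _ ≫ c₁.left by rw [Category.id_comp, ← Over.comp_left, hσr])
    have hm : IsIso (pullback.snd r.left c₁.left) :=
      ⟨m, (cancel_mono (pullback.snd r.left c₁.left)).1 (by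
        rw [Category.assoc, pullback.lift_snd, Category.comp_id, Category.id_comp]), pullback.lift_snd _ _ _⟩
    exact MorphismProperty.of_pullback_snd_of_descendsAlong
      (P := MorphismProperty.isomorphisms Scheme.{u}) hc₁ hm
  have : IsIso r := by
    have : IsIso ((Over.forget S).map r) := this
    exact isIso_of_reflects_iso r (Over.forget S)
  -- the comparison
  have hrel : ∀ ⦃X : Over S⦄ (c d : X ⟶ U),
      (c ≫ k = d ≫ k ↔ (yon S).map c ≫ p = (yon S).map d ≫ p) := by
    refine fun X c d => ⟨fun e => ?_, fun e => ?_⟩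
    · obtain ⟨l, hl⟩ := exists_map_eq (sq₀.lift ((yon S).map c) ((yon S).map d)
        (by rw [← Functor.map_comp, ← Functor.map_comp, e]))
      have l₁ : l ≫ inv r ≫ s = c := by
        rw [← hr₁, IsIso.inv_hom_id_assoc]
        exact (yon S).map_injective (by rw [Functor.map_comp, hl, sq₀.lift_fst])
      have l₂ : l ≫ inv r ≫ t = d := by
        rw [← hr₂, IsIso.inv_hom_id_assoc]
        exact (yon S).map_injective (by rw [Functor.map_comp, hl, sq₀.lift_snd])
      rw [← l₁, ← l₂]
      simp only [Functor.map_comp, Category.assoc, sqR.w]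
    · obtain ⟨l, hl⟩ := exists_map_eq (sqR.lift _ _ e)
      have l₁ : l ≫ s = c := (yon S).map_injective (by rw [Functor.map_comp, hl, sqR.lift_fst])
      have l₂ : l ≫ t = d := (yon S).map_injective (by rw [Functor.map_comp, hl, sqR.lift_snd])
      rw [← l₁, ← l₂, Category.assoc, Category.assoc, hst]
  obtain ⟨ψ, hψ⟩ := exists_desc k p fun X c d e => (hrel c d).1 e
  have hpl : Sheaf.IsLocallySurjective p := isLocallySurjective_of_atlas hpe hps
  have := epi_yon_map k
  have hψπ : ψ ≫ π = (yon S).map w := by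
    rw [← cancel_epi ((yon S).map k), reassoc_of% hψ, ← huT, ← Functor.map_comp]
    exact congrArg (yon S).map (Over.OverMorphism.ext hkw.symm)
  have : Epi ψ := epi_of_epi_fac hψ
  have : Mono ψ := mono_of_points ψ fun X c d e => by
    obtain ⟨c, rfl⟩ := exists_map_eq c
    obtain ⟨d, rfl⟩ := exists_map_eq d
    let X' : Over S := Over.mk (pullback.fst c.left k.left ≫ X.hom)
    let q₁ : X' ⟶ X := Over.homMk (pullback.fst c.left k.left) rfl
    let X'' : Over S := Over.mk (pullback.fst (q₁ ≫ d).left k.left ≫ X'.hom)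
    let q₂ : X'' ⟶ X' := Over.homMk (pullback.fst (q₁ ≫ d).left k.left) rfl
    let c' : X' ⟶ U := Over.homMk (pullback.snd c.left k.left) (by
      show _ ≫ U.hom = pullback.fst c.left k.left ≫ X.hom
      rw [← Over.w c, ← Over.w k, pullback.condition_assoc])
    let d' : X'' ⟶ U := Over.homMk (pullback.snd (q₁ ≫ d).left k.left) (by
      show _ ≫ U.hom = pullback.fst (q₁ ≫ d).left k.left ≫ X'.hom
      rw [← Over.w (q₁ ≫ d), ← Over.w k, pullback.condition_assoc])
    have hc' : c' ≫ k = q₁ ≫ c := Over.OverMorphism.ext pullback.condition.symm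
    have hd' : d' ≫ k = q₂ ≫ q₁ ≫ d := Over.OverMorphism.ext pullback.condition.symm
    have key : (q₂ ≫ c') ≫ k = d' ≫ k := (hrel _ _).2 (by
      rw [← hψ, ← Category.assoc, ← Category.assoc, ← Functor.map_comp, ← Functor.map_comp,
        Category.assoc, hc', hd']
      simp only [Functor.map_comp, Category.assoc, e])
    rw [Category.assoc, hc', hd'] at key
    refine congrArg (yon S).map (Over.OverMorphism.ext ?_)
    have : Epi (q₂.left ≫ q₁.left) := by
      have : Etale q₁.left := inferInstanceAs (Etale (pullback.fst c.left k.left))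
      have : Surjective q₁.left := inferInstanceAs (Surjective (pullback.fst c.left k.left))
      have : Etale q₂.left := inferInstanceAs (Etale (pullback.fst (q₁ ≫ d).left k.left))
      have : Surjective q₂.left := inferInstanceAs (Surjective (pullback.fst (q₁ ≫ d).left k.left))
      have : QuasiCompact (𝟙 X.left) := inferInstance
      exact Flat.epi_of_flat_of_surjective _
    rw [← cancel_epi (q₂.left ≫ q₁.left), Category.assoc, Category.assoc]
    exact congrArg (fun m : X'' ⟶ W => m.left) key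
  have : IsIso ψ := isIso_of_mono_of_epi ψ
  exact ⟨W, w, asIso ψ, g, hψπ, hg⟩

/-- having a property of representable morphisms is tested on maps from affine schemes -/
theorem repWith_of_affine (Q : MorphismProperty Scheme.{u}) [Q.IsStableUnderBaseChange]
    [IsZariskiLocalAtTarget Q] (hQ : ∀ ⦃A B : Scheme.{u}⦄ (q : A ⟶ B), Q q → MoreMor.IsIndQuasiAffineHom q)
    {X Y : Sp S} (f : X ⟶ Y)
    (h : ∀ ⦃T : Over S⦄, IsAffine T.left → ∀ ξ : (yon S).obj T ⟶ Y,
      ∃ (V : Over S) (v : V ⟶ T) (z : (yon S).obj V ⟶ X), IsPullback z ((yon S).map v) f ξ ∧ Q v.left) :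
    RepWith Q f := by
  refine repWith_of_exists fun T ξ => ?_
  let 𝒰 := T.left.affineCover
  let A : 𝒰.I₀ → Scheme.{u} := 𝒰.X
  let fA : ∀ k, A k ⟶ S := fun k => 𝒰.f k ≫ T.hom
  let c : Over.mk (Sigma.desc fA) ⟶ T := Over.homMk (Sigma.desc fun k => 𝒰.f k)
    (by refine Sigma.hom_ext _ _ fun k => ?_; exact (Sigma.ι_desc_assoc _ _ _).trans (Sigma.ι_desc fA k).symm)
  have hι : ∀ k, Sigma.ι A k ≫ c.left = 𝒰.f k := fun k => Sigma.ι_desc _ _
  have : Flat c.left := (IsZariskiLocalAtSource.iff_of_openCover (P := @Flat) (sigmaOpenCover A)).2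
    fun k => by rw [show (sigmaOpenCover A).f k = Sigma.ι A k from rfl, hι]; infer_instance
  have : LocallyOfFinitePresentation c.left :=
    (IsZariskiLocalAtSource.iff_of_openCover (P := @LocallyOfFinitePresentation) (sigmaOpenCover A)).2
      fun k => by rw [show (sigmaOpenCover A).f k = Sigma.ι A k from rfl, hι]; infer_instance
  have : Surjective c.left := ⟨fun x => by
    obtain ⟨k, y, rfl⟩ := 𝒰.exists_eq x
    exact ⟨Sigma.ι A k y, congr($(hι k) y)⟩⟩
  have sq' := IsPullback.of_hasPullback (pullback.snd f ξ) ((yon S).map c)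
  obtain ⟨V', v', z', hz', e', hQ'⟩ := exists_rep_sigma Q fA (pullback.snd (pullback.snd f ξ) ((yon S).map c))
    (fun k => by
      have : IsAffine (Over.mk (fA k)).left := inferInstanceAs (IsAffine (T.left.affineCover.X k))
      obtain ⟨V, v, z, sqk, hv⟩ := h this ((yon S).map (sigmaInj fA k) ≫ (yon S).map c ≫ ξ)
      have big := sq'.paste_horiz (IsPullback.of_hasPullback f ξ)
      refine ⟨V, v, big.lift z ((yon S).map (v ≫ sigmaInj fA k))
        (by rw [sqk.w, Functor.map_comp, Category.assoc]), ?_, hv⟩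
      refine IsPullback.of_right ?_ (by rw [big.lift_snd, Functor.map_comp]) big
      rw [big.lift_fst]
      exact sqk)
  have sqV : IsPullback (z' ≫ pullback.fst (pullback.snd f ξ) ((yon S).map c)) ((yon S).map v')
      (pullback.snd f ξ) ((yon S).map c) :=
    by simpa using (IsPullback.of_horiz_isIso
      (show CommSq z' ((yon S).map v') _ (𝟙 _) from ⟨by rw [Category.comp_id, e']⟩)).paste_horiz sq'
  obtain ⟨W, w, i, g, hiw, hg⟩ := exists_rep_of_indQA sqV (hQ _ hQ')
  have sqW : IsPullback (i.hom ≫ pullback.fst f ξ) ((yon S).map w) f ξ := by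
    simpa using (IsPullback.of_horiz_isIso
      (show CommSq i.hom ((yon S).map w) _ (𝟙 _) from ⟨by rw [Category.comp_id, hiw]⟩)).paste_horiz
        (IsPullback.of_hasPullback f ξ)
  refine ⟨W, i.hom ≫ pullback.fst f ξ, w, sqW, ?_⟩
  show Q w.left
  rw [IsZariskiLocalAtTarget.iff_of_openCover (P := Q) 𝒰]
  intro k
  obtain ⟨V, v, z, sqk, hv⟩ := h (T := Over.mk (fA k)) (inferInstanceAs (IsAffine (T.left.affineCover.X k)))
    ((yon S).map (Over.homMk (𝒰.f k) rfl) ≫ ξ)
  obtain ⟨r, hr⟩ := exists_map_eq (sqW.lift z ((yon S).map (v ≫ Over.homMk (𝒰.f k) rfl))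
    (by rw [sqk.w, Functor.map_comp, Category.assoc]))
  have sqr : IsPullback r.left v.left w.left (𝒰.f k) := by
    refine isPullback_yon_iff.1 (?_ : IsPullback ((yon S).map r) ((yon S).map v) ((yon S).map w)
      ((yon S).map (Over.homMk (𝒰.f k) rfl : Over.mk (fA k) ⟶ T)))
    refine IsPullback.of_right ?_ (by rw [hr, sqW.lift_snd, Functor.map_comp]) sqW
    rw [hr, sqW.lift_fst]
    exact sqk
  exact (Q.arrow_mk_iso_iff (Arrow.isoMk sqr.isoPullback (Iso.refl _)
    (sqr.isoPullback_hom_snd.trans (Category.comp_id _).symm))).1 hv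

/-- an fpqc covering restricts to a one-morphism affine fpqc covering of an affine scheme, with summands lifting -/
theorem exists_pieces {ι : Type u} {Y : Sp S} {Yi : ι → Sp S} {g : ∀ i, Yi i ⟶ Y} (hg : IsFpqcCover Yi g)
    {Z : Over S} (hZ : IsAffine Z.left) (ξ : (yon S).obj Z ⟶ Y) :
    ∃ (K : Type u) (_ : Finite K) (A : K → Scheme.{u}) (fA : ∀ k, A k ⟶ S)
      (c : Over.mk (Sigma.desc fA) ⟶ Z), (∀ k, IsAffine (A k)) ∧ IsAffine (∐ A) ∧ Flat c.left ∧
        Surjective c.left ∧ QuasiCompact c.left ∧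
        ∀ k, ∃ (i : ι) (l : (yon S).obj (Over.mk (fA k)) ⟶ Yi i),
          l ≫ g i = (yon S).map (sigmaInj fA k ≫ c) ≫ ξ := by
  obtain ⟨m, W, d, hW, hd, hs, hl⟩ := hg.2 Z hZ ξ
  let A : ULift.{u} (Fin m) → Scheme.{u} := fun k => (W k.down).left
  have hA : ∀ k, IsAffine (A k) := fun k => hW k.down
  let fA : ∀ k, A k ⟶ S := fun k => (W k.down).hom
  let c : Over.mk (Sigma.desc fA) ⟶ Z := Over.homMk (Sigma.desc fun k => (d k.down).left)
    (by refine Sigma.hom_ext _ _ fun k => ?_
        exact (Sigma.ι_desc_assoc _ _ _).trans ((Over.w (d k.down)).trans (Sigma.ι_desc fA k).symm))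
  have hι : ∀ k, Sigma.ι A k ≫ c.left = (d k.down).left := fun k => Sigma.ι_desc _ _
  have : IsAffine (Over.mk (Sigma.desc fA)).left := inferInstanceAs (IsAffine (∐ A))
  refine ⟨_, inferInstance, A, fA, c, hA, inferInstance, ?_, ⟨fun x => ?_⟩, inferInstance, fun k => ?_⟩
  · exact (IsZariskiLocalAtSource.iff_of_openCover (P := @Flat) (sigmaOpenCover A)).2
      fun k => by rw [show (sigmaOpenCover A).f k = Sigma.ι A k from rfl, hι]; exact hd k.down
  · obtain ⟨j, y, rfl⟩ := hs x
    exact ⟨Sigma.ι A ⟨j⟩ y, congr($(hι ⟨j⟩) y)⟩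
  · obtain ⟨i, l, hl⟩ := hl k.down
    refine ⟨i, l, ?_⟩
    rw [show sigmaInj fA k ≫ c = d k.down from Over.OverMorphism.ext (hι k)]
    exact hl

/-- having a property of representable morphisms descends along fpqc coverings of algebraic spaces -/
theorem repWith_of_fpqcCover (Q : MorphismProperty Scheme.{u}) [Q.IsStableUnderBaseChange]
    [IsZariskiLocalAtTarget Q] [Q.DescendsAlong (@Surjective ⊓ @Flat ⊓ @QuasiCompact)]
    (hQ : ∀ ⦃A B : Scheme.{u}⦄ (q : A ⟶ B), Q q → MoreMor.IsIndQuasiAffineHom q)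
    {ι : Type u} {X Y : Sp S} {Yi : ι → Sp S} {g : ∀ i, Yi i ⟶ Y} (hY : IsAlgSpace Y) (hX : IsAlgSpace X)
    (hg : IsFpqcCover Yi g) (f : X ⟶ Y) (Xi : ι → Sp S) (p : ∀ i, Xi i ⟶ Yi i) (q : ∀ i, Xi i ⟶ X)
    (sq : ∀ i, IsPullback (q i) (p i) f (g i)) (h : ∀ i, RepWith Q (p i)) : RepWith Q f := by
  refine repWith_of_affine Q hQ f fun T hT ξ => ?_
  have sqT := IsPullback.of_hasPullback f ξ
  obtain ⟨K, _, A, fA, c, hA, _, _, _, _, hl⟩ := exists_pieces hg hT ξ
  have sq' := IsPullback.of_hasPullback (pullback.snd f ξ) ((yon S).map c)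
  have big := sq'.paste_horiz sqT
  obtain ⟨V', v', z', hz', e', hQ'⟩ := exists_rep_sigma Q fA (pullback.snd (pullback.snd f ξ) ((yon S).map c))
    (fun k => by
      obtain ⟨i, l, hl⟩ := hl k
      obtain ⟨V, z, v, sqk, hv⟩ := exists_repWith (h i) l
      have sqk' : IsPullback (z ≫ q i) ((yon S).map v) f ((yon S).map (sigmaInj fA k) ≫ (yon S).map c ≫ ξ) := by
        rw [← Category.assoc, ← Functor.map_comp, ← hl]
        exact sqk.paste_horiz (sq i)
      refine ⟨V, v, big.lift (z ≫ q i) ((yon S).map (v ≫ sigmaInj fA k))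
        (by rw [sqk'.w, Functor.map_comp, Category.assoc]), ?_, hv⟩
      refine IsPullback.of_right ?_ (by rw [big.lift_snd, Functor.map_comp]) big
      rw [big.lift_fst]
      exact sqk')
  have sqV : IsPullback (z' ≫ pullback.fst (pullback.snd f ξ) ((yon S).map c)) ((yon S).map v')
      (pullback.snd f ξ) ((yon S).map c) := by
    simpa using (IsPullback.of_horiz_isIso
      (show CommSq z' ((yon S).map v') _ (𝟙 _) from ⟨by rw [Category.comp_id, e']⟩)).paste_horiz sq'
  obtain ⟨W, w, i, g', hiw, hg'⟩ := exists_rep_fpqc sqV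
    (isAlgSpace_of_isPullback_space hY hX (IsAlgSpace.yon_obj T) sqT) (hQ _ hQ')
  refine ⟨W, w, i.hom ≫ pullback.fst f ξ, ?_, ?_⟩
  · simpa using (IsPullback.of_horiz_isIso
      (show CommSq i.hom ((yon S).map w) _ (𝟙 _) from ⟨by rw [Category.comp_id, hiw]⟩)).paste_horiz sqT
  · exact MorphismProperty.of_isPullback_of_descendsAlong (P := Q)
      (Q := @Surjective ⊓ @Flat ⊓ @QuasiCompact) hg'.flip ⟨⟨‹_›, ‹_›⟩, ‹_›⟩ hQ'

end Groth.Agent.AlgSpLib
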