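import Groth.Agent.AlgSpLib.SheafLemmas
import Groth.Prelude.Def_AlgSpGpd
import Mathlib.CategoryTheory.Monoidal.Cartesian.Grp

/-!
# Free actions: the shear map is a monomorphism
-/

set_option autoImplicit false

universe u

open CategoryTheory CategoryTheory.Limits AlgebraicGeometry Opposite MonoidalCategory CartesianMonoidalCategory
open scoped CategoryTheory.MonObj

set_option backward.isDefEq.respectTransparency false

namespace Groth.Agent.AlgSpLib

open _root_.AlgSp

variable {S : Scheme.{u}} {B : Sp S} {G X : Over B} [GrpObj G] (a : GAction G X) {Z : Over B}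

lemma act_mul (g h : Z ⟶ G) (x : Z ⟶ X) :
    lift (lift g h ≫ μ[G]) x ≫ a.act = lift g (lift h x ≫ a.act) ≫ a.act := by
  have := congrArg (lift (lift g h) x ≫ ·) a.mul_act
  simp only [lift_whiskerRight_assoc, lift_lift_associator_hom_assoc, lift_whiskerLeft_assoc] at this
  exact this

lemma act_one (x : Z ⟶ X) : lift (toUnit Z ≫ η[G]) x ≫ a.act = x := by
  have := congrArg (lift (toUnit Z) x ≫ ·) a.one_act
  simp only [lift_whiskerRight_assoc, lift_leftUnitor_hom] at this
  exact this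

theorem mono_shear (ha : a.IsFree) :
    Mono (CartesianMonoidalCategory.lift a.act (CartesianMonoidalCategory.snd G X)).left := by
  refine mono_of_points _ fun T p q e => ?_
  let sh := CartesianMonoidalCategory.lift a.act (CartesianMonoidalCategory.snd G X)
  let β : (yon S).obj T ⟶ B := p ≫ (G ⊗ X).hom
  have hq : q ≫ (G ⊗ X).hom = β := by
    show _ = p ≫ (G ⊗ X).hom
    rw [← Over.w sh, ← Category.assoc, ← Category.assoc]
    exact congrArg (· ≫ (X ⊗ X).hom) e.symm
  let P : Over.mk β ⟶ G ⊗ X := Over.homMk p rfl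
  let Q : Over.mk β ⟶ G ⊗ X := Over.homMk q hq
  have e' : P ≫ sh = Q ≫ sh := Over.OverMorphism.ext e
  have e1 : P ≫ a.act = Q ≫ a.act := by
    simpa [sh] using congrArg (· ≫ CartesianMonoidalCategory.fst X X) e'
  have e2 : P ≫ snd G X = Q ≫ snd G X := by
    simpa [sh] using congrArg (· ≫ CartesianMonoidalCategory.snd X X) e'
  have hP : lift (P ≫ fst G X) (P ≫ snd G X) = P := lift_comp_fst_snd P
  have hQ : lift (Q ≫ fst G X) (Q ≫ snd G X) = Q := lift_comp_fst_snd Q
  let g₁ := P ≫ fst G X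
  let g₂ := Q ≫ fst G X
  let x := P ≫ snd G X
  have h12 : lift g₁ x ≫ a.act = lift g₂ x ≫ a.act := by
    show lift (P ≫ fst G X) (P ≫ snd G X) ≫ a.act = lift (Q ≫ fst G X) (P ≫ snd G X) ≫ a.act
    rw [hP, e2, hQ, e1]
  have key : lift (g₂⁻¹ * g₁) x ≫ a.act = x := by
    show lift (lift g₂⁻¹ g₁ ≫ μ[G]) x ≫ a.act = x
    rw [act_mul a, h12, ← act_mul a, show lift g₂⁻¹ g₂ ≫ μ[G] = toUnit _ ≫ η[G] from inv_mul_cancel g₂, act_one a]
  have hfree : g₂⁻¹ * g₁ = 1 := ha β _ x key
  have hg : g₁ = g₂ := (inv_mul_eq_one.1 hfree).symm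
  have : P = Q := by rw [← hP, ← hQ, e2]; exact congrArg (lift · _) hg
  exact congrArg (fun k => k.left) this

end Groth.Agent.AlgSpLib
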