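import Groth.Prelude.Def_AlgSp
import Mathlib.CategoryTheory.Endomorphism
import Mathlib.AlgebraicGeometry.Morphisms.Etale
import Mathlib.AlgebraicGeometry.Morphisms.Flat
import Mathlib.AlgebraicGeometry.Limits

/-!
# A free action of a group gives an etale equivalence relation
-/

set_option autoImplicit false

universe u

open CategoryTheory CategoryTheory.Limits AlgebraicGeometry Opposite

set_option backward.isDefEq.respectTransparency false

namespace Groth.Agent.AlgSpLib.FreeEtale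

variable {S : Scheme.{u}}

theorem hom_mul {U : Over S} {G : Type u} [Group G] (ρ : G →* Aut U) (a b : G) :
    (ρ (a * b)).hom = (ρ b).hom ≫ (ρ a).hom := by
  rw [map_mul]; rfl

theorem hom_one {U : Over S} {G : Type u} [Group G] (ρ : G →* Aut U) : (ρ 1).hom = 𝟙 U := by
  rw [map_one]; rfl

/-- maps from a field agree if they do after a field extension -/
theorem spec_field_cancel {K L : Type u} [Field K] [Field L] (φ : CommRingCat.of K ⟶ CommRingCat.of L)
    {Y : Scheme.{u}} {a b : Spec (CommRingCat.of K) ⟶ Y} (e : Spec.map φ ≫ a = Spec.map φ ≫ b) : a = b := by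
  have : Flat (Spec.map φ) := by
    rw [HasRingHomProperty.Spec_iff (P := @Flat)]
    let : Algebra K L := φ.hom.toAlgebra
    exact (inferInstance : Module.Flat K L)
  have hK : Subsingleton (PrimeSpectrum K) := inferInstance
  have : Surjective (Spec.map φ) :=
    ⟨fun x => ⟨(IsLocalRing.closedPoint L : PrimeSpectrum L), hK.elim _ _⟩⟩
  have := Flat.epi_of_flat_of_surjective (Spec.map φ)
  exact (cancel_epi (Spec.map φ)).1 e

variable {U : Over S} {G : Type u} [Group G] (ρ : G →* Aut U)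

/-- only the unit of a free action can fix a field valued point -/
theorem eq_of_comp_eq
    (hfree : ∀ (g : G) (x : U.left), g ≠ 1 →
      U.left.fromSpecResidueField x ≫ (ρ g).hom.left ≠ U.left.fromSpecResidueField x)
    {T : Over S} (τ : ↥T.left) {x : T ⟶ U} {g h : G} (e : x ≫ (ρ g).hom = x ≫ (ρ h).hom) : g = h := by
  by_contra hne
  have h1 : (x ≫ (ρ (h⁻¹ * g)).hom).left = x.left := by
    rw [hom_mul ρ, reassoc_of% e, ← hom_mul ρ, inv_mul_cancel, hom_one ρ, Category.comp_id]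
  refine hfree (h⁻¹ * g) (x.left τ) (fun h2 => hne (inv_mul_eq_one.1 h2).symm) ?_
  refine spec_field_cancel (x.left.residueFieldMap τ) ?_
  rw [Scheme.Hom.SpecMap_residueFieldMap_fromSpecResidueField,
    Scheme.Hom.SpecMap_residueFieldMap_fromSpecResidueField_assoc]
  exact congrArg (T.left.fromSpecResidueField τ ≫ ·) h1

variable {c : Cofan (fun _ : G => U)} (hc : IsColimit c)

include hc

theorem exists_iso_sigma : ∃ d : (∐ fun _ : G => U.left) ≅ c.pt.left,
    ∀ g, (c.inj g).left = Sigma.ι (fun _ : G => U.left) g ≫ d.hom := by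
  let Qh : (∐ fun _ : G => U.left) ⟶ S := Sigma.desc fun _ : G => U.hom
  let d' : (∐ fun _ : G => U.left) ⟶ c.pt.left := Sigma.desc fun g => (c.inj g).left
  have hι : ∀ g, Sigma.ι (fun _ : G => U.left) g ≫ d' = (c.inj g).left := fun g => Sigma.ι_desc _ g
  have hQ : ∀ g, Sigma.ι (fun _ : G => U.left) g ≫ Qh = U.hom := fun g => Sigma.ι_desc _ g
  have hw : d' ≫ c.pt.hom = Qh := by
    refine Sigma.hom_ext (f := fun _ : G => U.left) _ _ fun g => ?_
    rw [← Category.assoc, hι, hQ]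
    exact Over.w (c.inj g)
  let d : c.pt ⟶ Over.mk Qh :=
    Cofan.IsColimit.desc hc fun g => Over.homMk (Sigma.ι (fun _ : G => U.left) g) (hQ g)
  have hd : ∀ g, (c.inj g).left ≫ d.left = Sigma.ι (fun _ : G => U.left) g := fun g =>
    congrArg (fun q : U ⟶ Over.mk Qh => q.left) (Cofan.IsColimit.fac hc
      (fun g => (Over.homMk (Sigma.ι (fun _ : G => U.left) g) (hQ g) : U ⟶ Over.mk Qh)) g)
  refine ⟨⟨d', d.left, ?_, ?_⟩, fun g => (hι g).symm⟩
  · refine Sigma.hom_ext (f := fun _ : G => U.left) _ _ fun g => ?_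
    rw [← Category.assoc, hι, hd, Category.comp_id]
  · have : d ≫ (Over.homMk d' hw : Over.mk Qh ⟶ c.pt) = 𝟙 c.pt := Cofan.IsColimit.hom_ext hc _ _ fun g => by
      refine Over.OverMorphism.ext ?_
      show (c.inj g).left ≫ d.left ≫ d' = (c.inj g).left ≫ 𝟙 _
      rw [← Category.assoc, hd, hι, Category.comp_id]
    exact congrArg (fun q => q.left) this

theorem isOpenImmersion_inj (g : G) : IsOpenImmersion (c.inj g).left := by
  obtain ⟨d, hd⟩ := exists_iso_sigma hc
  rw [hd]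
  infer_instance

theorem exists_inj_eq (z : ↥c.pt.left) : ∃ (g : G) (u : ↥U.left), (c.inj g).left u = z := by
  obtain ⟨d, hd⟩ := exists_iso_sigma hc
  obtain ⟨g, u, hu⟩ := (sigmaOpenCover fun _ : G => U.left).exists_eq (d.inv z)
  refine ⟨g, u, ?_⟩
  rw [hd]
  show d.hom (Sigma.ι (fun _ : G => U.left) g u) = z
  rw [show Sigma.ι (fun _ : G => U.left) g u = d.inv z from hu]
  exact congr($(d.inv_hom_id) z)

/-- near a point, a map to the coproduct goes to one copy -/
theorem exists_local {T : Over S} (r : T ⟶ c.pt) (τ : ↥T.left) :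
    ∃ (g : G) (W : T.left.Opens) (x : Over.mk (W.ι ≫ T.hom) ⟶ U), τ ∈ W ∧
      (Over.homMk W.ι rfl : Over.mk (W.ι ≫ T.hom) ⟶ T) ≫ r = x ≫ c.inj g := by
  obtain ⟨g, u, hu⟩ := exists_inj_eq hc (r.left τ)
  have := isOpenImmersion_inj hc g
  let O := (c.inj g).left.opensRange
  let W := r.left ⁻¹ᵁ O
  have hr : Set.range (W.ι ≫ r.left) ⊆ Set.range (c.inj g).left := by
    rintro _ ⟨⟨w, hw⟩, rfl⟩
    exact hw
  refine ⟨g, W, Over.homMk (IsOpenImmersion.lift (c.inj g).left (W.ι ≫ r.left) hr) ?_, ⟨u, hu⟩,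
    Over.OverMorphism.ext (IsOpenImmersion.lift_fac _ _ _).symm⟩
  show _ ≫ U.hom = W.ι ≫ T.hom
  rw [← Over.w (c.inj g), IsOpenImmersion.lift_fac_assoc, Category.assoc, Over.w r]

variable {s t : c.pt ⟶ U} (hs : ∀ g, c.inj g ≫ s = 𝟙 U) (ht : ∀ g, c.inj g ≫ t = (ρ g).hom)

include hs ht in
theorem injective_pair
    (hfree : ∀ (g : G) (x : U.left), g ≠ 1 →
      U.left.fromSpecResidueField x ≫ (ρ g).hom.left ≠ U.left.fromSpecResidueField x)
    (T : Over S) (r r' : T ⟶ c.pt) (et : r ≫ t = r' ≫ t) (es : r ≫ s = r' ≫ s) : r = r' := by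
  choose g W x hW hx using exists_local hc r
  choose g' W' x' hW' hx' using exists_local hc r'
  let O : ↥T.left → T.left.Opens := fun τ => W τ ⊓ W' τ
  have hO : TopologicalSpace.IsOpenCover O :=
    TopologicalSpace.IsOpenCover.mk (eq_top_iff.2 fun τ _ => TopologicalSpace.Opens.mem_iSup.2 ⟨τ, hW τ, hW' τ⟩)
  apply Over.OverMorphism.ext
  refine (T.left.openCoverOfIsOpenCover O hO).hom_ext _ _ fun (τ : ↥T.left) => ?_
  show (O τ).ι ≫ r.left = (O τ).ι ≫ r'.left
  let V : Over S := Over.mk ((O τ).ι ≫ T.hom)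
  let j : V ⟶ T := Over.homMk (O τ).ι rfl
  let a : V ⟶ Over.mk ((W τ).ι ≫ T.hom) := Over.homMk (T.left.homOfLE inf_le_left) (by
    show T.left.homOfLE _ ≫ (W τ).ι ≫ T.hom = (O τ).ι ≫ T.hom
    rw [Scheme.homOfLE_ι_assoc])
  let a' : V ⟶ Over.mk ((W' τ).ι ≫ T.hom) := Over.homMk (T.left.homOfLE inf_le_right) (by
    show T.left.homOfLE _ ≫ (W' τ).ι ≫ T.hom = (O τ).ι ≫ T.hom
    rw [Scheme.homOfLE_ι_assoc])
  have e1 : j ≫ r = (a ≫ x τ) ≫ c.inj (g τ) := by
    rw [Category.assoc, ← hx τ, ← Category.assoc]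
    exact congrArg (· ≫ r) (Over.OverMorphism.ext (Scheme.homOfLE_ι T.left (inf_le_left : W τ ⊓ W' τ ≤ W τ)).symm)
  have e2 : j ≫ r' = (a' ≫ x' τ) ≫ c.inj (g' τ) := by
    rw [Category.assoc, ← hx' τ, ← Category.assoc]
    exact congrArg (· ≫ r') (Over.OverMorphism.ext (Scheme.homOfLE_ι T.left (inf_le_right : W τ ⊓ W' τ ≤ W' τ)).symm)
  have exx : a ≫ x τ = a' ≫ x' τ := by
    have := congrArg (j ≫ ·) es
    rw [← Category.assoc, e1, ← Category.assoc, e2, Category.assoc, hs, Category.assoc _ _ s, hs,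
      Category.comp_id, Category.comp_id] at this
    exact this
  have eg : (a ≫ x τ) ≫ (ρ (g τ)).hom = (a ≫ x τ) ≫ (ρ (g' τ)).hom := by
    have := congrArg (j ≫ ·) et
    rw [← Category.assoc, e1, ← Category.assoc, e2, Category.assoc, ht, Category.assoc _ _ t, ht, ← exx] at this
    exact this
  have hg : g τ = g' τ := eq_of_comp_eq ρ hfree (⟨τ, hW τ, hW' τ⟩ : ↥(O τ)) eg
  exact congrArg (fun q => q.left) (e1.trans
    ((show (a ≫ x τ) ≫ c.inj (g τ) = (a' ≫ x' τ) ≫ c.inj (g' τ) by rw [exx, hg]).trans e2.symm))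

include hs ht in
theorem isEtaleEqvRel
    (hfree : ∀ (g : G) (x : U.left), g ≠ 1 →
      U.left.fromSpecResidueField x ≫ (ρ g).hom.left ≠ U.left.fromSpecResidueField x) :
    _root_.AlgSp.IsEtaleEqvRel s t := by
  have het : ∀ k : c.pt ⟶ U, (∀ g, Etale (c.inj g ≫ k).left) → Etale k.left := by
    intro k hk
    obtain ⟨d, hd⟩ := exists_iso_sigma hc
    refine (MorphismProperty.cancel_left_of_respectsIso @Etale d.hom k.left).1 ?_
    refine (IsZariskiLocalAtSource.iff_of_openCover (P := @Etale) (sigmaOpenCover fun _ : G => U.left)).2 fun g => ?_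
    show Etale (Sigma.ι (fun _ : G => U.left) g ≫ d.hom ≫ k.left)
    rw [← Category.assoc, ← hd]
    exact hk g
  refine
    { injective := injective_pair ρ hc hs ht hfree
      equivalence := fun T => ⟨fun a => ?_, ?_, ?_⟩
      etale_left := het s fun g => ?_
      etale_right := het t fun g => ?_ }
  · exact ⟨a ≫ c.inj 1, by rw [Category.assoc, ht, hom_one ρ, Category.comp_id],
      by rw [Category.assoc, hs, Category.comp_id]⟩
  · rintro a b ⟨r, rfl, rfl⟩
    let ι : c.pt ⟶ c.pt := Cofan.IsColimit.desc hc fun g => (ρ g).hom ≫ c.inj g⁻¹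
    have h1 : ι ≫ t = s := Cofan.IsColimit.hom_ext hc _ _ fun g => by
      rw [Cofan.IsColimit.fac_assoc, Category.assoc, ht, hs, ← hom_mul ρ, inv_mul_cancel, hom_one ρ]
    have h2 : ι ≫ s = t := Cofan.IsColimit.hom_ext hc _ _ fun g => by
      rw [Cofan.IsColimit.fac_assoc, Category.assoc, hs, ht, Category.comp_id]
    exact ⟨r ≫ ι, by rw [Category.assoc, h1], by rw [Category.assoc, h2]⟩
  · rintro a b d ⟨r, rfl, rfl⟩ ⟨r', e', rfl⟩
    choose g W x hW hx using exists_local hc r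
    choose g' W' x' hW' hx' using exists_local hc r'
    let O : ↥T.left → T.left.Opens := fun τ => W τ ⊓ W' τ
    have hO : TopologicalSpace.IsOpenCover O :=
      TopologicalSpace.IsOpenCover.mk (eq_top_iff.2 fun τ _ => TopologicalSpace.Opens.mem_iSup.2 ⟨τ, hW τ, hW' τ⟩)
    let 𝒰 := T.left.openCoverOfIsOpenCover O hO
    let V : ↥T.left → Over S := fun τ => Over.mk ((O τ).ι ≫ T.hom)
    let j : ∀ τ, V τ ⟶ T := fun τ => Over.homMk (O τ).ι rfl
    let a : ∀ τ, V τ ⟶ Over.mk ((W τ).ι ≫ T.hom) := fun τ => Over.homMk (T.left.homOfLE inf_le_left) (by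
      show T.left.homOfLE _ ≫ (W τ).ι ≫ T.hom = (O τ).ι ≫ T.hom
      rw [Scheme.homOfLE_ι_assoc])
    let a' : ∀ τ, V τ ⟶ Over.mk ((W' τ).ι ≫ T.hom) := fun τ => Over.homMk (T.left.homOfLE inf_le_right) (by
      show T.left.homOfLE _ ≫ (W' τ).ι ≫ T.hom = (O τ).ι ≫ T.hom
      rw [Scheme.homOfLE_ι_assoc])
    let q : ∀ τ, V τ ⟶ c.pt := fun τ => (a' τ ≫ x' τ) ≫ c.inj (g τ * g' τ)
    have e1 : ∀ τ, j τ ≫ r = (a τ ≫ x τ) ≫ c.inj (g τ) := fun τ => by
      rw [Category.assoc, ← hx τ, ← Category.assoc]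
      exact congrArg (· ≫ r) (Over.OverMorphism.ext (Scheme.homOfLE_ι T.left (inf_le_left : W τ ⊓ W' τ ≤ W τ)).symm)
    have e2 : ∀ τ, j τ ≫ r' = (a' τ ≫ x' τ) ≫ c.inj (g' τ) := fun τ => by
      rw [Category.assoc, ← hx' τ, ← Category.assoc]
      exact congrArg (· ≫ r') (Over.OverMorphism.ext (Scheme.homOfLE_ι T.left (inf_le_right : W τ ⊓ W' τ ≤ W' τ)).symm)
    have exx : ∀ τ, a τ ≫ x τ = (a' τ ≫ x' τ) ≫ (ρ (g' τ)).hom := fun τ => by
      have := congrArg (j τ ≫ ·) e'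
      rw [← Category.assoc, e2, ← Category.assoc, e1, Category.assoc _ _ t, ht, Category.assoc _ _ s, hs,
        Category.comp_id] at this
      exact this.symm
    have qs : ∀ τ, q τ ≫ s = j τ ≫ r' ≫ s := fun τ => by
      rw [← Category.assoc (j τ), e2, Category.assoc, Category.assoc _ _ s, hs, hs]
    have qt : ∀ τ, q τ ≫ t = j τ ≫ r ≫ t := fun τ => by
      rw [← Category.assoc (j τ), e1, Category.assoc, Category.assoc _ _ t, ht, ht, exx, hom_mul ρ]
      simp only [Category.assoc]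
    let R : T.left ⟶ c.pt.left := 𝒰.glueMorphisms (fun τ : ↥T.left => (q τ).left) (fun (τ τ' : ↥T.left) => by
      let Z : Over S := Over.mk (pullback.fst (O τ).ι (O τ').ι ≫ (O τ).ι ≫ T.hom)
      let z : Z ⟶ V τ := Over.homMk (pullback.fst (O τ).ι (O τ').ι) rfl
      let z' : Z ⟶ V τ' := Over.homMk (pullback.snd (O τ).ι (O τ').ι) (by
        show _ ≫ (O τ').ι ≫ T.hom = pullback.fst (O τ).ι (O τ').ι ≫ (O τ).ι ≫ T.hom
        rw [pullback.condition_assoc])
      have hz : z ≫ j τ = z' ≫ j τ' := Over.OverMorphism.ext pullback.condition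
      exact congrArg (fun k => k.left) (injective_pair ρ hc hs ht hfree Z (z ≫ q τ) (z' ≫ q τ')
        (calc (z ≫ q τ) ≫ t = z ≫ j τ ≫ r ≫ t := (Category.assoc _ _ _).trans (congrArg (z ≫ ·) (qt τ))
          _ = z' ≫ j τ' ≫ r ≫ t := by rw [reassoc_of% hz]
          _ = (z' ≫ q τ') ≫ t := ((Category.assoc _ _ _).trans (congrArg (z' ≫ ·) (qt τ'))).symm)
        (calc (z ≫ q τ) ≫ s = z ≫ j τ ≫ r' ≫ s := (Category.assoc _ _ _).trans (congrArg (z ≫ ·) (qs τ))
          _ = z' ≫ j τ' ≫ r' ≫ s := by rw [reassoc_of% hz]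
          _ = (z' ≫ q τ') ≫ s := ((Category.assoc _ _ _).trans (congrArg (z' ≫ ·) (qs τ'))).symm)))
    have hR : ∀ τ, (O τ).ι ≫ R = (q τ).left := fun τ => 𝒰.ι_glueMorphisms _ _ τ
    refine ⟨Over.homMk R (𝒰.hom_ext _ _ fun (τ : ↥T.left) => ?_), ?_, ?_⟩
    · show (O τ).ι ≫ R ≫ c.pt.hom = (O τ).ι ≫ T.hom
      rw [reassoc_of% (hR τ)]
      exact Over.w (q τ)
    · refine Over.OverMorphism.ext (𝒰.hom_ext _ _ fun (τ : ↥T.left) => ?_)
      show (O τ).ι ≫ R ≫ t.left = (O τ).ι ≫ (r ≫ t).left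
      rw [reassoc_of% (hR τ)]
      exact congrArg (fun k => k.left) (qt τ)
    · refine Over.OverMorphism.ext (𝒰.hom_ext _ _ fun (τ : ↥T.left) => ?_)
      show (O τ).ι ≫ R ≫ s.left = (O τ).ι ≫ (r' ≫ s).left
      rw [reassoc_of% (hR τ)]
      exact congrArg (fun k => k.left) (qs τ)
  · rw [hs]; show Etale (𝟙 U.left); infer_instance
  · rw [ht]; infer_instance

end Groth.Agent.AlgSpLib.FreeEtale
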