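import Groth.Agent.AlgSpLib.GeomRedChart
import Groth.Agent.GeomRedAt.Open
import Groth.Agent.AlgSpLib.DiagProp
import Groth.Agent.AlgSpLib.Space

/-!
# Geometric reducedness and extension of the ground field
-/

set_option autoImplicit false

universe u

open CategoryTheory CategoryTheory.Limits AlgebraicGeometry Opposite

set_option backward.isDefEq.respectTransparency false

namespace Groth.Agent.AlgSpLib

open _root_.AlgSp

variable {k : Type u} [Field k]

theorem isGeomReducedAt_iff_GR {X : Scheme.{u}} (f : X ⟶ Spec (CommRingCat.of k)) (x : X) :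
    FBase.IsGeomReducedAt f x ↔ GeomRedAt.GR f x := by
  refine ⟨fun h K _ v p hp => ?_, fun h K _ _ x' hx' => h K _ x' hx'⟩
  obtain ⟨φ, rfl⟩ := Spec.map_surjective v
  let _ : Algebra k K := φ.hom.toAlgebra
  exact h K p hp

theorem isGeomReducedAt_of_isReduced [PerfectField k] {X : Scheme.{u}} [IsReduced X]
    (f : X ⟶ Spec (CommRingCat.of k)) (x : X) : FBase.IsGeomReducedAt f x :=
  (isGeomReducedAt_iff_GR f x).2 (GeomRedAt.gr_of_perfect f x)

/-- the ground field extension as an object over the ground field -/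
noncomputable abbrev fieldExtObj (k K : Type u) [Field k] [Field K] [Algebra k K] : Over (Spec (CommRingCat.of k)) :=
  Over.mk (Spec.map (CommRingCat.ofHom (algebraMap k K)))

theorem exists_prod_chart {X : Sp (Spec (CommRingCat.of k))} (K : Type u) [Field K] [Algebra k K]
    {U : Over (Spec (CommRingCat.of k))} {a : (yon _).obj U ⟶ X} :
    ∃ (W : Over (Spec (CommRingCat.of k))) (p : W ⟶ U) (q : W ⟶ fieldExtObj k K)
      (a' : (yon _).obj W ⟶ X ⨯ (yon _).obj (fieldExtObj k K)),
      a' ≫ Limits.prod.snd = (yon _).map q ∧ IsPullback p.left q.left U.hom (fieldExtObj k K).hom ∧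
        IsPullback ((yon _).map p) a' a Limits.prod.fst := by
  let S := Spec (CommRingCat.of k)
  let KK := fieldExtObj k K
  let W : Over S := Over.mk (pullback.fst U.hom KK.hom ≫ U.hom)
  let p : W ⟶ U := Over.homMk (pullback.fst U.hom KK.hom) rfl
  let q : W ⟶ KK := Over.homMk (pullback.snd U.hom KK.hom) pullback.condition.symm
  have sq0 : IsPullback p.left q.left U.hom KK.hom := IsPullback.of_hasPullback _ _
  let tU : U ⟶ Over.mk (𝟙 S) := Over.homMk U.hom
  let tK : KK ⟶ Over.mk (𝟙 S) := Over.homMk KK.hom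
  have sqW : IsPullback ((yon S).map p) ((yon S).map q) ((yon S).map tU) ((yon S).map tK) :=
    isPullback_yon_iff.2 sq0
  have hT : IsTerminal ((yon S).obj (Over.mk (𝟙 S))) := Over.mkIdTerminal.isTerminalObj (yon S)
  let a' : (yon S).obj W ⟶ X ⨯ (yon S).obj KK := prod.lift ((yon S).map p ≫ a) ((yon S).map q)
  refine ⟨W, p, q, a', prod.lift_snd _ _, sq0, ⟨⟨(prod.lift_fst _ _).symm⟩, ⟨PullbackCone.IsLimit.mk _
    (fun s => sqW.lift s.fst (s.snd ≫ prod.snd) (hT.hom_ext _ _)) (fun s => sqW.lift_fst _ _ _) (fun s => ?_)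
    (fun s m h₁ h₂ => ?_)⟩⟩⟩
  · refine prod.hom_ext ?_ ?_
    · rw [Category.assoc, prod.lift_fst, sqW.lift_fst_assoc, s.condition]
    · rw [Category.assoc, prod.lift_snd, sqW.lift_snd]
  · refine sqW.hom_ext (by rw [h₁, sqW.lift_fst]) ?_
    rw [sqW.lift_snd, ← h₂, Category.assoc, prod.lift_snd]

theorem geomRedAtPt_iff_bc {X : Sp (Spec (CommRingCat.of k))} (hX : IsAlgSpace X) (K : Type u) [Field K] [Algebra k K]
    (x' : Points (X ⨯ (yon _).obj (fieldExtObj k K))) :
    GeomRedAtPt X (Points.map Limits.prod.fst x') ↔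
      ∃ (U' : Over (Spec (CommRingCat.of k))) (a' : (yon _).obj U' ⟶ X ⨯ (yon _).obj (fieldExtObj k K))
        (q : U' ⟶ fieldExtObj k K) (u' : ↥U'.left),
        RepWith @Etale a' ∧ a' ≫ Limits.prod.snd = (yon _).map q ∧ Points.ofPt a' u' = x' ∧
          FBase.IsGeomReducedAt (k := K) q.left u' := by
  obtain ⟨U, a, ha, has⟩ := hX.atlas
  obtain ⟨W, p, q, a', haq, sq0, sq⟩ := exists_prod_chart (X := X) K (U := U) (a := a)
  have ha' : RepWith @Etale a' := repWith_baseChange sq ha
  obtain ⟨u, hu⟩ := ofPt_surjective has (Points.map Limits.prod.fst x')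
  obtain ⟨z, hz₁, hz₂⟩ := exists_point_of_isPullback sq (Points.ofScheme U u) x'
    (by rw [show Points.map a (Points.ofScheme U u) = Points.ofPt a u from
      (Points.map_ofPt _ _ _).trans (by rw [Category.id_comp]), hu])
  obtain ⟨w, rfl⟩ := (Points.schemeEquiv W).surjective z
  have hz₂' : Points.ofPt a' w = x' := by
    rw [← hz₂]
    show _ = Points.map a' (Points.ofPt (𝟙 _) w)
    rw [Points.map_ofPt, Category.id_comp]
  have hw : Points.ofPt a (p.left w) = Points.map Limits.prod.fst x' := by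
    rw [← ofPt_comp, sq.w, ← Points.map_ofPt, hz₂']
  have base : GeomRedAtPt X (Points.map Limits.prod.fst x') ↔ FBase.IsGeomReducedAt (k := K) q.left w := by
    rw [isGeomReducedAt_iff_GR (k := K) q.left w, GeomRedAt.gr_baseChange_iff sq0 w, ← isGeomReducedAt_iff_GR,
      geomRedAtPt_iff_forall hX]
    exact ⟨fun H => H U a _ ha hw, fun H V b v hb hv => (isGeomReducedAt_chart_iff hX ha hb (hw.trans hv.symm)).1 H⟩
  refine base.trans ⟨fun h => ⟨W, a', q, w, ha', haq, hz₂', h⟩, ?_⟩
  rintro ⟨U', b', q', u', hb', hbq, hu', h⟩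
  have hP : IsAlgSpace (X ⨯ (yon _).obj (fieldExtObj k K)) := isAlgSpace_of_isPullback_space
    (IsAlgSpace.yon_obj (Over.mk (𝟙 (Spec (CommRingCat.of k))))) hX (IsAlgSpace.yon_obj _)
    (IsPullback.of_is_product (prodIsProd _ _) (Over.mkIdTerminal.isTerminalObj (yon _)))
  obtain ⟨R, r₁, r₂, sqR⟩ := exists_pullback hP.diag b' a'
  have : Etale r₁.left := (repWith_yon_iff r₁).1 (repWith_baseChange sqR.flip ha')
  have : Etale r₂.left := (repWith_yon_iff r₂).1 (repWith_baseChange sqR hb')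
  obtain ⟨r, rfl, rfl⟩ := (ofPt_eq_iff sqR u' w).1 (hu'.trans hz₂'.symm)
  have e : r₁ ≫ q' = r₂ ≫ q := (yon _).map_injective (by
    rw [Functor.map_comp, Functor.map_comp, ← hbq, ← haq, reassoc_of% sqR.w])
  have e' : r₁.left ≫ q'.left = r₂.left ≫ q.left := congrArg (fun g => g.left) e
  rw [← isGeomReducedAt_etale_iff (k := K) r₁.left q'.left r, e'] at h
  exact (isGeomReducedAt_etale_iff (k := K) r₂.left q.left r).1 h

end Groth.Agent.AlgSpLib
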