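import Groth.Agent.AlgSpLib.Reduced
import Groth.Agent.AlgSpLib.Points
import Groth.Agent.AlgSpLib.LocP
import Groth.Prelude.Def_FDesc

/-!
# Geometric reducedness at points, independence of etale charts
-/

set_option autoImplicit false

universe u

open CategoryTheory CategoryTheory.Limits AlgebraicGeometry Opposite

set_option backward.isDefEq.respectTransparency false

namespace Groth.Agent.AlgSpLib

open _root_.AlgSp

variable {k : Type u} [Field k]

theorem isGeomReducedAt_etale_iff {U' U : Scheme.{u}} (e : U' ⟶ U) [Etale e] (f : U ⟶ Spec (CommRingCat.of k))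
    (u : U') : FBase.IsGeomReducedAt (e ≫ f) u ↔ FBase.IsGeomReducedAt f (e u) := by
  have key : ∀ (K : Type u) [Field K] [Algebra k K], ∃ m : FBase.bc (e ≫ f) K ⟶ FBase.bc f K,
      IsPullback m (FBase.bcπ (e ≫ f) K) (FBase.bcπ f K) e := by
    intro K _ _
    let sK := Spec.map (CommRingCat.ofHom (algebraMap k K))
    refine ⟨pullback.map (e ≫ f) sK f sK e (𝟙 _) (𝟙 _) (Category.comp_id _) (by simp), ?_⟩
    refine (IsPullback.of_right ?_ ?_ (IsPullback.of_hasPullback f sK).flip)
    · rw [show pullback.map (e ≫ f) sK f sK e (𝟙 _) (𝟙 _) (Category.comp_id _) (by simp) ≫ pullback.snd f sK =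
        pullback.snd (e ≫ f) sK from (pullback.lift_snd _ _ _).trans (Category.comp_id _)]
      exact (IsPullback.of_hasPullback (e ≫ f) sK).flip
    · exact pullback.lift_fst _ _ _
  constructor
  · intro h K _ _ x' hx'
    obtain ⟨m, sq⟩ := key K
    have : Smooth m := MorphismProperty.of_isPullback (P := @Smooth) sq.flip (inferInstance : Smooth e)
    obtain ⟨z, hz₁, hz₂⟩ := Scheme.Pullback.exists_preimage_pullback (f := FBase.bcπ f K) (g := e) x' u hx'
    let z' := sq.isoPullback.inv z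
    have h1 : m z' = x' := by
      rw [← Scheme.Hom.comp_apply, sq.isoPullback_inv_fst, hz₁]
    have h2 : FBase.bcπ (e ≫ f) K z' = u := by
      rw [← Scheme.Hom.comp_apply, sq.isoPullback_inv_snd, hz₂]
    exact h1 ▸ (isReduced_stalk_iff_of_smooth m z').1 (h K z' h2)
  · intro h K _ _ x' hx'
    obtain ⟨m, sq⟩ := key K
    have : Smooth m := MorphismProperty.of_isPullback (P := @Smooth) sq.flip (inferInstance : Smooth e)
    refine (isReduced_stalk_iff_of_smooth m x').2 (h K (m x') ?_)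
    show FBase.bcπ f K (m x') = e u
    rw [← Scheme.Hom.comp_apply, sq.w, Scheme.Hom.comp_apply]
    exact congrArg e hx'

theorem isGeomReducedAt_over_iff {U V : Over (Spec (CommRingCat.of k))} (g : U ⟶ V) [Etale g.left] (u : ↥U.left) :
    FBase.IsGeomReducedAt U.hom u ↔ FBase.IsGeomReducedAt V.hom (g.left u) := by
  have h := isGeomReducedAt_etale_iff g.left V.hom u
  rwa [Over.w g] at h

theorem isGeomReducedAt_chart_iff {X : Sp (Spec (CommRingCat.of k))} (hX : IsAlgSpace X)
    {U V : Over (Spec (CommRingCat.of k))} {a : (yon _).obj U ⟶ X} {b : (yon _).obj V ⟶ X}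
    (ha : RepWith @Etale a) (hb : RepWith @Etale b) {u : ↥U.left} {v : ↥V.left}
    (h : Points.ofPt a u = Points.ofPt b v) :
    FBase.IsGeomReducedAt U.hom u ↔ FBase.IsGeomReducedAt V.hom v := by
  obtain ⟨W, p, q, sq⟩ := exists_pullback hX.diag a b
  have : Etale p.left := (repWith_yon_iff p).1 (repWith_baseChange sq.flip hb)
  have : Etale q.left := (repWith_yon_iff q).1 (repWith_baseChange sq ha)
  obtain ⟨w, rfl, rfl⟩ := (ofPt_eq_iff sq u v).1 h
  rw [← isGeomReducedAt_over_iff p, ← isGeomReducedAt_over_iff q]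

/-- geometrically reduced at a point of the space, in the chart form -/
def GeomRedAtPt (X : Sp (Spec (CommRingCat.of k))) (x : Points X) : Prop :=
  ∃ (U : Over (Spec (CommRingCat.of k))) (a : (yon _).obj U ⟶ X) (u : ↥U.left),
    RepWith @Etale a ∧ Points.ofPt a u = x ∧ FBase.IsGeomReducedAt U.hom u

theorem geomRedAtPt_iff_forall {X : Sp (Spec (CommRingCat.of k))} (hX : IsAlgSpace X) (x : Points X) :
    GeomRedAtPt X x ↔ ∀ (U : Over (Spec (CommRingCat.of k))) (a : (yon _).obj U ⟶ X) (u : ↥U.left),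
      RepWith @Etale a → Points.ofPt a u = x → FBase.IsGeomReducedAt U.hom u := by
  constructor
  · rintro ⟨U, a, u, ha, hu, h⟩ V b v hb hv
    exact (isGeomReducedAt_chart_iff hX ha hb (hu.trans hv.symm)).1 h
  · intro h
    obtain ⟨U, a, ha, has⟩ := hX.atlas
    obtain ⟨u, hu⟩ := ofPt_surjective has x
    exact ⟨U, a, u, ha, hu, h U a u ha hu⟩

theorem geomRedAtPt_iff_of_etaleAt {X Y : Sp (Spec (CommRingCat.of k))} (hX : IsAlgSpace X) (hY : IsAlgSpace Y)
    (f : X ⟶ Y) (x : Points X)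
    (he : HasAtMor (fun U _ h u => ∃ W : U.Opens, u ∈ W ∧ Etale (W.ι ≫ h)) f x) :
    GeomRedAtPt X x ↔ GeomRedAtPt Y (Points.map f x) := by
  obtain ⟨U, V, a, b, h, u, ha, hb, comm, rfl, W, hu, hW⟩ := he
  have : Etale (W.ι ≫ h.left) := hW
  have e1 : FBase.IsGeomReducedAt U.hom u ↔ FBase.IsGeomReducedAt V.hom (h.left u) := by
    have h1 := isGeomReducedAt_etale_iff W.ι U.hom ⟨u, hu⟩
    have h2 := isGeomReducedAt_etale_iff (W.ι ≫ h.left) V.hom ⟨u, hu⟩
    rw [Category.assoc, Over.w h] at h2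
    exact h1.symm.trans h2
  have hy : Points.ofPt b (h.left u) = Points.map f (Points.ofPt a u) := by
    rw [Points.map_ofPt, comm, ofPt_comp]
  rw [geomRedAtPt_iff_forall hX, geomRedAtPt_iff_forall hY]
  constructor
  · intro H V' b' v' hb' hv'
    exact (isGeomReducedAt_chart_iff hY hb hb' (hy.trans hv'.symm)).1 (e1.1 (H U a u ha rfl))
  · intro H U' a' u' ha' hu'
    exact (isGeomReducedAt_chart_iff hX ha ha' hu'.symm).1 (e1.2 (H V b _ hb hy))

theorem geomRedAtPt_iff_of_etale {X Y : Sp (Spec (CommRingCat.of k))} (hX : IsAlgSpace X) (hY : IsAlgSpace Y)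
    (f : X ⟶ Y) (he : IsEtaleMor f) (x : Points X) : GeomRedAtPt X x ↔ GeomRedAtPt Y (Points.map f x) := by
  obtain ⟨U, a, ha, has⟩ := hX.atlas
  obtain ⟨u, rfl⟩ := ofPt_surjective has x
  refine geomRedAtPt_iff_of_etaleAt hX hY f _ ⟨U, U, a, a ≫ f, 𝟙 U, u, ha, he a ha, ?_, rfl, ⊤, trivial, ?_⟩
  · rw [CategoryTheory.Functor.map_id]; exact (Category.id_comp _).symm
  · show Etale ((⊤ : U.left.Opens).ι ≫ 𝟙 _)
    infer_instance

end Groth.Agent.AlgSpLib
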