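import Groth.Agent.AlgSpLib.GeomRedBC
import Groth.Agent.GeomProp.SchemeReduced

/-!
# Geometric reducedness tested on field extensions
-/

set_option autoImplicit false

universe u

open CategoryTheory CategoryTheory.Limits AlgebraicGeometry Opposite

set_option backward.isDefEq.respectTransparency false

namespace Groth.Agent.AlgSpLib

open _root_.AlgSp

variable {k : Type u} [Field k]

theorem isReduced_stalk_chart {S : Scheme.{u}} {F : Sp S} (hF : IsAlgSpace F)
    (hr : EtaleLocally (fun U => IsReduced U) F) {V : Over S} {b : (yon S).obj V ⟶ F} (hb : RepWith @Etale b)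
    (v : ↥V.left) : _root_.IsReduced (V.left.presheaf.stalk v) := by
  obtain ⟨U, a, u, ha, e, hu⟩ := (isReducedSp_iff_forall_hasAt hF).1 hr (Points.ofPt b v)
  obtain ⟨W, p, q, sq⟩ := exists_pullback hF.diag a b
  have : Etale p.left := (repWith_yon_iff p).1 (repWith_baseChange sq.flip hb)
  have : Etale q.left := (repWith_yon_iff q).1 (repWith_baseChange sq ha)
  obtain ⟨w, rfl, rfl⟩ := (ofPt_eq_iff sq u v).1 e
  exact (isReduced_stalk_iff_of_smooth q.left w).1 ((isReduced_stalk_iff_of_smooth p.left w).2 hu)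

theorem isAlgSpace_bc {X : Sp (Spec (CommRingCat.of k))} (hX : IsAlgSpace X) (K : Type u) [Field K] [Algebra k K] :
    IsAlgSpace (X ⨯ (yon _).obj (fieldExtObj k K)) :=
  isAlgSpace_of_isPullback_space (IsAlgSpace.yon_obj (Over.mk (𝟙 (Spec (CommRingCat.of k))))) hX
    (IsAlgSpace.yon_obj _) (IsPullback.of_is_product (prodIsProd _ _) (Over.mkIdTerminal.isTerminalObj (yon _)))

theorem isGeomReducedAt_of_pi {Y : Scheme.{u}} (f : Y ⟶ Spec (CommRingCat.of k)) (x : Y)
    (h : ∀ (k' : Type u) [Field k'] [Algebra k k'], Module.Finite k k' → IsPurelyInseparable k k' →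
      ∀ x' : ↥(FBase.bc f k'), FBase.bcπ f k' x' = x → _root_.IsReduced ((FBase.bc f k').presheaf.stalk x')) :
    FBase.IsGeomReducedAt f x := by
  let _ : Y.Over (Spec (CommRingCat.of k)) := ⟨f⟩
  rw [isGeomReducedAt_iff_GR]
  exact (GeomProp.isGeomReducedAt_iff_gr k Y x).1
    ((GeomProp.isGeomReducedAt_iff_pi k Y x).2 fun k' _ _ hfin hpi x' hx' => h k' hfin hpi x' hx')

theorem isGeomReducedAt_of_perfect_extension {Y : Scheme.{u}} (f : Y ⟶ Spec (CommRingCat.of k)) (K : Type u)
    [Field K] [Algebra k K] [PerfectField K] [hred : IsReduced (FBase.bc f K)] (x : Y) :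
    FBase.IsGeomReducedAt f x := by
  have : Subsingleton ↥(Spec (CommRingCat.of k)) := inferInstanceAs (Subsingleton (PrimeSpectrum k))
  obtain ⟨p, hp, -⟩ := Scheme.Pullback.exists_preimage_pullback (f := f)
    (g := Spec.map (CommRingCat.ofHom (algebraMap k K))) x (IsLocalRing.closedPoint K) (Subsingleton.elim _ _)
  have : IsReduced (pullback f (Spec.map (CommRingCat.ofHom (algebraMap k K)))) := hred
  rw [isGeomReducedAt_iff_GR, ← hp]
  exact GeomRedAt.gr_of_point f _ p

variable {X : Sp (Spec (CommRingCat.of k))} (hX : IsAlgSpace X)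

include hX

theorem bc_chart_stalks {K : Type u} [Field K] [Algebra k K]
    (hr : EtaleLocally (fun U => IsReduced U) (X ⨯ (yon _).obj (fieldExtObj k K)))
    {U : Over (Spec (CommRingCat.of k))} {a : (yon _).obj U ⟶ X} (ha : RepWith @Etale a)
    (x' : ↥(FBase.bc U.hom K)) : _root_.IsReduced ((FBase.bc U.hom K).presheaf.stalk x') := by
  obtain ⟨W, p, q, a', -, sq0, sq⟩ := exists_prod_chart (X := X) K (U := U) (a := a)
  have hW := isReduced_stalk_chart (isAlgSpace_bc hX K) hr (repWith_baseChange sq ha)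
  have := hW (sq0.isoPullback.inv x')
  exact (GeomRedAt.isReduced_stalk_openImmersion_iff sq0.isoPullback.inv x').1 this

theorem geomRedAtPt_of_bc_perfect {K : Type u} [Field K] [Algebra k K] [PerfectField K]
    (hr : EtaleLocally (fun U => IsReduced U) (X ⨯ (yon _).obj (fieldExtObj k K))) (x : Points X) :
    GeomRedAtPt X x := by
  obtain ⟨U, a, ha, has⟩ := hX.atlas
  obtain ⟨u, hu⟩ := ofPt_surjective has x
  have : ∀ x' : ↥(FBase.bc U.hom K), _root_.IsReduced ((FBase.bc U.hom K).presheaf.stalk x') :=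
    bc_chart_stalks hX hr ha
  have := isReduced_of_isReduced_stalk (FBase.bc U.hom K)
  exact ⟨U, a, u, ha, hu, isGeomReducedAt_of_perfect_extension U.hom K u⟩

theorem geomRedAtPt_of_bc_pi
    (h : ∀ (k' : Type u) [Field k'] [Algebra k k'], Module.Finite k k' → IsPurelyInseparable k k' →
      EtaleLocally (fun U => IsReduced U) (X ⨯ (yon _).obj (fieldExtObj k k'))) (x : Points X) :
    GeomRedAtPt X x := by
  obtain ⟨U, a, ha, has⟩ := hX.atlas
  obtain ⟨u, hu⟩ := ofPt_surjective has x
  exact ⟨U, a, u, ha, hu, isGeomReducedAt_of_pi U.hom u fun k' _ _ hfin hpi x' _ =>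
    bc_chart_stalks hX (h k' hfin hpi) ha x'⟩

theorem bc_isReduced_of_geomRed (h : ∀ x : Points X, GeomRedAtPt X x) (K : Type u) [Field K] [Algebra k K] :
    EtaleLocally (fun U => IsReduced U) (X ⨯ (yon _).obj (fieldExtObj k K)) := by
  obtain ⟨U, a, ha, has⟩ := hX.atlas
  obtain ⟨W, p, q, a', -, sq0, sq⟩ := exists_prod_chart (X := X) K (U := U) (a := a)
  have : ∀ z : ↥W.left, _root_.IsReduced (W.left.presheaf.stalk z) := fun z => by
    have hz := (geomRedAtPt_iff_forall hX _).1 (h (Points.ofPt a (p.left z))) U a (p.left z) ha rfl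
    have := hz K (sq0.isoPullback.hom z) (by
      show (pullback.fst U.hom (fieldExtObj k K).hom) (sq0.isoPullback.hom z) = p.left z
      rw [← Scheme.Hom.comp_apply, sq0.isoPullback_hom_fst])
    exact (GeomRedAt.isReduced_stalk_openImmersion_iff sq0.isoPullback.hom z).1 this
  exact ⟨W, a', repWith_baseChange sq ha, repWith_baseChange sq has, isReduced_of_isReduced_stalk W.left⟩

end Groth.Agent.AlgSpLib
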