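import Groth.Agent.AlgSpLib.Subspace
import Groth.Prelude.Def_AlgSpGpd

/-!
# Groupoids in algebraic spaces: elementary identities and invariant opens
-/

set_option autoImplicit false

universe u

open CategoryTheory CategoryTheory.Limits AlgebraicGeometry Opposite

set_option backward.isDefEq.respectTransparency false

namespace Groth.Agent.AlgSpLib.Gpd

open _root_.AlgSp

variable {S : Scheme.{u}} {B : Sp S} (G : GroupoidSp B) {T : Sp S}

/-- composition of points -/
noncomputable def mul (a b : T ⟶ G.R) (h : a ≫ G.s = b ≫ G.t) : T ⟶ G.R := pullback.lift a b h ≫ G.c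

lemma mul_congr {a a' b b' : T ⟶ G.R} (h : a ≫ G.s = b ≫ G.t) (ha : a = a') (hb : b = b') :
    mul G a b h = mul G a' b' (ha ▸ hb ▸ h) := by subst ha hb; rfl

lemma mul_s (a b : T ⟶ G.R) (h : a ≫ G.s = b ≫ G.t) : mul G a b h ≫ G.s = b ≫ G.s := G.comp_s a b h

lemma mul_t (a b : T ⟶ G.R) (h : a ≫ G.s = b ≫ G.t) : mul G a b h ≫ G.t = a ≫ G.t := G.comp_t a b h

lemma mul_assoc (a b d : T ⟶ G.R) (h₁ : a ≫ G.s = b ≫ G.t) (h₂ : b ≫ G.s = d ≫ G.t) :
    mul G (mul G a b h₁) d ((mul_s G a b h₁).trans h₂) =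
      mul G a (mul G b d h₂) (h₁.trans (mul_t G b d h₂).symm) := G.assoc a b d h₁ h₂

lemma cancel_mul_inv (a b : T ⟶ G.R) (h : a ≫ G.s = b ≫ G.t)
    (h' : mul G a b h ≫ G.s = (b ≫ G.i) ≫ G.t := by simp [mul_s, G.i_t]) :
    mul G (mul G a b h) (b ≫ G.i) h' = a := by
  have hb : b ≫ G.s = (b ≫ G.i) ≫ G.t := by rw [Category.assoc, G.i_t]
  rw [mul_assoc G a b (b ≫ G.i) h hb, mul_congr G _ rfl (show mul G b (b ≫ G.i) hb = b ≫ G.t ≫ G.e from G.comp_i b)]
  rw [mul_congr G _ rfl (show b ≫ G.t ≫ G.e = a ≫ G.s ≫ G.e by rw [reassoc_of% h])]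
  exact G.comp_e a

lemma mul_inv_cancel (a b : T ⟶ G.R) (h : a ≫ G.s = (b ≫ G.i) ≫ G.t)
    (h' : mul G a (b ≫ G.i) h ≫ G.s = b ≫ G.t := by simp [mul_s, G.i_s]) :
    mul G (mul G a (b ≫ G.i) h) b h' = a := by
  have hb : (b ≫ G.i) ≫ G.s = b ≫ G.t := by rw [Category.assoc, G.i_s]
  have hab : a ≫ G.s = b ≫ G.s := by rw [h, Category.assoc, G.i_t]
  rw [mul_assoc G a (b ≫ G.i) b h hb, mul_congr G _ rfl (show mul G (b ≫ G.i) b hb = b ≫ G.s ≫ G.e from G.i_comp b)]
  rw [mul_congr G _ rfl (show b ≫ G.s ≫ G.e = a ≫ G.s ≫ G.e by rw [reassoc_of% hab])]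
  exact G.comp_e a

lemma inv_mul_cancel (a b : T ⟶ G.R) (h : (a ≫ G.i) ≫ G.s = b ≫ G.t)
    (h' : a ≫ G.s = mul G (a ≫ G.i) b h ≫ G.t := by simp [mul_t, G.i_t]) :
    mul G a (mul G (a ≫ G.i) b h) h' = b := by
  have ha : a ≫ G.s = (a ≫ G.i) ≫ G.t := by rw [Category.assoc, G.i_t]
  have hab : a ≫ G.t = b ≫ G.t := by rw [← h, Category.assoc, G.i_s]
  rw [← mul_assoc G a (a ≫ G.i) b ha h, mul_congr G _ (show mul G a (a ≫ G.i) ha = a ≫ G.t ≫ G.e from G.comp_i a) rfl]
  rw [mul_congr G _ (show a ≫ G.t ≫ G.e = b ≫ G.t ≫ G.e by rw [reassoc_of% hab]) rfl]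
  exact G.e_comp b

lemma mul_cancel_left (a b : T ⟶ G.R) (h : a ≫ G.s = b ≫ G.t)
    (h' : (a ≫ G.i) ≫ G.s = mul G a b h ≫ G.t := by simp [mul_t, G.i_s]) :
    mul G (a ≫ G.i) (mul G a b h) h' = b := by
  have ha : (a ≫ G.i) ≫ G.s = a ≫ G.t := by rw [Category.assoc, G.i_s]
  rw [← mul_assoc G (a ≫ G.i) a b ha h, mul_congr G _ (show mul G (a ≫ G.i) a ha = a ≫ G.s ≫ G.e from G.i_comp a) rfl]
  rw [mul_congr G _ (show a ≫ G.s ≫ G.e = b ≫ G.t ≫ G.e by rw [reassoc_of% h]) rfl]
  exact G.e_comp b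

theorem isPullback_c : IsPullback G.c (pullback.snd G.s G.t) G.s G.s := by
  have hw : G.c ≫ G.s = pullback.snd G.s G.t ≫ G.s := by
    have := G.comp_s (pullback.fst G.s G.t) (pullback.snd G.s G.t) pullback.condition
    rwa [show pullback.lift (pullback.fst G.s G.t) (pullback.snd G.s G.t) pullback.condition = 𝟙 _ from by
      apply pullback.hom_ext <;> simp, Category.id_comp] at this
  refine ⟨⟨hw⟩, ⟨PullbackCone.IsLimit.mk hw (fun c => pullback.lift
    (mul G c.fst (c.snd ≫ G.i) (by rw [Category.assoc, G.i_t]; exact c.condition)) c.snd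
    (by rw [mul_s, Category.assoc, G.i_s])) (fun c => ?_) (fun c => pullback.lift_snd _ _ _)
    (fun c m h1 h2 => ?_)⟩⟩
  · exact mul_inv_cancel G c.fst c.snd _
  · apply pullback.hom_ext
    · rw [pullback.lift_fst]
      have hm : mul G (m ≫ pullback.fst G.s G.t) (m ≫ pullback.snd G.s G.t) (by simp [pullback.condition]) =
          c.fst := by
        rw [← h1, mul, show pullback.lift (m ≫ pullback.fst G.s G.t) (m ≫ pullback.snd G.s G.t)
          (by simp [pullback.condition]) = m from by apply pullback.hom_ext <;> simp]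
      rw [mul_congr G _ hm.symm (show c.snd ≫ G.i = (m ≫ pullback.snd G.s G.t) ≫ G.i by rw [h2])]
      exact (cancel_mul_inv G _ _ _).symm
    · rw [pullback.lift_snd, h2]

theorem shear (φ : pullback G.t G.t ⟶ pullback G.s G.t)
    (h1 : φ ≫ pullback.fst G.s G.t = pullback.fst G.t G.t)
    (hk : (pullback.fst G.t G.t ≫ G.i) ≫ G.s = pullback.snd G.t G.t ≫ G.t)
    (h2 : φ ≫ pullback.snd G.s G.t = mul G (pullback.fst G.t G.t ≫ G.i) (pullback.snd G.t G.t) hk) :
    IsIso φ ∧ φ ≫ G.c = pullback.snd G.t G.t := by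
  have hc : φ ≫ G.c = pullback.snd G.t G.t := by
    rw [show φ = pullback.lift (pullback.fst G.t G.t) _ (by simp [mul_t, G.i_t]) from
      pullback.hom_ext (h1.trans (pullback.lift_fst _ _ _).symm) (h2.trans (pullback.lift_snd _ _ _).symm)]
    exact inv_mul_cancel G _ _ _
  refine ⟨⟨pullback.lift (pullback.fst G.s G.t) G.c (by
    have := G.comp_t (pullback.fst G.s G.t) (pullback.snd G.s G.t) pullback.condition
    rw [show pullback.lift (pullback.fst G.s G.t) (pullback.snd G.s G.t) pullback.condition = 𝟙 _ from by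
      apply pullback.hom_ext <;> simp, Category.id_comp] at this
    exact this.symm), ?_, ?_⟩, hc⟩
  · apply pullback.hom_ext
    · simp [h1]
    · simp [hc]
  · apply pullback.hom_ext
    · simp [h1]
    · rw [Category.assoc, h2]
      refine Eq.trans ?_ (Category.id_comp _).symm
      simp only [mul, ← Category.assoc]
      have key := mul_cancel_left G (pullback.fst G.s G.t) (pullback.snd G.s G.t) pullback.condition
      refine Eq.trans ?_ key
      simp only [mul]
      congr 1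
      apply pullback.hom_ext
      · simp
      · simp only [Category.assoc, pullback.lift_snd]
        rw [show pullback.lift (pullback.fst G.s G.t) (pullback.snd G.s G.t) pullback.condition = 𝟙 _ from by
          apply pullback.hom_ext <;> simp, Category.id_comp]

theorem isInvariant_of_image (hU : IsAlgSpace G.U) {W W' : Sp S} (w : W ⟶ G.U) {w' : W' ⟶ G.U}
    (hW' : IsAlgSpace W') (hw' : RepWith @IsOpenImmersion w')
    (himg : Set.range (Points.map w') = Points.map G.s '' (Points.map G.t ⁻¹' Set.range (Points.map w))) :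
    G.IsInvariant w' := by
  have hcomp : ∀ σ ρ : Points G.R, Points.map G.s σ = Points.map G.t ρ →
      ∃ τ, Points.map G.s τ = Points.map G.s ρ ∧ Points.map G.t τ = Points.map G.t σ := by
    intro σ ρ e
    obtain ⟨p, rfl, rfl⟩ := exists_point_of_isPullback (IsPullback.of_hasPullback G.s G.t) σ ρ e
    have hl : pullback.lift (pullback.fst G.s G.t) (pullback.snd G.s G.t) pullback.condition = 𝟙 _ := by
      apply pullback.hom_ext <;> simp
    have h1 := G.comp_s (pullback.fst G.s G.t) (pullback.snd G.s G.t) pullback.condition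
    have h2 := G.comp_t (pullback.fst G.s G.t) (pullback.snd G.s G.t) pullback.condition
    rw [hl, Category.id_comp] at h1 h2
    exact ⟨Points.map G.c p, by rw [← Points.map_comp, h1, Points.map_comp],
      by rw [← Points.map_comp, h2, Points.map_comp]⟩
  have hinv : ∀ ρ : Points G.R, Points.map G.t ρ ∈ Set.range (Points.map w') ↔
      Points.map G.s ρ ∈ Set.range (Points.map w') := by
    intro ρ
    rw [himg]
    constructor
    · rintro ⟨σ, hσ, e⟩
      obtain ⟨τ, h1, h2⟩ := hcomp σ ρ e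
      exact ⟨τ, by rw [Set.mem_preimage, h2]; exact hσ, h1⟩
    · rintro ⟨σ, hσ, e⟩
      obtain ⟨τ, h1, h2⟩ := hcomp σ (Points.map G.i ρ) (by rw [← Points.map_comp, G.i_t, e])
      exact ⟨τ, by rw [Set.mem_preimage, h2]; exact hσ, by rw [h1, ← Points.map_comp, G.i_s]⟩
  intro T r
  rw [exists_factor_iff hW' hU w' hw', exists_factor_iff hW' hU w' hw']
  simp only [Set.range_subset_iff, Points.map_comp]
  exact forall_congr' fun x => hinv _

end Groth.Agent.AlgSpLib.Gpd
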