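import Groth.Agent.AlgSpLib.Basic
import Groth.Prelude.Def_AlgSpGpd

/-!
# Translations in groupoids
-/

set_option autoImplicit false

universe u

open CategoryTheory CategoryTheory.Limits AlgebraicGeometry Opposite

set_option backward.isDefEq.respectTransparency false

namespace Groth.Agent.AlgSpLib

open _root_.AlgSp

variable {S : Scheme.{u}} {B : Sp S} (G : GroupoidSp B)

/-- composition of two T-valued arrows -/
noncomputable def gmul {T : Sp S} (α β : T ⟶ G.R) (h : α ≫ G.s = β ≫ G.t) : T ⟶ G.R :=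
  pullback.lift α β h ≫ G.c

lemma gmul_comp {T T' : Sp S} (γ : T' ⟶ T) (α β : T ⟶ G.R) (h : α ≫ G.s = β ≫ G.t) :
    γ ≫ gmul G α β h = gmul G (γ ≫ α) (γ ≫ β) (by rw [Category.assoc, Category.assoc, h]) := by
  rw [gmul, gmul, ← Category.assoc]
  congr 1
  refine pullback.hom_ext ?_ ?_ <;> simp

lemma gmul_congr {T : Sp S} {α α' β β' : T ⟶ G.R} (e₁ : α = α') (e₂ : β = β') (h : α ≫ G.s = β ≫ G.t) :
    gmul G α β h = gmul G α' β' (e₁ ▸ e₂ ▸ h) := by
  subst e₁ e₂; rfl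

lemma gmul_s {T : Sp S} (α β : T ⟶ G.R) (h : α ≫ G.s = β ≫ G.t) : gmul G α β h ≫ G.s = β ≫ G.s := G.comp_s α β h

lemma gmul_t {T : Sp S} (α β : T ⟶ G.R) (h : α ≫ G.s = β ≫ G.t) : gmul G α β h ≫ G.t = α ≫ G.t := G.comp_t α β h

lemma gmul_assoc {T : Sp S} (α β γ : T ⟶ G.R) (h₁ : α ≫ G.s = β ≫ G.t) (h₂ : β ≫ G.s = γ ≫ G.t) :
    gmul G (gmul G α β h₁) γ ((gmul_s G α β h₁).trans h₂) =
      gmul G α (gmul G β γ h₂) (h₁.trans (gmul_t G β γ h₂).symm) := G.assoc α β γ h₁ h₂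

lemma gmul_inv_left {T : Sp S} (α : T ⟶ G.R) :
    gmul G (α ≫ G.i) α (by rw [Category.assoc, G.i_s]) = α ≫ G.s ≫ G.e := G.i_comp α

lemma gmul_inv_right {T : Sp S} (α : T ⟶ G.R) :
    gmul G α (α ≫ G.i) (by rw [Category.assoc, G.i_t]) = α ≫ G.t ≫ G.e := G.comp_i α

lemma gmul_e_left {T : Sp S} (α : T ⟶ G.R) (ε : T ⟶ G.R) (he : ε = α ≫ G.t ≫ G.e) :
    gmul G ε α (by rw [he, Category.assoc, Category.assoc, G.e_s, Category.comp_id]) = α := by
  subst he; exact G.e_comp α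

lemma gmul_e_right {T : Sp S} (α : T ⟶ G.R) (ε : T ⟶ G.R) (he : ε = α ≫ G.s ≫ G.e) :
    gmul G α ε (by rw [he, Category.assoc, Category.assoc, G.e_t, Category.comp_id]) = α := by
  subst he; exact G.comp_e α

/-- cancellation: `a⁻¹ (a r) = r` -/
lemma gmul_cancel_left {T : Sp S} (α β : T ⟶ G.R) (h : α ≫ G.s = β ≫ G.t) :
    gmul G (α ≫ G.i) (gmul G α β h) (by rw [Category.assoc, G.i_s, gmul_t]) = β := by
  rw [← gmul_assoc G (α ≫ G.i) α β (by rw [Category.assoc, G.i_s]) h]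
  refine gmul_e_left G β _ ?_
  rw [gmul_inv_left, reassoc_of% h]

/-- cancellation: `a (a⁻¹ r) = r` -/
lemma gmul_cancel_left' {T : Sp S} (α β : T ⟶ G.R) (h : α ≫ G.t = β ≫ G.t) :
    gmul G α (gmul G (α ≫ G.i) β (by rw [Category.assoc, G.i_s, h])) (by rw [gmul_t, Category.assoc, G.i_t]) = β := by
  rw [← gmul_assoc G α (α ≫ G.i) β (by rw [Category.assoc, G.i_t]) (by rw [Category.assoc, G.i_s, h])]
  refine gmul_e_left G β _ ?_
  rw [gmul_inv_right, reassoc_of% h]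

/-- left translation by a section of the source map -/
noncomputable def ltrans (a : G.U ⟶ G.R) (ha : a ≫ G.s = 𝟙 G.U) : G.R ⟶ G.R :=
  gmul G (G.t ≫ a) (𝟙 G.R) (by rw [Category.assoc, ha, Category.comp_id, Category.id_comp])

theorem isIso_ltrans (a : G.U ⟶ G.R) (ha : a ≫ G.s = 𝟙 G.U) [IsIso (a ≫ G.t)] :
    IsIso (ltrans G a ha) ∧ G.e ≫ ltrans G a ha = a := by
  have hb : (inv (a ≫ G.t) ≫ a ≫ G.i) ≫ G.s = 𝟙 G.U := by
    simp [G.i_s]
  refine ⟨⟨ltrans G (inv (a ≫ G.t) ≫ a ≫ G.i) hb, ?_, ?_⟩, ?_⟩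
  · rw [ltrans, ltrans, gmul_comp]
    refine (gmul_congr G (α' := (G.t ≫ a) ≫ G.i) ?_ (Category.comp_id _) _).trans
      (gmul_cancel_left G _ _ _)
    rw [← Category.assoc, gmul_t, Category.assoc, Category.assoc, Category.assoc]
    rw [← Category.assoc a G.t, IsIso.hom_inv_id_assoc]
  · rw [ltrans, ltrans, gmul_comp]
    refine (gmul_congr G (α' := G.t ≫ inv (a ≫ G.t) ≫ a)
      (β' := gmul G ((G.t ≫ inv (a ≫ G.t) ≫ a) ≫ G.i) (𝟙 G.R) (by simp [G.i_s])) ?_ ?_ _).trans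
      (gmul_cancel_left' G _ _ (by simp))
    · rw [← Category.assoc, gmul_t]
      simp [G.i_t, reassoc_of% ha]
    · rw [Category.comp_id]
      exact gmul_congr G (by simp) rfl _
  · rw [ltrans, gmul_comp]
    refine (gmul_congr G (α' := a) (β' := G.e) ?_ (Category.comp_id _) _).trans ?_
    · rw [← Category.assoc, G.e_t, Category.id_comp]
    · exact gmul_e_right G a _ (by rw [reassoc_of% ha])

/-- right translation by `r⁻¹ r'` on fibres of the source map -/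
noncomputable def fibreMap {T : Sp S} (r r' : T ⟶ G.R) (h : r ≫ G.t = r' ≫ G.t) :
    pullback (r ≫ G.s) G.s ⟶ pullback (r' ≫ G.s) G.s :=
  pullback.lift (pullback.fst _ _)
    (gmul G (pullback.snd (r ≫ G.s) G.s)
      (pullback.fst (r ≫ G.s) G.s ≫ gmul G (r ≫ G.i) r' (by rw [Category.assoc, G.i_s, h]))
      (by rw [Category.assoc, gmul_t, Category.assoc, G.i_t, ← pullback.condition]))
    (by rw [gmul_s, Category.assoc, gmul_s])

lemma fibreMap_fst {T : Sp S} (r r' : T ⟶ G.R) (h : r ≫ G.t = r' ≫ G.t) :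
    fibreMap G r r' h ≫ pullback.fst _ _ = pullback.fst _ _ := pullback.lift_fst _ _ _

lemma fibreMap_fibreMap {T : Sp S} (r r' : T ⟶ G.R) (h : r ≫ G.t = r' ≫ G.t) :
    fibreMap G r r' h ≫ fibreMap G r' r h.symm = 𝟙 _ := by
  refine pullback.hom_ext ?_ ?_
  · rw [Category.assoc, fibreMap_fst, fibreMap_fst, Category.id_comp]
  · rw [Category.assoc, fibreMap, fibreMap, pullback.lift_snd, gmul_comp, Category.id_comp]
    have h1 : (pullback.fst (r ≫ G.s) G.s ≫ gmul G (r ≫ G.i) r' (by rw [Category.assoc, G.i_s, h])) ≫ G.s =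
        (pullback.fst (r ≫ G.s) G.s ≫ gmul G (r' ≫ G.i) r (by rw [Category.assoc, G.i_s, h])) ≫ G.t := by
      simp only [Category.assoc, gmul_s, gmul_t, G.i_t]
    have h2 : pullback.snd (r ≫ G.s) G.s ≫ G.s =
        (pullback.fst (r ≫ G.s) G.s ≫ gmul G (r ≫ G.i) r' (by rw [Category.assoc, G.i_s, h])) ≫ G.t := by
      rw [Category.assoc, gmul_t, Category.assoc, G.i_t, ← pullback.condition]
    refine (gmul_congr G (pullback.lift_snd _ _ _) (by rw [← Category.assoc, pullback.lift_fst]) _).trans ?_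
    rw [gmul_assoc G _ _ _ h2 h1]
    refine gmul_e_right G _ _ ?_
    rw [← gmul_comp G (pullback.fst (r ≫ G.s) G.s) _ _
        (by rw [gmul_s, gmul_t, Category.assoc, G.i_t]),
      gmul_assoc G (r ≫ G.i) r' _ (by rw [Category.assoc, G.i_s, h]) (by rw [gmul_t, Category.assoc, G.i_t]),
      gmul_congr G rfl (gmul_cancel_left' G r' r h.symm) _, gmul_inv_left, ← Category.assoc r, ← Category.assoc (pullback.fst (r ≫ G.s) G.s), pullback.condition,
      Category.assoc]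

theorem nonempty_iso_fibres {T : Sp S} (r r' : T ⟶ G.R) (h : r ≫ G.t = r' ≫ G.t) :
    Nonempty (Over.mk (pullback.fst (r ≫ G.s) G.s) ≅ Over.mk (pullback.fst (r' ≫ G.s) G.s)) :=
  ⟨Over.isoMk ⟨fibreMap G r r' h, fibreMap G r' r h.symm, fibreMap_fibreMap G r r' h,
    fibreMap_fibreMap G r' r h.symm⟩ (fibreMap_fst G r r' h)⟩

end Groth.Agent.AlgSpLib
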