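import Groth.Agent.AlgSpLib.ProperCrit
import Groth.Agent.AlgSpLib.DiagCrit
import Groth.Prelude.Def_AlgSpGpd
import Mathlib.CategoryTheory.Monoidal.Cartesian.Grp

/-!
# The unit section and the diagonal of a group algebraic space
-/

set_option autoImplicit false

universe u

open CategoryTheory CategoryTheory.Limits AlgebraicGeometry Opposite MonoidalCategory CartesianMonoidalCategory MonObj

set_option backward.isDefEq.respectTransparency false

namespace Groth.Agent.AlgSpLib

open _root_.AlgSp

section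

variable {C : Type*} [Category C] [CartesianMonoidalCategory C] (G : C) [GrpObj G]

theorem isPullback_unit_diag :
    IsPullback η[G] η[G] (lift (𝟙 G) (𝟙 G)) (lift (𝟙 G) (toUnit G ≫ η[G])) := by
  refine ⟨⟨by simp [comp_lift, Subsingleton.elim (η[G] ≫ toUnit G) (𝟙 _)]⟩,
    ⟨PullbackCone.IsLimit.mk _ (fun s => toUnit _) (fun s => ?_) (fun s => ?_)
      (fun s m _ _ => toUnit_unique _ _)⟩⟩
  all_goals
    have h := s.condition
    simp only [comp_lift, Category.comp_id] at h
    have h1 : s.fst = s.snd := by simpa using congrArg (· ≫ fst G G) h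
    have h2 : s.fst = toUnit _ ≫ η[G] := by simpa [comp_toUnit_assoc] using congrArg (· ≫ snd G G) h
  · exact h2.symm
  · exact h2.symm.trans h1

theorem isPullback_diag_unit :
    IsPullback (toUnit G) (lift (𝟙 G) (𝟙 G)) η[G] ((fst G G)⁻¹ * snd G G) := by
  have key : ∀ {T : C} (a : T ⟶ G ⊗ G), a ≫ ((fst G G)⁻¹ * snd G G) = (a ≫ fst G G)⁻¹ * (a ≫ snd G G) := by
    intro T a
    simp [Hom.mul_def, Hom.inv_def, comp_lift_assoc]
  refine ⟨⟨?_⟩, ⟨PullbackCone.IsLimit.mk _ (fun s => s.snd ≫ fst G G) (fun s => toUnit_unique _ _) (fun s => ?_)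
      (fun s m _ h₂ => ?_)⟩⟩
  · rw [key]
    simp [Hom.one_def]
  · have h := s.condition
    rw [key, show s.fst = toUnit _ from toUnit_unique _ _, ← Hom.one_def] at h
    have h1 : s.snd ≫ fst G G = s.snd ≫ snd G G := inv_mul_eq_one.1 h.symm
    rw [comp_lift, Category.comp_id]
    exact CartesianMonoidalCategory.hom_ext _ _ (by simp) (by simp [h1])
  · rw [← h₂]
    simp

end

variable {S : Scheme.{u}}

theorem isPullback_unit_diagonal {B : Sp S} (G : Over B) [GrpObj G] :
    ∃ g, IsPullback (η[G]).left (η[G]).left (pullback.diagonal G.hom) g := by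
  have h := (isPullback_unit_diag G).map (Over.forget B)
  have e : (lift (𝟙 G) (𝟙 G)).left = pullback.diagonal G.hom := Over.lift_left _ _
  rw [← e]
  exact ⟨_, h⟩

theorem isPullback_diagonal_unit {B : Sp S} (G : Over B) [GrpObj G] :
    ∃ g, IsPullback (toUnit G).left (pullback.diagonal G.hom) (η[G]).left g := by
  have h := (isPullback_diag_unit G).map (Over.forget B)
  have e : (lift (𝟙 G) (𝟙 G)).left = pullback.diagonal G.hom := Over.lift_left _ _
  rw [← e]
  exact ⟨_, h⟩

theorem repWith_diagonal_iff_unit (P : MorphismProperty Scheme.{u}) [P.IsStableUnderBaseChange] {B : Sp S} (G : Over B)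
    [GrpObj G] : RepWith P (pullback.diagonal G.hom) ↔ RepWith P (η[G]).left := by
  obtain ⟨g, hg⟩ := isPullback_unit_diagonal G
  obtain ⟨g', hg'⟩ := isPullback_diagonal_unit G
  exact ⟨fun h => repWith_baseChange hg h, fun h => repWith_baseChange hg' h⟩

end Groth.Agent.AlgSpLib
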