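import Groth.Agent.Hensel.Etale
import Mathlib.RingTheory.Etale.Field
import Mathlib.RingTheory.Henselian
import Mathlib.RingTheory.Unramified.Field

/-!
# Lifting points of etale algebras to henselian local rings
-/

set_option autoImplicit false

universe u

open IsLocalRing TensorProduct

namespace Groth.Agent.AlgSpLib

theorem existsUnique_lift_hensel {A B T : Type u} [CommRing A] [CommRing B] [CommRing T] [HenselianLocalRing T]
    (α : A →+* B) (hα : α.Etale) (f : A →+* T) (σ : B →+* ResidueField T) (h : σ.comp α = (residue T).comp f) :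
    ∃! τ : B →+* T, τ.comp α = f ∧ (residue T).comp τ = σ := by
  letI : Algebra A B := α.toAlgebra
  letI : Algebra A T := f.toAlgebra
  have : Algebra.Etale A B := hα
  let σA : B →ₐ[A] T ⧸ maximalIdeal T := ⟨σ, fun a => RingHom.congr_fun h a⟩
  let σT : T ⊗[A] B →ₐ[T] T ⧸ maximalIdeal T :=
    Algebra.TensorProduct.lift (Algebra.ofId T (T ⧸ maximalIdeal T)) σA fun _ _ => Commute.all _ _
  obtain ⟨μ, hμ, huniq⟩ := Groth.Agent.Hensel.existsUnique_algHom_lift (I := maximalIdeal T) σT
  refine ⟨((μ.restrictScalars A).comp Algebra.TensorProduct.includeRight).toRingHom, ⟨?_, ?_⟩, ?_⟩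
  · exact ((μ.restrictScalars A).comp Algebra.TensorProduct.includeRight).comp_algebraMap
  · refine RingHom.ext fun b => (hμ (1 ⊗ₜ b)).trans ?_
    show σT (1 ⊗ₜ b) = σ b
    simp [σT, σA]
    rfl
  · intro τ ⟨h1, h2⟩
    let τA : B →ₐ[A] T := ⟨τ, fun a => RingHom.congr_fun h1 a⟩
    let μ' : T ⊗[A] B →ₐ[T] T := Algebra.TensorProduct.lift (AlgHom.id T T) τA fun _ _ => Commute.all _ _
    have e : μ' = μ := huniq μ' fun x => by
      refine x.induction_on (by simp) (fun t b => ?_) (fun x y hx hy => by rw [map_add, map_add, map_add, hx, hy])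
      show Ideal.Quotient.mk _ (μ' (t ⊗ₜ b)) = σT (t ⊗ₜ b)
      simp only [μ', σT, Algebra.TensorProduct.lift_tmul, map_mul]
      exact congrArg _ (RingHom.congr_fun h2 b)
    refine RingHom.ext fun b => ?_
    rw [← e]
    show τ b = μ' (1 ⊗ₜ b)
    simp [μ', τA]

/-- values of a point of an etale algebra are separable over any field through which the base acts -/
theorem isSeparable_value {A B : Type u} [CommRing A] [CommRing B] (α : A →+* B) (hα : α.Etale)
    {k L : Type u} [Field k] [Field L] [Algebra k L] (f : A →+* k) (σ : B →+* L)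
    (h : σ.comp α = (algebraMap k L).comp f) (b : B) : IsSeparable k (σ b) := by
  letI : Algebra A B := α.toAlgebra
  letI : Algebra A k := f.toAlgebra
  letI : Algebra A L := ((algebraMap k L).comp f).toAlgebra
  have : IsScalarTower A k L := IsScalarTower.of_algebraMap_eq fun _ => rfl
  have : Algebra.Etale A B := hα
  let σA : B →ₐ[A] L := ⟨σ, fun a => RingHom.congr_fun h a⟩
  let σk : k ⊗[A] B →ₐ[k] L := Algebra.TensorProduct.lift (Algebra.ofId k L) σA fun _ _ => Commute.all _ _
  have : Module.Finite k (k ⊗[A] B) := Algebra.FormallyUnramified.finite_of_free k _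
  have := Module.Finite.of_surjective σk.rangeRestrict.toLinearMap σk.rangeRestrict_surjective
  have hi : Algebra.IsIntegral k σk.range := Algebra.IsIntegral.of_finite k _
  have : IsField σk.range := isField_of_isIntegral_of_isField' (Field.toIsField k)
  letI := this.toField
  have : Algebra.FormallyUnramified k σk.range :=
    Algebra.FormallyUnramified.of_surjective σk.rangeRestrict σk.rangeRestrict_surjective
  have : Algebra.IsSeparable k σk.range := Algebra.FormallyUnramified.isSeparable k _
  have hb : σ b = σk (1 ⊗ₜ b) := by simp [σk, σA]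
  rw [hb]
  have key : ∀ y : σk.range, IsSeparable k (y : L) := fun y =>
    (isSeparable_map_iff σk.range.val Subtype.val_injective).2 (Algebra.IsSeparable.isSeparable k y)
  exact key ⟨σk (1 ⊗ₜ b), ⟨_, rfl⟩⟩

end Groth.Agent.AlgSpLib
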