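import Groth.Agent.AlgSpLib.FpqcList
import Groth.Agent.AlgSpLib.ProperCrit

/-!
# Proper morphisms: composition, base change and images of pullbacks
-/

set_option autoImplicit false

universe u

open CategoryTheory CategoryTheory.Limits AlgebraicGeometry Opposite

set_option backward.isDefEq.respectTransparency false

namespace Groth.Agent.AlgSpLib

open _root_.AlgSp

variable {S : Scheme.{u}}

theorem isProperMor_baseChange {X Y Y' X' : Sp S} (hX : IsAlgSpace X) (hY : IsAlgSpace Y) (hY' : IsAlgSpace Y')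
    (hX' : IsAlgSpace X') {f : X ⟶ Y} {g : Y' ⟶ Y} {fst : X' ⟶ X} {f' : X' ⟶ Y'}
    (sq : IsPullback fst f' f g) (hf : IsProperMor f) : IsProperMor f' :=
  ⟨isSeparatedMor_baseChange sq hf.1,
    ⟨locP_baseChange etST_lft hX hY hX' hY' sq hf.2.1.1,
      fun _ _ hW hWq _ _ _ sq' => hf.2.1.2 hW hWq _ _ _ (sq'.paste_horiz sq)⟩,
    fun _ _ hW _ _ _ sq' => hf.2.2 hW _ _ _ (sq'.paste_horiz sq)⟩

theorem isProperMor_comp {X Y Z : Sp S} (hY : IsAlgSpace Y) (hZ : IsAlgSpace Z) {f : X ⟶ Y} {g : Y ⟶ Z}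
    (hf : IsProperMor f) (hg : IsProperMor g) : IsProperMor (f ≫ g) :=
  ⟨isSeparatedMor_comp hf.1 hg.1,
    ⟨locP_comp etST_lft hY hZ hf.2.1.1 hg.2.1.1, isQuasiCompactMor_comp hY hZ hf.2.1.2 hg.2.1.2⟩,
    isUnivClosedMor_comp hY hZ hf.2.2 hg.2.2⟩

theorem range_map_of_isPullback {P F H G : Sp S} {fst : P ⟶ F} {snd : P ⟶ H} {f : F ⟶ G} {g : H ⟶ G}
    (sq : IsPullback fst snd f g) :
    Set.range (Points.map snd) = Points.map g ⁻¹' Set.range (Points.map f) := by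
  ext h
  constructor
  · rintro ⟨p, rfl⟩
    exact ⟨Points.map fst p, by rw [← Points.map_comp, ← Points.map_comp, sq.w]⟩
  · rintro ⟨x, hx⟩
    obtain ⟨p, -, hp⟩ := exists_point_of_isPullback sq x h hx
    exact ⟨p, hp⟩

end Groth.Agent.AlgSpLib
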