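import Groth.Agent.SchImg.ValPoint
import Groth.Agent.AlgSpLib.ProperCrit
import Groth.Agent.AlgSpLib.ProperRange
import Groth.Agent.SpQS.UnivClosedQC
import Groth.Agent.S10279
import Groth.Agent.S9964
import Groth.Prelude.Def_AlgSpSub

/-!
# The image of a proper space under a universally closed morphism
-/

set_option autoImplicit false

universe u

open CategoryTheory CategoryTheory.Limits AlgebraicGeometry Opposite

set_option backward.isDefEq.respectTransparency false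

namespace Groth.Agent.AlgSpLib

open _root_.AlgSp

variable {S : Scheme.{u}}

theorem univClosed_diag_map {Z Z' B : Sp S} (hZ : IsAlgSpace Z) (hZ' : IsAlgSpace Z') (hB : IsAlgSpace B)
    (g : Z' ⟶ B) (h : Z ⟶ Z') (hh : IsUnivClosedMor h) :
    IsUnivClosedMor (pullback.map (h ≫ g) (h ≫ g) g g h h (𝟙 B) (by simp) (by simp)) := by
  let m₁ : pullback (h ≫ g) (h ≫ g) ⟶ pullback g (h ≫ g) :=
    pullback.lift (pullback.fst _ _ ≫ h) (pullback.snd _ _) (by rw [Category.assoc, pullback.condition])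
  let m₂ : pullback g (h ≫ g) ⟶ pullback g g :=
    pullback.lift (pullback.fst _ _) (pullback.snd _ _ ≫ h) (by rw [Category.assoc, pullback.condition])
  have e : pullback.map (h ≫ g) (h ≫ g) g g h h (𝟙 B) (by simp) (by simp) = m₁ ≫ m₂ := by
    apply pullback.hom_ext <;> simp [m₁, m₂]
  have sq₁ : IsPullback (pullback.fst (h ≫ g) (h ≫ g)) m₁ h (pullback.fst g (h ≫ g)) := by
    refine IsPullback.of_bot (v₁₁ := m₁) (v₂₁ := pullback.snd g (h ≫ g)) ?_ ?_
      (IsPullback.of_hasPullback g (h ≫ g))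
    · rw [pullback.lift_snd]
      exact IsPullback.of_hasPullback (h ≫ g) (h ≫ g)
    · rw [pullback.lift_fst]
  have sq₂ : IsPullback (pullback.snd g (h ≫ g)) m₂ h (pullback.snd g g) := by
    refine IsPullback.of_bot (v₁₁ := m₂) (v₂₁ := pullback.fst g g) ?_ ?_
      (IsPullback.of_hasPullback g g).flip
    · rw [pullback.lift_fst]
      exact (IsPullback.of_hasPullback g (h ≫ g)).flip
    · rw [pullback.lift_snd]
  have hP₁ : IsAlgSpace (pullback g (h ≫ g)) :=
    isAlgSpace_of_isPullback_space hB hZ' hZ (IsPullback.of_hasPullback g (h ≫ g))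
  have hP₂ : IsAlgSpace (pullback g g) :=
    isAlgSpace_of_isPullback_space hB hZ' hZ' (IsPullback.of_hasPullback g g)
  rw [e]
  refine isUnivClosedMor_comp hP₁ hP₂ (fun _ _ hW _ _ _ sq => ?_) (fun _ _ hW _ _ _ sq => ?_)
  · exact hh hW _ _ _ (sq.paste_horiz sq₁)
  · exact hh hW _ _ _ (sq.paste_horiz sq₂)

theorem exists_proper_image {Z Y B : AlgSp.Space S} (h : Z ⟶ Y) (b : Y ⟶ B)
    (hh : IsUnivClosedMor h.hom) (hZ : IsProperMor (h ≫ b).hom) (hb : LocP @LocallyOfFiniteType b.hom) :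
    IsClosed (Set.range (Points.map h.hom)) ∧
      ∃ (Z' : AlgSp.Space S) (i' : Z' ⟶ Y), RepWith @IsClosedImmersion i'.hom ∧
        Set.range (Points.map i'.hom) = Set.range (Points.map h.hom) ∧ IsProperMor (i' ≫ b).hom := by
  obtain ⟨hZs⟩ : Nonempty (IsAlgSpace Z.obj) := ⟨Z.property⟩
  obtain ⟨hY⟩ : Nonempty (IsAlgSpace Y.obj) := ⟨Y.property⟩
  obtain ⟨hB⟩ : Nonempty (IsAlgSpace B.obj) := ⟨B.property⟩
  have hr : IsClosed (Set.range (Points.map h.hom)) := by
    rw [← Set.image_univ]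
    exact hh hY (𝟙 _) (𝟙 _) h.hom (IsPullback.id_horiz _) _ isClosed_univ
  refine ⟨hr, ?_⟩
  have hq : IsQuasiCompactMor h.hom := SpQS.isQuasiCompactMor_of_univClosed hZs hY h.hom hh
  obtain ⟨Z', i', hi'⟩ := Groth.Agent.S9964.result h
  obtain ⟨hZ'⟩ : Nonempty (IsAlgSpace Z'.obj) := ⟨Z'.property⟩
  obtain ⟨hcl, ⟨h', fac⟩, -⟩ := id hi'
  have := SchImg.mono_of_closed hcl
  have hsurj : IsSurjectiveMor h' := fun z => by
    obtain ⟨x, hx⟩ := (SchImg.range_subset_closure hZs hY hq hi' ⟨z, rfl⟩ :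
      Points.map i'.hom z ∈ closure (Set.range (Points.map h.hom))) |> hr.closure_eq.le
    refine ⟨x, SchImg.injective_map_of_mono (i := i'.hom) ?_⟩
    rw [← Points.map_comp, fac, hx]
  have hip := isProperMor_of_closedImmersion hZ' hY hcl
  have huc' : IsUnivClosedMor h' := ((isUnivClosedMor_and_proper_of_comp hZs hZ' hY h' h.hom i'.hom fac hip.1).1 hh).1
  have fac' : h' ≫ i'.hom ≫ b.hom = (h ≫ b).hom := by rw [← Category.assoc, fac]; rfl
  have huc : IsUnivClosedMor (i' ≫ b).hom :=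
    Groth.Agent.S10279.result (ObjectProperty.homMk h' : Z ⟶ Z') (h ≫ b) (i' ≫ b) (ObjectProperty.hom_ext _ fac') hZ.2.2 hsurj
  refine ⟨Z', i', hcl, Set.Subset.antisymm ?_ ?_, ?_, ⟨locP_comp etST_lft hY hB hip.2.1.1 hb,
    SpQS.isQuasiCompactMor_of_univClosed hZ' hB _ huc⟩, huc⟩
  · exact (SchImg.range_subset_closure hZs hY hq hi').trans hr.closure_eq.le
  · rintro _ ⟨x, rfl⟩
    exact ⟨Points.map h' x, by rw [← Points.map_comp, fac]⟩
  · show IsSeparatedMor (i'.hom ≫ b.hom)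
    refine ((isSeparatedMor_iff_diagonal hZ' hB (i'.hom ≫ b.hom)).1).2 ?_
    have hs : IsSeparatedMor (h' ≫ i'.hom ≫ b.hom) := fac'.symm ▸ hZ.1
    have hd := ((isSeparatedMor_iff_diagonal hZs hB _).1).1 hs
    have hP := isAlgSpace_of_isPullback_space hB hZs hZs
      (IsPullback.of_hasPullback (h' ≫ i'.hom ≫ b.hom) (h' ≫ i'.hom ≫ b.hom))
    have hP' := isAlgSpace_of_isPullback_space hB hZ' hZ'
      (IsPullback.of_hasPullback (i'.hom ≫ b.hom) (i'.hom ≫ b.hom))
    have huc2 := isUnivClosedMor_comp hP hP' hd (univClosed_diag_map hZs hZ' hB (i'.hom ≫ b.hom) h' huc')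
    refine Groth.Agent.S10279.result (ObjectProperty.homMk h' : Z ⟶ Z')
      (ObjectProperty.homMk (pullback.diagonal (h' ≫ i'.hom ≫ b.hom) ≫ pullback.map _ _ _ _ h' h' (𝟙 _) (by simp) (by simp)) :
        Z ⟶ (⟨pullback (i'.hom ≫ b.hom) (i'.hom ≫ b.hom), hP'⟩ : AlgSp.Space S))
      (ObjectProperty.homMk (pullback.diagonal (i'.hom ≫ b.hom))) (ObjectProperty.hom_ext _ ?_) huc2 hsurj
    show h' ≫ pullback.diagonal (i'.hom ≫ b.hom) = _
    apply pullback.hom_ext <;> simp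

end Groth.Agent.AlgSpLib
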