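import Groth.Agent.AlgSpLib.EtaleDim
import Groth.Agent.AlgSpLib.FpqcProps
import Groth.Agent.EquidimPt.Affine
import Groth.Agent.UnivInjMor.MonoUnram
import Groth.Agent.AssLib.Points

/-!
# Dimension and integral morphisms of algebraic spaces
-/

set_option autoImplicit false

universe u

open CategoryTheory CategoryTheory.Limits AlgebraicGeometry Opposite

set_option backward.isDefEq.respectTransparency false

namespace Groth.Agent.AlgSpLib

open _root_.AlgSp

variable {S : Scheme.{u}}

theorem dim_le_of_isIntegralMor {F G : Sp S} (hF : IsAlgSpace F) (hG : IsAlgSpace G) {f : F ⟶ G}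
    (hf : IsIntegralMor f) : AlgSp.dim F ≤ AlgSp.dim G := by
  refine iSup_le fun U => iSup_le fun a => iSup_le fun ha => ?_
  obtain ⟨V, b, hb, hbs⟩ := hG.atlas
  obtain ⟨W, c, i, sq, hi⟩ := exists_repWith ((isIntegralMor_iff_repWith f).1 hf) b
  have hc : RepWith @Etale c := repWith_baseChange sq.flip hb
  have hcs : RepWith @Surjective c := repWith_baseChange sq.flip hbs
  obtain ⟨R, r, r', sqR⟩ := exists_pullback hF.diag a c
  have hr : Etale r.left := (repWith_yon_iff r).1 (repWith_baseChange sqR.flip hc)
  have hr' : Etale r'.left := (repWith_yon_iff r').1 (repWith_baseChange sqR ha)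
  have hrs : Surjective r.left := (repWith_yon_iff r).1 (repWith_baseChange sqR.flip hcs)
  have : IsIntegralHom i.left := hi
  have : LocallyQuasiFinite r'.left := UnivInjMor.lqf_of_unramified r'.left
  calc topologicalKrullDim ↥U.left ≤ topologicalKrullDim ↥R.left :=
        DimChain.le_of_generalizingMap r.left (Flat.generalizingMap r.left) r.left.surjective
    _ ≤ topologicalKrullDim ↥W.left := DimChain.le_of_incomparable r'.left r'.left.continuous
        fun x y h e => EquidimPt.eq_of_specializes r'.left h e
    _ ≤ topologicalKrullDim ↥V.left := DimChain.le_of_incomparable i.left i.left.continuous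
        fun x y h e => (AssLib.eq_of_specializes_of_map_eq i.left h e).symm
    _ ≤ AlgSp.dim G := le_iSup_of_le V (le_iSup_of_le b (le_iSup_of_le hb le_rfl))

theorem dim_le_of_isIntegralMor_of_surjective {F G : Sp S} {f : F ⟶ G}
    (hf : IsIntegralMor f) (hs : IsSurjectiveMor f) : AlgSp.dim G ≤ AlgSp.dim F := by
  refine iSup_le fun V => iSup_le fun b => iSup_le fun hb => ?_
  obtain ⟨W, c, i, sq, hi⟩ := exists_repWith ((isIntegralMor_iff_repWith f).1 hf) b
  have hc : RepWith @Etale c := repWith_baseChange sq.flip hb
  have : IsIntegralHom i.left := hi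
  have his : Function.Surjective i.left := fun v => by
    obtain ⟨x, hx⟩ := hs (Points.ofPt b v)
    obtain ⟨w, -, hw⟩ := exists_point_of_isPullback sq x (Points.ofScheme V v)
      (by rw [hx]; exact (by rw [Points.map_ofPt]; rfl))
    obtain ⟨w', rfl⟩ := (Points.schemeEquiv W).surjective w
    refine ⟨w', (Points.schemeEquiv V).injective ?_⟩
    exact (ofScheme_map i w').symm.trans hw
  exact (DimChain.le_of_specializingMap i.left his i.left.isClosedMap.specializingMap).trans
    (le_iSup_of_le W (le_iSup_of_le c (le_iSup_of_le hc le_rfl)))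

end Groth.Agent.AlgSpLib
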