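import Groth.Prelude.Def_AlgSpRep
import Mathlib.CategoryTheory.Limits.Types.Filtered
import Mathlib.CategoryTheory.Filtered.Final

/-!
# Relatively limit preserving maps of presheaves: elementwise criterion, composition, cancellation
-/

set_option autoImplicit false

universe u

open CategoryTheory CategoryTheory.Limits AlgebraicGeometry Opposite

set_option backward.isDefEq.respectTransparency false

namespace Groth.Agent.AlgSpLib.LimPres

open _root_.AlgSp

variable {S : Scheme.{u}}

/-- the projection of a cone -/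
abbrev pr {I : Type u} [SmallCategory I] {D : I ⥤ Over S} (c : Cone D) (i : I) : c.pt ⟶ D.obj i := c.π.app i

lemma pr_w {I : Type u} [SmallCategory I] {D : I ⥤ Over S} (c : Cone D) {i j : I} (m : j ⟶ i) :
    pr c j ≫ D.map m = pr c i := c.w m

/-- elementwise form of relative limit preservation -/
structure Crit {F G : PSp S} (a : F ⟶ G) : Prop where
  surj : ∀ ⦃I : Type u⦄ [SmallCategory I] [IsCofiltered I] (D : I ⥤ Over S) (c : Cone D),
    IsLimit ((Over.forget S).mapCone c) → (∀ i, IsAffine (D.obj i).left) → IsAffine c.pt.left →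
    ∀ (i : I) (g : G.obj (op (D.obj i))) (f : F.obj (op c.pt)), a.app _ f = G.map (pr c i).op g →
      ∃ (j : I) (m : j ⟶ i) (f' : F.obj (op (D.obj j))),
        a.app _ f' = G.map (D.map m).op g ∧ F.map (pr c j).op f' = f
  inj : ∀ ⦃I : Type u⦄ [SmallCategory I] [IsCofiltered I] (D : I ⥤ Over S) (c : Cone D),
    IsLimit ((Over.forget S).mapCone c) → (∀ i, IsAffine (D.obj i).left) → IsAffine c.pt.left →
    ∀ (i : I) (f f' : F.obj (op (D.obj i))), a.app _ f = a.app _ f' →
      F.map (pr c i).op f = F.map (pr c i).op f' →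
      ∃ (j : I) (m : j ⟶ i), F.map (D.map m).op f = F.map (D.map m).op f'

lemma map_map {F : PSp S} {A B C : Over S} (p : A ⟶ B) (q : B ⟶ C) (x : F.obj (op C)) :
    F.map p.op (F.map q.op x) = F.map (p ≫ q).op x := by
  rw [op_comp, Functor.map_comp_apply]

lemma naturality {F G : PSp S} (a : F ⟶ G) {A B : Over S} (p : A ⟶ B) (x : F.obj (op B)) :
    a.app _ (F.map p.op x) = G.map p.op (a.app _ x) := NatTrans.naturality_apply a p.op x

theorem of_isRelLimitPreserving {F G : PSp S} {a : F ⟶ G} (h : IsRelLimitPreserving a) : Crit a := by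
  suffices key : ∀ ⦃I : Type u⦄ [SmallCategory I] [IsCofiltered I] (D : I ⥤ Over S) (c : Cone D),
      IsLimit ((Over.forget S).mapCone c) → (∀ i, IsAffine (D.obj i).left) → IsAffine c.pt.left →
      ∀ (i : I) (g : G.obj (op (D.obj i))),
      (∀ f : F.obj (op c.pt), a.app _ f = G.map (pr c i).op g →
        ∃ (j : I) (m : j ⟶ i) (f' : F.obj (op (D.obj j))),
          a.app _ f' = G.map (D.map m).op g ∧ F.map (pr c j).op f' = f) ∧
      (∀ f f' : F.obj (op (D.obj i)), a.app _ f = g → a.app _ f' = g →
        F.map (pr c i).op f = F.map (pr c i).op f' →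
        ∃ (j : I) (m : j ⟶ i), F.map (D.map m).op f = F.map (D.map m).op f') by
    exact ⟨fun I _ _ D c hc hD hT i g f e => (key D c hc hD hT i g).1 f e,
      fun I _ _ D c hc hD hT i f f' e e' => (key D c hc hD hT i (a.app _ f')).2 f f' e rfl e'⟩
  intro I _ _ D c hc hD hT i g
  let T : Over S := D.obj i
  let D' : CategoryTheory.Over i ⥤ Over T.left :=
    { obj := fun j => Over.mk (D.map j.hom).left
      map := fun {j j'} m => Over.homMk (D.map m.left).left (by
        show (D.map m.left).left ≫ (D.map j'.hom).left = (D.map j.hom).left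
        rw [← Over.comp_left, ← D.map_comp, Over.w])
      map_id := fun j => by ext; simp
      map_comp := fun m m' => by ext; simp }
  let c' : Cone D' :=
    { pt := Over.mk (c.π.app i).left
      π :=
        { app := fun j => Over.homMk (c.π.app j.left).left (by
            show (c.π.app j.left).left ≫ (D.map j.hom).left = (c.π.app i).left
            rw [← Over.comp_left, c.w])
          naturality := fun j j' m => by
            ext
            show 𝟙 _ ≫ (c.π.app j'.left).left = (c.π.app j.left).left ≫ (D.map m.left).left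
            rw [Category.id_comp, ← Over.comp_left, c.w] } }
  have hc' : IsLimit ((Over.forget T.left).mapCone c') := by
    have h1 := (Functor.Initial.isLimitWhiskerEquiv (CategoryTheory.Over.forget i) _).symm hc
    exact IsLimit.ofIsoLimit h1 (Cone.ext (Iso.refl _) fun j => (Category.id_comp _).symm)
  obtain ⟨hcol⟩ := h T g D' c' hc' (fun j => hD j.left) hT
  -- objects over `T`, seen over `S`
  let ε : ∀ j : CategoryTheory.Over i, (CategoryTheory.Over.map T.hom).obj (D'.obj j) ≅ D.obj j.left := fun j =>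
    Over.isoMk (Iso.refl _) (by
      show 𝟙 _ ≫ (D.obj j.left).hom = (D.map j.hom).left ≫ (D.obj i).hom
      rw [Category.id_comp, Over.w])
  let εc : (CategoryTheory.Over.map T.hom).obj c'.pt ≅ c.pt :=
    Over.isoMk (Iso.refl _) (by
      show 𝟙 _ ≫ c.pt.hom = (c.π.app i).left ≫ (D.obj i).hom
      exact (Category.id_comp _).trans (Over.w (pr c i)).symm)
  have hε : ∀ j, (ε j).inv ≫ overHom T (D'.obj j) = D.map j.hom := fun j => by
    ext; exact Category.id_comp _
  have hεc : εc.inv ≫ overHom T c'.pt = pr c i := by ext; exact Category.id_comp _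
  have hπ : ∀ j, εc.inv ≫ (CategoryTheory.Over.map T.hom).map (c'.π.app j) = pr c j.left ≫ (ε j).inv := fun j => by
    ext
    show 𝟙 _ ≫ (c.π.app j.left).left = (pr c j.left).left ≫ 𝟙 _
    exact (Category.id_comp _).trans (Category.comp_id _).symm
  refine ⟨fun f e => ?_, fun f f' e e' ec => ?_⟩
  · obtain ⟨j, y, hy⟩ := Types.jointly_surjective_of_isColimit hcol
      (⟨F.map εc.hom.op f, by
        rw [naturality, e, map_map]
        rw [← hεc, Iso.hom_inv_id_assoc]⟩ : (fiberFun a T g).obj (op c'.pt))
    refine ⟨j.unop.left, j.unop.hom, F.map (ε j.unop).inv.op y.1, ?_, ?_⟩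
    · refine (naturality a (ε j.unop).inv _).trans ((congrArg (G.map (ε j.unop).inv.op) y.2).trans ?_)
      refine (map_map _ _ _).trans ?_
      erw [hε]
    · rw [map_map, ← hπ, ← map_map]
      have := congrArg Subtype.val hy
      simp only [Functor.mapCocone_ι_app, Cone.op_ι, NatTrans.op_app, fiberFun_map_coe] at this
      refine (congrArg (F.map εc.inv.op) this).trans ?_
      rw [map_map, Iso.inv_hom_id, op_id, Functor.map_id_apply]
  · let o : CategoryTheory.Over i := CategoryTheory.Over.mk (𝟙 i)
    let x : (fiberFun a T g).obj (op (D'.obj o)) := ⟨F.map (ε o).hom.op f, by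
      refine (naturality a (ε o).hom _).trans ((congrArg (G.map (ε o).hom.op) e).trans ?_)
      congr 3
      refine congrArg Quiver.Hom.op ?_
      ext; simp [ε, o, T, D']⟩
    let x' : (fiberFun a T g).obj (op (D'.obj o)) := ⟨F.map (ε o).hom.op f', by
      refine (naturality a (ε o).hom _).trans ((congrArg (G.map (ε o).hom.op) e').trans ?_)
      congr 3
      refine congrArg Quiver.Hom.op ?_
      ext; simp [ε, o, T, D']⟩
    have hx : ((fiberFun a T g).mapCocone c'.op).ι.app (op o) x =
        ((fiberFun a T g).mapCocone c'.op).ι.app (op o) x' := by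
      apply Subtype.ext
      show F.map ((CategoryTheory.Over.map T.hom).map (c'.π.app o)).op (F.map (ε o).hom.op f) =
        F.map ((CategoryTheory.Over.map T.hom).map (c'.π.app o)).op (F.map (ε o).hom.op f')
      rw [map_map, map_map]
      have : (CategoryTheory.Over.map T.hom).map (c'.π.app o) ≫ (ε o).hom = εc.hom ≫ pr c i := by
        ext; simp [ε, εc, c', o]
      erw [this]
      rw [← map_map]
      exact (congrArg (F.map εc.hom.op) ec).trans (map_map _ _ _)
    obtain ⟨k, m, hm⟩ := (Types.FilteredColimit.isColimit_eq_iff' hcol _ _).1 hx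
    refine ⟨k.unop.left, k.unop.hom, ?_⟩
    have hm' := congrArg Subtype.val hm
    simp only [Functor.comp_map, Functor.op_map, fiberFun_map_coe, x, x'] at hm'
    have key : (CategoryTheory.Over.map T.hom).map (D'.map m.unop) ≫ (ε o).hom =
        (ε k.unop).hom ≫ D.map k.unop.hom := by
      have hk : m.unop.left = k.unop.hom := by simpa [o] using CategoryTheory.Over.w m.unop
      ext; simp [ε, D', hk]
    have h2 : F.map (ε k.unop).hom.op (F.map (D.map k.unop.hom).op f) =
        F.map (ε k.unop).hom.op (F.map (D.map k.unop.hom).op f') := by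
      rw [map_map, map_map, ← key, ← map_map, ← map_map]
      exact hm'
    have := congrArg (F.map (ε k.unop).inv.op) h2
    rw [map_map (ε k.unop).inv (ε k.unop).hom, map_map (ε k.unop).inv (ε k.unop).hom, Iso.inv_hom_id, op_id,
      Functor.map_id_apply, Functor.map_id_apply] at this
    exact this

theorem to_isRelLimitPreserving {F G : PSp S} {a : F ⟶ G} (h : Crit a) : IsRelLimitPreserving a := by
  intro T y I _ _ D c hc hD hT
  let D₀ : I ⥤ Over S := D ⋙ CategoryTheory.Over.map T.hom
  let c₀ : Cone D₀ := (CategoryTheory.Over.map T.hom).mapCone c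
  have hc₀ : IsLimit ((Over.forget S).mapCone c₀) :=
    IsLimit.ofIsoLimit hc (Cone.ext (Iso.refl _) fun j => (Category.id_comp _).symm)
  refine ⟨Types.FilteredColimit.isColimitOf _ _ (fun x => ?_) fun p q xp xq e => ?_⟩
  · obtain ⟨i⟩ : Nonempty I := IsCofiltered.nonempty
    obtain ⟨f, hf⟩ := x
    obtain ⟨j, m, f', h1, h2⟩ := h.surj D₀ c₀ hc₀ hD hT i (G.map (overHom T (D.obj i)).op y) f (by
      refine hf.trans (Eq.trans ?_ (map_map _ _ _).symm)
      congr 3
      exact congrArg Quiver.Hom.op (map_comp_overHom T (c.π.app i)).symm)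
    refine ⟨op j, ⟨f', ?_⟩, Subtype.ext h2.symm⟩
    refine h1.trans ((map_map _ _ _).trans ?_)
    congr 3
    exact congrArg Quiver.Hom.op (map_comp_overHom T (D.map m))
  · obtain ⟨k, m, m', -⟩ := IsCofilteredOrEmpty.cone_objs p.unop q.unop
    have e' := congrArg Subtype.val e
    simp only [Functor.mapCocone_ι_app, Cone.op_ι, NatTrans.op_app, fiberFun_map_coe] at e'
    have hp := ((fiberFun a T y).map (D.map m).op xp).2
    have hq := ((fiberFun a T y).map (D.map m').op xq).2
    obtain ⟨k', n, hn⟩ := h.inj D₀ c₀ hc₀ hD hT k (F.map (D₀.map m).op xp.1) (F.map (D₀.map m').op xq.1)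
      (hp.trans hq.symm) (by
        rw [map_map, map_map, pr_w, pr_w]
        exact e')
    refine ⟨op k', (n ≫ m).op, (n ≫ m').op, Subtype.ext ?_⟩
    simp only [Functor.comp_map, Functor.op_map, fiberFun_map_coe, Quiver.Hom.unop_op]
    rw [map_map, map_map, ← D₀.map_comp, ← D₀.map_comp] at hn
    exact hn

theorem comp {F G H : PSp S} {a : F ⟶ G} {b : G ⟶ H} (ha : Crit a) (hb : Crit b) : Crit (a ≫ b) where
  surj I _ _ D c hc hD hT i g f e := by
    obtain ⟨j, m, y, hy, hy'⟩ := hb.surj D c hc hD hT i g (a.app _ f) e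
    obtain ⟨k, n, f', hf, hf'⟩ := ha.surj D c hc hD hT j y f hy'.symm
    refine ⟨k, n ≫ m, f', ?_, hf'⟩
    show b.app _ (a.app _ f') = _
    rw [hf, naturality, hy, map_map, ← D.map_comp]
  inj I _ _ D c hc hD hT i f f' e e' := by
    obtain ⟨j, m, hj⟩ := hb.inj D c hc hD hT i (a.app _ f) (a.app _ f') e
      (by rw [← naturality, ← naturality, e'])
    obtain ⟨k, n, hk⟩ := ha.inj D c hc hD hT j (F.map (D.map m).op f) (F.map (D.map m).op f')
      (by rw [naturality, naturality, hj]) (by rw [map_map, map_map, pr_w, e'])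
    exact ⟨k, n ≫ m, by rw [D.map_comp, ← map_map, ← map_map, hk]⟩

theorem of_comp {F G H : PSp S} {a : F ⟶ G} {b : G ⟶ H} (hab : Crit (a ≫ b)) (hb : Crit b) : Crit a where
  surj I _ _ D c hc hD hT i g f e := by
    obtain ⟨j, m, f', hf, hf'⟩ := hab.surj D c hc hD hT i (b.app _ g) f
      (show b.app _ (a.app _ f) = _ by rw [e, naturality])
    obtain ⟨k, n, hk⟩ := hb.inj D c hc hD hT j (a.app _ f') (G.map (D.map m).op g)
      (show b.app _ (a.app _ f') = b.app _ _ by rw [naturality]; exact hf)
      (by rw [← naturality, hf', e, map_map, pr_w])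
    refine ⟨k, n ≫ m, F.map (D.map n).op f', ?_, by rw [map_map, pr_w, hf']⟩
    rw [naturality, hk, map_map, ← D.map_comp]
  inj I _ _ D c hc hD hT i f f' e e' :=
    hab.inj D c hc hD hT i f f' (show b.app _ (a.app _ f) = b.app _ (a.app _ f') by rw [e]) e'

theorem baseChange {F G H P : PSp S} {a : F ⟶ G} {b : H ⟶ G} {fst : P ⟶ F} {snd : P ⟶ H}
    (sq : IsPullback fst snd a b) (hb : Crit b) : Crit fst := by
  have sqT : ∀ A, IsPullback (fst.app A) (snd.app A) (a.app A) (b.app A) := fun A => sq.map ((evaluation _ _).obj A)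
  have hw : ∀ A (p : P.obj A), a.app A (fst.app A p) = b.app A (snd.app A p) := fun A p =>
    ConcreteCategory.congr_hom (sqT A).w p
  have hlift : ∀ A (x : F.obj A) (y : H.obj A), a.app A x = b.app A y →
      ∃ p, fst.app A p = x ∧ snd.app A p = y := fun A x y e =>
    Types.exists_of_isPullback (sqT A) x y e
  have hext : ∀ A (p q : P.obj A), fst.app A p = fst.app A q → snd.app A p = snd.app A q → p = q :=
    fun A p q e e' => Types.ext_of_isPullback (sqT A) e e'
  constructor
  · intro I _ _ D c hc hD hT i g f e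
    obtain ⟨j, m, y, hy, hy'⟩ := hb.surj D c hc hD hT i (a.app _ g) (snd.app _ f)
      (by rw [← hw, e, naturality])
    obtain ⟨p, hp, hp'⟩ := hlift _ (F.map (D.map m).op g) y (by rw [naturality, hy])
    refine ⟨j, m, p, hp, hext _ _ _ ?_ ?_⟩
    · rw [naturality, hp, map_map, pr_w, e]
    · rw [naturality, hp', hy']
  · intro I _ _ D c hc hD hT i f f' e e'
    obtain ⟨j, m, hm⟩ := hb.inj D c hc hD hT i (snd.app _ f) (snd.app _ f')
      (by rw [← hw, ← hw, e]) (by rw [← naturality, ← naturality, e'])
    exact ⟨j, m, hext _ _ _ (by rw [naturality, naturality, e]) (by rw [naturality, naturality, hm])⟩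

end Groth.Agent.AlgSpLib.LimPres
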