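import Groth.Agent.AlgSpLib.LimPres
import Mathlib.CategoryTheory.Limits.Types.Pullbacks

/-!
# Relative limit preservation as cartesianness of the square of colimits
-/

set_option autoImplicit false

universe u

open CategoryTheory CategoryTheory.Limits AlgebraicGeometry Opposite

set_option backward.isDefEq.respectTransparency false

namespace Groth.Agent.AlgSpLib.LimPres

open _root_.AlgSp

variable {S : Scheme.{u}} {F G : PSp S} (a : F ⟶ G) {I : Type u} [SmallCategory I] [IsCofiltered I]
  (D : I ⥤ Over S) (c : Cone D)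

lemma colimMap_ι (i : Iᵒᵖ) (x : (D.op ⋙ F).obj i) :
    colimMap (Functor.whiskerLeft D.op a) (colimit.ι (D.op ⋙ F) i x) =
      colimit.ι (D.op ⋙ G) i (a.app _ x) :=
  ConcreteCategory.congr_hom (ι_colimMap (Functor.whiskerLeft D.op a) i) x

lemma desc_ι (i : Iᵒᵖ) (x : (D.op ⋙ F).obj i) :
    colimit.desc (D.op ⋙ F) (F.mapCocone c.op) (colimit.ι (D.op ⋙ F) i x) =
      F.map (pr c i.unop).op x :=
  ConcreteCategory.congr_hom (colimit.ι_desc (F.mapCocone c.op) i) x

lemma ι_map {i j : I} (m : j ⟶ i) (x : F.obj (op (D.obj i))) :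
    colimit.ι (D.op ⋙ F) (op j) (F.map (D.map m).op x) = colimit.ι (D.op ⋙ F) (op i) x :=
  ConcreteCategory.congr_hom (colimit.w (D.op ⋙ F) m.op) x

theorem crit_iff_isPullback : Crit a ↔
    ∀ ⦃I : Type u⦄ [SmallCategory I] [IsCofiltered I] (D : I ⥤ Over S) (c : Cone D),
      IsLimit ((Over.forget S).mapCone c) → (∀ i, IsAffine (D.obj i).left) → IsAffine c.pt.left →
        IsPullback (colimMap (Functor.whiskerLeft D.op a)) (colimit.desc (D.op ⋙ F) (F.mapCocone c.op))
          (colimit.desc (D.op ⋙ G) (G.mapCocone c.op)) (a.app (Opposite.op c.pt)) := by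
  refine ⟨fun h I _ _ D c hc hD hT => ?_, fun h => ?_⟩
  · rw [Types.isPullback_iff]
    refine ⟨?_, fun x y ⟨e, e'⟩ => ?_, fun g f e => ?_⟩
    · refine colimit.hom_ext fun i => ?_
      ext x
      refine (congrArg _ (colimMap_ι a D i x)).trans ((desc_ι D c _ _).trans ?_)
      refine (naturality a _ x).symm.trans (congrArg _ (desc_ι D c i x).symm)
    · obtain ⟨i, x, rfl⟩ := Types.jointly_surjective' x
      obtain ⟨j, y, rfl⟩ := Types.jointly_surjective' y
      rw [colimMap_ι, colimMap_ι] at e
      rw [desc_ι, desc_ι] at e'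
      obtain ⟨k, m, n, hk⟩ := (Types.FilteredColimit.colimit_eq_iff _).1 e
      induction i using Opposite.rec with | _ i => ?_
      induction j using Opposite.rec with | _ j => ?_
      induction k using Opposite.rec with | _ k => ?_
      obtain ⟨k', p, hp⟩ := h.inj D c hc hD hT k (F.map (D.map m.unop).op x) (F.map (D.map n.unop).op y)
        (by rw [naturality, naturality]; exact hk) (by rw [map_map, map_map, pr_w, pr_w]; exact e')
      rw [← ι_map D m.unop x, ← ι_map D n.unop y, ← ι_map D p, ← ι_map D p, hp]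
    · obtain ⟨i, g, rfl⟩ := Types.jointly_surjective' g
      induction i using Opposite.rec with | _ i => ?_
      rw [desc_ι] at e
      obtain ⟨j, m, f', h1, h2⟩ := h.surj D c hc hD hT i g f e.symm
      exact ⟨colimit.ι (D.op ⋙ F) (op j) f', (colimMap_ι a D _ f').trans ((congrArg _ h1).trans (ι_map D m g)), by rw [desc_ι]; exact h2⟩
  · constructor
    · intro I _ _ D c hc hD hT i g f e
      obtain ⟨x, hx, hx'⟩ := Types.exists_of_isPullback (h D c hc hD hT)
        (colimit.ι (D.op ⋙ G) (op i) g) f (by rw [desc_ι]; exact e.symm)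
      obtain ⟨j, x, rfl⟩ := Types.jointly_surjective' x
      rw [colimMap_ι] at hx
      rw [desc_ι] at hx'
      obtain ⟨k, m, n, hk⟩ := (Types.FilteredColimit.colimit_eq_iff _).1 hx
      refine ⟨k.unop, n.unop, F.map (D.map m.unop).op x, ?_, by rw [map_map, pr_w, hx']⟩
      rw [naturality]
      exact hk
    · intro I _ _ D c hc hD hT i f f' e e'
      have := Types.ext_of_isPullback (h D c hc hD hT)
        (x₁ := colimit.ι (D.op ⋙ F) (op i) f) (y₁ := colimit.ι (D.op ⋙ F) (op i) f')
        ((colimMap_ι a D _ f).trans ((congrArg _ e).trans (colimMap_ι a D _ f').symm)) (by rw [desc_ι, desc_ι]; exact e')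
      obtain ⟨k, m, n, hk⟩ := (Types.FilteredColimit.colimit_eq_iff _).1 this
      obtain ⟨l, p, hp⟩ := IsCofilteredOrEmpty.cone_maps m.unop n.unop
      refine ⟨l, p ≫ m.unop, ?_⟩
      have hk' := congrArg (F.map (D.map p).op) hk
      simp only [Functor.comp_map, Functor.op_map] at hk'
      have h1 := ((map_map _ _ f).symm.trans hk').trans (map_map _ _ f')
      rw [← D.map_comp, ← D.map_comp] at h1
      conv_rhs => rw [hp]
      exact h1

end Groth.Agent.AlgSpLib.LimPres
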