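import Groth.Prelude.Def_AlgSpDec
import Groth.Agent.AlgSpLib.LocPMore
import Groth.Agent.AlgSpLib.Points

/-!
# Having `P` etale locally is having `P` near every point
-/

set_option autoImplicit false

universe u

open CategoryTheory CategoryTheory.Limits AlgebraicGeometry Opposite

set_option backward.isDefEq.respectTransparency false

namespace Groth.Agent.AlgSpLib

open _root_.AlgSp

variable {S : Scheme.{u}}

theorem isZariskiLocalAtSource_of_listed (P : MorphismProperty Scheme.{u})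
    (hP : P = @LocallyOfFiniteType ∨ P = @LocallyOfFinitePresentation ∨ P = @Flat ∨ P = @Smooth ∨
      P = @Etale ∨
      (∀ ⦃A B : Scheme.{u}⦄ (g : A ⟶ B), P g ↔ (LocallyQuasiFinite g ∧ LocallyOfFiniteType g)) ∨
      (∀ ⦃A B : Scheme.{u}⦄ (g : A ⟶ B), P g ↔ (LocallyOfFiniteType g ∧ FormallyUnramified g))) :
    IsZariskiLocalAtSource P := by
  rcases hP with rfl | rfl | rfl | rfl | rfl | h | h
  · infer_instance
  · infer_instance
  · infer_instance
  · infer_instance
  · infer_instance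
  · rw [show P = (@LocallyQuasiFinite ⊓ @LocallyOfFiniteType : MorphismProperty Scheme.{u}) from
      MorphismProperty.ext _ _ fun _ _ g => h g]
    infer_instance
  · rw [show P = (@LocallyOfFiniteType ⊓ @FormallyUnramified : MorphismProperty Scheme.{u}) from
      MorphismProperty.ext _ _ fun _ _ g => h g]
    infer_instance

theorem locP_iff_forall_hasAtMor {P : MorphismProperty Scheme.{u}} (hP : EtST P)
    [IsZariskiLocalAtSource P] {F G : Sp S} (hF : IsAlgSpace F) (hG : IsAlgSpace G) (f : F ⟶ G) :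
    LocP P f ↔ ∀ x : Points F, HasAtMor (fun U _ h u => ∃ W : U.Opens, u ∈ W ∧ P (W.ι ≫ h)) f x := by
  refine ⟨fun hf x => ?_, fun H U V a b h ha hb comm => ?_⟩
  · obtain ⟨V, q, hqe, hqs⟩ := hG.atlas
    obtain ⟨U, p, α, hpe, hps, hα⟩ := exists_chart_lift hF hG f hqe hqs
    obtain ⟨z, hz⟩ := isSurjectiveMor_of_repWith hps x
    obtain ⟨u, rfl⟩ := (Points.schemeEquiv U).surjective z
    change Points.map p (Points.ofPt (𝟙 _) u) = x at hz
    rw [Points.map_ofPt, Category.id_comp] at hz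
    exact ⟨U, V, p, q, α, u, hpe, hqe, hα, hz, ⊤, trivial,
      IsZariskiLocalAtSource.comp (hf p q α hpe hqe hα) _⟩
  have key : ∀ u : ↥U.left, ∃ O : U.left.Opens, u ∈ O ∧ P (O.ι ≫ h.left) := by
    intro u
    obtain ⟨U₁, V₁, a₁, b₁, h₁, u₁, ha₁, hb₁, comm₁, hx, W, huW, hW⟩ := H (Points.ofPt a u)
    obtain ⟨R, r, r₁, sqR⟩ := exists_pullback hF.diag a a₁
    obtain ⟨Z, z, z₁, sqZ⟩ := exists_pullback hG.diag b b₁
    have e : (yon S).map (r ≫ h) ≫ b = (yon S).map (r₁ ≫ h₁) ≫ b₁ := by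
      rw [Functor.map_comp, Functor.map_comp, Category.assoc, Category.assoc, ← comm, ← comm₁,
        sqR.w_assoc]
    obtain ⟨m, hm⟩ := (yon S).map_surjective (sqZ.lift _ _ e)
    have hm₁ : m.left ≫ z.left = r.left ≫ h.left := by
      rw [← Over.comp_left, ← Over.comp_left]
      congr 1
      exact (yon S).map_injective (by rw [Functor.map_comp, hm]; exact sqZ.lift_fst _ _ e)
    have hm₂ : m.left ≫ z₁.left = r₁.left ≫ h₁.left := by
      rw [← Over.comp_left, ← Over.comp_left]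
      congr 1
      exact (yon S).map_injective (by rw [Functor.map_comp, hm]; exact sqZ.lift_snd _ _ e)
    have hr : Etale r.left := ha₁.2 a _ r sqR.flip
    have hr₁ : Etale r₁.left := ha.2 a₁ _ r₁ sqR
    have hz : Etale z.left := hb₁.2 b _ z sqZ.flip
    have hz₁ : Etale z₁.left := hb.2 b₁ _ z₁ sqZ
    obtain ⟨w, hwu, hwu₁⟩ := (ofPt_eq_iff sqR u u₁).1 hx.symm
    let R' : R.left.Opens := r₁.left ⁻¹ᵁ W
    have hm' : P (R'.ι ≫ m.left) := by
      refine hP.cancel _ z₁.left hz₁ ?_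
      rw [Category.assoc, hm₂, ← morphismRestrict_ι_assoc]
      exact hP.precomp _ _ inferInstance hW
    let φ : (R' : Scheme.{u}) ⟶ U.left := R'.ι ≫ r.left
    let O : U.left.Opens := ⟨Set.range φ, φ.isOpenMap.isOpen_range⟩
    refine ⟨O, ⟨⟨w, show r₁.left w ∈ W by rwa [hwu₁]⟩, hwu⟩, ?_⟩
    have hr' : Set.range φ ⊆ Set.range O.ι := by rw [Scheme.Opens.range_ι]; rfl
    let φ' := IsOpenImmersion.lift O.ι φ hr'
    have hφ' : φ' ≫ O.ι = φ := IsOpenImmersion.lift_fac _ _ _
    have : Etale φ' := by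
      refine MorphismProperty.HasOfPostcompProperty.of_postcomp (W := @Etale) (W' := @Etale) φ' O.ι (show Etale O.ι from inferInstance) ?_
      rw [hφ']
      infer_instance
    refine hP.descend φ' _ this ⟨fun o => ?_⟩ ?_
    · obtain ⟨t, ht⟩ : o.1 ∈ Set.range φ := o.2
      refine ⟨t, O.ι.isOpenEmbedding.injective ?_⟩
      rw [← Scheme.Hom.comp_apply, hφ']
      exact ht
    · rw [reassoc_of% hφ']
      show P ((R'.ι ≫ r.left) ≫ h.left)
      rw [Category.assoc, ← hm₁, ← Category.assoc]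
      exact hP.postcomp _ _ hm' hz
  choose O hO hPO using key
  refine IsZariskiLocalAtSource.of_iSup_eq_top O (top_le_iff.1 fun u _ => ?_) hPO
  exact TopologicalSpace.Opens.mem_iSup.2 ⟨u, hO u⟩

end Groth.Agent.AlgSpLib
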