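import Groth.Agent.AlgSpLib.LocPAt
import Groth.Agent.AlgSpLib.Subspace
import Groth.Agent.SchImg.Dense
import Groth.Agent.SchImg.ValPoint

/-!
# Having `P` near a point is having `P` on an open subspace
-/

set_option autoImplicit false

universe u

open CategoryTheory CategoryTheory.Limits AlgebraicGeometry Opposite

set_option backward.isDefEq.respectTransparency false

namespace Groth.Agent.AlgSpLib

open _root_.AlgSp Groth.Agent.SchImg

variable {S : Scheme.{u}}

theorem hasAtMor_iff_exists_open {P : MorphismProperty Scheme.{u}} (hP : EtST P) [IsZariskiLocalAtSource P]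
    {X Y : Sp S} (hX : IsAlgSpace X) (hY : IsAlgSpace Y) (f : X ⟶ Y) (x : Points X) :
    HasAtMor (fun U _ h u => ∃ W : U.Opens, u ∈ W ∧ P (W.ι ≫ h)) f x ↔
      ∃ (X' : Sp S) (_ : IsAlgSpace X') (j : X' ⟶ X), RepWith @IsOpenImmersion j ∧
        x ∈ Set.range (Points.map j) ∧ LocP P (j ≫ f) := by
  constructor
  · rintro ⟨U, V, a, b, h, u, ha, hb, comm, hu, W, huW, hW⟩
    have ho : IsOpen (Points.ofPt a '' (W : Set U.left)) :=
      isOpenMap_ofPt (repWith_universallyOpen_of_etale ha) _ W.2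
    have hX' := isAlgSpace_subSheaf hX ho
    refine ⟨_, hX', subInc (Points.ofPt a '' (W : Set U.left)), repWith_subInc ho,
      by rw [range_subInc]; exact ⟨u, huW, hu⟩, (locP_iff_forall_hasAtMor hP hX' hY _).2 fun x' => ?_⟩
    obtain ⟨O, fst, sq⟩ := exists_open_pullback (repWith_subInc ho) a
    obtain ⟨w, hwW, hw⟩ : Points.map (subInc _) x' ∈ Points.ofPt a '' (W : Set U.left) := map_subInc_mem x'
    have hwO : w ∈ O := (mem_open_iff sq w).2 ⟨x', hw.symm⟩
    refine ⟨Over.mk (O.ι ≫ U.hom), V, fst, b, (Over.homMk O.ι rfl : Over.mk (O.ι ≫ U.hom) ⟶ U) ≫ h, ⟨w, hwO⟩,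
      repWith_baseChange sq.flip ha, hb, ?_, ?_, O.ι ⁻¹ᵁ W, hwW, ?_⟩
    · rw [Functor.map_comp, Category.assoc, ← comm, reassoc_of% sq.w]
    · obtain ⟨T, g, t, hg⟩ := exists_ofPt x'
      have e : Points.map (subInc (Points.ofPt a '' (W : Set U.left))) (Points.ofPt fst ⟨w, hwO⟩) =
          Points.map (subInc (Points.ofPt a '' (W : Set U.left))) x' := by
        rw [← hw, Points.map_ofPt, sq.w, ofPt_comp]
        rfl
      exact injective_map_of_mono e
    · show P ((O.ι ⁻¹ᵁ W).ι ≫ O.ι ≫ h.left)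
      rw [← morphismRestrict_ι_assoc]
      exact hP.precomp _ _ inferInstance hW
  · rintro ⟨X', hX', j, hj, ⟨x', rfl⟩, hP'⟩
    obtain ⟨U, V, a, b, h, u, ha, hb, comm, hu, W, huW, hW⟩ := (locP_iff_forall_hasAtMor hP hX' hY _).1 hP' x'
    refine ⟨U, V, a ≫ j, b, h, u, repWith_comp ha (repWith_mono (P := @IsOpenImmersion) (Q := @Etale)
        (fun _ _ g hg => have : IsOpenImmersion g := hg; inferInstance) hj), hb, ?_, ?_, W, huW, hW⟩
    · rw [Category.assoc]; exact comm
    · rw [← Points.map_ofPt, hu]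

end Groth.Agent.AlgSpLib
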