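import Groth.Agent.AlgSpLib.Criteria
import Groth.Agent.AlgSpLib.FpqcProps

/-!
# Properties local for Zariski coverings
-/

set_option autoImplicit false

universe u

open CategoryTheory CategoryTheory.Limits AlgebraicGeometry Opposite

set_option backward.isDefEq.respectTransparency false

namespace Groth.Agent.AlgSpLib

open _root_.AlgSp

variable {S : Scheme.{u}}

theorem isFppfCover_of_zar {ι : Type u} {Y : Sp S} {Yi : ι → Sp S} {g : ∀ i, Yi i ⟶ Y} (hY : IsAlgSpace Y)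
    (hYi : ∀ i, IsAlgSpace (Yi i)) (hg : IsZarCover Yi g) : IsFppfCover Yi g := by
  refine ⟨fun i => ?_, hg.2⟩
  have h : LocP @Etale (g i) := (isEtaleMor_iff_locP hY).1 (isEtaleMor_of_repWith'
    (repWith_mono (fun _ _ r hr => by
      have : IsOpenImmersion r := hr
      exact (inferInstance : Etale r)) (hg.1 i)))
  exact ⟨fun V W a b c ha hb e => etST_flat.of_etale _ (h a b c ha hb e),
    fun V W a b c ha hb e => etST_lfp.of_etale _ (h a b c ha hb e)⟩

theorem repWith_of_zarCover (Q : MorphismProperty Scheme.{u}) [Q.IsStableUnderBaseChange]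
    [IsZariskiLocalAtTarget Q] [Q.DescendsAlong (@Surjective ⊓ @Flat ⊓ @QuasiCompact)]
    (hQ : ∀ ⦃A B : Scheme.{u}⦄ (q : A ⟶ B), Q q → MoreMor.IsIndQuasiAffineHom q)
    {ι : Type u} {X Y : Sp S} {Yi : ι → Sp S} {g : ∀ i, Yi i ⟶ Y} (hX : IsAlgSpace X) (hY : IsAlgSpace Y)
    (hYi : ∀ i, IsAlgSpace (Yi i)) (hg : IsZarCover Yi g) (f : X ⟶ Y) (Xi : ι → Sp S) (p : ∀ i, Xi i ⟶ X)
    (q : ∀ i, Xi i ⟶ Yi i) (sq : ∀ i, IsPullback (p i) (q i) f (g i)) (h : ∀ i, RepWith Q (q i)) : RepWith Q f :=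
  (isLocalOnBase_repWith Q hQ Yi g hY hYi (isFpqcCover_of_fppf hY hYi (isFppfCover_of_zar hY hYi hg)) f hX Xi q p
    (fun i => isAlgSpace_of_isPullback_space hY hX (hYi i) (sq i)) sq).2 h

end Groth.Agent.AlgSpLib
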