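import Groth.Agent.AlgSpLib.FpqcLocP
import Groth.Agent.AlgSpLib.ZarLocal
import Groth.Agent.AlgSpLib.ProperCrit
import Groth.Agent.UnivInjMor.MonoUnram
import Groth.Prelude.Def_AlgSpSub

/-!
# Cancellation of cartesian squares; maps agreeing on scheme theoretically dense opens; magic squares
-/

set_option autoImplicit false

universe u

open CategoryTheory CategoryTheory.Limits AlgebraicGeometry Opposite

set_option backward.isDefEq.respectTransparency false

namespace Groth.Agent.AlgSpLib

open _root_.AlgSp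

variable {S : Scheme.{u}}

theorem isPullback_mapDesc {X Y Z T : Sp S} (f : X ⟶ Z) (g : Y ⟶ Z) (h : Z ⟶ T) :
    IsPullback (pullback.fst f g ≫ f) (pullback.mapDesc f g h) (pullback.diagonal h)
      (pullback.map (f ≫ h) (g ≫ h) h h f g (𝟙 _) (Category.comp_id _) (Category.comp_id _)) :=
  pullback_map_diagonal_isPullback f g h

theorem mapDesc_properties {X Y Z T : Sp S} (hZ : IsAlgSpace Z) (f : X ⟶ Z) (g : Y ⟶ Z) (h : Z ⟶ T) :
    Representable (pullback.mapDesc f g h) ∧
    RepWith @LocallyOfFiniteType (pullback.mapDesc f g h) ∧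
    RepWith (@LocallyQuasiFinite ⊓ @LocallyOfFiniteType) (pullback.mapDesc f g h) ∧
    RepWith @IsSeparated (pullback.mapDesc f g h) ∧
    RepWith (MorphismProperty.monomorphisms Scheme.{u}) (pullback.mapDesc f g h) ∧
    (IsSeparatedMor h → RepWith @IsClosedImmersion (pullback.mapDesc f g h)) ∧
    (IsQuasiSeparatedMor h → RepWith @QuasiCompact (pullback.mapDesc f g h)) := by
  have sq := isPullback_mapDesc f g h
  obtain ⟨hm, hl⟩ := repWith_diagonal_props hZ h
  have hm' := repWith_baseChange sq hm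
  have hl' := repWith_baseChange sq hl
  refine ⟨hm'.1, hl', ?_, repWith_mono (fun _ _ r hr => ?_) hm', hm', fun hh => repWith_baseChange sq hh,
    fun hh => repWith_baseChange sq hh⟩
  · refine repWith_mono (fun _ _ r hr => ?_) (repWith_inf_iff.2 ⟨hm', hl'⟩)
    have : Mono r := hr.1
    have : LocallyOfFiniteType r := hr.2
    exact ⟨UnivInjMor.lqf_of_unramified r, hr.2⟩
  · have : Mono r := hr
    exact ⟨inferInstance⟩

theorem eq_of_eq_on_schImage_top {U X Y B : Sp S} (hX : IsAlgSpace X) (hY : IsAlgSpace Y) (hB : IsAlgSpace B)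
    {q : Y ⟶ B} (hq : IsSeparatedMor q) {f g : X ⟶ Y} (hfg : f ≫ q = g ≫ q) {j : U ⟶ X}
    (hcl : IsSchImage j (𝟙 X)) (heq : j ≫ f = j ≫ g) : f = g := by
  have hP : IsAlgSpace (pullback q q) := isAlgSpace_of_isPullback_space hB hY hY (IsPullback.of_hasPullback q q)
  have sq := IsPullback.of_hasPullback (pullback.diagonal q) (pullback.lift f g hfg)
  have hE := isAlgSpace_of_isPullback_space hP hY hX sq
  let l : U ⟶ pullback (pullback.diagonal q) (pullback.lift f g hfg) := pullback.lift (j ≫ f) j (by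
    refine pullback.hom_ext ?_ ?_ <;> simp [heq])
  obtain ⟨k, hk⟩ := hcl.2.2 (pullback.snd (pullback.diagonal q) (pullback.lift f g hfg)) hE
    (repWith_baseChange sq hq) ⟨l, pullback.lift_snd _ _ _⟩
  have e1 := congrArg (fun z => k ≫ z ≫ pullback.fst q q) sq.w
  have e2 := congrArg (fun z => k ≫ z ≫ pullback.snd q q) sq.w
  simp only [Category.assoc, pullback.diagonal_fst, pullback.diagonal_snd, pullback.lift_fst, pullback.lift_snd,
    Category.comp_id] at e1 e2
  rw [reassoc_of% hk] at e1 e2
  rw [← e1, e2]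

theorem isPullback_of_etale_surjective {A B C D E F : Sp S} (hB : IsAlgSpace B) (hC : IsAlgSpace C)
    (hD : IsAlgSpace D) (hE : IsAlgSpace E) (hF : IsAlgSpace F) {ac : A ⟶ C} {ab : A ⟶ B} {cd : C ⟶ D} {bd : B ⟶ D}
    {ce : C ⟶ E} {df : D ⟶ F} {ef : E ⟶ F} (hl : IsPullback ac ab cd bd) (hcomm : cd ≫ df = ce ≫ ef)
    (hout : IsPullback (ac ≫ ce) ab ef (bd ≫ df)) (hsurj : IsSurjectiveMor bd) (het : IsEtaleMor bd) :
    IsPullback ce cd ef df := by
  have sqP := IsPullback.of_hasPullback ef df
  have hP := isAlgSpace_of_isPullback_space hF hE hD sqP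
  let k : C ⟶ pullback ef df := pullback.lift ce cd hcomm.symm
  have sqB := IsPullback.of_hasPullback (pullback.snd ef df) bd
  have hPB := isAlgSpace_of_isPullback_space hD hP hB sqB
  have big := sqB.paste_horiz sqP
  let e := hout.isoIsPullback _ _ big
  have he1 : e.hom ≫ pullback.fst (pullback.snd ef df) bd ≫ pullback.fst ef df = ac ≫ ce :=
    hout.isoIsPullback_hom_fst _ _ big
  have he2 : e.hom ≫ pullback.snd (pullback.snd ef df) bd = ab := hout.isoIsPullback_hom_snd _ _ big
  have w : ac ≫ k = e.hom ≫ pullback.fst (pullback.snd ef df) bd := by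
    refine pullback.hom_ext ?_ ?_
    · rw [Category.assoc, pullback.lift_fst, Category.assoc, he1]
    · rw [Category.assoc, pullback.lift_snd, Category.assoc, sqB.w, ← Category.assoc e.hom, he2, hl.w]
  have sqk : IsPullback ac e.hom k (pullback.fst (pullback.snd ef df) bd) := by
    refine IsPullback.of_bot ?_ w sqB
    rw [he2, pullback.lift_snd]
    exact hl
  have hπ : LocP @Etale (pullback.fst (pullback.snd ef df) bd) :=
    locP_baseChange etST_etale hB hD hPB hP sqB.flip ((isEtaleMor_iff_locP hD).1 het)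
  have hc : IsFpqcCover (fun _ : PUnit.{u + 1} => pullback (pullback.snd ef df) bd)
      (fun _ => pullback.fst (pullback.snd ef df) bd) :=
    isFpqcCover_of_fppf hP (fun _ => hPB)
      ⟨fun _ => ⟨fun V W a b c ha hb h => etST_flat.of_etale _ (hπ a b c ha hb h),
        fun V W a b c ha hb h => etST_lfp.of_etale _ (hπ a b c ha hb h)⟩, fun z => by
        obtain ⟨y, hy⟩ := hsurj (Points.map (pullback.snd ef df) z)
        obtain ⟨x, hx, -⟩ := exists_point_of_isPullback sqB z y hy.symm
        exact ⟨⟨⟩, x, hx⟩⟩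
  have hA : IsAlgSpace A := hPB.of_iso e.symm
  have hiso : IsIso k := (isLocalOnBase_isomorphisms (S := S) _ _ hP (fun _ => hPB) hc k hC (fun _ => A)
    (fun _ => e.hom) (fun _ => ac) (fun _ => hA) (fun _ => sqk)).2 fun _ =>
    (inferInstance : IsIso e.hom)
  exact IsPullback.of_iso_pullback ⟨hcomm.symm⟩ (asIso k) (pullback.lift_fst _ _ _) (pullback.lift_snd _ _ _)

end Groth.Agent.AlgSpLib
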