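import Groth.Agent.AlgSpLib.Covers
import Groth.Agent.AlgSpLib.SheafLemmas
import Mathlib.AlgebraicGeometry.Morphisms.LocalFlatDescent
import Mathlib.AlgebraicGeometry.Morphisms.Flat
import Mathlib.CategoryTheory.Sites.EpiMono

/-!
# Monomorphisms into algebraic spaces fppf covered by a field
-/

set_option autoImplicit false

universe u

open CategoryTheory CategoryTheory.Limits AlgebraicGeometry Opposite

set_option backward.isDefEq.respectTransparency false

namespace Groth.Agent.AlgSpLib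

open _root_.AlgSp

variable {S : Scheme.{u}}

theorem isIso_of_mono_of_locally_lifts {F G : Sp S} (f : F ⟶ G) [Mono f]
    (h : ∀ (T : Over S) (t : (yon S).obj T ⟶ G), ∃ (κ : Type u) (Tk : κ → Over S) (c : ∀ k, Tk k ⟶ T),
      Sieve.ofArrows Tk c ∈ AlgSp.J S T ∧ ∀ k, ∃ l : (yon S).obj (Tk k) ⟶ F, l ≫ f = (yon S).map (c k) ≫ t) :
    IsIso f := by
  have : Sheaf.IsLocallySurjective f := by
    constructor
    intro U s
    obtain ⟨κ, Tk, c, hc, hl⟩ := h U ((J S).uliftYonedaEquiv.symm s)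
    refine GrothendieckTopology.superset_covering _ ?_ hc
    rw [Sieve.ofArrows, Sieve.generate_le_iff]
    rintro Z _ ⟨k⟩
    obtain ⟨l, hl⟩ := hl k
    refine ⟨(J S).uliftYonedaEquiv l, ?_⟩
    rw [← uliftYonedaEquiv_comp', hl]
    refine ((J S).uliftYonedaEquiv_naturality _ (c k)).symm.trans ?_
    rw [Equiv.apply_symm_apply]
  exact isIso_of_mono_of_epi f

theorem isIso_of_mono_into_field {W : Sp S} (hW : IsAlgSpace W) {k : Type u} [Field k]
    {str : Spec (CommRingCat.of k) ⟶ S} (i : W ⟶ (yon S).obj (Over.mk str)) [Mono i]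
    [hne : Nonempty (Points W)] : IsIso i := by
  obtain ⟨U, a, ha, has⟩ := hW.atlas
  obtain ⟨u, -⟩ := ofPt_surjective has hne.some
  obtain ⟨_, ⟨O, hO, rfl⟩, huO, -⟩ :=
    U.left.isBasis_affineOpens.exists_subset_of_mem_open (Set.mem_univ u) isOpen_univ
  change U.left.Opens at O
  let U₀ : Over S := Over.mk (O.ι ≫ U.hom)
  let j : U₀ ⟶ U := Over.homMk O.ι rfl
  have : Nonempty ↥U₀.left := ⟨(⟨u, huO⟩ : ↥(O : Scheme.{u}))⟩
  have : IsAffine U₀.left := hO
  have ha₀ : RepWith @Etale ((yon S).map j ≫ a) :=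
    repWith_comp ((repWith_yon_iff j).2 (show Etale O.ι from inferInstance)) ha
  obtain ⟨g, hg⟩ := exists_map_eq (((yon S).map j ≫ a) ≫ i)
  obtain ⟨R, r, r', sq⟩ := exists_pullback hW.diag ((yon S).map j ≫ a) ((yon S).map j ≫ a)
  have hr : Etale r.left := (repWith_yon_iff r).1 (repWith_baseChange sq.flip ha₀)
  have sq' : IsPullback ((yon S).map r) ((yon S).map r') ((yon S).map g) ((yon S).map g) := by
    rw [hg]
    refine ⟨⟨by rw [← Category.assoc ((yon S).map r), ← Category.assoc ((yon S).map r'), sq.w]⟩,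
      ⟨PullbackCone.IsLimit.mk _ (fun s => sq.lift s.fst s.snd ((cancel_mono i).1 (by
        simpa only [Category.assoc] using s.condition))) (fun s => sq.lift_fst _ _ _)
        (fun s => sq.lift_snd _ _ _) (fun s m h₁ h₂ => sq.hom_ext ?_ ?_)⟩⟩
    · rw [h₁, sq.lift_fst]
    · rw [h₂, sq.lift_snd]
  have sqs := isPullback_yon_iff.1 sq'
  have hsk : Subsingleton ↥(Over.mk str).left := inferInstanceAs (Subsingleton (PrimeSpectrum k))
  have hfl : Flat g.left := by
    have : IsIntegral (Over.mk str).left := inferInstanceAs (IsIntegral (Spec (CommRingCat.of k)))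
    infer_instance
  have hsj : Surjective g.left := ⟨fun x => ⟨Classical.arbitrary _, Subsingleton.elim _ _⟩⟩
  have hqc : QuasiCompact g.left := by
    have : IsAffine (Over.mk str).left := inferInstanceAs (IsAffine (Spec (CommRingCat.of k)))
    infer_instance
  have hge : Etale g.left := MorphismProperty.of_isPullback_of_descendsAlong (P := @Etale)
    (Q := @Surjective ⊓ @Flat ⊓ @QuasiCompact) sqs ⟨⟨hsj, hfl⟩, hqc⟩ hr
  obtain ⟨β, hβ⟩ := exists_desc g ((yon S).map j ≫ a) (fun V p q e => by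
    rw [← cancel_mono i, Category.assoc ((yon S).map p), Category.assoc ((yon S).map q), ← hg, ← Functor.map_comp,
      ← Functor.map_comp, e])
  have : Epi ((yon S).map g) := epi_yon_map g
  have e : β ≫ i = 𝟙 _ := by
    rw [← cancel_epi ((yon S).map g), reassoc_of% hβ, Category.comp_id, hg, Category.assoc]
  have : IsSplitEpi i := ⟨⟨⟨β, e⟩⟩⟩
  exact isIso_of_mono_of_isSplitEpi i

theorem isEmpty_or_isIso_of_mono {Z' Z : Sp S} (hZ' : IsAlgSpace Z') (hZ : IsAlgSpace Z) (f : Z' ⟶ Z) [Mono f]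
    {k : Type u} [Field k] {str : Spec (CommRingCat.of k) ⟶ S} {p : (yon S).obj (Over.mk str) ⟶ Z}
    (hfp : LocP @LocallyOfFinitePresentation p) (hfl : LocP @Flat p) (hs : IsSurjectiveMor p) :
    IsEmpty (Points Z') ∨ IsIso f := by
  rcases isEmpty_or_nonempty (Points Z') with h | ⟨⟨y⟩⟩
  · exact Or.inl h
  refine Or.inr ?_
  have sq := IsPullback.of_hasPullback f p
  have hW := isAlgSpace_of_isPullback_space hZ hZ' (IsAlgSpace.yon_obj _) sq
  obtain ⟨x, hx⟩ := hs (Points.map f y)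
  obtain ⟨w, -, -⟩ := exists_point_of_isPullback sq y x hx.symm
  have : Nonempty (Points (pullback f p)) := ⟨w⟩
  have := isIso_of_mono_into_field hW (pullback.snd f p)
  refine isIso_of_mono_of_locally_lifts f fun T t => ?_
  obtain ⟨κ, Tk, c, hc, hl⟩ := exists_lift_fppfCover (ι := PUnit.{u + 1}) (g := fun _ => p) hZ
    (fun _ => IsAlgSpace.yon_obj _) ⟨fun _ => ⟨hfl, hfp⟩, fun z => ⟨⟨⟩, hs z⟩⟩ T t
  refine ⟨κ, Tk, c, hc, fun j => ?_⟩
  obtain ⟨-, l, hl⟩ := hl j
  refine ⟨l ≫ inv (pullback.snd f p) ≫ pullback.fst f p, ?_⟩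
  rw [← hl, Category.assoc, Category.assoc, sq.w, IsIso.inv_hom_id_assoc]

end Groth.Agent.AlgSpLib
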