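import Groth.Agent.AlgSpLib.GpdTrans
import Groth.Agent.AlgSpLib.NoethPts
import Groth.Agent.AlgSpLib.LocP
import Mathlib.CategoryTheory.Monoidal.Cartesian.Grp

/-!
# Composition and multiplication over a field are flat and universally open
-/

set_option autoImplicit false

universe u

open CategoryTheory CategoryTheory.Limits AlgebraicGeometry Opposite MonoidalCategory CartesianMonoidalCategory MonObj

set_option backward.isDefEq.respectTransparency false

namespace Groth.Agent.AlgSpLib

open _root_.AlgSp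

section

variable {C : Type*} [Category C] [CartesianMonoidalCategory C] (G : C) [GrpObj G]

theorem isPullback_fst_mul : IsPullback (fst G G) μ[G] (toUnit G) (toUnit G) := by
  have hμ : (μ[G] : G ⊗ G ⟶ G) = fst G G * snd G G := by simp [Hom.mul_def]
  have key : ∀ {T : C} (w : T ⟶ G ⊗ G), w ≫ μ[G] = (w ≫ fst G G) * (w ≫ snd G G) := fun w => by
    rw [Hom.mul_def, ← comp_lift_assoc, lift_fst_snd, Category.id_comp]
  refine ⟨⟨toUnit_unique _ _⟩, ⟨PullbackCone.IsLimit.mk _ (fun s => lift s.fst (s.fst⁻¹ * s.snd))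
    (fun s => lift_fst _ _) (fun s => ?_) (fun s m h₁ h₂ => ?_)⟩⟩
  · rw [key, lift_fst, lift_snd, mul_inv_cancel_left]
  · refine CartesianMonoidalCategory.hom_ext _ _ (by rw [h₁, lift_fst]) ?_
    rw [lift_snd, ← h₁, ← h₂, key, inv_mul_cancel_left]

end

variable {S : Scheme.{u}}

theorem isPullback_fst_comp {B : Sp S} (G : GroupoidSp B) : IsPullback (pullback.fst G.s G.t) G.c G.t G.t := by
  have key : ∀ {T : Sp S} (w : T ⟶ pullback G.s G.t), w ≫ G.c =
      gmul G (w ≫ pullback.fst G.s G.t) (w ≫ pullback.snd G.s G.t)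
        (by rw [Category.assoc, Category.assoc, pullback.condition]) := fun w => by
    rw [gmul]
    congr 1
    refine pullback.hom_ext ?_ ?_ <;> simp
  refine ⟨⟨?_⟩, ⟨PullbackCone.IsLimit.mk _
    (fun s => pullback.lift s.fst (gmul G (s.fst ≫ G.i) s.snd (by rw [Category.assoc, G.i_s, s.condition]))
      (by rw [gmul_t, Category.assoc, G.i_t]))
    (fun s => pullback.lift_fst _ _ _) (fun s => ?_) (fun s m h₁ h₂ => ?_)⟩⟩
  · have h := key (𝟙 (pullback G.s G.t))
    rw [Category.id_comp] at h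
    rw [h, gmul_t, Category.id_comp]
  · rw [key, gmul_congr G (pullback.lift_fst _ _ _) (pullback.lift_snd _ _ _), gmul_cancel_left' G s.fst s.snd s.condition]
  · refine pullback.hom_ext (by rw [h₁, pullback.lift_fst]) ?_
    rw [pullback.lift_snd, gmul_congr G (congrArg (fun z => z ≫ G.i) h₁.symm) (h₂.symm.trans (key m)) _,
      gmul_cancel_left]

theorem locP_flat_to_field {X : Sp S} {k : Type u} [Field k] {str : Spec (CommRingCat.of k) ⟶ S}
    (p : X ⟶ (yon S).obj (Over.mk str)) : LocP @Flat p := by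
  intro V W a b h _ hb _
  obtain ⟨g, hg⟩ := exists_map_eq b
  have hge : Etale g.left := (repWith_yon_iff g).1 (hg ▸ hb)
  have : Subsingleton ↥(Over.mk str).left := inferInstanceAs (Subsingleton (PrimeSpectrum k))
  have : IsIntegral (Over.mk str).left := inferInstanceAs (IsIntegral (Spec (CommRingCat.of k)))
  exact etST_flat.cancel h.left g.left hge inferInstance

theorem flat_univOpen_to_field {X U : Sp S} (hX : IsAlgSpace X) {k : Type u} [Field k]
    {str : Spec (CommRingCat.of k) ⟶ S} (eU : U ≅ (yon S).obj (Over.mk str)) (p : X ⟶ U) :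
    LocP @Flat p ∧ IsUnivOpenMor p := by
  have hU : IsAlgSpace U := (IsAlgSpace.yon_obj _).of_iso eU.symm
  refine ⟨?_, ?_⟩
  · have e : p = (p ≫ eU.hom) ≫ eU.inv := by simp
    have he : LocP @Etale eU.inv := (isEtaleMor_iff_locP hU).1 (isEtaleMor_of_repWith' (repWith_of_isIso _))
    rw [e]
    exact locP_comp etST_flat (IsAlgSpace.yon_obj _) hU (locP_flat_to_field _)
      (fun V W a b c ha hb h => etST_flat.of_etale _ (he a b c ha hb h))
  · intro Z Z' hZ g fst snd sq
    refine isUnivOpenMor_to_field hX str (p ≫ eU.hom) hZ (g ≫ eU.hom) fst snd ?_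
    exact IsPullback.of_iso sq (Iso.refl _) (Iso.refl _) (Iso.refl _) eU (by simp) (by simp) (by simp) (by simp)

theorem flat_univOpen_comp {B : Sp S} (G : GroupoidSp B) (hR : IsAlgSpace G.R) {k : Type u} [Field k]
    {σ : Spec (CommRingCat.of k) ⟶ S} (eU : G.U ≅ (yon S).obj (Over.mk σ)) :
    LocP @Flat G.c ∧ IsUnivOpenMor G.c := by
  have hU : IsAlgSpace G.U := (IsAlgSpace.yon_obj _).of_iso eU.symm
  obtain ⟨hf, ho⟩ := flat_univOpen_to_field hR eU G.t
  have sq := isPullback_fst_comp G
  exact ⟨locP_baseChange etST_flat hR hU (isAlgSpace_of_isPullback_space hU hR hR sq) hR sq hf,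
    fun _ _ hZ _ _ _ sq' => ho hZ _ _ _ (sq'.paste_horiz sq)⟩

theorem flat_univOpen_mul {k : Type u} [Field k]
    (G : Over ((yon (Spec (CommRingCat.of k))).obj (Over.mk (𝟙 _)))) [GrpObj G] (hG : IsAlgSpace G.left) :
    LocP @Flat (μ[G]).left ∧ IsUnivOpenMor (μ[G]).left := by
  have sq : IsPullback (fst G G).left (μ[G]).left G.hom G.hom := by
    have h := (isPullback_fst_mul G).map (Over.forget _)
    exact h
  obtain ⟨hf, ho⟩ := flat_univOpen_to_field hG (Iso.refl _) G.hom
  exact ⟨locP_baseChange etST_flat hG (IsAlgSpace.yon_obj _)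
      (isAlgSpace_of_isPullback_space (IsAlgSpace.yon_obj _) hG hG sq) hG sq hf,
    fun _ _ hZ _ _ _ sq' => ho hZ _ _ _ (sq'.paste_horiz sq)⟩

end Groth.Agent.AlgSpLib
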