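import Groth.Prelude.Def_W4stk3sptopologiesPh
import Groth.Agent.AlgSpLib.LocPMore
import Groth.Agent.HTopV.PhExtend

/-!
# ph coverings of algebraic spaces: base change and composition
-/

set_option autoImplicit false

universe u

open CategoryTheory CategoryTheory.Limits AlgebraicGeometry Opposite

set_option backward.isDefEq.respectTransparency false

namespace Groth.Agent.AlgSpLib

open _root_.AlgSp

variable {S : Scheme.{u}}

theorem isPhCover_baseChange {X X' : Sp S} (hX : IsAlgSpace X) (hX' : IsAlgSpace X') (a : X' ⟶ X)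
    {ι : Type u} (Y Y' : ι → Sp S) (hY : ∀ i, IsAlgSpace (Y i)) (hY' : ∀ i, IsAlgSpace (Y' i))
    (g : ∀ i, Y i ⟶ X) (q : ∀ i, Y' i ⟶ X') (p : ∀ i, Y' i ⟶ Y i)
    (sq : ∀ i, IsPullback (q i) (p i) a (g i)) (h : IsPhCover Y g) : IsPhCover Y' q := by
  refine ⟨fun i => locP_baseChange etST_lft (hY i) hX (hY' i) hX' (sq i).flip (h.1 i), fun Z hZ z => ?_⟩
  obtain ⟨F, hF, hl⟩ := h.2 Z hZ (z ≫ a)
  refine ⟨F, hF, fun j => ?_⟩
  obtain ⟨i, l, hli⟩ := hl j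
  exact ⟨i, (sq i).lift ((yon S).map (Over.homMk (F.f j) rfl : Over.mk (F.f j ≫ Z.hom) ⟶ Z) ≫ z) l
    (by rw [Category.assoc, hli]), (sq i).lift_fst _ _ _⟩

theorem isPhCover_comp {X : Sp S} (hX : IsAlgSpace X) {ι : Type u} (Y : ι → Sp S)
    (hY : ∀ i, IsAlgSpace (Y i)) (g : ∀ i, Y i ⟶ X) {κ : ι → Type u} (W : ∀ i, κ i → Sp S)
    (g' : ∀ i j, W i j ⟶ Y i) (h : IsPhCover Y g) (h' : ∀ i, IsPhCover (W i) (g' i)) :
    IsPhCover (fun r : Σ i, κ i => W r.1 r.2) (fun r => g' r.1 r.2 ≫ g r.1) := by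
  refine ⟨fun r => locP_comp etST_lft (hY r.1) hX ((h' r.1).1 r.2) (h.1 r.1), fun Z hZ z => ?_⟩
  obtain ⟨F, hF, hl⟩ := h.2 Z hZ z
  choose i l hli using hl
  choose H hH k l' hl' using fun j =>
    (h' (i j)).2 (Over.mk (F.f j ≫ Z.hom)) (hF.isAffine_obj j) (l j)
  obtain ⟨G, hG, hGF⟩ := HTopV.exists_isStandardPh_bind hF H hH
  refine ⟨G, hG, fun m => ?_⟩
  obtain ⟨⟨j, n⟩, b, hb⟩ := hGF m
  let b' : Over.mk (G.f m ≫ Z.hom) ⟶ Over.mk ((H j).f n ≫ (Over.mk (F.f j ≫ Z.hom)).hom) :=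
    Over.homMk b (by
      change b ≫ (H j).f n ≫ F.f j ≫ Z.hom = G.f m ≫ Z.hom
      change b ≫ (H j).f n ≫ F.f j = G.f m ≫ 𝟙 _ at hb
      rw [Category.comp_id] at hb
      rw [← hb, Category.assoc, Category.assoc])
  refine ⟨⟨i j, k j n⟩, (yon S).map b' ≫ l' j n, ?_⟩
  rw [Category.assoc, reassoc_of% (hl' j n), hli j, ← Category.assoc, ← Category.assoc,
    ← Functor.map_comp, ← Functor.map_comp]
  congr 2
  apply Over.OverMorphism.ext
  change b ≫ (H j).f n ≫ F.f j = G.f m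
  change b ≫ (H j).f n ≫ F.f j = G.f m ≫ 𝟙 _ at hb
  rwa [Category.comp_id] at hb

end Groth.Agent.AlgSpLib
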