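import Mathlib.AlgebraicGeometry.Noetherian
import Mathlib.AlgebraicGeometry.AffineScheme
import Mathlib.AlgebraicGeometry.Properties
import Mathlib.RingTheory.Spectrum.Prime.Topology
import Mathlib.RingTheory.LocalProperties.Reduced
import Mathlib.RingTheory.Localization.FractionRing

/-!
# Maps from reduced schemes to antichains in locally noetherian schemes
-/

set_option autoImplicit false
universe u

open CategoryTheory AlgebraicGeometry TopologicalSpace

namespace Groth.Agent.AlgSpLib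

/-- an image of a spectrum which is an antichain in a noetherian spectrum is finite -/
theorem finite_range_comap_of_antichain {A B : Type u} [CommRing A] [CommRing B] [IsNoetherianRing A]
    (φ : A →+* B)
    (h : ∀ q q' : PrimeSpectrum B, q.asIdeal.comap φ ≤ q'.asIdeal.comap φ →
      PrimeSpectrum.comap φ q = PrimeSpectrum.comap φ q') :
    (Set.range (PrimeSpectrum.comap φ)).Finite := by
  suffices H : ∀ I : Ideal A, (Set.range (PrimeSpectrum.comap φ) ∩ PrimeSpectrum.zeroLocus (I : Set A)).Finite by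
    exact (H ⊥).subset fun x hx => ⟨hx, fun a ha => by
      rw [(Submodule.mem_bot A).1 ha]
      exact Ideal.zero_mem _⟩
  intro I
  induction I using WellFoundedGT.induction with
  | _ I ih =>
    by_cases hI : I.IsPrime
    · by_cases hd : Disjoint ((I.map φ : Ideal B) : Set B) (I.primeCompl.map φ : Submonoid B)
      · obtain ⟨q, hq, hqI, hqd⟩ := Ideal.exists_le_prime_disjoint _ _ hd
        have e : q.comap φ = I := by
          refine le_antisymm (fun a ha => ?_) (Ideal.map_le_iff_le_comap.1 hqI)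
          by_contra hna
          exact Set.disjoint_left.1 hqd ha ⟨a, hna, rfl⟩
        refine (Set.finite_singleton (PrimeSpectrum.comap φ ⟨q, hq⟩)).subset ?_
        rintro _ ⟨⟨q', rfl⟩, hz⟩
        exact (h ⟨q, hq⟩ q' (e.le.trans hz)).symm
      · obtain ⟨_, hb, s, hs, rfl⟩ := Set.not_disjoint_iff.1 hd
        have hlt : I < I ⊔ Ideal.span {s} :=
          lt_of_le_of_ne le_sup_left fun e => hs (by
            rw [e]
            exact Ideal.mem_sup_right (Ideal.subset_span rfl))
        refine (ih _ hlt).subset ?_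
        rintro _ ⟨⟨q', rfl⟩, hz⟩
        exact ⟨⟨q', rfl⟩, sup_le (show I ≤ q'.asIdeal.comap φ from hz)
          ((Ideal.span_singleton_le_iff_mem _).2 (Ideal.map_le_iff_le_comap.2 (show I ≤ q'.asIdeal.comap φ from hz) hb))⟩
    · by_cases htop : I = ⊤
      · refine Set.finite_empty.subset fun x hx => ?_
        exact x.2.ne_top (top_le_iff.1 (htop.ge.trans hx.2))
      · obtain ⟨a, b, hab, ha, hb⟩ : ∃ a b, a * b ∈ I ∧ a ∉ I ∧ b ∉ I := by
          by_contra hcon
          exact hI ⟨htop, fun {a b} hab => by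
            by_contra hh
            rw [not_or] at hh
            exact hcon ⟨a, b, hab, hh.1, hh.2⟩⟩
        have hlt : ∀ c, c ∉ I → I < I ⊔ Ideal.span {c} := fun c hc =>
          lt_of_le_of_ne le_sup_left fun e => hc (by
            rw [e]
            exact Ideal.mem_sup_right (Ideal.subset_span rfl))
        refine ((ih _ (hlt a ha)).union (ih _ (hlt b hb))).subset ?_
        rintro x ⟨hx, hxI⟩
        rcases x.2.mem_or_mem (hxI hab) with h' | h'
        · exact Or.inl ⟨hx, sup_le hxI ((Ideal.span_singleton_le_iff_mem _).2 h')⟩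
        · exact Or.inr ⟨hx, sup_le hxI ((Ideal.span_singleton_le_iff_mem _).2 h')⟩

/-- a ring map to a reduced ring contracting all primes to one prime factors through a field -/
theorem exists_factor_field {A B : Type u} [CommRing A] [CommRing B] [_root_.IsReduced B] (φ : A →+* B)
    (p : Ideal A) [p.IsPrime] (h : ∀ q : PrimeSpectrum B, q.asIdeal.comap φ = p) :
    ∃ (k : Type u) (_ : Field k) (ψ : A →+* k) (χ : k →+* B), χ.comp ψ = φ ∧ RingHom.ker ψ = p := by
  have h0 : ∀ a ∈ p, φ a = 0 := fun a ha => by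
    refine IsNilpotent.eq_zero ((nilpotent_iff_mem_prime).2 fun J hJ => ?_)
    rw [← h ⟨J, hJ⟩] at ha
    exact ha
  let g : A ⧸ p →+* B := Ideal.Quotient.lift p φ h0
  have hu : ∀ y : nonZeroDivisors (A ⧸ p), IsUnit (g y) := by
    rintro ⟨y, hy⟩
    obtain ⟨a, rfl⟩ := Ideal.Quotient.mk_surjective y
    by_contra hn
    obtain ⟨M, hM, hmem⟩ := exists_max_ideal_of_mem_nonunits hn
    have ha : a ∈ p := by
      rw [← h ⟨M, hM.isPrime⟩]
      exact hmem
    exact nonZeroDivisors.ne_zero hy (Ideal.Quotient.eq_zero_iff_mem.2 ha)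
  refine ⟨FractionRing (A ⧸ p), inferInstance,
    (algebraMap (A ⧸ p) (FractionRing (A ⧸ p))).comp (Ideal.Quotient.mk p), IsLocalization.lift hu, ?_, ?_⟩
  · ext a
    simp [g]
  · ext a
    rw [RingHom.mem_ker, RingHom.comp_apply, FaithfulSMul.algebraMap_eq_zero_iff, Ideal.Quotient.eq_zero_iff_mem]

/-- locally a map from a reduced scheme onto an antichain factors through a field point -/
theorem exists_nhd_factor_field {P U : Scheme.{u}} (α : P ⟶ U) [AlgebraicGeometry.IsReduced P] [IsLocallyNoetherian U]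
    (hanti : ∀ v v', α v ⤳ α v' → α v = α v') (v : P) :
    ∃ (O : Scheme.{u}) (j : O ⟶ P) (_ : IsOpenImmersion j) (k : Type u) (_ : Field k)
      (χ : O ⟶ Spec (CommRingCat.of k)) (m : Spec (CommRingCat.of k) ⟶ U),
      v ∈ Set.range j ∧ χ ≫ m = j ≫ α := by
  obtain ⟨U₀, hU₀, hαv, -⟩ := exists_isAffineOpen_mem_and_subset (TopologicalSpace.Opens.mem_top (α v))
  obtain ⟨V₀, hV₀, hvV, hle⟩ := exists_isAffineOpen_mem_and_subset (U := α ⁻¹ᵁ U₀) (x := v) hαv
  have hle' : V₀ ≤ α ⁻¹ᵁ U₀ := hle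
  let φ := α.appLE U₀ V₀ hle'
  have e₀ : Spec.map φ ≫ hU₀.fromSpec = hV₀.fromSpec ≫ α := hU₀.SpecMap_appLE_fromSpec α hV₀ hle'
  have hpt : ∀ q : PrimeSpectrum Γ(P, V₀),
      hU₀.fromSpec (PrimeSpectrum.comap φ.hom q) = α (hV₀.fromSpec q) := fun q => by
    show (Spec.map φ ≫ hU₀.fromSpec) q = (hV₀.fromSpec ≫ α) q
    rw [e₀]
  have : IsNoetherianRing Γ(U, U₀) := IsLocallyNoetherian.component_noetherian ⟨U₀, hU₀⟩
  have hA : ∀ q q' : PrimeSpectrum Γ(P, V₀), q.asIdeal.comap φ.hom ≤ q'.asIdeal.comap φ.hom →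
      PrimeSpectrum.comap φ.hom q = PrimeSpectrum.comap φ.hom q' := by
    intro q q' hqq
    have hs : PrimeSpectrum.comap φ.hom q ⤳ PrimeSpectrum.comap φ.hom q' :=
      (PrimeSpectrum.le_iff_specializes _ _).1 hqq
    have hs' := hs.map hU₀.fromSpec.continuous
    rw [hpt, hpt] at hs'
    have e := hanti _ _ hs'
    rw [← hpt, ← hpt] at e
    exact hU₀.fromSpec.isOpenEmbedding.injective e
  have hfin := finite_range_comap_of_antichain φ.hom hA
  obtain ⟨y, hy⟩ : v ∈ Set.range hV₀.fromSpec := by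
    rw [hV₀.range_fromSpec]
    exact hvV
  let p : PrimeSpectrum Γ(U, U₀) := PrimeSpectrum.comap φ.hom y
  classical
  let W : Set (PrimeSpectrum Γ(P, V₀)) := (⋃ x ∈ (hfin.toFinset.erase p : Finset _),
    PrimeSpectrum.comap φ.hom ⁻¹' PrimeSpectrum.zeroLocus (x.asIdeal : Set Γ(U, U₀)))ᶜ
  have hW : IsOpen W := (isClosed_biUnion_finset fun x _ =>
    (PrimeSpectrum.isClosed_zeroLocus _).preimage (PrimeSpectrum.continuous_comap φ.hom)).isOpen_compl
  have hyW : (y : PrimeSpectrum Γ(P, V₀)) ∈ W := by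
    refine fun hmem => ?_
    obtain ⟨x, hx, hxy⟩ := Set.mem_iUnion₂.1 hmem
    rw [Finset.mem_erase, Set.Finite.mem_toFinset] at hx
    obtain ⟨hxp, q, rfl⟩ := hx
    exact hxp (hA q y hxy)
  obtain ⟨_, ⟨g, rfl⟩, hyg, hgW⟩ :=
    PrimeSpectrum.isTopologicalBasis_basic_opens.exists_subset_of_mem_open hyW hW
  have : _root_.IsReduced Γ(P, V₀) := IsReduced.component_reduced V₀
  have : _root_.IsReduced (Localization.Away g) := inferInstance
  have hall : ∀ q : PrimeSpectrum (Localization.Away g),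
      q.asIdeal.comap ((algebraMap Γ(P, V₀) (Localization.Away g)).comp φ.hom) = p.asIdeal := by
    intro q
    let q₀ := PrimeSpectrum.comap (algebraMap Γ(P, V₀) (Localization.Away g)) q
    have hq₀ : q₀ ∈ (PrimeSpectrum.basicOpen g : Set (PrimeSpectrum Γ(P, V₀))) := by
      rw [← PrimeSpectrum.localization_away_comap_range (Localization.Away g) g]
      exact ⟨q, rfl⟩
    have h1 := hgW hq₀
    by_contra hne
    refine h1 (Set.mem_iUnion₂.2 ⟨PrimeSpectrum.comap φ.hom q₀, ?_, fun a ha => ha⟩)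
    rw [Finset.mem_erase, Set.Finite.mem_toFinset]
    exact ⟨fun e => hne (congrArg PrimeSpectrum.asIdeal e), q₀, rfl⟩
  obtain ⟨k, hk, ψ, χ, hψ, -⟩ := exists_factor_field _ p.asIdeal hall
  let j : Spec (CommRingCat.of (Localization.Away g)) ⟶ P :=
    Spec.map (CommRingCat.ofHom (algebraMap Γ(P, V₀) (Localization.Away g))) ≫ hV₀.fromSpec
  refine ⟨_, j, inferInstance, k, hk, Spec.map (CommRingCat.ofHom χ),
    Spec.map (CommRingCat.ofHom ψ) ≫ hU₀.fromSpec, ?_, ?_⟩
  · obtain ⟨q, hq⟩ : (y : PrimeSpectrum Γ(P, V₀)) ∈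
        Set.range (PrimeSpectrum.comap (algebraMap Γ(P, V₀) (Localization.Away g))) := by
      rw [PrimeSpectrum.localization_away_comap_range (Localization.Away g) g]
      exact hyg
    exact ⟨q, (congrArg hV₀.fromSpec hq).trans hy⟩
  · rw [Category.assoc, ← e₀, ← Category.assoc, ← Category.assoc, ← Spec.map_comp, ← Spec.map_comp,
      ← CommRingCat.ofHom_comp, hψ]
    rfl

end Groth.Agent.AlgSpLib
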