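import Groth.Agent.AlgSpLib.LocPMore
import Groth.Agent.SpQS.ConfStrat
import Groth.Agent.SpQS.FieldImm
import Groth.Prelude.Def_AlgSpSub
import Groth.Prelude.Def_AlgSpGpd
import Mathlib.AlgebraicGeometry.Morphisms.FlatMono

/-!
# Points of algebraic spaces: immersions, reduced sources, monomorphic field points, lifts
-/

set_option autoImplicit false

universe u

open CategoryTheory CategoryTheory.Limits AlgebraicGeometry Opposite Topology IsLocalRing

set_option backward.isDefEq.respectTransparency false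

namespace Groth.Agent.AlgSpLib

open _root_.AlgSp

variable {S : Scheme.{u}}

/-- the relation on points induced by a pre-equivalence relation -/
theorem points_equivalence {R U : Sp S} (s t : R ⟶ U) (h : IsPreEqvRelSp s t) :
    _root_.Equivalence (fun x y : Points U => ∃ r : Points R, Points.map t r = x ∧ Points.map s r = y) := by
  refine ⟨fun x => ?_, ?_, ?_⟩
  · obtain ⟨T, a, z, rfl⟩ := exists_ofPt x
    obtain ⟨r, h1, h2⟩ := (h T).refl a
    exact ⟨Points.ofPt r z, by rw [Points.map_ofPt, h1], by rw [Points.map_ofPt, h2]⟩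
  · rintro x y ⟨r, rfl, rfl⟩
    obtain ⟨T, ρ, z, rfl⟩ := exists_ofPt r
    obtain ⟨r', h1, h2⟩ := (h T).symm ⟨ρ, rfl, rfl⟩
    exact ⟨Points.ofPt r' z, by rw [Points.map_ofPt, h1, Points.map_ofPt],
      by rw [Points.map_ofPt, h2, Points.map_ofPt]⟩
  · rintro x y w ⟨r, rfl, hy⟩ ⟨r', rfl, rfl⟩
    obtain ⟨T, ρ, z, rfl⟩ := exists_ofPt r
    obtain ⟨T', ρ', z', rfl⟩ := exists_ofPt r'
    rw [Points.map_ofPt, Points.map_ofPt] at hy
    obtain ⟨K, α, β, k, e, rfl, rfl⟩ := exists_of_ofPt_eq hy
    have hab : ∃ r : (yon S).obj K ⟶ R, r ≫ t = (yon S).map α ≫ ρ ≫ t ∧ r ≫ s = (yon S).map β ≫ ρ' ≫ t :=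
      ⟨(yon S).map α ≫ ρ, Category.assoc _ _ _, by rw [Category.assoc]; exact e⟩
    obtain ⟨r'', h1, h2⟩ := (h K).trans hab ⟨(yon S).map β ≫ ρ', Category.assoc _ _ _, Category.assoc _ _ _⟩
    refine ⟨Points.ofPt r'' k, ?_, ?_⟩
    · rw [Points.map_ofPt, h1, ofPt_comp, Points.map_ofPt]
    · rw [Points.map_ofPt, h2, ← Category.assoc, Category.assoc, ofPt_comp, Points.map_ofPt]

/-- the chart of an immersion -/
theorem immersion_topology {Z X : Sp S} (hX : IsAlgSpace X) {i : Z ⟶ X} (hi : RepWith @IsImmersion i) :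
    IsEmbedding (Points.map i) ∧ IsLocallyClosed (Set.range (Points.map i)) := by
  obtain ⟨U, a, ha, has⟩ := hX.atlas
  obtain ⟨V, c, j, sq, hj⟩ := exists_repWith hi a
  have : IsImmersion j.left := hj
  have hemb : IsEmbedding j.left := j.left.isEmbedding
  have hq : IsOpenMap (Points.ofPt a) := isOpenMap_ofPt (repWith_universallyOpen_of_etale ha)
  have hqs := ofPt_surjective has
  have hcs : Function.Surjective (Points.ofPt c) := fun z => by
    obtain ⟨u, hu⟩ := hqs (Points.map i z)
    obtain ⟨p, hp, -⟩ := exists_point_of_isPullback sq z (Points.ofScheme U u)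
      (by rw [Points.map_ofPt, Category.id_comp, hu])
    obtain ⟨v, rfl⟩ := (Points.schemeEquiv V).surjective p
    exact ⟨v, by rw [← hp]; exact ((Points.map_ofPt (𝟙 _) c v).trans (by rw [Category.id_comp])).symm⟩
  have hcomm : ∀ v, Points.map i (Points.ofPt c v) = Points.ofPt a (j.left v) := fun v => by
    rw [Points.map_ofPt, sq.w, ofPt_comp]
  have hlift : ∀ (z : Points Z) (u : ↥U.left), Points.map i z = Points.ofPt a u →
      ∃ v, Points.ofPt c v = z ∧ j.left v = u := fun z u e => by
    obtain ⟨p, hp, hp'⟩ := exists_point_of_isPullback sq z (Points.ofScheme U u)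
      (by rw [Points.map_ofPt, Category.id_comp, e])
    obtain ⟨v, rfl⟩ := (Points.schemeEquiv V).surjective p
    refine ⟨v, by rw [← hp]; exact ((Points.map_ofPt (𝟙 _) c v).trans (by rw [Category.id_comp])).symm, ?_⟩
    refine (Points.schemeEquiv U).injective ?_
    show Points.ofScheme U (j.left v) = Points.ofScheme U u
    rw [← hp', ← ofScheme_map]
    exact ((Points.map_ofPt (𝟙 _) ((yon S).map j) v).trans (by rw [Category.id_comp])).symm
  refine ⟨⟨⟨?_⟩, fun z₁ z₂ e => ?_⟩, ?_⟩
  · refine le_antisymm (continuous_iff_le_induced.1 (Points.continuous_map i)) fun W hW => ?_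
    obtain ⟨O, hO, hOW⟩ := hemb.isInducing.isOpen_iff.1 (hW.preimage (Points.continuous_ofPt c))
    refine isOpen_induced_iff.2 ⟨Points.ofPt a '' O, hq _ hO, ?_⟩
    ext z
    constructor
    · rintro ⟨u, hu, e⟩
      obtain ⟨v, rfl, rfl⟩ := hlift z u e.symm
      exact (Set.ext_iff.1 hOW v).1 hu
    · intro hz
      obtain ⟨v, rfl⟩ := hcs z
      exact ⟨j.left v, (Set.ext_iff.1 hOW v).2 hz, (hcomm v).symm⟩
  · obtain ⟨v₁, rfl⟩ := hcs z₁
    rw [hcomm] at e
    obtain ⟨v₂, rfl, he⟩ := hlift z₂ _ e.symm
    rw [hemb.injective he]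
  · have hpre : Points.ofPt a ⁻¹' Set.range (Points.map i) = Set.range j.left := by
      ext u
      constructor
      · rintro ⟨z, hz⟩
        obtain ⟨v, -, rfl⟩ := hlift z u hz
        exact ⟨v, rfl⟩
      · rintro ⟨v, rfl⟩
        exact ⟨_, hcomm v⟩
    have h := j.left.isLocallyClosed_range
    rw [← hpre] at h
    rw [isLocallyClosed_iff_isOpen_coborder] at h ⊢
    have hco := coborder_preimage hq (Points.continuous_ofPt a) (Set.range (Points.map i))
    rw [hco] at h
    rw [← hqs.image_preimage (coborder _)]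
    exact hq _ h

/-- a morphism from a reduced space factors through a closed subspace containing its image -/
theorem exists_factor_closed {Y Z X : Sp S} (hX : IsAlgSpace X) {i : Z ⟶ X}
    (hi : RepWith @IsClosedImmersion i) (hY : IsReducedSp Y) (f : Y ⟶ X) :
    (∃ g : Y ⟶ Z, g ≫ i = f) ↔ Set.range (Points.map f) ⊆ Set.range (Points.map i) := by
  constructor
  · rintro ⟨g, rfl⟩ _ ⟨y, rfl⟩
    exact ⟨Points.map g y, (Points.map_comp g i y).symm⟩
  · intro hsub
    obtain ⟨U, π, hπ, hπs, hU⟩ := hY
    have : IsReduced U.left := hU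
    obtain ⟨V, c, j, sq, hj⟩ := exists_repWith hi (π ≫ f)
    have : IsClosedImmersion j.left := hj
    have : Surjective j.left := ⟨fun u => by
      obtain ⟨z, hz⟩ := hsub ⟨Points.ofPt π u, rfl⟩
      rw [Points.map_ofPt] at hz
      obtain ⟨p, -, hp⟩ := exists_point_of_isPullback sq z (Points.ofScheme U u)
        (by rw [Points.map_ofPt, Category.id_comp, hz])
      obtain ⟨v, rfl⟩ := (Points.schemeEquiv V).surjective p
      refine ⟨v, (Points.schemeEquiv U).injective ?_⟩
      show Points.ofScheme U (j.left v) = Points.ofScheme U u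
      rw [← hp, ← ofScheme_map]
      exact ((Points.map_ofPt (𝟙 _) ((yon S).map j) v).trans (by rw [Category.id_comp])).symm⟩
    have : IsIso j.left := isIso_of_isClosedImmersion_of_surjective j.left
    have : IsIso j := by
      have : IsIso ((Over.forget S).map j) := ‹IsIso j.left›
      exact isIso_of_reflects_iso j (Over.forget S)
    have : Mono i := mono_of_repWith_immersion (repWith_mono (fun _ _ g (hg : IsClosedImmersion g) =>
      (inferInstance : IsImmersion g)) hi)
    have comm : π ≫ f = ((yon S).map (inv j) ≫ c) ≫ i := by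
      rw [Category.assoc, sq.w, ← Functor.map_comp_assoc, IsIso.inv_hom_id, CategoryTheory.Functor.map_id,
        Category.id_comp]
    have : Sheaf.IsLocallySurjective π := isLocallySurjective_of_atlas hπ hπs
    have sqP := IsPullback.of_hasPullback f i
    have : Mono (pullback.fst f i) := inferInstance
    have : Epi (pullback.fst f i) :=
      epi_of_epi_fac (pullback.lift_fst π ((yon S).map (inv j) ≫ c) comm)
    have : IsIso (pullback.fst f i) := isIso_of_mono_of_epi _
    exact ⟨CategoryTheory.inv (pullback.fst f i) ≫ pullback.snd f i, by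
      rw [Category.assoc, ← pullback.condition, IsIso.inv_hom_id_assoc]⟩

/-- a monomorphic field point dominates every field point with the same image -/
theorem existsUnique_factor_fieldPt {X : Sp S} (hX : IsAlgSpace X) (p q : FieldPt X)
    (h : Points.mk p = Points.mk q) [Mono p.toHom] :
    ∃! c : q.pt ⟶ p.pt, (yon S).map c ≫ p.toHom = q.toHom := by
  obtain ⟨P, c, d, sq⟩ := exists_pullback hX.diag p.toHom q.toHom
  have : Mono ((yon S).map d) := sq.mono_snd_of_mono
  have hd : Mono d := (yon S).mono_of_mono_map this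
  have : Mono d.left := mono_left d
  have hp : Points.ofPt p.toHom (closedPoint p.K) = Points.ofPt q.toHom (closedPoint q.K) :=
    (mk_eq_ofPt p).symm.trans (h.trans (mk_eq_ofPt q))
  obtain ⟨w, -, -⟩ := (ofPt_eq_iff sq _ _).1 hp
  let dl : P.left ⟶ Spec (CommRingCat.of q.K) := d.left
  have hsub : Subsingleton (Spec (CommRingCat.of q.K)) := inferInstanceAs (Subsingleton (PrimeSpectrum q.K))
  have : Surjective dl := ⟨fun y => ⟨w, Subsingleton.elim _ _⟩⟩
  have : Mono dl := ‹Mono d.left›
  have : Subsingleton P.left := ⟨fun a b => by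
    exact dl.injective (Subsingleton.elim _ _)⟩
  have : QuasiCompact dl := ⟨fun s _ _ => (Set.subsingleton_of_subsingleton.finite).isCompact⟩
  have : IsIso dl := Flat.isIso_of_surjective_of_mono dl
  have : IsIso d := by
    have : IsIso ((Over.forget S).map d) := ‹IsIso dl›
    exact isIso_of_reflects_iso d (Over.forget S)
  have hc : (yon S).map (inv d ≫ c) ≫ p.toHom = q.toHom := by
    rw [Functor.map_comp, Category.assoc, sq.w, ← Functor.map_comp_assoc, IsIso.inv_hom_id,
      CategoryTheory.Functor.map_id, Category.id_comp]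
  refine ⟨inv d ≫ c, hc, fun c' hc' => (yon S).map_injective ?_⟩
  exact (cancel_mono p.toHom).1 (hc'.trans hc.symm)

/-- geometric points lift along etale morphisms through any point of the fibre -/
theorem exists_geometric_lift_etale {U X : Sp S} (hU : IsAlgSpace U) (hX : IsAlgSpace X) {φ : U ⟶ X}
    (hφ : IsEtaleMor φ) (x : FieldPt X) (hx : x.IsGeometric) (u : Points U)
    (hu : Points.map φ u = Points.mk x) :
    ∃ ubar : (yon S).obj x.pt ⟶ U, ubar ≫ φ = x.toHom ∧ Points.ofPt ubar (closedPoint x.K) = u := by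
  have : IsAlgClosed x.K := hx
  obtain ⟨V, b, hb, hbs⟩ := hU.atlas
  obtain ⟨v, rfl⟩ := ofPt_surjective hbs u
  rw [Points.map_ofPt, mk_eq_ofPt] at hu
  have hb' : RepWith @Etale (b ≫ φ) := hφ b hb
  obtain ⟨W, p, q, sq⟩ := exists_pullback hX.diag (b ≫ φ) x.toHom
  have : Etale q.left := (repWith_yon_iff q).1 (repWith_baseChange sq hb')
  obtain ⟨w, hw, -⟩ := (ofPt_eq_iff sq v _).1 hu
  let qk : W.left ⟶ Spec (CommRingCat.of x.K) := q.left
  have : Etale qk := ‹Etale q.left›
  have : LocallyQuasiFinite qk := UnivInjMor.lqf_of_unramified _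
  have hwc : IsClosed ({w} : Set ↥W.left) := by
    have hd := qk.isDiscrete_preimage_singleton (closedPoint x.K)
    rw [show qk ⁻¹' {closedPoint x.K} = Set.univ from
      Set.eq_univ_of_forall fun _ => Subsingleton.elim (α := PrimeSpectrum x.K) _ _] at hd
    have : DiscreteTopology ↥(Set.univ : Set ↥W.left) := isDiscrete_iff_discreteTopology.1 hd
    have : DiscreteTopology ↥W.left := (Homeomorph.Set.univ _).symm.isEmbedding.discreteTopology
    exact isClosed_discrete _
  let l : Spec (CommRingCat.of x.K) ⟶ W.left := pointOfClosedPoint qk w hwc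
  have hl : l ≫ qk = 𝟙 _ := pointOfClosedPoint_comp qk w hwc
  let m : x.pt ⟶ W := Over.homMk l (by
    show l ≫ W.hom = x.str
    rw [← Over.w q, ← Category.assoc]
    exact (congrArg (· ≫ x.pt.hom) hl).trans (Category.id_comp _))
  have hmq : m ≫ q = 𝟙 _ := Over.OverMorphism.ext hl
  have hlw : l (closedPoint x.K) = w := pointOfClosedPoint_apply qk w hwc _
  refine ⟨(yon S).map (m ≫ p) ≫ b, ?_, ?_⟩
  · rw [Category.assoc, Functor.map_comp, Category.assoc, sq.w, ← Functor.map_comp_assoc, hmq,
      CategoryTheory.Functor.map_id, Category.id_comp]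
  · rw [ofPt_comp]
    show Points.ofPt b (p.left (l (closedPoint x.K))) = _
    rw [hlw, hw]

end Groth.Agent.AlgSpLib
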