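import Groth.Agent.AlgSpLib.StalkPoint
import Mathlib.CategoryTheory.Sites.CoverLifting
import Mathlib.CategoryTheory.Sites.CoverPreserving

/-!
# Post-composition with an etale morphism on small etale sites
-/

set_option autoImplicit false

universe u

open CategoryTheory CategoryTheory.Limits AlgebraicGeometry Opposite

set_option backward.isDefEq.respectTransparency false

namespace Groth.Agent.AlgSpLib.PostcompSite

open _root_.AlgSp

variable {S : Scheme.{u}} {X Y : Sp S} (f : X ⟶ Y) (hf : IsEtaleMor f)

/-- lift of an object over the image of an object of the small etale site -/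
noncomputable def lift {E : EtOver X} {W : EtOver Y} (g : W ⟶ (EtOver.postcomp f hf).obj E) : EtOver X :=
  EtOver.mk ((yon S).map g.hom.left ≫ E.obj.hom)
    (repWith_comp ((repWith_yon_iff g.hom.left).2 (EtOver.etale_left g)) E.property)

noncomputable def liftHom {E : EtOver X} {W : EtOver Y} (g : W ⟶ (EtOver.postcomp f hf).obj E) :
    lift f hf g ⟶ E :=
  EtOver.homMk (E := lift f hf g) (E' := E) g.hom.left rfl

noncomputable def liftIso {E : EtOver X} {W : EtOver Y} (g : W ⟶ (EtOver.postcomp f hf).obj E) :
    W ⟶ (EtOver.postcomp f hf).obj (lift f hf g) :=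
  EtOver.homMk (E := W) (E' := (EtOver.postcomp f hf).obj (lift f hf g)) (𝟙 _) (by
    rw [(yon S).map_id]
    erw [Category.id_comp]
    exact (Category.assoc _ _ _).trans (EtOver.w g))

noncomputable def liftInv {E : EtOver X} {W : EtOver Y} (g : W ⟶ (EtOver.postcomp f hf).obj E) :
    (EtOver.postcomp f hf).obj (lift f hf g) ⟶ W :=
  EtOver.homMk (E := (EtOver.postcomp f hf).obj (lift f hf g)) (E' := W) (𝟙 _) (by
    rw [(yon S).map_id]
    erw [Category.id_comp]
    exact ((Category.assoc _ _ _).trans (EtOver.w g)).symm)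

theorem liftIso_map {E : EtOver X} {W : EtOver Y} (g : W ⟶ (EtOver.postcomp f hf).obj E) :
    liftIso f hf g ≫ (EtOver.postcomp f hf).map (liftHom f hf g) = g :=
  EtOver.hom_ext _ _ (Category.id_comp _)

theorem liftInv_comp {E : EtOver X} {W : EtOver Y} (g : W ⟶ (EtOver.postcomp f hf).obj E) :
    liftInv f hf g ≫ g = (EtOver.postcomp f hf).map (liftHom f hf g) :=
  EtOver.hom_ext _ _ (Category.id_comp _)

theorem compatiblePreserving : CompatiblePreserving.{u+1} (etTop Y) (EtOver.postcomp f hf) where
  compatible ℱ Z T x hx Y₁ Y₂ W f₁ f₂ g₁ g₂ hg₁ hg₂ h := by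
    let W' := lift f hf f₁
    let b : W' ⟶ Y₂ := EtOver.homMk (E := W') (E' := Y₂) f₂.hom.left (by
      have e : f₁.hom.left ≫ g₁.hom.left = f₂.hom.left ≫ g₂.hom.left :=
        congrArg (fun q => q.hom.left) h
      show (yon S).map f₂.hom.left ≫ Y₂.obj.hom = (yon S).map f₁.hom.left ≫ Y₁.obj.hom
      rw [← EtOver.w g₁, ← EtOver.w g₂]
      rw [← (yon S).map_comp_assoc, ← (yon S).map_comp_assoc, e])
    have hb : liftIso f hf f₁ ≫ (EtOver.postcomp f hf).map b = f₂ :=
      EtOver.hom_ext _ _ (Category.id_comp _)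
    have key := hx (liftHom f hf f₁) b hg₁ hg₂ (EtOver.hom_ext _ _ (congrArg (fun q => q.hom.left) h))
    conv_lhs => rw [← liftIso_map f hf f₁]
    conv_rhs => rw [← hb]
    simp only [op_comp, Functor.map_comp]
    exact congrArg (ℱ.obj.map (liftIso f hf f₁).op) key

theorem coverPreserving : CoverPreserving (etTop X) (etTop Y) (EtOver.postcomp f hf) where
  cover_preserve {E R} hR := StalkPoint.mem_etTop_of_jointly_surjective _ fun x => by
    obtain ⟨Z, g, hg, hx⟩ := StalkPoint.surjective_of_mem_etTop hR x
    exact ⟨_, (EtOver.postcomp f hf).map g, Sieve.image_mem_functorPushforward _ _ hg, hx⟩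

theorem isContinuous : (EtOver.postcomp f hf).IsContinuous (etTop X) (etTop Y) :=
  Functor.isContinuous_of_coverPreserving (compatiblePreserving f hf) (coverPreserving f hf)

theorem isCocontinuous : (EtOver.postcomp f hf).IsCocontinuous (etTop X) (etTop Y) where
  cover_lift {E R} hR := StalkPoint.mem_etTop_of_jointly_surjective _ fun x => by
    obtain ⟨W, g, hg, hx⟩ := StalkPoint.surjective_of_mem_etTop hR x
    refine ⟨_, liftHom f hf g, ?_, hx⟩
    show R ((EtOver.postcomp f hf).map (liftHom f hf g))
    rw [← liftInv_comp]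
    exact R.downward_closed hg _

end Groth.Agent.AlgSpLib.PostcompSite
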