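import Groth.Agent.AlgSpLib.Quotient

/-!
# Algebraic spaces: presentations
-/

universe u

open CategoryTheory CategoryTheory.Limits AlgebraicGeometry Opposite

set_option backward.isDefEq.respectTransparency false

namespace Groth.Agent.AlgSpLib

open _root_.AlgSp

variable {S : Scheme.{u}}

lemma isEqvRel_of_isPullback {F : Sp S} {R U : Over S} {s t : R ⟶ U} {p : (yon S).obj U ⟶ F}
    (sq : IsPullback ((yon S).map t) ((yon S).map s) p p) : IsEqvRel s t := by
  have key : ∀ (T : Over S) (a b : T ⟶ U),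
      (∃ r : T ⟶ R, r ≫ t = a ∧ r ≫ s = b) ↔ (yon S).map a ≫ p = (yon S).map b ≫ p := by
    intro T a b
    constructor
    · rintro ⟨r, rfl, rfl⟩
      rw [Functor.map_comp, Functor.map_comp, Category.assoc, Category.assoc, sq.w]
    · intro e
      obtain ⟨r, hr⟩ := exists_map_eq (sq.lift _ _ e)
      exact ⟨r, (yon S).map_injective (by rw [Functor.map_comp, hr, sq.lift_fst]),
        (yon S).map_injective (by rw [Functor.map_comp, hr, sq.lift_snd])⟩
  refine ⟨fun T r r' h1 h2 => (yon S).map_injective (sq.hom_ext ?_ ?_), fun T => ?_⟩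
  · rw [← Functor.map_comp, h1, Functor.map_comp]
  · rw [← Functor.map_comp, h2, Functor.map_comp]
  · simp only [key]
    exact ⟨fun _ => rfl, fun e => e.symm, fun e e' => e.trans e'⟩

lemma isEtaleEqvRel_of_isPullback {F : Sp S} {R U : Over S} {s t : R ⟶ U} {p : (yon S).obj U ⟶ F}
    (sq : IsPullback ((yon S).map t) ((yon S).map s) p p) (hp : RepWith @Etale p) :
    IsEtaleEqvRel s t :=
  ⟨isEqvRel_of_isPullback sq, hp.2 p _ s sq, hp.2 p _ t sq.flip⟩

lemma isLocallySurjective_of_atlas {F : Sp S} {U : Over S} {p : (yon S).obj U ⟶ F}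
    (he : RepWith @Etale p) (hs : RepWith @Surjective p) : Sheaf.IsLocallySurjective p :=
  isLocallySurjective_of_repWith p (repWith_mono (fun _ _ f hf => (flat_lfp_of_etale f hf).1) he)
    (repWith_mono (fun _ _ f hf => (flat_lfp_of_etale f hf).2) he) hs

lemma exists_presentation {F : Sp S} (hF : IsAlgSpace F) {U : Over S} {p : (yon S).obj U ⟶ F}
    (he : RepWith @Etale p) (hs : RepWith @Surjective p) :
    ∃ (R : Over S) (s t : R ⟶ U), IsPresentation s t p := by
  obtain ⟨R, t, s, sq⟩ := exists_pullback hF.diag p p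
  exact ⟨R, s, t, isEtaleEqvRel_of_isPullback sq he, he, hs, sq⟩

end Groth.Agent.AlgSpLib
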