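import Groth.Agent.AlgSpLib.Basic
import Groth.Agent.AlgSpLib.SheafLemmas
import Mathlib.CategoryTheory.Sites.Over
import Mathlib.CategoryTheory.Comma.Over.Pullback
import Mathlib.CategoryTheory.Limits.Preserves.Shapes.BinaryProducts

/-!
# Restriction of sheaves along a morphism of base schemes
-/

set_option autoImplicit false

universe u

open CategoryTheory CategoryTheory.Limits AlgebraicGeometry Opposite

set_option backward.isDefEq.respectTransparency false

namespace Groth.Agent.AlgSpLib

open _root_.AlgSp

variable {S S' : Scheme.{u}} (g : S ⟶ S')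

noncomputable abbrev pullS : Sp S' ⥤ Sp S := Scheme.fppfTopology.overMapPullback (Type (u + 1)) g

noncomputable def pullSRep (X' : Over S') :
    ((pullS g).obj ((yon S').obj X')).obj.RepresentableBy (Over.mk (pullback.snd X'.hom g)) where
  homEquiv {T} := ((Over.mapPullbackAdj g).homEquiv T X').symm.trans Equiv.ulift.symm
  homEquiv_comp {T T'} f x := by
    apply ULift.ext
    exact (Over.mapPullbackAdj g).homEquiv_naturality_left_symm f x

noncomputable def pullSIso (X' : Over S') :
    (yon S).obj ((Over.pullback g).obj X') ≅ (pullS g).obj ((yon S').obj X') :=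
  isoOfRepresentableBy (pullSRep g X')

lemma pullSIso_naturality {A B : Over S'} (v : A ⟶ B) :
    (yon S).map ((Over.pullback g).map v) ≫ (pullSIso g B).hom = (pullSIso g A).hom ≫ (pullS g).map ((yon S').map v) := by
  apply Sheaf.hom_ext
  refine NatTrans.ext (funext fun T => ?_)
  ext ⟨x⟩
  apply ULift.ext
  exact (Over.mapPullbackAdj g).homEquiv_naturality_right_symm x v

theorem repWith_pullS (Q : MorphismProperty Scheme.{u}) [Q.IsStableUnderBaseChange] {F G : Sp S'} (f : F ⟶ G)
    (hf : RepWith Q f) : RepWith Q ((pullS g).map f) := by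
  refine repWith_of_exists fun U ξ => ?_
  let U' : Over S' := (Over.map g).obj U
  let η : (yon S').obj U' ⟶ G := (AlgSp.J S').uliftYonedaEquiv.symm ((AlgSp.J S).uliftYonedaEquiv ξ)
  let i : U ⟶ (Over.pullback g).obj U' := (Over.mapPullbackAdj g).unit.app U
  have hi : ((yon S).map i ≫ (pullSIso g U').hom) ≫ (pullS g).map η = ξ := by
    apply (AlgSp.J S).uliftYonedaEquiv.injective
    rw [uliftYonedaEquiv_comp']
    have h1 : (AlgSp.J S).uliftYonedaEquiv ((yon S).map i ≫ (pullSIso g U').hom) =
        (AlgSp.J S').uliftYonedaEquiv (𝟙 ((yon S').obj U')) := by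
      apply ULift.ext
      show ((Over.mapPullbackAdj g).homEquiv U U').symm (𝟙 U ≫ i) = 𝟙 U'
      rw [Category.id_comp, Equiv.symm_apply_eq, Adjunction.homEquiv_id]
    rw [h1]
    refine ((uliftYonedaEquiv_comp' (𝟙 _) η).symm.trans ?_)
    rw [Category.id_comp]
    exact Equiv.apply_symm_apply _ _
  obtain ⟨W, z, v, sq, hv⟩ := exists_repWith hf η
  have sqP := sq.map (pullS g)
  have sqI : IsPullback ((pullSIso g W).hom ≫ (pullS g).map z) ((yon S).map ((Over.pullback g).map v))
      ((pullS g).map f) ((pullSIso g U').hom ≫ (pullS g).map η) :=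
    (IsPullback.of_horiz_isIso ⟨(pullSIso_naturality g v).symm⟩).paste_horiz sqP
  have hv' : Q ((Over.pullback g).map v).left :=
    MorphismProperty.overPullbackMap g v hv
  obtain ⟨R, r, r', sqR⟩ := exists_pullback (IsAlgSpace.yon_obj _).diag
    ((yon S).map ((Over.pullback g).map v)) ((yon S).map i)
  refine ⟨R, (yon S).map r ≫ (pullSIso g W).hom ≫ (pullS g).map z, r', ?_,
    Q.of_isPullback (isPullback_yon_iff.1 sqR) hv'⟩
  have := sqR.paste_horiz sqI
  rwa [← Category.assoc ((yon S).map i), hi] at this

theorem representable_pullS {F G : Sp S'} (f : F ⟶ G) (hf : Representable f) : Representable ((pullS g).map f) :=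
  (repWith_pullS g ⊤ f ⟨hf, fun _ _ _ _ _ _ => trivial⟩).1

theorem isAlgSpace_pullS {F : Sp S'} (hF : IsAlgSpace F) : IsAlgSpace ((pullS g).obj F) where
  diag := by
    have e : (pullS g).map (Limits.diag F) ≫ (Limits.PreservesLimitPair.iso (pullS g) F F).hom =
        Limits.diag ((pullS g).obj F) := by
      ext <;> simp [← Functor.map_comp]
    rw [← e]
    exact MorphismProperty.RespectsIso.postcomp _ _ _ (representable_pullS g _ hF.diag)
  atlas := by
    obtain ⟨U, p, h1, h2⟩ := hF.atlas
    exact ⟨_, (pullSIso g U).hom ≫ (pullS g).map p, (repWith_iso_comp_iff _ _).2 (repWith_pullS g _ p h1),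
      (repWith_iso_comp_iff _ _).2 (repWith_pullS g _ p h2)⟩

end Groth.Agent.AlgSpLib
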