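import Groth.Agent.AlgSpLib.DiagProp
import Groth.Agent.AlgSpLib.Points
import Groth.Agent.AlgSpLib.SepAffine
import Groth.Agent.AlgSpLib.FppfBase

/-!
# Quasi-separatedness from a chart, finiteness of fibres of charts
-/

set_option autoImplicit false

universe u

open CategoryTheory CategoryTheory.Limits AlgebraicGeometry Opposite

set_option backward.isDefEq.respectTransparency false

namespace Groth.Agent.AlgSpLib

open _root_.AlgSp

variable {S : Scheme.{u}}

theorem isQuasiSeparatedSp_of_chart {X : Sp S} (hX : IsAlgSpace X) {R U : Over S}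
    {p : (yon S).obj U ⟶ X} (hp : RepWith @Etale p) (hs : RepWith @Surjective p)
    [QuasiSeparatedSpace ↥U.left] {s t : R ⟶ U}
    (sq : IsPullback ((yon S).map t) ((yon S).map s) p p) [QuasiCompact t.left] :
    IsQuasiSeparatedSp X := by
  have := isLocallySurjective_of_atlas hp hs
  have := isLocallySurjective_prod_map p p
  refine repWith_of_isLocallySurjective hX.diag (isPullback_lift_diag sq) ?_
  have e : prod.lift ((yon S).map t) ((yon S).map s) =
      (yon S).map (prod.lift t s) ≫ prodComparison (yon S) U U := by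
    apply prod.hom_ext <;> simp [prodComparison, ← Functor.map_comp]
  rw [e]
  refine (repWith_comp_iso_iff (P := @QuasiCompact) _ _).2 ((repWith_yon_iff _).2 ?_)
  have hU : QuasiSeparated U.hom := by
    have : QuasiSeparated (terminal.from U.left) := (quasiSeparatedSpace_iff_quasiSeparated U.left).1 ‹_›
    have : QuasiSeparated (U.hom ≫ terminal.from S) := by rwa [terminal.hom_ext (U.hom ≫ _) (terminal.from U.left)]
    exact QuasiSeparated.of_comp U.hom (terminal.from S)
  have : QuasiSeparated (prod.fst : U ⨯ U ⟶ U).left := by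
    rw [show (prod.fst : U ⨯ U ⟶ U).left =
      (Over.prodLeftIsoPullback U U).hom ≫ pullback.fst U.hom U.hom from
        (Over.prodLeftIsoPullback_hom_fst U U).symm]
    infer_instance
  have : QuasiCompact ((prod.lift t s).left ≫ (prod.fst : U ⨯ U ⟶ U).left) := by
    rw [← Over.comp_left, prod.lift_fst]; assumption
  exact QuasiCompact.of_comp (prod.lift t s).left (prod.fst : U ⨯ U ⟶ U).left

theorem finite_fibre_chart {X : Sp S} {R U : Over S} {a : (yon S).obj U ⟶ X} (ha : RepWith @Etale a)
    {s t : R ⟶ U} (sq : IsPullback ((yon S).map t) ((yon S).map s) a a)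
    [QuasiCompact s.left] [QuasiCompact t.left] (x : Points X) :
    (Points.ofPt a ⁻¹' {x}).Finite ∧ (Points.ofPt ((yon S).map t ≫ a) ⁻¹' {x}).Finite := by
  have : Etale s.left := (repWith_yon_iff s).1 (repWith_baseChange sq ha)
  have : Etale t.left := (repWith_yon_iff t).1 (repWith_baseChange sq.flip ha)
  have : LocallyQuasiFinite s.left := FpqcDescent.locallyQuasiFinite_of_etale _
  have : LocallyQuasiFinite t.left := FpqcDescent.locallyQuasiFinite_of_etale _
  have h1 : (Points.ofPt a ⁻¹' {x}).Finite := by
    rcases (Points.ofPt a ⁻¹' {x}).eq_empty_or_nonempty with h | ⟨u₀, hu₀⟩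
    · rw [h]; exact Set.finite_empty
    refine ((s.left.finite_preimage_singleton u₀).image t.left).subset fun u hu => ?_
    obtain ⟨r, hr1, hr2⟩ := (ofPt_eq_iff sq u u₀).1 (Eq.trans hu hu₀.symm)
    exact ⟨r, hr2, hr1⟩
  refine ⟨h1, ?_⟩
  have e : Points.ofPt ((yon S).map t ≫ a) ⁻¹' {x} = t.left ⁻¹' (Points.ofPt a ⁻¹' {x}) := by
    ext r
    simp only [Set.mem_preimage, ofPt_comp]
  rw [e]
  exact h1.preimage' fun u _ => t.left.finite_preimage_singleton u

end Groth.Agent.AlgSpLib
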