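import Groth.Agent.AlgSpLib.Atlas
import Groth.Agent.AlgSpLib.Quot
import Groth.Agent.AlgSpLib.Sigma

/-!
# Algebraic spaces: quotients by etale equivalence relations
-/

universe u

open CategoryTheory CategoryTheory.Limits AlgebraicGeometry Opposite

set_option backward.isDefEq.respectTransparency false

namespace Groth.Agent.AlgSpLib

open _root_.AlgSp

variable {S : Scheme.{u}}

/-- a locally surjective map from a scheme with kernel pair an etale scheme relation is an atlas -/
theorem atlas_of_isLocallySurjective {F : Sp S} {R U : Over S} {p : (yon S).obj U ⟶ F}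
    [Sheaf.IsLocallySurjective p] {s t : R ⟶ U}
    (sq : IsPullback ((yon S).map t) ((yon S).map s) p p) (hs : Etale s.left) :
    IsAlgSpace F ∧ RepWith @Etale p ∧ RepWith @Surjective p := by
  have : Mono (prod.lift t s) := ⟨fun a b e => (yon S).map_injective (sq.hom_ext
    (by simpa using congrArg (fun k => (yon S).map (k ≫ prod.fst)) e)
    (by simpa using congrArg (fun k => (yon S).map (k ≫ prod.snd)) e))⟩
  have : Mono (prod.lift t s).left := mono_left _
  have hv : indQA (prod.lift t s).left := indQA_of_mono_of_comp _ (prod.snd : U ⨯ U ⟶ U).left (by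
    rw [← Over.comp_left, prod.lift_snd]; exact hs)
  have hΔ : Representable (Limits.diag F) := by
    refine representable_of_indQA (Limits.diag F) (b := prod.map p p) ?_ (isPullback_lift_diag sq) ?_
    · intro T ξ
      obtain ⟨A, a, α, ha₁, ha₂, ha₃, hα⟩ := exists_fppf_lift p (ξ ≫ prod.fst)
      obtain ⟨B, b, β, hb₁, hb₂, hb₃, hβ⟩ := exists_fppf_lift p ((yon S).map a ≫ ξ ≫ prod.snd)
      refine ⟨B, b ≫ a, prod.lift ((yon S).map b ≫ α) β,
        MorphismProperty.comp_mem @Flat b.left a.left hb₁ ha₁,
        MorphismProperty.comp_mem @Surjective b.left a.left hb₂ ha₂,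
        MorphismProperty.comp_mem @LocallyOfFinitePresentation b.left a.left hb₃ ha₃, ?_⟩
      apply prod.hom_ext
      · rw [prod.lift_map, prod.lift_fst, Category.assoc, hα]
        simp only [Functor.map_comp, Category.assoc]
      · rw [prod.lift_map, prod.lift_snd, hβ]
        simp only [Functor.map_comp, Category.assoc]
    · have e : prod.lift ((yon S).map t) ((yon S).map s) =
          (yon S).map (prod.lift t s) ≫ prodComparison (yon S) U U := by
        apply prod.hom_ext <;> simp [prodComparison, ← Functor.map_comp]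
      rw [e]
      exact (repWith_comp_iso_iff (P := indQA) _ _).2 ((repWith_yon_iff _).2 hv)
  have hp : Representable p := Functor.relativelyRepresentable.of_diag hΔ p
  have he : RepWith @Etale p := repWith_of_isLocallySurjective hp sq ((repWith_yon_iff _).2 hs)
  obtain ⟨e, he'⟩ := exists_map_eq (sq.lift (𝟙 _) (𝟙 _) rfl)
  have hes : e ≫ s = 𝟙 U := (yon S).map_injective (by
    rw [Functor.map_comp, he', sq.lift_snd, (yon S).map_id])
  have hss : Surjective s.left := ⟨fun x => ⟨e.left x, congr($(congrArg (fun k : U ⟶ U => k.left) hes) x)⟩⟩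
  have hsu : RepWith @Surjective p := repWith_of_isLocallySurjective hp sq ((repWith_yon_iff _).2 hss)
  exact ⟨⟨hΔ, U, p, he, hsu⟩, he, hsu⟩

/-- the coequalizer of an etale equivalence relation is an algebraic space presented by it -/
theorem isPresentation_of_coequalizer {F : Sp S} {R U : Over S} {s t : R ⟶ U}
    {p : (yon S).obj U ⟶ F} (h : IsEtaleEqvRel s t) {w : (yon S).map t ≫ p = (yon S).map s ≫ p}
    (hc : IsColimit (Cofork.ofπ p w)) : IsAlgSpace F ∧ IsPresentation s t p := by
  have : Epi p := Cofork.IsColimit.epi hc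
  have : Sheaf.IsLocallySurjective p := (Sheaf.isLocallySurjective_iff_epi _).2 inferInstance
  have sq := isPullback_of_coequalizer h.toIsEqvRel hc
  obtain ⟨hA, he, hs⟩ := atlas_of_isLocallySurjective sq h.etale_left
  exact ⟨hA, ⟨h, he, hs, sq⟩⟩

/-- `repIsoUliftYoneda` is natural -/
lemma repIso_inv_naturality {V W : Over S} (g : V ⟶ W) :
    (QuotSh.repIsoUliftYoneda Scheme.fppfPrecoverage V).inv ≫ QuotSh.repMap Scheme.fppfPrecoverage g =
      (yon S).map g ≫ (QuotSh.repIsoUliftYoneda Scheme.fppfPrecoverage W).inv := by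
  apply Sheaf.hom_ext
  exact (toSheafify_naturality _ ((yon S).map g).hom).symm

/-- the quotient map from the Yoneda sheaf -/
noncomputable def quotProj {R U : Over S} (s t : R ⟶ U) :
    (yon S).obj U ⟶ QuotSh.quot Scheme.fppfPrecoverage s t :=
  (QuotSh.repIsoUliftYoneda Scheme.fppfPrecoverage U).inv ≫ QuotSh.quotπ Scheme.fppfPrecoverage s t

lemma quotProj_condition {R U : Over S} (s t : R ⟶ U) :
    (yon S).map t ≫ quotProj s t = (yon S).map s ≫ quotProj s t := by
  rw [quotProj, ← Category.assoc, ← repIso_inv_naturality, ← Category.assoc, ← repIso_inv_naturality,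
    Category.assoc, Category.assoc, QuotSh.quot_condition]

/-- the quotient sheaf is the coequalizer in Yoneda sheaves -/
noncomputable def isColimitQuotProj {R U : Over S} (s t : R ⟶ U) :
    IsColimit (Cofork.ofπ (quotProj s t) (quotProj_condition s t)) := by
  let eU := QuotSh.repIsoUliftYoneda Scheme.fppfPrecoverage U
  let eR := QuotSh.repIsoUliftYoneda Scheme.fppfPrecoverage R
  have key : ∀ c : Cofork ((yon S).map t) ((yon S).map s),
      QuotSh.repMap Scheme.fppfPrecoverage s ≫ eU.hom ≫ c.π =
        QuotSh.repMap Scheme.fppfPrecoverage t ≫ eU.hom ≫ c.π := by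
    intro c
    rw [← cancel_epi eR.inv, ← Category.assoc eR.inv, ← Category.assoc eR.inv, repIso_inv_naturality,
      repIso_inv_naturality, Category.assoc, Category.assoc, Iso.inv_hom_id_assoc]
    exact c.condition.symm
  refine Cofork.IsColimit.mk _ (fun c => coequalizer.desc (eU.hom ≫ c.π) (key c))
    (fun c => ?_) (fun c m hm => ?_)
  · show (eU.inv ≫ coequalizer.π _ _) ≫ coequalizer.desc _ _ = _
    rw [Category.assoc, coequalizer.π_desc, Iso.inv_hom_id_assoc]
  · let d : QuotSh.quot Scheme.fppfPrecoverage s t ⟶ c.pt := coequalizer.desc (eU.hom ≫ c.π) (key c)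
    let m' : QuotSh.quot Scheme.fppfPrecoverage s t ⟶ c.pt := m
    show m' = d
    have hm' : (eU.inv ≫ QuotSh.quotπ Scheme.fppfPrecoverage s t) ≫ m' = c.π := hm
    refine coequalizer.hom_ext ?_
    show QuotSh.quotπ Scheme.fppfPrecoverage s t ≫ m' = QuotSh.quotπ Scheme.fppfPrecoverage s t ≫ d
    rw [show QuotSh.quotπ Scheme.fppfPrecoverage s t ≫ d = eU.hom ≫ c.π from coequalizer.π_desc _ _,
      ← cancel_epi eU.inv, Iso.inv_hom_id_assoc, ← Category.assoc]
    exact hm'

end Groth.Agent.AlgSpLib
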