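import Groth.Agent.AlgSpLib.Space

/-!
# Algebraic spaces: formal properties of maps of presheaves representable by algebraic spaces
-/

universe u

open CategoryTheory CategoryTheory.Limits AlgebraicGeometry Opposite

set_option backward.isDefEq.respectTransparency false

namespace Groth.Agent.AlgSpLib

open _root_.AlgSp

variable {S : Scheme.{u}}

/-- sections as maps from representables -/
abbrev sEq {F : PSp S} {U : Over S} : ((pyon S).obj U ⟶ F) ≃ F.obj (op U) :=
  CategoryTheory.uliftYonedaEquiv.{u + 1}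

lemma sEq_comp {F G : PSp S} {U : Over S} (z : (pyon S).obj U ⟶ F) (a : F ⟶ G) :
    sEq (z ≫ a) = a.app (op U) (sEq z) := rfl

lemma sEq_naturality {F : PSp S} {T V : Over S} (z : (pyon S).obj T ⟶ F) (g : V ⟶ T) :
    F.map g.op (sEq z) = sEq ((pyon S).map g ≫ z) :=
  CategoryTheory.uliftYonedaEquiv_naturality (X := op T) (Y := op V) z g.op

lemma pyon_map_naturality {F : PSp S} {T V : Over S} (g : V ⟶ T) (y : F.obj (op T)) :
    sEq.symm (F.map g.op y) = (pyon S).map g ≫ sEq.symm y := by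
  apply sEq.injective
  rw [Equiv.apply_symm_apply, ← sEq_naturality, Equiv.apply_symm_apply]

/-- the source of a map with sheaf fibres over schemes to a sheaf is a sheaf -/
theorem isSheaf_of_fibres {F G : PSp S} (a : F ⟶ G)
    (ha : ∀ ⦃U : Over S⦄ (ξ : (pyon S).obj U ⟶ G), Presheaf.IsSheaf (J S) (pullback a ξ))
    (hG : Presheaf.IsSheaf (J S) G) : Presheaf.IsSheaf (J S) F := by
  have hG' := (isSheaf_iff_isSheaf_of_type _ _).1 hG
  have hnat : ∀ {V W : Over S} (k : W ⟶ V) (x : F.obj (op V)),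
      a.app (op W) (F.map k.op x) = G.map k.op (a.app (op V) x) := fun k x =>
    NatTrans.naturality_apply a k.op x
  have hcomp : ∀ {V : Over S} (x : F.obj (op V)),
      sEq.symm x ≫ a = sEq.symm (a.app (op V) x) := fun x => by
    apply sEq.injective
    rw [sEq_comp, Equiv.apply_symm_apply, Equiv.apply_symm_apply]
  rw [isSheaf_iff_isSheaf_of_type]
  intro T R hR
  rw [← Presieve.isSeparatedFor_and_exists_isAmalgamation_iff_isSheafFor]
  have mkPt : ∀ (y : G.obj (op T)) {V : Over S} (i : V ⟶ T) (x : F.obj (op V)),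
      a.app (op V) x = G.map i.op y → ∃ z : (pyon S).obj V ⟶ pullback a (sEq.symm y),
        z ≫ pullback.fst _ _ = sEq.symm x ∧ z ≫ pullback.snd _ _ = (pyon S).map i :=
    fun y V i x e => ⟨pullback.lift (sEq.symm x) ((pyon S).map i)
      (by rw [hcomp, e, pyon_map_naturality]), pullback.lift_fst _ _ _, pullback.lift_snd _ _ _⟩
  constructor
  · intro x t₁ t₂ h₁ h₂
    have e : a.app (op T) t₁ = a.app (op T) t₂ := (hG' R hR).isSeparatedFor.ext fun V i hi => by
      rw [← hnat, ← hnat, h₁ i hi, h₂ i hi]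
    obtain ⟨z₁, hz₁, hz₁'⟩ := mkPt (a.app (op T) t₂) (𝟙 T) t₁ (by simp [e])
    obtain ⟨z₂, hz₂, hz₂'⟩ := mkPt (a.app (op T) t₂) (𝟙 T) t₂ (by simp)
    have hz : z₁ = z₂ := by
      apply sEq.injective
      refine ((isSheaf_iff_isSheaf_of_type _ _).1 (ha _) R hR).isSeparatedFor.ext fun V i hi => ?_
      rw [sEq_naturality, sEq_naturality]
      congr 1
      apply pullback.hom_ext
      · rw [Category.assoc, Category.assoc, hz₁, hz₂, ← pyon_map_naturality, ← pyon_map_naturality,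
          h₁ i hi, h₂ i hi]
      · rw [Category.assoc, Category.assoc, hz₁', hz₂']
    exact sEq.symm.injective (hz₁.symm.trans ((congrArg (· ≫ _) hz).trans hz₂))
  · intro x hx
    let yf : Presieve.FamilyOfElements G R.arrows := fun V i hi => a.app (op V) (x i hi)
    have hyf : yf.Compatible := fun V₁ V₂ W g₁ g₂ f₁ f₂ m₁ m₂ e =>
      (hnat g₁ _).symm.trans ((congrArg _ (hx g₁ g₂ m₁ m₂ e)).trans (hnat g₂ _))
    obtain ⟨y, hy, -⟩ := hG' R hR yf hyf
    choose z hz hz' using fun V (i : V ⟶ T) (hi : R i) => mkPt y i (x i hi) (hy i hi).symm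
    let zf : Presieve.FamilyOfElements (pullback a (sEq.symm y)) R.arrows :=
      fun V i hi => sEq (z V i hi)
    have hzf : zf.Compatible := fun V₁ V₂ W g₁ g₂ f₁ f₂ m₁ m₂ e => by
      simp only [zf]
      rw [sEq_naturality, sEq_naturality]
      congr 1
      apply pullback.hom_ext
      · rw [Category.assoc, Category.assoc, hz, hz, ← pyon_map_naturality, ← pyon_map_naturality,
          hx g₁ g₂ m₁ m₂ e]
      · rw [Category.assoc, Category.assoc, hz', hz', ← Functor.map_comp, ← Functor.map_comp, e]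
    obtain ⟨w, hw, -⟩ := (isSheaf_iff_isSheaf_of_type _ _).1 (ha _) R hR zf hzf
    refine ⟨(pullback.fst a (sEq.symm y)).app (op T) w, fun V i hi => ?_⟩
    rw [← NatTrans.naturality_apply, hw i hi]
    simp only [zf]
    rw [← sEq_comp, hz, Equiv.apply_symm_apply]

/-- the source of a map representable by algebraic spaces to a sheaf is a sheaf -/
theorem isSheaf_of_repBySp {F G : PSp S} {a : F ⟶ G} (ha : RepBySp a)
    (hG : Presheaf.IsSheaf (J S) G) : Presheaf.IsSheaf (J S) F :=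
  isSheaf_of_fibres a (fun _ ξ => (ha ξ _ _ (IsPullback.of_hasPullback a ξ)).1) hG

/-- representability by schemes implies representability by algebraic spaces -/
theorem repBySp_of_relativelyRepresentable {F G : PSp S} {a : F ⟶ G}
    (ha : (pyon S).relativelyRepresentable a) : RepBySp a := by
  intro U ξ F' fst snd sq
  obtain ⟨V, snd', fst', sq'⟩ := ha ξ
  exact (show IsAlgSpaceP ((pyon S).obj V) from ⟨((yon S).obj V).property, IsAlgSpace.yon_obj V⟩).of_iso
    (sq'.isoIsPullback _ _ sq)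

theorem isAlgSpaceP_of_repBySp {F G : PSp S} {a : F ⟶ G} (ha : RepBySp a) (hG : IsAlgSpaceP G) :
    IsAlgSpaceP F := by
  obtain ⟨hG₁, hG₂⟩ := hG
  have hF := isSheaf_of_repBySp ha hG₁
  exact ⟨hF, isAlgSpace_of_repBySp (F := ⟨F, hF⟩) (G := ⟨G, hG₁⟩) (f := ObjectProperty.homMk a) ha hG₂⟩

instance repBySp_isStableUnderBaseChange : (RepBySp (S := S)).IsStableUnderBaseChange where
  of_isPullback sq h := fun _ _ _ _ _ sq' => h _ _ _ (sq'.paste_horiz sq)

theorem repBySp_comp {F G H : PSp S} {a : F ⟶ G} {b : G ⟶ H} (ha : RepBySp a) (hb : RepBySp b) :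
    RepBySp (a ≫ b) := by
  intro U ξ F' fst snd sq
  have sqb := IsPullback.of_hasPullback b ξ
  let c : F' ⟶ pullback b ξ := pullback.lift (fst ≫ a) snd (by rw [Category.assoc]; exact sq.w)
  have sqc : IsPullback fst c a (pullback.fst b ξ) := by
    refine IsPullback.of_bot ?_ (pullback.lift_fst _ _ _).symm sqb
    rw [pullback.lift_snd]
    exact sq
  exact isAlgSpaceP_of_repBySp ((RepBySp (S := S)).of_isPullback sqc ha) (hb ξ _ _ sqb)

instance repBySp_isStableUnderComposition : (RepBySp (S := S)).IsStableUnderComposition :=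
  ⟨fun _ _ => repBySp_comp⟩

theorem isAlgSpaceP_yon (U : Over S) : IsAlgSpaceP ((pyon S).obj U) :=
  ⟨((yon S).obj U).property, IsAlgSpace.yon_obj U⟩

/-- maps from algebraic spaces to sheaves with representable diagonal, at presheaf level -/
theorem repBySp_of_space {F G : PSp S} (hF : IsAlgSpaceP F) (hG : IsAlgSpaceP G) (a : F ⟶ G) :
    RepBySp a := by
  obtain ⟨hF₁, hF₂⟩ := hF
  obtain ⟨hG₁, hG₂⟩ := hG
  exact repBySp_of_isAlgSpace (F := ⟨F, hF₁⟩) (G := ⟨G, hG₁⟩) hF₂ hG₂ (ObjectProperty.homMk a)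

theorem isAlgSpaceP_of_isPullback {H X Y P : PSp S} (hH : IsAlgSpaceP H) (hX : IsAlgSpaceP X)
    (hY : IsAlgSpaceP Y) {f : X ⟶ H} {g : Y ⟶ H} {fst : P ⟶ X} {snd : P ⟶ Y}
    (h : IsPullback fst snd f g) : IsAlgSpaceP P :=
  isAlgSpaceP_of_repBySp ((RepBySp (S := S)).of_isPullback h (repBySp_of_space hX hH f)) hY

/-- the diagonal of a map representable by algebraic spaces -/
theorem repBySp_diagonal {F G : PSp S} {a : F ⟶ G} (ha : RepBySp a) : RepBySp (pullback.diagonal a) := by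
  intro U ξ F' fst snd sq
  let ξ₁ := ξ ≫ pullback.fst a a
  let ξ₂ := ξ ≫ pullback.snd a a
  have e₂ : ξ₂ ≫ a = ξ₁ ≫ a := by simp only [ξ₁, ξ₂, Category.assoc, pullback.condition]
  let η := ξ₁ ≫ a
  have sqA := IsPullback.of_hasPullback a η
  have hA := ha η _ _ sqA
  let s₁ : (pyon S).obj U ⟶ pullback a η := pullback.lift ξ₁ (𝟙 _) (Category.id_comp _).symm
  let s₂ : (pyon S).obj U ⟶ pullback a η := pullback.lift ξ₂ (𝟙 _) (e₂.trans (Category.id_comp _).symm)
  have hs₁ : s₁ ≫ pullback.fst a η = ξ₁ := pullback.lift_fst _ _ _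
  have hs₁' : s₁ ≫ pullback.snd a η = 𝟙 _ := pullback.lift_snd _ _ _
  have hs₂ : s₂ ≫ pullback.fst a η = ξ₂ := pullback.lift_fst _ _ _
  have hs₂' : s₂ ≫ pullback.snd a η = 𝟙 _ := pullback.lift_snd _ _ _
  have w₁ : fst = snd ≫ ξ₁ := by
    simpa [ξ₁] using congrArg (fun k => k ≫ pullback.fst a a) sq.w
  have w₂ : fst = snd ≫ ξ₂ := by
    simpa [ξ₂] using congrArg (fun k => k ≫ pullback.snd a a) sq.w
  have hw : snd ≫ s₁ = snd ≫ s₂ := by
    apply pullback.hom_ext
    · simp only [Category.assoc, hs₁, hs₂, ← w₁, ← w₂]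
    · simp only [Category.assoc, hs₁', hs₂']
  have key : ∀ {X : PSp S} (p q : X ⟶ (pyon S).obj U), p ≫ s₁ = q ≫ s₂ →
      p = q ∧ p ≫ ξ₁ = p ≫ ξ₂ := by
    intro X p q e
    have h2 : p = q := by
      simpa [hs₁', hs₂'] using congrArg (fun k => k ≫ pullback.snd a η) e
    subst h2
    exact ⟨rfl, by simpa [hs₁, hs₂] using congrArg (fun k => k ≫ pullback.fst a η) e⟩
  have hd : ∀ {X : PSp S} (p : X ⟶ (pyon S).obj U), p ≫ ξ₁ = p ≫ ξ₂ →
      (p ≫ ξ₁) ≫ pullback.diagonal a = p ≫ ξ := fun p e => by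
    apply pullback.hom_ext
    · simp [ξ₁]
    · simpa [ξ₂] using e
  have sqs : IsPullback snd snd s₁ s₂ := by
    refine ⟨⟨hw⟩, ⟨PullbackCone.IsLimit.mk hw
      (fun c => sq.lift (c.fst ≫ ξ₁) c.fst (hd _ (key _ _ c.condition).2))
      (fun c => sq.lift_snd _ _ _)
      (fun c => (sq.lift_snd _ _ _).trans (key _ _ c.condition).1)
      (fun c m h₁ h₂ => sq.hom_ext ?_ ?_)⟩⟩
    · rw [sq.lift_fst, w₁, ← Category.assoc, h₁]
    · rw [sq.lift_snd, h₁]
  exact isAlgSpaceP_of_isPullback hA (isAlgSpaceP_yon U) (isAlgSpaceP_yon U) sqs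

theorem repBySp_of_comp {F G H : PSp S} {a : F ⟶ G} {b : G ⟶ H}
    (hΔ : RepBySp (pullback.diagonal b)) (hab : RepBySp (a ≫ b)) : RepBySp a := by
  have h1 := IsPullback.of_hasPullback (a ≫ b) b
  let γ : F ⟶ pullback (a ≫ b) b := pullback.lift (𝟙 F) a (Category.id_comp _)
  have hγ₁ : γ ≫ pullback.fst (a ≫ b) b = 𝟙 F := pullback.lift_fst _ _ _
  have hγ₂ : γ ≫ pullback.snd (a ≫ b) b = a := pullback.lift_snd _ _ _
  let m : pullback (a ≫ b) b ⟶ pullback b b :=
    pullback.lift (pullback.fst _ _ ≫ a) (pullback.snd _ _)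
      (by rw [Category.assoc]; exact pullback.condition)
  have sqm : IsPullback (pullback.fst (a ≫ b) b) m a (pullback.fst b b) := by
    refine IsPullback.of_bot ?_ (pullback.lift_fst _ _ _).symm (IsPullback.of_hasPullback b b)
    rw [pullback.lift_snd]
    exact h1
  have sqγ : IsPullback a γ (pullback.diagonal b) m := by
    refine IsPullback.of_bot ?_ ?_ sqm.flip
    · rw [hγ₁, pullback.diagonal_fst]
      exact IsPullback.of_vert_isIso ⟨by simp⟩
    · apply pullback.hom_ext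
      · simp [m, reassoc_of% hγ₁]
      · simp [m, hγ₂]
  rw [← hγ₂]
  exact repBySp_comp ((RepBySp (S := S)).of_isPullback sqγ hΔ) ((RepBySp (S := S)).of_isPullback h1.flip.flip hab)

theorem repBySp_of_isIso {F G : PSp S} (e : F ⟶ G) [IsIso e] : RepBySp e :=
  repBySp_of_relativelyRepresentable (Functor.relativelyRepresentable.of_isIso _ e)

end Groth.Agent.AlgSpLib
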