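import Groth.Agent.AlgSpLib.RepBySp

/-!
# Algebraic spaces: diagonals and products of maps representable by algebraic spaces
-/

universe u

open CategoryTheory CategoryTheory.Limits AlgebraicGeometry Opposite

set_option backward.isDefEq.respectTransparency false

namespace Groth.Agent.AlgSpLib

open _root_.AlgSp

variable {S : Scheme.{u}}

lemma isPullback_prod_map_fst {C : Type*} [Category C] [HasBinaryProducts C] {A B : C} (a : A ⟶ B) (X : C) :
    IsPullback (prod.fst : A ⨯ X ⟶ A) (prod.map a (𝟙 X)) a (prod.fst : B ⨯ X ⟶ B) := by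
  have w : (prod.fst : A ⨯ X ⟶ A) ≫ a = prod.map a (𝟙 X) ≫ prod.fst := by simp
  refine ⟨⟨w⟩, ⟨PullbackCone.IsLimit.mk w (fun s => prod.lift s.fst (s.snd ≫ prod.snd))
    (fun s => prod.lift_fst _ _) (fun s => ?_) (fun s m h₁ h₂ => ?_)⟩⟩
  · apply prod.hom_ext
    · simpa using s.condition
    · simp
  · apply prod.hom_ext
    · simpa using h₁
    · simpa using congrArg (· ≫ prod.snd) h₂

lemma isPullback_prod_map_snd {C : Type*} [Category C] [HasBinaryProducts C] {A B : C} (a : A ⟶ B) (X : C) :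
    IsPullback (prod.snd : X ⨯ A ⟶ A) (prod.map (𝟙 X) a) a (prod.snd : X ⨯ B ⟶ B) := by
  have w : (prod.snd : X ⨯ A ⟶ A) ≫ a = prod.map (𝟙 X) a ≫ prod.snd := by simp
  refine ⟨⟨w⟩, ⟨PullbackCone.IsLimit.mk w (fun s => prod.lift (s.snd ≫ prod.fst) s.fst)
    (fun s => prod.lift_snd _ _) (fun s => ?_) (fun s m h₁ h₂ => ?_)⟩⟩
  · apply prod.hom_ext
    · simp
    · simpa using s.condition
  · apply prod.hom_ext
    · simpa using congrArg (· ≫ prod.fst) h₂
    · simpa using h₁

theorem repBySp_prod_map {F₁ G₁ F₂ G₂ : PSp S} {a₁ : F₁ ⟶ G₁} {a₂ : F₂ ⟶ G₂} (h₁ : RepBySp a₁)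
    (h₂ : RepBySp a₂) : RepBySp (prod.map a₁ a₂) := by
  rw [show prod.map a₁ a₂ = prod.map a₁ (𝟙 F₂) ≫ prod.map (𝟙 G₁) a₂ by simp [prod.map_map]]
  exact repBySp_comp ((RepBySp (S := S)).of_isPullback (isPullback_prod_map_fst a₁ F₂) h₁)
    ((RepBySp (S := S)).of_isPullback (isPullback_prod_map_snd a₂ G₁) h₂)

/-- the diagonal of a presheaf and maps from schemes to it -/
theorem repBySp_diag_iff (F : PSp S) :
    RepBySp (Limits.diag F) ↔ ∀ (T : Over S) (ξ : (pyon S).obj T ⟶ F), RepBySp ξ := by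
  constructor
  · intro h T ξ U η F' fst snd sq
    have h1 := isPullback_lift_diag sq
    have hP : IsAlgSpaceP ((pyon S).obj T ⨯ (pyon S).obj U) :=
      (isAlgSpaceP_yon (T ⨯ U)).of_iso (asIso (prodComparison (pyon S) T U))
    exact isAlgSpaceP_of_repBySp ((RepBySp (S := S)).of_isPullback h1 h) hP
  · intro h U ξ F' fst snd sq
    have sqW := IsPullback.of_hasPullback (ξ ≫ prod.fst) (ξ ≫ prod.snd)
    have hW := h U (ξ ≫ prod.fst) (ξ ≫ prod.snd) _ _ sqW
    have h1 := isPullback_lift_diag sqW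
    have e : Limits.diag ((pyon S).obj U) ≫ prod.map (ξ ≫ prod.fst) (ξ ≫ prod.snd) = ξ := by
      apply prod.hom_ext <;> simp
    have w₁ : fst = snd ≫ ξ ≫ prod.fst := by simpa using congrArg (fun m => m ≫ prod.fst) sq.w
    have w₂ : fst = snd ≫ ξ ≫ prod.snd := by simpa using congrArg (fun m => m ≫ prod.snd) sq.w
    let k : F' ⟶ pullback (ξ ≫ prod.fst) (ξ ≫ prod.snd) := pullback.lift snd snd (w₁.symm.trans w₂)
    have hk : k ≫ prod.lift (pullback.fst _ _) (pullback.snd _ _) = snd ≫ Limits.diag ((pyon S).obj U) := by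
      apply prod.hom_ext <;> simp [k]
    have sqk : IsPullback k snd (prod.lift (pullback.fst (ξ ≫ prod.fst) (ξ ≫ prod.snd))
        (pullback.snd (ξ ≫ prod.fst) (ξ ≫ prod.snd))) (Limits.diag ((pyon S).obj U)) := by
      refine IsPullback.of_right ?_ hk h1
      rw [e, show k ≫ pullback.fst _ _ ≫ ξ ≫ prod.fst = fst from by
        rw [← Category.assoc, pullback.lift_fst]
        exact w₁.symm]
      exact sq
    have hP : IsAlgSpaceP ((pyon S).obj U ⨯ (pyon S).obj U) :=
      (isAlgSpaceP_yon (U ⨯ U)).of_iso (asIso (prodComparison (pyon S) U U))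
    exact isAlgSpaceP_of_isPullback hP hW (isAlgSpaceP_yon U) sqk

end Groth.Agent.AlgSpLib
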