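import Groth.Prelude.Def_Desc
import Groth.Agent.AlgSpLib.SheafLemmas

/-!
# Algebraic spaces: the descent datum of a sheaf over a scheme that is a scheme over a cover
-/

universe u

open CategoryTheory CategoryTheory.Limits AlgebraicGeometry Opposite

set_option backward.isDefEq.respectTransparency false

namespace Groth.Agent.AlgSpLib.RepDatum

open _root_.AlgSp

variable {S : Scheme.{u}} {Z : Sp S} {T T' V : Over S} {h : T' ⟶ T} {π : Z ⟶ (yon S).obj T}
  {z : (yon S).obj V ⟶ Z} {v : V ⟶ T'} (sq : IsPullback z ((yon S).map v) π ((yon S).map h))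

include sq in
lemma pt_ext {X : Over S} {a b : X ⟶ V} (e₁ : a ≫ v = b ≫ v)
    (e₂ : (yon S).map a ≫ z = (yon S).map b ≫ z) : a = b :=
  (yon S).map_injective (sq.hom_ext e₂ (by rw [← Functor.map_comp, e₁, Functor.map_comp]))

include sq in
lemma exists_pt {X : Over S} (x : X ⟶ T') (ζ : (yon S).obj X ⟶ Z) (e : ζ ≫ π = (yon S).map (x ≫ h)) :
    ∃ a : X ⟶ V, a ≫ v = x ∧ (yon S).map a ≫ z = ζ := by
  rw [Functor.map_comp] at e
  obtain ⟨a, ha⟩ := exists_map_eq (sq.lift ζ ((yon S).map x) e)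
  refine ⟨a, (yon S).map_injective ?_, ?_⟩
  · rw [Functor.map_comp, ha, sq.lift_snd]
  · rw [ha, sq.lift_fst]

/-- two scheme valued points of `V` have the same image in `Z` -/
def Same (z : (yon S).obj V ⟶ Z) {X : Scheme.{u}} (a b : X ⟶ V.left) : Prop :=
  ∃ (str : X ⟶ S) (ha : a ≫ V.hom = str) (hb : b ≫ V.hom = str),
    (yon S).map (Over.homMk a ha : Over.mk str ⟶ V) ≫ z =
      (yon S).map (Over.homMk b hb : Over.mk str ⟶ V) ≫ z

lemma Same.refl {X : Scheme.{u}} (a : X ⟶ V.left) : Same z a a := ⟨_, rfl, rfl, rfl⟩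

lemma Same.symm {X : Scheme.{u}} {a b : X ⟶ V.left} (h : Same z a b) : Same z b a := by
  obtain ⟨str, ha, hb, e⟩ := h
  exact ⟨str, hb, ha, e.symm⟩

lemma Same.trans {X : Scheme.{u}} {a b c : X ⟶ V.left} (h : Same z a b) (h' : Same z b c) :
    Same z a c := by
  obtain ⟨str, ha, hb, e⟩ := h
  obtain ⟨str', hb', hc, e'⟩ := h'
  obtain rfl : str = str' := hb.symm.trans hb'
  exact ⟨str, ha, hc, e.trans e'⟩

lemma Same.comp {X X' : Scheme.{u}} (g : X' ⟶ X) {a b : X ⟶ V.left} (h : Same z a b) :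
    Same z (g ≫ a) (g ≫ b) := by
  obtain ⟨str, ha, hb, e⟩ := h
  refine ⟨g ≫ str, by rw [Category.assoc, ha], by rw [Category.assoc, hb], ?_⟩
  have := congrArg ((yon S).map (Over.homMk g rfl : Over.mk (g ≫ str) ⟶ Over.mk str) ≫ ·) e
  simp only [← Category.assoc, ← Functor.map_comp] at this
  exact this

include sq in
lemma Same.eq {X : Scheme.{u}} {a b : X ⟶ V.left} (h' : Same z a b)
    (e₁ : a ≫ v.left = b ≫ v.left) : a = b := by
  obtain ⟨str, ha, hb, e⟩ := h'
  exact congrArg (fun f : Over.mk str ⟶ V => f.left) (pt_ext sq (Over.OverMorphism.ext e₁) e)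

include sq in
lemma exists_move {X : Scheme.{u}} (x₀ x₁ : X ⟶ T'.left) (e : x₀ ≫ h.left = x₁ ≫ h.left)
    (a : Desc.Lifts (Over.mk v.left) x₀) :
    ∃ b : Desc.Lifts (Over.mk v.left) x₁, Same z a.1 b.1 := by
  have ha : a.1 ≫ v.left = x₀ := a.2
  let X₀ : Over S := Over.mk (a.1 ≫ V.hom)
  let a' : X₀ ⟶ V := Over.homMk a.1 rfl
  let x : X₀ ⟶ T' := Over.homMk x₁ (by
    show x₁ ≫ T'.hom = a.1 ≫ V.hom
    rw [← Over.w h, ← Category.assoc, ← e, Category.assoc, Over.w h]
    exact (congrArg (· ≫ T'.hom) ha).symm.trans ((Category.assoc _ _ _).trans (congrArg (a.1 ≫ ·) (Over.w v))))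
  have e' : a' ≫ v ≫ h = x ≫ h := Over.OverMorphism.ext (by
    show a.1 ≫ v.left ≫ h.left = x₁ ≫ h.left
    rw [← Category.assoc, ha, e])
  obtain ⟨b, hb, hbz⟩ := exists_pt sq x ((yon S).map a' ≫ z) (by
    rw [Category.assoc, sq.w, ← Functor.map_comp, ← Functor.map_comp, e'])
  exact ⟨⟨b.left, congrArg (fun f : X₀ ⟶ T' => f.left) hb⟩, _, rfl, Over.w b, hbz.symm⟩

/-- the point over `x₁` with the same image in `Z` -/
noncomputable def move {X : Scheme.{u}} (x₀ x₁ : X ⟶ T'.left) (e : x₀ ≫ h.left = x₁ ≫ h.left)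
    (a : Desc.Lifts (Over.mk v.left) x₀) : Desc.Lifts (Over.mk v.left) x₁ :=
  (exists_move sq x₀ x₁ e a).choose

lemma move_same {X : Scheme.{u}} (x₀ x₁ : X ⟶ T'.left) (e : x₀ ≫ h.left = x₁ ≫ h.left)
    (a : Desc.Lifts (Over.mk v.left) x₀) : Same z a.1 (move sq x₀ x₁ e a).1 :=
  (exists_move sq x₀ x₁ e a).choose_spec

include sq in
lemma lifts_ext {X : Scheme.{u}} {x : X ⟶ T'.left} {a b : Desc.Lifts (Over.mk v.left) x}
    (h' : Same z a.1 b.1) : a = b :=
  Subtype.ext (h'.eq sq (a.2.trans b.2.symm))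

/-- the descent datum -/
noncomputable def datum : Desc.SchDD h.left where
  obj := Over.mk v.left
  φ X x₀ x₁ e :=
    { toFun := move sq x₀ x₁ e
      invFun := move sq x₁ x₀ e.symm
      left_inv := fun a => lifts_ext sq ((move_same sq _ _ _ a).trans (move_same sq _ _ _ _)).symm
      right_inv := fun a => lifts_ext sq ((move_same sq _ _ _ a).trans (move_same sq _ _ _ _)).symm }
  φ_natural X X' g x₀ x₁ e e' a a' ha := by
    let w : Desc.Lifts (Over.mk v.left) (g ≫ x₁) :=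
      ⟨g ≫ (move sq x₀ x₁ e a).1, by rw [Category.assoc, (move sq x₀ x₁ e a).2]⟩
    exact congrArg Subtype.val (lifts_ext sq (b := w) ((move_same sq _ _ e' a').symm.trans
      (ha.symm ▸ (move_same sq x₀ x₁ e a).comp g)))
  φ_self X x a := lifts_ext sq (move_same sq _ _ rfl a).symm
  φ_comp X x₀ x₁ x₂ e e' a := lifts_ext sq
    (((move_same sq _ _ e a).trans (move_same sq _ _ e' _)).symm.trans (move_same sq x₀ x₂ (e.trans e') a))

end Groth.Agent.AlgSpLib.RepDatum
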