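import Groth.Agent.AlgSpLib.RepUniv
import Groth.Prelude.Def_Flat

/-!
# Representable universal homeomorphisms
-/

set_option autoImplicit false

universe u

open CategoryTheory CategoryTheory.Limits AlgebraicGeometry Opposite Topology MorphismProperty

set_option backward.isDefEq.respectTransparency false

namespace Groth.Agent.AlgSpLib

open _root_.AlgSp

variable {S : Scheme.{u}}

lemma isHomeomorph_map_yon_iff {A B : Over S} (φ : A ⟶ B) :
    IsHomeomorph (Points.map ((yon S).map φ)) ↔ IsHomeomorph (fun t => φ.left t) :=
  map_yon_iff φ (fun k => IsHomeomorph k) (fun k => IsHomeomorph k) fun e e' k => by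
    refine ⟨fun h => e'.isHomeomorph.comp (h.comp e.symm.isHomeomorph), fun h => ?_⟩
    have := e'.symm.isHomeomorph.comp (h.comp e.isHomeomorph)
    simpa [Function.comp_def] using this

theorem isUnivHomeoMor_iff_repWith {X Y : Sp S} {f : X ⟶ Y} (hf : Representable f) :
    IsUnivHomeoMor f ↔ RepWith FlatMor.IsUnivHomeo f := by
  have : MorphismProperty.RespectsIso (fun (F G : Sp S) (g : F ⟶ G) => IsHomeomorph (Points.map g)) := by
    refine RespectsIso.mk _ (fun e f hf => ?_) fun e f hf => ?_
    · show IsHomeomorph (Points.map _)
      rw [show Points.map (e.hom ≫ f) = Points.map f ∘ Points.map e.hom from funext fun x => Points.map_comp _ _ x]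
      exact IsHomeomorph.comp hf (isHomeomorph_map_of_isIso e.hom)
    · show IsHomeomorph (Points.map _)
      rw [show Points.map (f ≫ e.hom) = Points.map e.hom ∘ Points.map f from funext fun x => Points.map_comp _ _ x]
      exact IsHomeomorph.comp (isHomeomorph_map_of_isIso e.hom) hf
  have : (topologically fun {α β : Type u} [TopologicalSpace α] [TopologicalSpace β] (k : α → β) => IsHomeomorph k).RespectsIso :=
    topologically_respectsIso _ (fun e => e.isHomeomorph) fun _ _ hf hg => hg.comp hf
  exact univSp_iff_repWith _ (topologically fun f => IsHomeomorph f) (fun A B φ => isHomeomorph_map_yon_iff φ)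
    (fun _ _ _ _ _ _ _ _ _ hb sq h => ⟨Points.continuous_map _, isOpenMap_of_fpqcCover sq hb fun i => (h i).isOpenMap,
      injective_of_fpqcCover sq hb fun i => (h i).injective, surjective_of_fpqcCover sq hb fun i => (h i).surjective⟩) hf

end Groth.Agent.AlgSpLib
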