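import Groth.Agent.AlgSpLib.Quotient
import Groth.Agent.AlgSpLib.Singleton
import Groth.Agent.AlgSpLib.MonoSingleton
import Groth.Agent.SpQS.FieldImm
import Mathlib.AlgebraicGeometry.ResidueField

/-!
# Residual spaces of points of algebraic spaces
-/

set_option autoImplicit false
set_option backward.isDefEq.respectTransparency false
universe u

open CategoryTheory CategoryTheory.Limits AlgebraicGeometry Opposite Topology

namespace Groth.Agent.AlgSpLib

open _root_.AlgSp

variable {S : Scheme.{u}}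

theorem isOpenImmersion_of_isPreimmersion_discrete {X Y : Scheme.{u}} (f : X ⟶ Y) [IsPreimmersion f]
    [DiscreteTopology Y] [IsReduced Y] : IsOpenImmersion f := by
  refine IsOpenImmersion.iff_isIso_stalkMap.2 ⟨⟨f.isEmbedding, isOpen_discrete _⟩, fun z => ?_⟩
  let _ : Field (Y.presheaf.stalk (f z)) := (isField_stalk_of_maximal (f z) (fun w hw => hw.eq)).toField
  exact (ConcreteCategory.isIso_iff_bijective _).2
    ⟨(f.stalkMap z).hom.injective, f.stalkMap_surjective z⟩

theorem isPullback_of_comp_mono {P A B Z X : Sp S} {a : P ⟶ A} {b : P ⟶ B} {f : A ⟶ Z} {g : B ⟶ Z}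
    (i : Z ⟶ X) [Mono i] (sq : IsPullback a b (f ≫ i) (g ≫ i)) : IsPullback a b f g :=
  ⟨⟨(cancel_mono i).1 (by simpa only [Category.assoc] using sq.w)⟩,
    ⟨PullbackCone.IsLimit.mk _ (fun s => sq.lift s.fst s.snd (by rw [reassoc_of% s.condition]))
      (fun s => sq.lift_fst _ _ _) (fun s => sq.lift_snd _ _ _)
      (fun s m h₁ h₂ => sq.hom_ext (by rw [h₁, sq.lift_fst]) (by rw [h₂, sq.lift_snd]))⟩⟩

theorem exists_residual {X : Sp S} (hX : IsAlgSpace X) (x : Points X) :
    ∃ (Z : Sp S) (i : Z ⟶ X), IsAlgSpace Z ∧ Mono i ∧ Set.range (Points.map i) = {x} ∧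
      ∃ (k : Type u) (_ : Field k) (str : Spec (CommRingCat.of k) ⟶ S) (p : (yon S).obj (Over.mk str) ⟶ Z),
        LocP @LocallyOfFinitePresentation p ∧ LocP @Flat p ∧ IsSurjectiveMor p := by
  obtain ⟨U, a, ha, has⟩ := hX.atlas
  obtain ⟨u, rfl⟩ := ofPt_surjective has x
  let K : Over S := Over.mk (U.left.fromSpecResidueField u ≫ U.hom)
  let m : K ⟶ U := Over.homMk (U.left.fromSpecResidueField u) rfl
  let p0 : (yon S).obj K ⟶ X := (yon S).map m ≫ a
  let p : (yon S).obj K ⟶ Sheaf.image p0 := Sheaf.toImage p0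
  let i : Sheaf.image p0 ⟶ X := Sheaf.imageι p0
  have hi : p ≫ i = p0 := Sheaf.toImage_ι p0
  have : Epi p := inferInstanceAs (Epi (Sheaf.toImage p0))
  have : Mono i := inferInstanceAs (Mono (Sheaf.imageι p0))
  have : Sheaf.IsLocallySurjective p := (Sheaf.isLocallySurjective_iff_epi _).2 inferInstance
  obtain ⟨R, t, s, sq⟩ := exists_pullback hX.diag p0 p0
  obtain ⟨W, q, w, sqW⟩ := exists_pullback hX.diag p0 a
  have hq : Etale q.left := (repWith_yon_iff q).1 (repWith_baseChange sqW.flip ha)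
  obtain ⟨l, hl⟩ := exists_map_eq (sqW.lift ((yon S).map t) ((yon S).map s ≫ (yon S).map m)
    (by rw [sq.w, Category.assoc]))
  have hlt : (yon S).map l ≫ (yon S).map q = (yon S).map t := by rw [hl, sqW.lift_fst]
  have hlm : (yon S).map l ≫ (yon S).map w = (yon S).map s ≫ (yon S).map m := by rw [hl, sqW.lift_snd]
  have sqR : IsPullback ((yon S).map l) ((yon S).map s) ((yon S).map w) ((yon S).map m) :=
    IsPullback.of_right (by rw [hlt]; exact sq) hlm sqW
  have sqS : IsPullback l.left s.left w.left m.left :=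
    isPullback_yon_iff.1 sqR
  have : IsPreimmersion m.left := inferInstanceAs (IsPreimmersion (U.left.fromSpecResidueField u))
  have : IsPreimmersion l.left := MorphismProperty.of_isPullback sqS.flip this
  let qK : W.left ⟶ Spec (U.left.residueField u) := q.left
  have : Etale qK := hq
  have : DiscreteTopology W.left := (SpQS.finite_of_etale_over_field (K := U.left.residueField u) qK).1
  have : IsReduced (Spec (U.left.residueField u)) := inferInstance
  have : IsReduced W.left := SpQS.isReduced_of_etale_reduced qK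
  have := isOpenImmersion_of_isPreimmersion_discrete l.left
  have ht : Etale t.left := by
    have e : l ≫ q = t := (yon S).map_injective (by rw [Functor.map_comp, hlt])
    rw [← e]
    show Etale (l.left ≫ q.left)
    infer_instance
  have sq' : IsPullback ((yon S).map t) ((yon S).map s) p p :=
    isPullback_of_comp_mono i (by rw [hi]; exact sq)
  obtain ⟨hA, he, hs⟩ := atlas_of_isLocallySurjective sq'.flip ht
  have hsurj : IsSurjectiveMor p := fun z => by
    obtain ⟨v, hv⟩ := ofPt_surjective hs z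
    exact ⟨Points.ofScheme K v, by rw [← Points.ofPt_eq_map_ofScheme, hv]⟩
  refine ⟨_, i, hA, inferInstance, ?_, U.left.residueField u, inferInstance, K.hom, p,
    locP_of_etale etST_lfp hA he, locP_of_etale etST_flat hA he, hsurj⟩
  have key : ∀ v : ↥K.left, Points.map i (Points.ofPt p v) = Points.ofPt a u := fun v => by
    rw [Points.map_ofPt, hi, ofPt_comp]
    exact congrArg _ (Scheme.fromSpecResidueField_apply u v)
  refine Set.eq_singleton_iff_nonempty_unique_mem.2 ⟨?_, ?_⟩
  · obtain ⟨v⟩ : Nonempty ↥K.left := inferInstanceAs (Nonempty (PrimeSpectrum (U.left.residueField u)))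
    exact ⟨_, Points.ofPt p v, rfl⟩
  · rintro _ ⟨z, rfl⟩
    obtain ⟨v, rfl⟩ := ofPt_surjective hs z
    exact key v

theorem residual_unique {X : Sp S} {x : Points X} {Z Z' : Sp S} (hZ : IsAlgSpace Z) (hZ' : IsAlgSpace Z')
    (i : Z ⟶ X) (i' : Z' ⟶ X) [Mono i] [Mono i'] (hX : IsAlgSpace X) (hi : Set.range (Points.map i) = {x})
    (hi' : Set.range (Points.map i') = {x})
    (hp : ∃ (k : Type u) (_ : Field k) (str : Spec (CommRingCat.of k) ⟶ S) (p : (yon S).obj (Over.mk str) ⟶ Z),
        LocP @LocallyOfFinitePresentation p ∧ LocP @Flat p ∧ IsSurjectiveMor p)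
    (hp' : ∃ (k : Type u) (_ : Field k) (str : Spec (CommRingCat.of k) ⟶ S) (p : (yon S).obj (Over.mk str) ⟶ Z'),
        LocP @LocallyOfFinitePresentation p ∧ LocP @Flat p ∧ IsSurjectiveMor p) :
    ∃ e : Z' ⟶ Z, IsIso e ∧ e ≫ i = i' := by
  have sq := IsPullback.of_hasPullback i' i
  have hW := isAlgSpace_of_isPullback_space hX hZ' hZ sq
  obtain ⟨z', hz'⟩ : x ∈ Set.range (Points.map i') := hi' ▸ rfl
  obtain ⟨z, hz⟩ : x ∈ Set.range (Points.map i) := hi ▸ rfl
  obtain ⟨w, -, -⟩ := exists_point_of_isPullback sq z' z (hz'.trans hz.symm)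
  have hne : ¬ IsEmpty (Points (pullback i' i)) := not_isEmpty_iff.2 ⟨w⟩
  obtain ⟨k, _, str, p, h1, h2, h3⟩ := hp
  obtain ⟨k', _, str', p', h1', h2', h3'⟩ := hp'
  have : IsIso (pullback.fst i' i) := (isEmpty_or_isIso_of_mono hW hZ' _ h1' h2' h3').resolve_left hne
  have : IsIso (pullback.snd i' i) := (isEmpty_or_isIso_of_mono hW hZ _ h1 h2 h3).resolve_left hne
  exact ⟨inv (pullback.fst i' i) ≫ pullback.snd i' i, inferInstance, by
    rw [Category.assoc, ← pullback.condition, IsIso.inv_hom_id_assoc]⟩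

end Groth.Agent.AlgSpLib
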