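import Groth.Agent.AlgSpLib.Residual
import Groth.Agent.AlgSpLib.PointFactor
import Groth.Agent.SpQS.GenPts

/-!
# Morphisms from reduced spaces factor through residual spaces
-/

set_option autoImplicit false
set_option backward.isDefEq.respectTransparency false
universe u

open CategoryTheory CategoryTheory.Limits AlgebraicGeometry Opposite Topology

namespace Groth.Agent.AlgSpLib

open _root_.AlgSp

variable {S : Scheme.{u}}

theorem exists_factor_residual {X Y Z : Sp S} (hX : IsAlgSpace X) (hY : IsAlgSpace Y) (hZ : IsAlgSpace Z)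
    (f : Y ⟶ X) {x : Points X} (hf : ∀ y : Points Y, Points.map f y = x)
    (hYr : EtaleLocally (fun U => IsReduced U) Y) (hXn : IsLocNoethSp X) (i : Z ⟶ X) [Mono i]
    (hi : Set.range (Points.map i) = {x}) : ∃ g : Y ⟶ Z, g ≫ i = f := by
  obtain ⟨V, q, hq, hqs, hV⟩ := hYr
  have := hV
  obtain ⟨U, a, ha, has, hU⟩ := hXn
  have := hU
  obtain ⟨P, r, w, sqP⟩ := exists_pullback hX.diag (q ≫ f) a
  have hr : RepWith @Etale ((yon S).map r) := repWith_baseChange sqP.flip ha
  have : Etale r.left := (repWith_yon_iff r).1 hr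
  have : Surjective r.left := (repWith_yon_iff r).1 (repWith_baseChange sqP.flip has)
  have : IsReduced P.left := SpQS.isReduced_of_etale_reduced r.left
  let e : (yon S).obj P ⟶ Y := (yon S).map r ≫ q
  have he : RepWith @Etale e := repWith_comp hr hq
  have hef : e ≫ f = (yon S).map w ≫ a := by rw [Category.assoc, sqP.w]
  have hx : ∀ v : ↥P.left, Points.ofPt a (w.left v) = x := fun v => by
    rw [← ofPt_comp, ← hef, ← Points.map_ofPt]
    exact hf _
  have hanti : ∀ v v' : ↥P.left, w.left v ⤳ w.left v' → w.left v = w.left v' := fun v v' h =>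
    (SpQS.eq_of_specializes_of_locNoeth hX ha ((hx v').trans (hx v).symm) h).symm
  choose O j hj k hk χ m hv hcomp using exists_nhd_factor_field w.left hanti
  let O' : ↥P.left → Over S := fun v => Over.mk (j v ≫ P.hom)
  let j' : ∀ v, O' v ⟶ P := fun v => Over.homMk (j v) rfl
  let g : ∀ v, (yon S).obj (O' v) ⟶ Y := fun v => (yon S).map (j' v) ≫ e
  have hlift : ∀ v, ∃ l : (yon S).obj (O' v) ⟶ Z, l ≫ i = g v ≫ f := by
    intro v
    let K : Over S := Over.mk (m v ≫ U.hom)
    let m' : K ⟶ U := Over.homMk (m v) rfl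
    let χ' : O' v ⟶ K := Over.homMk (χ v) (by
      show χ v ≫ m v ≫ U.hom = j v ≫ P.hom
      rw [reassoc_of% (hcomp v), Over.w])
    have hc : χ' ≫ m' = j' v ≫ w := Over.OverMorphism.ext (hcomp v)
    let c : (yon S).obj K ⟶ X := (yon S).map m' ≫ a
    obtain ⟨t, ht⟩ := hv v
    have hcx : Points.map c (Points.ofScheme K (χ'.left t)) = x := by
      rw [← Points.ofPt_eq_map_ofScheme, ofPt_comp]
      have h1 : m'.left (χ'.left t) = w.left v :=
        (congrArg (fun h : O' v ⟶ U => h.left t) hc).trans (congrArg w.left ht)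
      rw [h1, hx]
    obtain ⟨z, hz⟩ : x ∈ Set.range (Points.map i) := hi ▸ rfl
    have sq := IsPullback.of_hasPullback c i
    have hW := isAlgSpace_of_isPullback_space hX (IsAlgSpace.yon_obj K) hZ sq
    obtain ⟨w₀, -, -⟩ := exists_point_of_isPullback sq _ z (hcx.trans hz.symm)
    have : Nonempty (Points (pullback c i)) := ⟨w₀⟩
    let _ := hk v
    have : IsIso (pullback.fst c i) := isIso_of_mono_into_field (str := m v ≫ U.hom) hW (pullback.fst c i)
    refine ⟨(yon S).map χ' ≫ inv (pullback.fst c i) ≫ pullback.snd c i, ?_⟩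
    rw [Category.assoc, Category.assoc, ← pullback.condition, IsIso.inv_hom_id_assoc]
    show (yon S).map χ' ≫ (yon S).map m' ≫ a = ((yon S).map (j' v) ≫ e) ≫ f
    rw [Category.assoc, hef, ← Category.assoc, ← Category.assoc, ← Functor.map_comp, ← Functor.map_comp, hc]
  have hg : IsFppfCover (fun v => (yon S).obj (O' v)) g := by
    have hge : ∀ v, RepWith @Etale (g v) := fun v => by
      have := hj v
      exact repWith_comp ((repWith_yon_iff _).2 (show Etale (j v) from inferInstance)) he
    refine ⟨fun v => ⟨locP_of_etale etST_flat hY (hge v), locP_of_etale etST_lfp hY (hge v)⟩, fun y => ?_⟩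
    obtain ⟨v₀, rfl⟩ := ofPt_surjective hqs y
    obtain ⟨v, rfl⟩ := r.left.surjective v₀
    obtain ⟨t, ht⟩ := hv v
    refine ⟨v, Points.ofScheme (O' v) t, ?_⟩
    rw [← Points.ofPt_eq_map_ofScheme, ofPt_comp, ofPt_comp]
    exact congrArg (fun p => Points.ofPt q (r.left p)) ht
  have : IsIso (pullback.fst f i) := isIso_of_mono_of_locally_lifts (pullback.fst f i) fun T t => by
    obtain ⟨κ, Tk, c, hc, hl⟩ := exists_lift_fppfCover hY (fun v => IsAlgSpace.yon_obj (O' v)) hg T t
    refine ⟨κ, Tk, c, hc, fun s => ?_⟩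
    obtain ⟨v, l, hl⟩ := hl s
    obtain ⟨l', hl'⟩ := hlift v
    exact ⟨pullback.lift ((yon S).map (c s) ≫ t) (l ≫ l') ((congrArg (· ≫ f) hl.symm).trans
      ((Category.assoc _ _ _).trans ((congrArg (l ≫ ·) hl'.symm).trans (Category.assoc _ _ _).symm))),
      pullback.lift_fst _ _ _⟩
  exact ⟨inv (pullback.fst f i) ≫ pullback.snd f i, by
    rw [Category.assoc, ← pullback.condition, IsIso.inv_hom_id_assoc]⟩

end Groth.Agent.AlgSpLib
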