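import Groth.Agent.AlgSpLib.MulFlat
import Groth.Agent.AlgSpLib.RepUniv
import Groth.Agent.AlgSpLib.FpqcProps

/-!
# Restriction of a groupoid along a field extension
-/

set_option autoImplicit false

universe u

open CategoryTheory CategoryTheory.Limits AlgebraicGeometry Opposite

set_option backward.isDefEq.respectTransparency false

namespace Groth.Agent.AlgSpLib

open _root_.AlgSp

variable {S : Scheme.{u}}

/-- surjective flat universally open affine morphisms -/
def affFFO : MorphismProperty Scheme.{u} := @IsAffineHom ⊓ @Flat ⊓ @Surjective ⊓ @UniversallyOpen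

instance : (affFFO.{u}).IsStableUnderBaseChange := by unfold affFFO; infer_instance

instance : (affFFO.{u}).IsMultiplicative where
  id_mem X := ⟨⟨⟨(inferInstance : IsAffineHom (𝟙 X)), (inferInstance : Flat (𝟙 X))⟩,
    (inferInstance : Surjective (𝟙 X))⟩, (inferInstance : UniversallyOpen (𝟙 X))⟩
  comp_mem f g hf hg := ⟨⟨⟨MorphismProperty.comp_mem @IsAffineHom f g hf.1.1.1 hg.1.1.1,
    MorphismProperty.comp_mem @Flat f g hf.1.1.2 hg.1.1.2⟩, MorphismProperty.comp_mem @Surjective f g hf.1.2 hg.1.2⟩,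
    MorphismProperty.comp_mem @UniversallyOpen f g hf.2 hg.2⟩

theorem repWith_fR_of_restriction {B : Sp S} {G G' : GroupoidSp B} (φ : GroupoidSp.Hom G' G) (hφ : φ.IsRestriction)
    (h : RepWith affFFO φ.fU) : RepWith affFFO φ.fR :=
  repWith_baseChange (IsPullback.flip hφ)
    (MorphismProperty.pullbackMap (P := RepWith affFFO) h h φ.fU_over.symm φ.fU_over.symm)

theorem props_of_affFFO {X Y : Sp S} (hY : IsAlgSpace Y) {f : X ⟶ Y} (h : RepWith affFFO f) :
    IsSurjectiveMor f ∧ LocP @Flat f ∧ IsUnivOpenMor f ∧ IsAffineMor f :=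
  ⟨isSurjectiveMor_of_repWith (repWith_mono (fun _ _ _ hr => hr.1.2) h),
    (locP_iff_repWith etST_flat hY h.1).2 (repWith_mono (fun _ _ _ hr => hr.1.1.2) h),
    (isUnivOpenMor_iff_repWith h.1).2 (repWith_mono (fun _ _ _ hr => hr.2) h),
    (isAffineMor_iff_repWith f).2 (repWith_mono (fun _ _ _ hr => hr.1.1.1) h)⟩

theorem affFFO_field {k k' : Type u} [Field k] [Field k'] (i : CommRingCat.of k ⟶ CommRingCat.of k') :
    affFFO (Spec.map i) := by
  have : Subsingleton ↥(Spec (CommRingCat.of k)) := inferInstanceAs (Subsingleton (PrimeSpectrum k))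
  have : IsIntegral (Spec (CommRingCat.of k)) := inferInstance
  refine ⟨⟨⟨inferInstance, inferInstance⟩, ?_⟩, inferInstance⟩
  have : Nonempty ↥(Spec (CommRingCat.of k')) := inferInstanceAs (Nonempty (PrimeSpectrum k'))
  exact ⟨fun x => ⟨Classical.arbitrary _, Subsingleton.elim _ _⟩⟩

theorem legs_props {B : Sp S} (G : GroupoidSp B) (hR : IsAlgSpace G.R) {k : Type u} [Field k]
    {σ : Spec (CommRingCat.of k) ⟶ S} (eU : G.U ≅ (yon S).obj (Over.mk σ)) :
    ∀ f ∈ [G.s, G.t], IsSurjectiveMor f ∧ LocP @Flat f ∧ IsUnivOpenMor f := by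
  intro f hf
  have he : ∃ e : G.U ⟶ G.R, e ≫ f = 𝟙 G.U := by
    simp only [List.mem_cons, List.not_mem_nil, or_false] at hf
    rcases hf with rfl | rfl
    · exact ⟨G.e, G.e_s⟩
    · exact ⟨G.e, G.e_t⟩
  obtain ⟨e, he⟩ := he
  exact ⟨fun y => ⟨Points.map e y, by rw [← Points.map_comp, he, Points.map_id]⟩, flat_univOpen_to_field hR eU f⟩

theorem restrict_fieldExt {B : Sp S} (G G' : GroupoidSp B) (hR : IsAlgSpace G.R) (hR' : IsAlgSpace G'.R)
    (k k' : Type u) [Field k] [Field k'] [Algebra k k'] (σ : Spec (CommRingCat.of k) ⟶ S)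
    (eU : G.U ≅ ((yon S).obj (Over.mk σ)))
    (eU' : G'.U ≅ ((yon S).obj (Over.mk (Spec.map (CommRingCat.ofHom (algebraMap k k')) ≫ σ))))
    (φ : GroupoidSp.Hom G' G) (hφ : φ.IsRestriction)
    (hfU : φ.fU = eU'.hom ≫ (yon S).map (Over.homMk (Spec.map (CommRingCat.ofHom (algebraMap k k'))) rfl :
      Over.mk (Spec.map (CommRingCat.ofHom (algebraMap k k')) ≫ σ) ⟶ Over.mk σ) ≫ eU.inv) :
    (∀ f ∈ [G.s, G.t], IsSurjectiveMor f ∧ LocP @Flat f ∧ IsUnivOpenMor f) ∧
      (∀ f ∈ [G'.s, G'.t], IsSurjectiveMor f ∧ LocP @Flat f ∧ IsUnivOpenMor f) ∧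
      (IsSurjectiveMor φ.fU ∧ LocP @Flat φ.fU ∧ IsUnivOpenMor φ.fU) ∧
      (IsSurjectiveMor φ.fR ∧ LocP @Flat φ.fR ∧ IsUnivOpenMor φ.fR ∧ IsAffineMor φ.fR) := by
  have hU : IsAlgSpace G.U := (IsAlgSpace.yon_obj _).of_iso eU.symm
  have hf : RepWith affFFO φ.fU := by
    rw [hfU, repWith_iso_comp_iff, repWith_comp_iso_iff, repWith_yon_iff]
    exact affFFO_field _
  obtain ⟨a, b, c, -⟩ := props_of_affFFO hU hf
  exact ⟨legs_props G hR eU, legs_props G' hR' eU', ⟨a, b, c⟩,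
    props_of_affFFO hR (repWith_fR_of_restriction φ hφ hf)⟩

end Groth.Agent.AlgSpLib
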