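import Groth.Agent.AlgSpLib.LocPMore
import Groth.Prelude.Def_AlgSpGpd

/-!
# The structure maps of a restricted groupoid
-/

set_option autoImplicit false

universe u

open CategoryTheory CategoryTheory.Limits AlgebraicGeometry Opposite

set_option backward.isDefEq.respectTransparency false

namespace Groth.Agent.AlgSpLib

open _root_.AlgSp

variable {S : Scheme.{u}}

theorem locP_leg_of_restriction {P : MorphismProperty Scheme.{u}} (hP : EtST P) {R U R' U' : Sp S}
    (hR : IsAlgSpace R) (hU : IsAlgSpace U) (hR' : IsAlgSpace R') (hU' : IsAlgSpace U')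
    (s t : R ⟶ U) (s' t' : R' ⟶ U') (fU : U' ⟶ U) (fR : R' ⟶ R)
    (cs : fR ≫ s = s' ≫ fU) (ct : fR ≫ t = t' ≫ fU)
    (hex : ∀ {T : Sp S} (r : T ⟶ R) (a b : T ⟶ U'), r ≫ t = a ≫ fU → r ≫ s = b ≫ fU →
      ∃ x : T ⟶ R', x ≫ fR = r ∧ x ≫ t' = a ∧ x ≫ s' = b)
    (hun : ∀ {T : Sp S} (x y : T ⟶ R'), x ≫ fR = y ≫ fR → x ≫ t' = y ≫ t' → x ≫ s' = y ≫ s' → x = y)
    (hs : LocP P s) (hf : LocP P fU) : LocP P s' := by
  have sqP := IsPullback.of_hasPullback s fU
  have hPsp := isAlgSpace_of_isPullback_space hU hR hU' sqP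
  let π : R' ⟶ pullback s fU := pullback.lift fR s' cs
  have sqQ : IsPullback t' π fU (pullback.fst s fU ≫ t) := by
    refine ⟨⟨by rw [← Category.assoc π, pullback.lift_fst, ct]⟩,
      ⟨PullbackCone.IsLimit.mk _
        (fun c => (hex (c.snd ≫ pullback.fst s fU) c.fst (c.snd ≫ pullback.snd s fU)
          (by rw [Category.assoc]; exact c.condition.symm)
          (by rw [Category.assoc, Category.assoc, pullback.condition])).choose)
        (fun c => ?_) (fun c => ?_) (fun c m h₁ h₂ => ?_)⟩⟩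
    all_goals obtain ⟨e₁, e₂, e₃⟩ := (hex (c.snd ≫ pullback.fst s fU) c.fst (c.snd ≫ pullback.snd s fU)
          (by rw [Category.assoc]; exact c.condition.symm)
          (by rw [Category.assoc, Category.assoc, pullback.condition])).choose_spec
    · exact e₂
    · refine pullback.hom_ext ?_ ?_
      · rw [Category.assoc, pullback.lift_fst, e₁]
      · rw [Category.assoc, pullback.lift_snd, e₃]
    · refine hun _ _ ?_ ?_ ?_
      · rw [e₁, ← h₂, Category.assoc, pullback.lift_fst]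
      · rw [e₂, h₁]
      · rw [e₃, ← h₂, Category.assoc, pullback.lift_snd]
  have h1 : LocP P π := locP_baseChange hP hU' hU hR' hPsp sqQ hf
  have h2 : LocP P (pullback.snd s fU) := locP_baseChange hP hR hU hPsp hU' sqP hs
  have e : π ≫ pullback.snd s fU = s' := pullback.lift_snd _ _ _
  rw [← e]
  exact locP_comp hP hPsp hU' h1 h2

theorem locP_restriction {P : MorphismProperty Scheme.{u}} (hP : EtST P) {B : Sp S} {G G' : GroupoidSp B}
    (hU : IsAlgSpace G.U) (hR : IsAlgSpace G.R) (hU' : IsAlgSpace G'.U) (hR' : IsAlgSpace G'.R)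
    (φ : GroupoidSp.Hom G' G) (hφ : φ.IsRestriction)
    (hs : LocP P G.s) (ht : LocP P G.t) (hf : LocP P φ.fU) : LocP P G'.s ∧ LocP P G'.t := by
  have hun : ∀ {T : Sp S} (x y : T ⟶ G'.R), x ≫ φ.fR = y ≫ φ.fR → x ≫ G'.t = y ≫ G'.t →
      x ≫ G'.s = y ≫ G'.s → x = y := fun x y h₁ h₂ h₃ => IsPullback.hom_ext hφ h₁
    (pullback.hom_ext (by rw [Category.assoc, Category.assoc, GroupoidSp.j_fst, h₂])
      (by rw [Category.assoc, Category.assoc, GroupoidSp.j_snd, h₃]))
  have hex : ∀ {T : Sp S} (r : T ⟶ G.R) (a b : T ⟶ G'.U), r ≫ G.t = a ≫ φ.fU → r ≫ G.s = b ≫ φ.fU →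
      ∃ x : T ⟶ G'.R, x ≫ φ.fR = r ∧ x ≫ G'.t = a ∧ x ≫ G'.s = b := by
    intro T r a b ha hb
    have hab : a ≫ G'.pU = b ≫ G'.pU := by
      rw [← φ.fU_over, ← reassoc_of% ha, ← reassoc_of% hb, G.t_over, G.s_over]
    refine ⟨IsPullback.lift hφ r (pullback.lift a b hab) ?_, IsPullback.lift_fst hφ _ _ _, ?_, ?_⟩
    · refine pullback.hom_ext ?_ ?_
      · simp [GroupoidSp.Hom.prodMap, ha]
      · simp [GroupoidSp.Hom.prodMap, hb]
    · refine (congrArg (fun z => _ ≫ z) (GroupoidSp.j_fst G').symm).trans ?_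
      rw [IsPullback.lift_snd_assoc, pullback.lift_fst]
    · refine (congrArg (fun z => _ ≫ z) (GroupoidSp.j_snd G').symm).trans ?_
      rw [IsPullback.lift_snd_assoc, pullback.lift_snd]
  exact ⟨locP_leg_of_restriction hP hR hU hR' hU' G.s G.t G'.s G'.t φ.fU φ.fR φ.comm_s φ.comm_t hex hun hs hf,
    locP_leg_of_restriction hP hR hU hR' hU' G.t G.s G'.t G'.s φ.fU φ.fR φ.comm_t φ.comm_s
      (fun r a b ha hb => let ⟨x, h₁, h₂, h₃⟩ := hex r b a hb ha; ⟨x, h₁, h₃, h₂⟩)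
      (fun x y h₁ h₂ h₃ => hun x y h₁ h₃ h₂) ht hf⟩

end Groth.Agent.AlgSpLib
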