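import Groth.Agent.AlgSpLib.ShriekSpace
import Mathlib.CategoryTheory.Comma.Over.Basic

/-!
# The equivalence between algebraic spaces over `S` and algebraic spaces over `S'` mapping to `S`
-/

set_option autoImplicit false

universe u

open CategoryTheory CategoryTheory.Limits AlgebraicGeometry Opposite

set_option backward.isDefEq.respectTransparency false

namespace Groth.Agent.AlgSpLib.ShriekS

open _root_.AlgSp

variable {S S' : Scheme.{u}} (g : S ⟶ S')

theorem exists_fibre {F G : Sp S} (β : (jFun g).obj F ⟶ (jFun g).obj G) (hβ : β ≫ jπ g G = jπ g F)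
    (W : Over S) (x : F.obj.obj (op W)) :
    ∃ y : G.obj.obj (op W), (⟨⟨W.hom, rfl⟩, y⟩ : Sec g G.obj ((Over.map g).obj W)) =
      β.hom.app (op ((Over.map g).obj W)) (⟨⟨W.hom, rfl⟩, x⟩ : Sec g F.obj ((Over.map g).obj W)) := by
  have e := congr_arg (fun q : (jFun g).obj F ⟶ (yon S').obj (Over.mk g) =>
    q.hom.app (op ((Over.map g).obj W)) (⟨⟨W.hom, rfl⟩, x⟩ : Sec g F.obj ((Over.map g).obj W))) hβ
  generalize hq : β.hom.app (op ((Over.map g).obj W)) (⟨⟨W.hom, rfl⟩, x⟩ : Sec g F.obj ((Over.map g).obj W)) = q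
  have e' : (q : Sec g G.obj ((Over.map g).obj W)).1 = ⟨W.hom, rfl⟩ := by
    apply Subtype.ext
    rw [← hq]
    exact congrArg (fun r => r.down.left) e
  obtain ⟨t, y⟩ := q
  subst e'
  exact ⟨y, rfl⟩

theorem exists_jFun_eq {F G : Sp S} (β : (jFun g).obj F ⟶ (jFun g).obj G) (hβ : β ≫ jπ g G = jπ g F) :
    ∃ α : F ⟶ G, (jFun g).map α = β := by
  choose a ha using fun (W : (Over S)ᵒᵖ) x => exists_fibre g β hβ W.unop x
  let α : F ⟶ G := ObjectProperty.homMk
    { app := fun W => TypeCat.ofHom (a W)
      naturality := fun W V k => by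
        refine ConcreteCategory.hom_ext _ _ fun x => ?_
        have e := NatTrans.naturality_apply β.hom ((Over.map g).map k.unop).op
          (⟨⟨W.unop.hom, rfl⟩, x⟩ : Sec g F.obj ((Over.map g).obj W.unop))
        have r : ∀ {H : Sp S} (z : H.obj.obj W), res g H.obj ((Over.map g).map k.unop)
            (⟨⟨W.unop.hom, rfl⟩, z⟩ : Sec g H.obj ((Over.map g).obj W.unop)) =
              (⟨⟨V.unop.hom, rfl⟩, H.obj.map k z⟩ : Sec g H.obj ((Over.map g).obj V.unop)) := fun {H} z =>
          (res_eq_iff g H.obj _ _ _).2 ⟨Over.w k.unop, rfl⟩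
        have e2 : (⟨⟨V.unop.hom, rfl⟩, a V (F.obj.map k x)⟩ : Sec g G.obj ((Over.map g).obj V.unop)) =
            ⟨⟨V.unop.hom, rfl⟩, G.obj.map k (a W x)⟩ := by
          rw [← r (a W x), ha V, ha W, ← r x]
          exact e
        exact eq_of_heq (Sigma.mk.inj e2).2 }
  refine ⟨α, ?_⟩
  ext T' p
  have e := NatTrans.naturality_apply β.hom (cmp g T'.unop p.1).op
    (⟨⟨p.1.1, rfl⟩, p.2⟩ : Sec g F.obj ((Over.map g).obj (Over.mk p.1.1)))
  have h1 := res_cmp g T'.unop p
  show (⟨p.1, a _ p.2⟩ : Sec g G.obj T'.unop) = _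
  refine (res_cmp g T'.unop (⟨p.1, a (op (Over.mk p.1.1)) p.2⟩ : Sec g G.obj T'.unop)).symm.trans ?_
  refine (congrArg (res g G.obj (cmp g T'.unop p.1)) (ha (op (Over.mk p.1.1)) p.2)).trans ?_
  refine e.symm.trans ?_
  exact congrArg (β.hom.app T') h1

theorem jFun_map_injective {F G : Sp S} : Function.Injective ((jFun g).map : (F ⟶ G) → _) := fun α α' e => by
  ext W x
  have e' := congr_arg (fun q : (jFun g).obj F ⟶ (jFun g).obj G =>
    q.hom.app (op ((Over.map g).obj W.unop)) (⟨⟨W.unop.hom, rfl⟩, x⟩ : Sec g F.obj ((Over.map g).obj W.unop))) e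
  exact eq_of_heq (Sigma.mk.inj e').2

/-- the slice functor -/
noncomputable def sliceFun : Space S ⥤ Over ((ofScheme S').obj (Over.mk g)) where
  obj F := Over.mk (Y := (⟨(jFun g).obj F.obj, isAlgSpace_jFun g F.property⟩ : Space S'))
    (ObjectProperty.homMk (jπ g F.obj))
  map {F G} α := Over.homMk (ObjectProperty.homMk ((jFun g).map α.hom)) (ObjectProperty.hom_ext _ (map_jπ g α.hom))
  map_id F := by ext : 2; exact (jFun g).map_id _
  map_comp α β := by ext : 2; exact (jFun g).map_comp _ _

instance : (sliceFun g).Faithful where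
  map_injective {F G} α β e := ObjectProperty.hom_ext _
    (jFun_map_injective g (congrArg (fun q => q.left.hom) e))

instance : (sliceFun g).Full where
  map_surjective {F G} β := by
    obtain ⟨α, hα⟩ := exists_jFun_eq g β.left.hom (congrArg (fun q => q.hom) (Over.w β))
    exact ⟨ObjectProperty.homMk α, Over.OverMorphism.ext (ObjectProperty.hom_ext _ hα)⟩

/-- the point of the restriction of `S` -/
noncomputable def sPt : (yon S).obj (Over.mk (𝟙 S)) ⟶ (pullS g).obj ((yon S').obj (Over.mk g)) :=
  (AlgSp.J S).uliftYonedaEquiv.symm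
    (ULift.up (Over.homMk (𝟙 S) (Category.id_comp _)) :
      ((pullS g).obj ((yon S').obj (Over.mk g))).obj.obj (op (Over.mk (𝟙 S))))

theorem exists_iso_slice (Y : Sp S') (π : Y ⟶ (yon S').obj (Over.mk g)) :
    ∃ (F : Sp S) (e : (jFun g).obj F ≅ Y), e.hom ≫ π = jπ g F := by
  let F := pullback ((pullS g).map π) (sPt g)
  let fst : F ⟶ (pullS g).obj Y := pullback.fst _ _
  have sq : IsPullback fst (pullback.snd _ _) ((pullS g).map π) (sPt g) := IsPullback.of_hasPullback _ _
  let ε : (jFun g).obj F ⟶ Y := (jFun g).map fst ≫ counitApp g Y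
  have hsec : ∀ {W : Over S} (z : ((yon S).obj (Over.mk (𝟙 S))).obj.obj (op W)),
      (sPt g).hom.app (op W) z = ULift.up (Over.homMk W.hom rfl) := by
    intro W z
    obtain ⟨z⟩ := z
    apply ULift.ext
    apply Over.OverMorphism.ext
    show z.left ≫ 𝟙 S = W.hom
    exact Over.w z
  have hb : ∀ T', Function.Bijective (ε.hom.app T') := by
    intro T'
    constructor
    · intro p q e
      have hp : ∀ r : Sec g F.obj T'.unop, (π.hom.app T' (ε.hom.app T' r)).down.left = r.1.1 := by
        intro r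
        have e1 := ((isPullback_sheaf_iff _ _ _ _).1 sq (op (Over.mk r.1.1))).w
        have e2 : π.hom.app (op ((Over.map g).obj (Over.mk r.1.1))) (fst.hom.app _ r.2) =
            ULift.up (Over.homMk (Over.mk r.1.1).hom rfl) :=
          (ConcreteCategory.congr_hom e1 r.2).trans (hsec _)
        show (π.hom.app T' (Y.obj.map (cmp g T'.unop r.1).op (fst.hom.app _ r.2))).down.left = _
        rw [NatTrans.naturality_apply, e2]
        exact Category.id_comp _
      obtain ⟨t, x⟩ := p
      obtain ⟨t', x'⟩ := q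
      obtain rfl : t = t' := Subtype.ext (by
        rw [← hp ⟨t, x⟩, ← hp ⟨t', x'⟩]
        exact congrArg (fun r => (π.hom.app T' r).down.left) e)
      have e3 : fst.hom.app _ x = fst.hom.app _ x' := by
        have := congrArg (Y.obj.map (cmpIso g T'.unop t).inv.op) e
        refine Eq.trans ?_ (this.trans ?_)
        all_goals
          first
            | (symm; show Y.obj.map _ (Y.obj.map _ _) = _
               rw [← FunctorToTypes.map_comp_apply, ← op_comp]
               exact map_eq_self _ (Category.id_comp _) _)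
            | (show Y.obj.map _ (Y.obj.map _ _) = _
               rw [← FunctorToTypes.map_comp_apply, ← op_comp]
               exact map_eq_self _ (Category.id_comp _) _)
      refine congrArg (Sigma.mk t) ((((isPullback_sheaf_iff _ _ _ _).1 sq _) |> Types.ext_of_isPullback) e3 ?_)
      exact ULift.ext _ _ (Over.OverMorphism.ext ((Category.comp_id _).symm.trans
        ((Over.w _).trans ((Over.w _).symm.trans (Category.comp_id _)))))
    · intro y
      let h : T'.unop ⟶ Over.mk g := (π.hom.app T' y).down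
      let t : {t : T'.unop.left ⟶ S // t ≫ g = T'.unop.hom} := ⟨h.left, Over.w h⟩
      let y' := Y.obj.map (cmpIso g T'.unop t).inv.op y
      have e1 : π.hom.app (op ((Over.map g).obj (Over.mk t.1))) y' =
          (sPt g).hom.app (op (Over.mk t.1)) (ULift.up (Over.homMk t.1 (Category.comp_id _))) := by
        rw [hsec]
        show π.hom.app _ (Y.obj.map _ y) = _
        rw [NatTrans.naturality_apply]
        exact ULift.ext _ _ (Over.OverMorphism.ext (Category.id_comp _))
      obtain ⟨x, hx, -⟩ := Types.exists_of_isPullback ((isPullback_sheaf_iff _ _ _ _).1 sq _) y'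
        (ULift.up (Over.homMk t.1 (Category.comp_id _))) e1
      refine ⟨(⟨t, x⟩ : Sec g F.obj T'.unop), ?_⟩
      show Y.obj.map _ (fst.hom.app _ x) = y
      rw [hx]
      show Y.obj.map _ (Y.obj.map _ y) = y
      rw [← FunctorToTypes.map_comp_apply, ← op_comp]
      exact map_eq_self _ (Category.id_comp _) _
  have : ∀ T', IsIso (ε.hom.app T') := fun T' => (isIso_iff_bijective _).2 (hb T')
  have : IsIso ε.hom := NatIso.isIso_of_isIso_app _
  have : IsIso ((sheafToPresheaf (AlgSp.J S') (Type (u + 1))).map ε) := ‹IsIso ε.hom›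
  have : IsIso ε := isIso_of_fully_faithful (sheafToPresheaf (AlgSp.J S') (Type (u + 1))) ε
  refine ⟨F, asIso ε, ?_⟩
  show ε ≫ π = _
  ext T' r
  have e1 := ((isPullback_sheaf_iff _ _ _ _).1 sq (op (Over.mk r.1.1))).w
  have e2 : π.hom.app (op ((Over.map g).obj (Over.mk r.1.1))) (fst.hom.app _ r.2) =
      ULift.up (Over.homMk (Over.mk r.1.1).hom rfl) :=
    (ConcreteCategory.congr_hom e1 r.2).trans (hsec _)
  show π.hom.app T' (Y.obj.map (cmp g T'.unop r.1).op (fst.hom.app _ r.2)) = _
  rw [NatTrans.naturality_apply, e2]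
  exact ULift.ext _ _ (Over.OverMorphism.ext (Category.id_comp _))

instance : (sliceFun g).EssSurj where
  mem_essImage E := by
    obtain ⟨F, e, he⟩ := exists_iso_slice g E.left.obj E.hom.hom
    have hF : IsAlgSpace F := isAlgSpace_of_jFun g (E.left.property.of_iso e.symm)
    exact ⟨⟨F, hF⟩, ⟨Over.isoMk (ObjectProperty.isoMk _ e) (ObjectProperty.hom_ext _ he)⟩⟩

instance : (sliceFun g).IsEquivalence where

/-- the equivalence -/
noncomputable def sliceEqv : Space S ≌ Over ((ofScheme S').obj (Over.mk g)) := (sliceFun g).asEquivalence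

/-- the underlying functor of the equivalence -/
noncomputable def sliceIso :
    (sliceEqv g).functor ⋙ Over.forget _ ⋙ ObjectProperty.ι (IsAlgSpace (S := S')) ≅
      ObjectProperty.ι (IsAlgSpace (S := S)) ⋙ (Over.map g).sheafPullback (Type (u + 1)) (AlgSp.J S) (AlgSp.J S') :=
  (NatIso.ofComponents (fun _ => Iso.refl _) (fun α => (Category.comp_id _).trans (Category.id_comp _).symm) :
    (sliceEqv g).functor ⋙ Over.forget _ ⋙ ObjectProperty.ι (IsAlgSpace (S := S')) ≅
      ObjectProperty.ι (IsAlgSpace (S := S)) ⋙ jFun g) ≪≫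
    Functor.isoWhiskerLeft _ (sheafPullbackIso g).symm

end Groth.Agent.AlgSpLib.ShriekS
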