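import Groth.Agent.AdeqLib.Total
import Groth.Agent.AlgSpLib.PullS
import Mathlib.CategoryTheory.Sites.Pullback
import Mathlib.CategoryTheory.Adjunction.Unique
import Mathlib.CategoryTheory.Limits.Types.Pullbacks

/-!
# The left adjoint of restriction of sheaves along a morphism of base schemes
-/

set_option autoImplicit false

universe u

open CategoryTheory CategoryTheory.Limits AlgebraicGeometry Opposite

set_option backward.isDefEq.respectTransparency false

namespace Groth.Agent.AlgSpLib.ShriekS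

open _root_.AlgSp

variable {S S' : Scheme.{u}} (g : S ⟶ S')

section Pre

variable (P : (Over S)ᵒᵖ ⥤ Type (u + 1))

/-- sections of the extension: a map to `S` over `S'` and a section over it -/
abbrev Sec (T' : Over S') : Type (u + 1) :=
  Σ t : {t : T'.left ⟶ S // t ≫ g = T'.hom}, P.obj (op (Over.mk t.1))

/-- restriction of sections -/
noncomputable def res {T' W' : Over S'} (k : W' ⟶ T') (p : Sec g P T') : Sec g P W' :=
  ⟨⟨k.left ≫ p.1.1, by rw [Category.assoc, p.1.2, Over.w k]⟩,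
    P.map (Over.homMk k.left : Over.mk (k.left ≫ p.1.1) ⟶ Over.mk p.1.1).op p.2⟩

lemma res_eq_iff {T' W' : Over S'} (k : W' ⟶ T') (p : Sec g P T') (q : Sec g P W') :
    res g P k p = q ↔
      ∃ h : k.left ≫ p.1.1 = q.1.1, P.map (Over.homMk k.left h : Over.mk q.1.1 ⟶ Over.mk p.1.1).op p.2 = q.2 := by
  constructor
  · rintro rfl
    exact ⟨rfl, rfl⟩
  · obtain ⟨⟨t', ht'⟩, y⟩ := q
    rintro ⟨h, e⟩
    dsimp only at h e
    subst h
    exact congrArg (Sigma.mk _) e

/-- extension of a presheaf along `g` -/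
noncomputable def jPre : (Over S')ᵒᵖ ⥤ Type (u + 1) where
  obj T' := Sec g P T'.unop
  map k := TypeCat.ofHom (res g P k.unop)
  map_id T' := by
    refine ConcreteCategory.hom_ext _ _ fun p => ?_
    refine (res_eq_iff g P _ _ _).2 ⟨Category.id_comp _, ?_⟩
    show P.map (Over.homMk (𝟙 T'.unop.left) (Category.id_comp _) : Over.mk p.1.1 ⟶ Over.mk p.1.1).op p.2 = p.2
    rw [show (Over.homMk (𝟙 T'.unop.left) (Category.id_comp _) : Over.mk p.1.1 ⟶ Over.mk p.1.1) = 𝟙 _ from rfl]
    simp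
  map_comp {T' W' V'} k l := by
    refine ConcreteCategory.hom_ext _ _ fun p => ?_
    refine (res_eq_iff g P _ _ _).2 ⟨Category.assoc _ _ _, ?_⟩
    show _ = P.map _ (P.map _ p.2)
    rw [← FunctorToTypes.map_comp_apply, ← op_comp]
    rfl

/-- a section as a section of the total presheaf -/
def toTotal {T' : Over S'} (p : Sec g P T') : (AdeqLib.total P).obj (op T'.left) :=
  ⟨p.1.1, p.2⟩

lemma toTotal_injective {T' : Over S'} : Function.Injective (toTotal g P (T' := T')) := by
  rintro ⟨⟨t, ht⟩, x⟩ ⟨⟨t', ht'⟩, x'⟩ e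
  cases e
  rfl

lemma toTotal_res {T' W' : Over S'} (k : W' ⟶ T') (p : Sec g P T') :
    toTotal g P (res g P k p) = (AdeqLib.total P).map k.left.op (toTotal g P p) := rfl

theorem isSheaf_total (hP : Presieve.IsSheaf (AlgSp.J S) P) :
    Presieve.IsSheaf Scheme.fppfTopology (AdeqLib.total P) := fun T R hR =>
  AdeqLib.isSheafFor_total P R
    ((GrothendieckTopology.Subcanonical.isSheaf_of_isRepresentable (J := Scheme.fppfTopology) _) R hR)
    fun t => hP _ (GrothendieckTopology.overEquiv_symm_mem_over Scheme.fppfTopology (Over.mk t) R hR)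

theorem isSheaf_jPre (hP : Presieve.IsSheaf (AlgSp.J S) P) : Presieve.IsSheaf (AlgSp.J S') (jPre g P) := by
  intro T' R hR x hx
  have hR' : Sieve.overEquiv T' R ∈ Scheme.fppfTopology T'.left := (GrothendieckTopology.mem_over_iff _ _).1 hR
  have hS' := (GrothendieckTopology.Subcanonical.isSheaf_of_isRepresentable (J := Scheme.fppfTopology)
    (yoneda.obj S')) _ hR'
  let fam : Presieve.FamilyOfElements (AdeqLib.total P) (Sieve.overEquiv T' R).arrows := fun Z f hf =>
    toTotal g P (x (Over.homMk f : Over.mk (f ≫ T'.hom) ⟶ T') ((Sieve.overEquiv_iff R f).mp hf))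
  have hfam : fam.Compatible := fun Y Y' Z gi gj f f' hf hf' e => by
    let a : Over.mk (gi ≫ f ≫ T'.hom) ⟶ Over.mk (f ≫ T'.hom) := Over.homMk gi rfl
    let b : Over.mk (gi ≫ f ≫ T'.hom) ⟶ Over.mk (f' ≫ T'.hom) := Over.homMk gj (by
      show gj ≫ f' ≫ T'.hom = gi ≫ f ≫ T'.hom
      rw [reassoc_of% e])
    exact congrArg (toTotal g P) (hx a b ((Sieve.overEquiv_iff R f).mp hf) ((Sieve.overEquiv_iff R f').mp hf')
      (Over.OverMorphism.ext e))
  obtain ⟨⟨t, s⟩, hts, htu⟩ := isSheaf_total P hP _ hR' fam hfam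
  have ht : t ≫ g = T'.hom := hS'.isSeparatedFor.ext fun Z f hf => by
    have h1 : f ≫ t = _ := congrArg Sigma.fst (hts f hf)
    show f ≫ t ≫ g = f ≫ T'.hom
    rw [← Category.assoc, h1]
    exact (x (Over.homMk f : Over.mk (f ≫ T'.hom) ⟶ T') ((Sieve.overEquiv_iff R f).mp hf)).1.2
  have key : ∀ {Z : Over S'} (k : Z ⟶ T') (hk : R k) (hk' : Sieve.overEquiv T' R k.left),
      toTotal g P (x k hk) = fam k.left hk' := by
    intro Z k hk hk'
    let e : Z ⟶ Over.mk (k.left ≫ T'.hom) := Over.homMk (𝟙 Z.left) ((Category.id_comp _).trans (Over.w k))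
    have hc := hx e (𝟙 Z) ((Sieve.overEquiv_iff R k.left).mp hk') hk
      (Over.OverMorphism.ext ((Category.id_comp _).trans (Category.id_comp _).symm))
    rw [op_id, FunctorToTypes.map_id_apply] at hc
    rw [← hc]
    show toTotal g P (res g P e _) = _
    rw [toTotal_res]
    show (AdeqLib.total P).map (𝟙 Z.left).op _ = _
    rw [op_id, FunctorToTypes.map_id_apply]
  refine ⟨⟨⟨t, ht⟩, s⟩, fun Z k hk => ?_, fun p hp => ?_⟩
  · have hk' : Sieve.overEquiv T' R k.left := ⟨Z, k, 𝟙 _, hk, (Category.id_comp _).symm⟩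
    refine toTotal_injective g P ?_
    rw [key k hk hk']
    exact hts k.left hk'
  · refine toTotal_injective g P (htu (toTotal g P p) fun Z f hf => ?_)
    exact congrArg (toTotal g P) (hp (Over.homMk f : Over.mk (f ≫ T'.hom) ⟶ T') ((Sieve.overEquiv_iff R f).mp hf))

end Pre

/-- extension of sheaves along `g` -/
noncomputable def jFun : Sp S ⥤ Sp S' where
  obj F := ⟨jPre g F.obj,
    (isSheaf_iff_isSheaf_of_type _ _).2 (isSheaf_jPre g F.obj ((isSheaf_iff_isSheaf_of_type _ _).1 F.property))⟩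
  map {F G} α := ObjectProperty.homMk
    { app := fun T' => TypeCat.ofHom fun p => ⟨p.1, α.hom.app _ p.2⟩
      naturality := fun T' W' k => by
        refine ConcreteCategory.hom_ext _ _ fun p => ?_
        refine ((res_eq_iff g G.obj k.unop _ _).2 ⟨rfl, ?_⟩).symm
        exact (NatTrans.naturality_apply α.hom _ p.2).symm }
  map_id F := by ext T' p; rfl
  map_comp α β := by ext T' p; rfl

lemma jFun_map_app {F G : Sp S} (α : F ⟶ G) (T' : Over S') (p : Sec g F.obj T') :
    ((jFun g).map α).hom.app (op T') p = ⟨p.1, α.hom.app _ p.2⟩ := rfl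

/-- the unit -/
noncomputable def unitApp (F : Sp S) : F ⟶ (pullS g).obj ((jFun g).obj F) := ObjectProperty.homMk
  { app := fun T => TypeCat.ofHom fun x => (⟨⟨T.unop.hom, rfl⟩, x⟩ : Sec g F.obj ((Over.map g).obj T.unop))
    naturality := fun T W k => by
      refine ConcreteCategory.hom_ext _ _ fun x => ?_
      exact ((res_eq_iff g F.obj ((Over.map g).map k.unop) (T' := (Over.map g).obj T.unop)
        ⟨⟨T.unop.hom, rfl⟩, x⟩ ⟨⟨W.unop.hom, rfl⟩, F.obj.map k x⟩).2 ⟨Over.w k.unop, rfl⟩).symm }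

/-- the comparison of an object with the one defined by a map to `S` -/
def cmp (T' : Over S') (t : {t : T'.left ⟶ S // t ≫ g = T'.hom}) :
    T' ⟶ (Over.map g).obj (Over.mk t.1) :=
  Over.homMk (𝟙 _) ((Category.id_comp _).trans t.2)

/-- the counit -/
noncomputable def counitApp (Y : Sp S') : (jFun g).obj ((pullS g).obj Y) ⟶ Y := ObjectProperty.homMk
  { app := fun T' => TypeCat.ofHom fun p => Y.obj.map (cmp g T'.unop p.1).op p.2
    naturality := fun T' W' k => by
      refine ConcreteCategory.hom_ext _ _ fun p => ?_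
      show Y.obj.map _ (Y.obj.map _ p.2) = Y.obj.map k (Y.obj.map _ p.2)
      rw [← FunctorToTypes.map_comp_apply, ← FunctorToTypes.map_comp_apply]
      refine congrArg (fun q => Y.obj.map q p.2) (Quiver.Hom.unop_inj (Over.OverMorphism.ext ?_))
      exact (Category.id_comp _).trans (Category.comp_id _).symm }

/-- the adjunction -/
noncomputable def jAdj : jFun g ⊣ pullS g where
  unit :=
    { app := unitApp g
      naturality := fun F G α => by ext T x; rfl }
  counit :=
    { app := counitApp g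
      naturality := fun Y Z β => by
        ext T' p
        exact (NatTrans.naturality_apply β.hom _ p.2).symm }
  left_triangle_components F := by
    ext T' p
    exact (res_eq_iff g F.obj (cmp g T'.unop p.1)
      (⟨⟨p.1.1, rfl⟩, p.2⟩ : Sec g F.obj ((Over.map g).obj (Over.mk p.1.1))) p).2 ⟨Category.id_comp _, by
        rw [show (Over.homMk (cmp g T'.unop p.1).left (Category.id_comp _) :
          Over.mk p.1.1 ⟶ Over.mk p.1.1) = 𝟙 _ from rfl, op_id, FunctorToTypes.map_id_apply]⟩
  right_triangle_components Y := by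
    ext T y
    show Y.obj.map (cmp g ((Over.map g).obj T.unop) ⟨T.unop.hom, rfl⟩).op y = y
    rw [show cmp g ((Over.map g).obj T.unop) ⟨T.unop.hom, rfl⟩ = 𝟙 _ from rfl, op_id]
    exact FunctorToTypes.map_id_apply _ _

/-- the left adjoint in Mathlib is this extension -/
noncomputable def sheafPullbackIso :
    (Over.map g).sheafPullback (Type (u + 1)) (AlgSp.J S) (AlgSp.J S') ≅ jFun g :=
  Adjunction.leftAdjointUniq ((Over.map g).sheafAdjunctionContinuous (Type (u + 1)) (AlgSp.J S) (AlgSp.J S'))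
    (jAdj g)

/-- the extension of a scheme -/
noncomputable def jRep (X : Over S) :
    ((jFun g).obj ((yon S).obj X)).obj.RepresentableBy ((Over.map g).obj X) where
  homEquiv {T'} :=
    { toFun := fun f => ⟨⟨f.left ≫ X.hom, (Category.assoc _ _ _).trans (Over.w f)⟩, ⟨Over.homMk f.left rfl⟩⟩
      invFun := fun p => Over.homMk p.2.down.left (by
        show p.2.down.left ≫ X.hom ≫ g = T'.hom
        rw [← Category.assoc, Over.w p.2.down]
        exact p.1.2)
      left_inv := fun f => by ext; rfl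
      right_inv := fun p => by
        obtain ⟨⟨t, ht⟩, ⟨q⟩⟩ := p
        obtain ⟨q', w, rfl⟩ : ∃ (q' : T'.left ⟶ X.left) (w : q' ≫ X.hom = t),
            q = Over.homMk (U := Over.mk t) (V := X) q' w := ⟨q.left, Over.w q, rfl⟩
        subst w
        rfl }
  homEquiv_comp {T' W'} k f := by
    refine ((res_eq_iff g ((yon S).obj X).obj k _ _).2 ⟨(Category.assoc _ _ _).symm, ?_⟩).symm
    rfl

noncomputable def jYonIso (X : Over S) : (yon S').obj ((Over.map g).obj X) ≅ (jFun g).obj ((yon S).obj X) :=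
  isoOfRepresentableBy (jRep g X)

lemma jYonIso_naturality {A B : Over S} (v : A ⟶ B) :
    (yon S').map ((Over.map g).map v) ≫ (jYonIso g B).hom = (jYonIso g A).hom ≫ (jFun g).map ((yon S).map v) := by
  apply Sheaf.hom_ext
  ext T' ⟨f⟩
  apply (jRep g B).homEquiv.symm.injective
  exact Over.OverMorphism.ext rfl

theorem isPullback_sheaf_iff {T : Scheme.{u}} {P A B C : Sp T} (p : P ⟶ A) (q : P ⟶ B) (f : A ⟶ C) (h : B ⟶ C) :
    IsPullback p q f h ↔ ∀ W : (Over T)ᵒᵖ, IsPullback (p.hom.app W) (q.hom.app W) (f.hom.app W) (h.hom.app W) := by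
  refine ⟨fun sq => (sq.map (sheafToPresheaf (AlgSp.J T) (Type (u + 1)))).app, fun sq => ?_⟩
  exact IsPullback.of_map (sheafToPresheaf (AlgSp.J T) (Type (u + 1)))
    (Sheaf.hom_ext ((IsPullback.of_forall_isPullback_app sq).w)) (IsPullback.of_forall_isPullback_app sq)

theorem isPullback_jFun_iff {P A B C : Sp S} (p : P ⟶ A) (q : P ⟶ B) (f : A ⟶ C) (h : B ⟶ C) :
    IsPullback ((jFun g).map p) ((jFun g).map q) ((jFun g).map f) ((jFun g).map h) ↔ IsPullback p q f h := by
  simp only [isPullback_sheaf_iff, Types.isPullback_iff]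
  constructor
  · intro H W
    obtain ⟨w, h1, h2⟩ := H (op ((Over.map g).obj W.unop))
    refine ⟨?_, fun x y e => ?_, fun a b e => ?_⟩
    · refine ConcreteCategory.hom_ext _ _ fun x => ?_
      have e := ConcreteCategory.congr_hom w (⟨⟨W.unop.hom, rfl⟩, x⟩ : Sec g P.obj ((Over.map g).obj W.unop))
      exact eq_of_heq (Sigma.mk.inj e).2
    · exact eq_of_heq (Sigma.mk.inj (h1 (⟨⟨W.unop.hom, rfl⟩, x⟩ : Sec g P.obj ((Over.map g).obj W.unop)) ⟨⟨W.unop.hom, rfl⟩, y⟩
        ⟨congrArg (Sigma.mk _) e.1, congrArg (Sigma.mk _) e.2⟩)).2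
    · obtain ⟨⟨t, x⟩, hx1, hx2⟩ := h2 (⟨⟨W.unop.hom, rfl⟩, a⟩ : Sec g A.obj ((Over.map g).obj W.unop)) ⟨⟨W.unop.hom, rfl⟩, b⟩
        (congrArg (Sigma.mk _) e)
      obtain rfl : t = ⟨W.unop.hom, rfl⟩ := congrArg Sigma.fst hx1
      exact ⟨x, eq_of_heq (Sigma.mk.inj hx1).2, eq_of_heq (Sigma.mk.inj hx2).2⟩
  · intro H W
    refine ⟨?_, ?_, ?_⟩
    · refine ConcreteCategory.hom_ext _ _ fun x => ?_
      exact congrArg (Sigma.mk x.1) (ConcreteCategory.congr_hom (H _).1 x.2)
    · rintro ⟨t, x⟩ ⟨t', y⟩ ⟨e1, e2⟩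
      obtain rfl : t = t' := congrArg Sigma.fst e1
      exact congrArg (Sigma.mk t) ((H _).2.1 x y ⟨eq_of_heq (Sigma.mk.inj e1).2, eq_of_heq (Sigma.mk.inj e2).2⟩)
    · rintro ⟨t, a⟩ ⟨t', b⟩ e
      obtain rfl : t = t' := congrArg Sigma.fst e
      obtain ⟨x, hx1, hx2⟩ := (H _).2.2 a b (eq_of_heq (Sigma.mk.inj e).2)
      exact ⟨⟨t, x⟩, congrArg (Sigma.mk t) hx1, congrArg (Sigma.mk t) hx2⟩

end Groth.Agent.AlgSpLib.ShriekS
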