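import Groth.Agent.AlgSpLib.ShriekS

/-!
# Algebraic spaces over `S` as algebraic spaces over `S'` with a map to `S`
-/

set_option autoImplicit false

universe u

open CategoryTheory CategoryTheory.Limits AlgebraicGeometry Opposite

set_option backward.isDefEq.respectTransparency false

namespace Groth.Agent.AlgSpLib.ShriekS

open _root_.AlgSp

variable {S S' : Scheme.{u}} (g : S ⟶ S')

lemma sec_ext {P : (Over S)ᵒᵖ ⥤ Type (u + 1)} {T' : Over S'} {p q : Sec g P T'} (h : p.1.1 = q.1.1)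
    (e : P.map (Over.homMk (𝟙 T'.left) ((Category.id_comp _).trans h) : Over.mk q.1.1 ⟶ Over.mk p.1.1).op p.2 = q.2) :
    p = q := by
  obtain ⟨⟨t, ht⟩, x⟩ := p
  obtain ⟨⟨t', ht'⟩, x'⟩ := q
  dsimp only at h e
  subst h
  refine congrArg (Sigma.mk _) (Eq.trans ?_ e)
  rw [show (Over.homMk (𝟙 T'.left) ((Category.id_comp _).trans rfl) : Over.mk t ⟶ Over.mk t) = 𝟙 _ from rfl,
    op_id]
  exact (FunctorToTypes.map_id_apply _ _).symm

/-- the structure map of an extension -/
noncomputable def jπ (F : Sp S) : (jFun g).obj F ⟶ (yon S').obj (Over.mk g) := ObjectProperty.homMk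
  { app := fun T' => TypeCat.ofHom fun p => ULift.up (Over.homMk p.1.1 p.1.2)
    naturality := fun T' W' k => by
      ext p
      rfl }

lemma map_jπ {F G : Sp S} (α : F ⟶ G) : (jFun g).map α ≫ jπ g G = jπ g F := rfl

/-- comparison isomorphism -/
noncomputable def cmpIso (T' : Over S') (t : {t : T'.left ⟶ S // t ≫ g = T'.hom}) :
    T' ≅ (Over.map g).obj (Over.mk t.1) :=
  Over.isoMk (Iso.refl _) ((Category.id_comp _).trans t.2)

theorem res_cmp {F : Sp S} (T' : Over S') (p : Sec g F.obj T') :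
    res g F.obj (cmp g T' p.1) (⟨⟨p.1.1, rfl⟩, p.2⟩ : Sec g F.obj ((Over.map g).obj (Over.mk p.1.1))) = p :=
  (res_eq_iff g F.obj (cmp g T' p.1) _ p).2 ⟨Category.id_comp _, by
    rw [show (Over.homMk (cmp g T' p.1).left (Category.id_comp _) :
      Over.mk p.1.1 ⟶ Over.mk p.1.1) = 𝟙 _ from rfl, op_id, FunctorToTypes.map_id_apply]⟩

theorem exists_decomp {G : Sp S} {T' : Over S'} (ξ : (yon S').obj T' ⟶ (jFun g).obj G) :
    ∃ (T : Over S) (η : (yon S).obj T ⟶ G) (e : T' ≅ (Over.map g).obj T), e.inv.left ≫ e.hom.left = 𝟙 _ ∧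
      IsIso e.inv.left ∧ ξ = (yon S').map e.hom ≫ (jYonIso g T).hom ≫ (jFun g).map η := by
  let p : Sec g G.obj T' := (AlgSp.J S').uliftYonedaEquiv ξ
  refine ⟨Over.mk p.1.1, (AlgSp.J S).uliftYonedaEquiv.symm p.2, cmpIso g T' p.1, Category.id_comp _,
    inferInstanceAs (IsIso (𝟙 T'.left)), ?_⟩
  apply (AlgSp.J S').uliftYonedaEquiv.injective
  show p = _
  refine (sec_ext g ?_ ?_).symm
  · exact (congrArg (fun q => q ≫ p.1.1) (Category.id_comp (𝟙 T'.left))).trans (Category.id_comp p.1.1)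
  · show G.obj.map _ (G.obj.map _ p.2) = p.2
    rw [← FunctorToTypes.map_comp_apply, ← op_comp]
    refine Eq.trans (congrArg (fun q : Over.mk p.1.1 ⟶ Over.mk p.1.1 => G.obj.map q.op p.2) (?_ : _ = 𝟙 _)) ?_
    · apply Over.OverMorphism.ext
      exact (Category.id_comp _).trans (Category.id_comp _)
    · exact FunctorToTypes.map_id_apply _ _

theorem isPullback_unit {F G : Sp S} (f : F ⟶ G) :
    IsPullback (unitApp g F) f ((pullS g).map ((jFun g).map f)) (unitApp g G) := by
  simp only [isPullback_sheaf_iff, Types.isPullback_iff]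
  intro W
  refine ⟨?_, ?_, ?_⟩
  · exact ConcreteCategory.hom_ext _ _ fun x => rfl
  · rintro x y ⟨e1, -⟩
    exact eq_of_heq (Sigma.mk.inj (show ((⟨⟨W.unop.hom, rfl⟩, x⟩ : Sec g F.obj ((Over.map g).obj W.unop)) =
      ⟨⟨W.unop.hom, rfl⟩, y⟩) from e1)).2
  · rintro ⟨t, a⟩ x e
    obtain rfl : t = ⟨W.unop.hom, rfl⟩ := congrArg Sigma.fst e
    exact ⟨a, rfl, eq_of_heq (Sigma.mk.inj e).2⟩

theorem repWith_jFun_iff (Q : MorphismProperty Scheme.{u}) [Q.IsStableUnderBaseChange] {F G : Sp S}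
    (f : F ⟶ G) : RepWith Q ((jFun g).map f) ↔ RepWith Q f := by
  refine ⟨fun h => repWith_baseChange (isPullback_unit g f) (repWith_pullS g Q _ h), fun h => ?_⟩
  refine repWith_of_exists fun T' ξ => ?_
  obtain ⟨T, η, e, -, he, rfl⟩ := exists_decomp g ξ
  obtain ⟨W, z, v, sq, hv⟩ := exists_repWith h η
  refine ⟨(Over.map g).obj W, (jYonIso g W).hom ≫ (jFun g).map z, (Over.map g).map v ≫ e.inv, ?_, ?_⟩
  · have s2 : IsPullback ((jYonIso g W).hom ≫ (jFun g).map z) ((yon S').map ((Over.map g).map v))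
        ((jFun g).map f) ((jYonIso g T).hom ≫ (jFun g).map η) :=
      (IsPullback.of_horiz_isIso ⟨(jYonIso_naturality g v).symm⟩).paste_horiz
        ((isPullback_jFun_iff g z _ f η).2 sq)
    have s1 : IsPullback (𝟙 _) ((yon S').map ((Over.map g).map v ≫ e.inv))
        ((yon S').map ((Over.map g).map v)) ((yon S').map e.hom) :=
      IsPullback.of_horiz_isIso ⟨by rw [Category.id_comp, ← Functor.map_comp, Category.assoc, e.inv_hom_id,
        Category.comp_id]⟩
    exact Category.id_comp ((jYonIso g W).hom ≫ (jFun g).map z) ▸ s1.paste_horiz s2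
  · have := he
    show Q (v.left ≫ e.inv.left)
    exact (Q.cancel_right_of_respectsIso v.left e.inv.left).2 hv

theorem representable_jFun_iff {F G : Sp S} (f : F ⟶ G) :
    Representable ((jFun g).map f) ↔ Representable f :=
  ⟨fun h => ((repWith_jFun_iff g ⊤ f).1 ⟨h, fun _ _ _ _ _ _ => trivial⟩).1,
    fun h => ((repWith_jFun_iff g ⊤ f).2 ⟨h, fun _ _ _ _ _ _ => trivial⟩).1⟩

theorem isAlgSpace_jFun {F : Sp S} (hF : IsAlgSpace F) : IsAlgSpace ((jFun g).obj F) where
  diag := Functor.relativelyRepresentable.diag_of_map_from_obj fun T' a => by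
    obtain ⟨T, η, e, -, -, rfl⟩ := exists_decomp g a
    exact MorphismProperty.RespectsIso.precomp _ _ _ (MorphismProperty.RespectsIso.precomp _ _ _
      ((representable_jFun_iff g η).2 (hF.representable_from_yon η)))
  atlas := by
    obtain ⟨U, p, h1, h2⟩ := hF.atlas
    exact ⟨_, (jYonIso g U).hom ≫ (jFun g).map p, (repWith_iso_comp_iff _ _).2 ((repWith_jFun_iff g _ p).2 h1),
      (repWith_iso_comp_iff _ _).2 ((repWith_jFun_iff g _ p).2 h2)⟩

theorem isAlgSpace_of_jFun {F : Sp S} (hF : IsAlgSpace ((jFun g).obj F)) : IsAlgSpace F where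
  diag := Functor.relativelyRepresentable.diag_of_map_from_obj fun T a => by
    have h := hF.representable_from_yon ((jYonIso g T).hom ≫ (jFun g).map a)
    exact (representable_jFun_iff g a).1
      ((MorphismProperty.cancel_left_of_respectsIso Representable (jYonIso g T).hom _).1 h)
  atlas := by
    obtain ⟨U', q, h1, h2⟩ := hF.atlas
    obtain ⟨T, η, e, -, -, rfl⟩ := exists_decomp g q
    exact ⟨T, η, (repWith_jFun_iff g _ η).1 ((repWith_iso_comp_iff _ _).1 ((repWith_iso_comp_iff _ _).1 h1)),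
      (repWith_jFun_iff g _ η).1 ((repWith_iso_comp_iff _ _).1 ((repWith_iso_comp_iff _ _).1 h2))⟩

theorem isAlgSpace_jFun_iff (F : Sp S) : IsAlgSpace ((jFun g).obj F) ↔ IsAlgSpace F :=
  ⟨isAlgSpace_of_jFun g, isAlgSpace_jFun g⟩

lemma map_eq_self {Y : (Over S')ᵒᵖ ⥤ Type (u + 1)} {T' : Over S'} (k : T' ⟶ T') (h : k.left = 𝟙 _)
    (y : Y.obj (op T')) : Y.map k.op y = y := by
  rw [show k = 𝟙 T' from Over.OverMorphism.ext h, op_id]
  exact FunctorToTypes.map_id_apply _ _

/-- pairing into an extension of a restriction -/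
noncomputable def pairTo {Z Y : Sp S'} (a : Z ⟶ (yon S').obj (Over.mk g)) (b : Z ⟶ Y) :
    Z ⟶ (jFun g).obj ((pullS g).obj Y) := ObjectProperty.homMk
  { app := fun T' => TypeCat.ofHom fun z =>
      (⟨⟨(a.hom.app T' z).down.left, Over.w (a.hom.app T' z).down⟩,
        Y.obj.map (cmpIso g T'.unop ⟨(a.hom.app T' z).down.left, Over.w (a.hom.app T' z).down⟩).inv.op
          (b.hom.app T' z)⟩ : Sec g ((pullS g).obj Y).obj T'.unop)
    naturality := fun T' W' k => by
      refine ConcreteCategory.hom_ext _ _ fun z => ?_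
      refine ((res_eq_iff g ((pullS g).obj Y).obj k.unop _ _).2 ⟨?_, ?_⟩).symm
      · exact (congrArg (fun q => q.down.left) (NatTrans.naturality_apply a.hom k z)).symm
      · refine Eq.trans ?_ (congrArg (fun q => Y.obj.map _ q) (NatTrans.naturality_apply b.hom k z).symm)
        show Y.obj.map _ (Y.obj.map _ _) = Y.obj.map _ (Y.obj.map _ _)
        rw [← FunctorToTypes.map_comp_apply, ← FunctorToTypes.map_comp_apply]
        refine congrArg (fun q => Y.obj.map q _) (Quiver.Hom.unop_inj (Over.OverMorphism.ext ?_))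
        exact (Category.comp_id _).trans (Category.id_comp _).symm }

theorem pairTo_fst {Z Y : Sp S'} (a : Z ⟶ (yon S').obj (Over.mk g)) (b : Z ⟶ Y) :
    pairTo g a b ≫ jπ g _ = a := by
  ext T' z
  rfl

theorem pairTo_snd {Z Y : Sp S'} (a : Z ⟶ (yon S').obj (Over.mk g)) (b : Z ⟶ Y) :
    pairTo g a b ≫ counitApp g Y = b := by
  ext T' z
  show Y.obj.map _ (Y.obj.map _ (b.hom.app T' z)) = b.hom.app T' z
  rw [← FunctorToTypes.map_comp_apply, ← op_comp]
  exact map_eq_self _ (Category.id_comp _) _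

theorem pairTo_unique {Z Y : Sp S'} (a : Z ⟶ (yon S').obj (Over.mk g)) (b : Z ⟶ Y)
    (m : Z ⟶ (jFun g).obj ((pullS g).obj Y)) (ha : m ≫ jπ g _ = a) (hb : m ≫ counitApp g Y = b) :
    m = pairTo g a b := by
  subst ha hb
  ext T' z
  refine sec_ext g rfl ?_
  show Y.obj.map _ (m.hom.app T' z).2 = Y.obj.map _ (Y.obj.map _ (m.hom.app T' z).2)
  rw [← FunctorToTypes.map_comp_apply, ← op_comp]
  refine congrArg (fun q => Y.obj.map q _) (Quiver.Hom.unop_inj (Over.OverMorphism.ext ?_))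
  exact (Category.id_comp _).symm

/-- extension of a restriction is the product with the new base -/
noncomputable def jPullSIso (Y : Sp S') : (jFun g).obj ((pullS g).obj Y) ≅ (yon S').obj (Over.mk g) ⨯ Y :=
  IsLimit.conePointUniqueUpToIso
    (BinaryFan.IsLimit.mk (BinaryFan.mk (jπ g ((pullS g).obj Y)) (counitApp g Y))
      (fun a b => pairTo g a b) (fun a b => pairTo_fst g a b) (fun a b => pairTo_snd g a b)
      (fun a b m ha hb => pairTo_unique g a b m ha hb))
    (limit.isLimit _)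

end Groth.Agent.AlgSpLib.ShriekS
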