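import Groth.Agent.AlgSpLib.Singleton
import Mathlib.AlgebraicGeometry.Morphisms.Flat
import Mathlib.AlgebraicGeometry.ResidueField

/-!
# Field valued points of reduced one-point algebraic spaces
-/

set_option autoImplicit false

universe u

open CategoryTheory CategoryTheory.Limits AlgebraicGeometry Opposite IsLocalRing

set_option backward.isDefEq.respectTransparency false

namespace Groth.Agent.AlgSpLib

open _root_.AlgSp

variable {S : Scheme.{u}}

theorem isField_stalk_chart_of_singleton {Z : Sp S} (hZ : IsAlgSpace Z)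
    (hr : EtaleLocally (fun U => IsReduced U) Z) [Subsingleton (Points Z)] {V : Over S}
    {b : (yon S).obj V ⟶ Z} (hb : RepWith @Etale b) (v : ↥V.left) : IsField (V.left.presheaf.stalk v) := by
  obtain ⟨h, h0⟩ := forall_stalk_regular_of_reduced_singleton hZ hr hb v
  refine isField_iff_maximalIdeal_eq.2 ?_
  have h1 := h.spanFinrank_maximalIdeal
  rw [h0] at h1
  exact (Submodule.spanFinrank_eq_zero_iff_eq_bot (IsNoetherian.noetherian _)).1 (by exact_mod_cast h1)

theorem locP_flat_of_singleton {X Z : Sp S} (hZ : IsAlgSpace Z)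
    (hr : EtaleLocally (fun U => IsReduced U) Z) [Subsingleton (Points Z)] (q : X ⟶ Z) : LocP @Flat q := by
  intro V W a b h _ hb _
  refine Flat.iff_flat_stalkMap _ |>.2 fun v => ?_
  let _ : Field (W.left.presheaf.stalk (h.left v)) := (isField_stalk_chart_of_singleton hZ hr hb _).toField
  let _ : Algebra (W.left.presheaf.stalk (h.left v)) (V.left.presheaf.stalk v) := (h.left.stalkMap v).hom.toAlgebra
  exact (inferInstance : Module.Flat (W.left.presheaf.stalk (h.left v)) (V.left.presheaf.stalk v))

theorem isSurjectiveMor_to_singleton {Z : Sp S} [Subsingleton (Points Z)] {K : Type u} [Field K]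
    {str : Spec (CommRingCat.of K) ⟶ S} (q : (yon S).obj (Over.mk str) ⟶ Z) : IsSurjectiveMor q := fun z => by
  obtain ⟨-, ⟨y⟩⟩ := points_yon_subsingleton str
  exact ⟨y, Subsingleton.elim _ _⟩

theorem flat_surjective_fieldPt {Z : Sp S} (hZ : IsAlgSpace Z) {K : Type u} [Field K]
    {str : Spec (CommRingCat.of K) ⟶ S} {p : (yon S).obj (Over.mk str) ⟶ Z}
    (hp : LocP @Flat p) (hs : IsSurjectiveMor p) {K' : Type u} [Field K'] {str' : Spec (CommRingCat.of K') ⟶ S}
    (q : (yon S).obj (Over.mk str') ⟶ Z) : LocP @Flat q ∧ IsSurjectiveMor q := by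
  obtain ⟨-, hsub⟩ := singleton_of_fieldPt hs
  exact ⟨locP_flat_of_singleton hZ (isReducedSp_of_flat_surjective hZ hp hs (isReducedSp_yon_field str)) q,
    isSurjectiveMor_to_singleton q⟩

theorem exists_lft_flat_surjective_fieldPt {Z : Sp S} (hZ : IsAlgSpace Z) {K : Type u} [Field K]
    {str : Spec (CommRingCat.of K) ⟶ S} {p : (yon S).obj (Over.mk str) ⟶ Z}
    (hp : LocP @Flat p) (hs : IsSurjectiveMor p) :
    ∃ (k' : Type u) (_ : Field k') (str' : Spec (CommRingCat.of k') ⟶ S) (q : (yon S).obj (Over.mk str') ⟶ Z),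
      LocP @LocallyOfFiniteType q ∧ LocP @Flat q ∧ IsSurjectiveMor q := by
  have hr := isReducedSp_of_flat_surjective hZ hp hs (isReducedSp_yon_field str)
  obtain ⟨⟨x⟩, hsub⟩ := singleton_of_fieldPt hs
  obtain ⟨U, a, ha, has⟩ := hZ.atlas
  obtain ⟨u, -⟩ := ofPt_surjective has x
  have hcl : IsClosed ({u} : Set ↥U.left) := by
    rw [← closure_eq_iff_isClosed]
    refine Set.Subset.antisymm (fun z hz => ?_) subset_closure
    have : Subsingleton (Spec (U.left.presheaf.stalk z)) := by
      let _ : Field (U.left.presheaf.stalk z) := (isField_stalk_chart_of_singleton hZ hr ha z).toField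
      exact inferInstanceAs (Subsingleton (PrimeSpectrum (U.left.presheaf.stalk z)))
    obtain ⟨c, hc⟩ : u ∈ Set.range (U.left.fromSpecStalk z) := by
      rw [Scheme.range_fromSpecStalk]; exact specializes_iff_mem_closure.2 hz
    rw [Subsingleton.elim c (closedPoint _), Scheme.fromSpecStalk_closedPoint] at hc
    exact hc
  let m := U.left.fromSpecResidueField u
  have : IsClosedImmersion m := by
    refine IsClosedImmersion.of_isPreimmersion m ?_
    rw [Scheme.range_fromSpecResidueField]
    exact hcl
  let m' : Over.mk (m ≫ U.hom) ⟶ U := Over.homMk m rfl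
  refine ⟨U.left.residueField u, inferInstance, m ≫ U.hom, (yon S).map m' ≫ a, ?_,
    flat_surjective_fieldPt hZ hp hs _⟩
  exact locP_comp etST_lft (IsAlgSpace.yon_obj U) hZ (locP_yon_map etST_lft m' (inferInstance : LocallyOfFiniteType m))
    (locP_of_etale etST_lft hZ ha)

end Groth.Agent.AlgSpLib
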