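import Groth.Agent.AlgSpLib.StalkPoint
import Groth.Agent.AlgSpLib.Points
import Groth.Prelude.Def_AlgSpCov
import Mathlib.CategoryTheory.Sites.Over
import Mathlib.CategoryTheory.Sites.CoverLifting
import Mathlib.CategoryTheory.Sites.CoverPreserving

/-!
# From the small etale site to the big etale site of an algebraic space
-/

set_option autoImplicit false

universe u

open CategoryTheory CategoryTheory.Limits AlgebraicGeometry Opposite

set_option backward.isDefEq.respectTransparency false

namespace Groth.Agent.AlgSpLib.SmallToBig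

open _root_.AlgSp

variable {S : Scheme.{u}}

/-- an etale atlas through a point of an algebraic space -/
theorem exists_chart_point {Z : Space S} (x : Points Z.obj) :
    ∃ (V : Over S) (a : (yon S).obj V ⟶ Z.obj) (v : ↥V.left),
      RepWith @Etale a ∧ Points.ofPt a v = x := by
  obtain ⟨V, a, he, hs⟩ := Z.property.atlas
  obtain ⟨v, hv⟩ := ofPt_surjective hs x
  exact ⟨V, a, v, he, hv⟩

/-- coverings of the big etale site are refined by etale maps from schemes -/
theorem exists_of_mem_spacesTop {Z : Space S} {R : Sieve Z} (h : R ∈ spacesTop S IsEtaleMor Z)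
    (x : Points Z.obj) : ∃ (V : Over S) (a : (ofScheme S).obj V ⟶ Z) (v : ↥V.left),
      RepWith @Etale a.hom ∧ R a ∧ Points.ofPt a.hom v = x := by
  change (spacesPre S IsEtaleMor).Saturate Z R at h
  induction h with
  | of Z R hR =>
    obtain ⟨Y, g, hg, y, rfl⟩ := hR.2 x
    obtain ⟨V, a, v, ha, rfl⟩ := exists_chart_point y
    refine ⟨V, (ObjectProperty.homMk a : (ofScheme S).obj V ⟶ Y) ≫ g, v, hR.1 g hg a ha,
      ⟨_, _, g, hg, rfl⟩, ?_⟩
    exact (Points.map_ofPt a g.hom v).symm
  | top Z =>
    obtain ⟨V, a, v, ha, rfl⟩ := exists_chart_point x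
    exact ⟨V, ObjectProperty.homMk a, v, ha, trivial, rfl⟩
  | pullback Z R _ Z' q ih =>
    obtain ⟨V, a, v, ha, hR, hv⟩ := ih (Points.map q.hom x)
    have sq := IsPullback.of_hasPullback a.hom q.hom
    let P : Space S := ⟨Limits.pullback a.hom q.hom,
      isAlgSpace_of_isPullback_space Z.property (IsAlgSpace.yon_obj V) Z'.property sq⟩
    obtain ⟨p, hp1, hp2⟩ := exists_point_of_isPullback sq (Points.ofScheme V v) x (by
      rw [Points.map_ofPt]
      simpa using hv)
    obtain ⟨W, c, w, hc, rfl⟩ := exists_chart_point (Z := P) p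
    refine ⟨W, ObjectProperty.homMk (c ≫ Limits.pullback.snd a.hom q.hom), w,
      repWith_comp hc (repWith_baseChange sq ha), ?_, ?_⟩
    · show R (_ ≫ q)
      have e : (ObjectProperty.homMk (c ≫ Limits.pullback.snd a.hom q.hom) : (ofScheme S).obj W ⟶ Z') ≫ q
          = (ObjectProperty.homMk (c ≫ Limits.pullback.fst a.hom q.hom) : (ofScheme S).obj W ⟶ (ofScheme S).obj V) ≫ a :=
        ObjectProperty.hom_ext _ ((Category.assoc _ _ _).trans
          ((congrArg (c ≫ ·) sq.w.symm).trans (Category.assoc _ _ _).symm))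
      exact e ▸ R.downward_closed hR _
    · show Points.ofPt (c ≫ Limits.pullback.snd a.hom q.hom) w = x
      rw [← Points.map_ofPt]
      exact hp2
  | transitive Z R R' _ _ ih ih' =>
    obtain ⟨V, a, v, ha, hR, rfl⟩ := ih x
    obtain ⟨W, b, w, hb, hR', hw⟩ := ih' hR (Points.ofScheme V v)
    refine ⟨W, b ≫ a, w, repWith_comp hb ha, hR', ?_⟩
    show Points.ofPt (b.hom ≫ a.hom) w = _
    rw [← Points.map_ofPt, hw, Points.map_ofPt]
    simp

variable {X Y : Space S} (f : Y ⟶ X)

/-- the functor from the small etale site to the big one -/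
noncomputable abbrev fnc : EtOver Y.obj ⥤ Over X :=
  EtOver.toEtSpOver Y ⋙ ObjectProperty.ι (fun E : Over Y => IsEtaleMor E.hom.hom) ⋙ Over.map f

theorem coverPreserving : CoverPreserving (etTop Y.obj) (spacesTopOver IsEtaleMor X) (fnc f) where
  cover_preserve {E R} hR := by
    rw [GrothendieckTopology.mem_over_iff]
    choose Z g hg hx using StalkPoint.surjective_of_mem_etTop hR
    refine (spacesTop S IsEtaleMor).superset_covering ?_
      (Precoverage.generate_mem_toGrothendieck
        ((ofArrows_mem_spacesPre_iff IsEtaleMor (fun x => (ofScheme S).obj (Z x).obj.left)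
          (fun x => ((ofScheme S).map (g x).hom.left :
            (ofScheme S).obj (Z x).obj.left ⟶ ((fnc f).obj E).left))).2 ⟨?_, ?_⟩))
    · rw [Sieve.generate_le_iff]
      rintro _ _ ⟨x⟩
      rw [Sieve.overEquiv_iff]
      let F := fnc f
      let i : Over.mk ((((ofScheme S).map (g x).hom.left :
          (ofScheme S).obj (Z x).obj.left ⟶ (F.obj E).left)) ≫ (F.obj E).hom) ⟶ F.obj (Z x) :=
        Over.homMk (𝟙 _) ((Category.id_comp _).trans (Over.w (F.map (g x))).symm)
      have e : i ≫ F.map (g x) = Over.homMk ((ofScheme S).map (g x).hom.left) rfl :=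
        Over.OverMorphism.ext (Category.id_comp _)
      exact e ▸ Sieve.downward_closed _ (Sieve.image_mem_functorPushforward F _ (hg x)) i
    · exact fun x => (isEtaleMor_yon_map_iff _).2 (EtOver.etale_left (g x))
    · intro p
      obtain ⟨x, rfl⟩ := (Points.schemeEquiv _).surjective p
      obtain ⟨z, hz⟩ := hx x
      refine ⟨x, Points.ofScheme _ z, ?_⟩
      show Points.map ((yon S).map (g x).hom.left) (Points.ofScheme _ z) = _
      rw [Points.map_ofPt, Category.id_comp, ofScheme_map, hz]
      rfl

theorem isCocontinuous : (fnc f).IsCocontinuous (etTop Y.obj) (spacesTopOver IsEtaleMor X) where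
  cover_lift {E R} hR := StalkPoint.mem_etTop_of_jointly_surjective _ fun x => by
    rw [GrothendieckTopology.mem_over_iff] at hR
    obtain ⟨V, a, v, ha, hRa, hv⟩ := exists_of_mem_spacesTop hR (Points.ofScheme E.obj.left x)
    obtain ⟨φ, hφ⟩ := (yon S).map_surjective a.hom
    let E' : EtOver Y.obj := EtOver.mk ((yon S).map φ ≫ E.obj.hom)
      (repWith_comp (hφ.symm ▸ ha) E.property)
    let g : E' ⟶ E := EtOver.homMk φ rfl
    refine ⟨E', g, ?_, v, ?_⟩
    · rw [Sieve.overEquiv_iff] at hRa
      show R ((fnc f).map g)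
      have ea : ((fnc f).map g).left = a := ObjectProperty.hom_ext _ hφ
      let i : (fnc f).obj E' ⟶ Over.mk (a ≫ ((fnc f).obj E).hom) :=
        Over.homMk (𝟙 _) ((Category.id_comp _).trans (by rw [← ea]; exact Over.w ((fnc f).map g)))
      have e : i ≫ Over.homMk a rfl = (fnc f).map g :=
        Over.OverMorphism.ext ((Category.id_comp _).trans ea.symm)
      exact e ▸ Sieve.downward_closed _ hRa i
    · have h1 : Points.ofScheme E.obj.left (φ.left v) = Points.ofScheme E.obj.left x := by
        rw [← ofScheme_map, hφ]; exact hv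
      exact (Points.schemeEquiv E.obj.left).injective h1

theorem compatiblePreserving :
    CompatiblePreserving.{max (u+1) (u+2)} (spacesTopOver IsEtaleMor X) (fnc f) where
  compatible ℱ Z T x hx Y₁ Y₂ W f₁ f₂ g₁ g₂ hg₁ hg₂ h := by
    have sq := (IsPullback.of_hasPullback g₁.hom.left g₂.hom.left).map (yon S)
    have e : f₁.left.hom ≫ (yon S).map g₁.hom.left = f₂.left.hom ≫ (yon S).map g₂.hom.left :=
      congrArg (fun q => q.left.hom) h
    let l : W.left ⟶ (ofScheme S).obj (pullback g₁.hom.left g₂.hom.left) :=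
      ObjectProperty.homMk (sq.lift f₁.left.hom f₂.left.hom e)
    let P := EtOver.pullbackObj g₁ g₂
    let L : W ⟶ (fnc f).obj P := Over.homMk l (by
      refine ObjectProperty.hom_ext _ ?_
      show sq.lift f₁.left.hom f₂.left.hom e ≫ ((yon S).map _ ≫ Y₁.obj.hom) ≫ f.hom = W.hom.hom
      rw [Category.assoc, IsPullback.lift_fst_assoc]
      exact congrArg (fun q => q.hom) (Over.w f₁))
    have h1 : L ≫ (fnc f).map (EtOver.pullbackFst g₁ g₂) = f₁ :=
      Over.OverMorphism.ext (ObjectProperty.hom_ext _ (sq.lift_fst _ _ _))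
    have h2 : L ≫ (fnc f).map (EtOver.pullbackSnd g₁ g₂) = f₂ :=
      Over.OverMorphism.ext (ObjectProperty.hom_ext _ (sq.lift_snd _ _ _))
    have key := hx (EtOver.pullbackFst g₁ g₂) (EtOver.pullbackSnd g₁ g₂) hg₁ hg₂
      (EtOver.pullback_condition g₁ g₂)
    conv_lhs => rw [← h1]
    conv_rhs => rw [← h2]
    simp only [op_comp, Functor.map_comp]
    exact congrArg (ℱ.obj.map L.op) key

end Groth.Agent.AlgSpLib.SmallToBig
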