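import Mathlib.RingTheory.Smooth.NoetherianDescent
import Mathlib.RingTheory.Smooth.Flat
import Mathlib.RingTheory.Smooth.Fiber
import Mathlib.RingTheory.Smooth.StandardSmoothOfFree
import Mathlib.RingTheory.Spectrum.Prime.Chevalley
import Mathlib.RingTheory.RingHom.FaithfullyFlat
import Mathlib.RingTheory.Etale.Kaehler
import Mathlib.RingTheory.Finiteness.Descent
import Groth.Agent.Grpd.FlatComp

/-!
# Descent of properties along the source: ring theory

`A → B → C` with `B → C` faithfully flat and smooth (or etale): properties of `A → C` pass to `A → B`.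
-/

universe u

open TensorProduct

namespace Groth.Agent.AlgSpLib.SrcDesc

/-- surjectivity of `Spec` is kept by base change -/
lemma comap_mem_range_baseChange {B₀ B₁ C₀ : Type u} [CommRing B₀] [CommRing B₁] [CommRing C₀]
    [Algebra B₀ B₁] [Algebra B₀ C₀] (q : PrimeSpectrum B₁)
    (h : PrimeSpectrum.comap (algebraMap B₀ B₁) q ∈ Set.range (PrimeSpectrum.comap (algebraMap B₀ C₀))) :
    q ∈ Set.range (PrimeSpectrum.comap (algebraMap B₁ (B₁ ⊗[B₀] C₀))) := by
  rw [← PrimeSpectrum.nontrivial_iff_mem_rangeComap] at h ⊢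
  let p := PrimeSpectrum.comap (algebraMap B₀ B₁) q
  let k := p.asIdeal.ResidueField
  let K := q.asIdeal.ResidueField
  let φ : k →+* K := Ideal.ResidueField.map p.asIdeal q.asIdeal (algebraMap B₀ B₁) rfl
  algebraize [φ]
  have : IsScalarTower B₀ k K := .of_algebraMap_eq fun x => by
    rw [RingHom.algebraMap_toAlgebra, IsScalarTower.algebraMap_apply B₀ B₁ K]
    exact (Ideal.ResidueField.map_algebraMap _ _ _ _ _).symm
  have : Nontrivial (K ⊗[k] (k ⊗[B₀] C₀)) := Module.FaithfullyFlat.lTensor_nontrivial k K _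
  have e1 := (TensorProduct.AlgebraTensorModule.cancelBaseChange B₀ B₁ B₁ K C₀).toEquiv
  have e2 := (TensorProduct.AlgebraTensorModule.cancelBaseChange B₀ k k K C₀).toEquiv
  exact (e1.trans e2.symm).nontrivial

/-- a smooth faithfully flat algebra comes from a smooth faithfully flat algebra over every large
enough subalgebra of the base -/
theorem exists_descent.{v} (R : Type v) (B C : Type u) [CommRing R] [CommRing B] [CommRing C]
    [Algebra R B] [Algebra B C] [Algebra.Smooth B C] [Module.FaithfullyFlat B C] :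
    ∃ (B₀ : Subalgebra R B) (C₀ : Type u) (_ : CommRing C₀) (_ : Algebra B₀ C₀) (w : Finset B),
      B₀.FG ∧ Algebra.Smooth B₀ C₀ ∧ Nonempty (C ≃ₐ[B] B ⊗[B₀] C₀) ∧
        ∀ (B₁ : Subalgebra R B) (hle : B₀ ≤ B₁), (↑w : Set B) ⊆ B₁ →
          letI := (Subalgebra.inclusion hle).toRingHom.toAlgebra
          Module.FaithfullyFlat B₁ (B₁ ⊗[B₀] C₀) := by
  classical
  obtain ⟨B₀, C₀, _, _, hB₀, _, ⟨e⟩⟩ := Algebra.Smooth.exists_subalgebra_fg R B C
  have ho : IsOpen (Set.range (PrimeSpectrum.comap (algebraMap B₀ C₀))) := by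
    rw [← Set.image_univ]
    exact PrimeSpectrum.isOpenMap_comap_of_hasGoingDown_of_finitePresentation _ isOpen_univ
  obtain ⟨K, hK⟩ := (PrimeSpectrum.isClosed_iff_zeroLocus_ideal _).mp ho.isClosed_compl
  have htop : K.map (algebraMap B₀ B) = ⊤ := by
    by_contra h
    obtain ⟨m, hm, hle⟩ := Ideal.exists_le_maximal _ h
    obtain ⟨n, hn⟩ := PrimeSpectrum.comap_surjective_of_faithfullyFlat (A := B) (B := C)
      ⟨m, hm.isPrime⟩
    let ψ : C₀ →+* C := e.symm.toRingHom.comp Algebra.TensorProduct.includeRight.toRingHom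
    have hψ : ψ.comp (algebraMap B₀ C₀) = (algebraMap B C).comp (algebraMap B₀ B) := by
      ext x
      have h := e.symm.commutes (x : B)
      rw [Algebra.TensorProduct.algebraMap_apply, Algebra.algebraMap_self_apply] at h
      simpa [ψ] using h
    have h1 : PrimeSpectrum.comap (algebraMap B₀ B) ⟨m, hm.isPrime⟩ ∈
        Set.range (PrimeSpectrum.comap (algebraMap B₀ C₀)) := ⟨PrimeSpectrum.comap ψ n, by
      rw [← hn, ← PrimeSpectrum.comap_comp_apply, ← PrimeSpectrum.comap_comp_apply, hψ]⟩
    have h2 : PrimeSpectrum.comap (algebraMap B₀ B) ⟨m, hm.isPrime⟩ ∈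
        PrimeSpectrum.zeroLocus (K : Set B₀) := fun x hx => hle (Ideal.mem_map_of_mem _ hx)
    rw [← hK] at h2
    exact h2 h1
  obtain ⟨n, w, z, hz⟩ := Submodule.mem_span_set'.mp
    (show (1 : B) ∈ Submodule.span B (algebraMap B₀ B '' (K : Set B₀)) from
      (Ideal.eq_top_iff_one _).mp htop)
  choose k hk hk' using fun i => (z i).2
  refine ⟨B₀, C₀, inferInstance, inferInstance, Finset.univ.image w, hB₀, inferInstance, ⟨e⟩,
    fun B₁ hle hsub => ?_⟩
  algebraize [(Subalgebra.inclusion hle).toRingHom]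
  refine Module.FaithfullyFlat.of_comap_surjective fun q => comap_mem_range_baseChange q ?_
  by_contra h
  rw [← Set.mem_compl_iff, hK, PrimeSpectrum.mem_zeroLocus] at h
  refine q.isPrime.ne_top ((Ideal.eq_top_iff_one _).mpr ?_)
  have : (1 : B₁) = ∑ i, (⟨w i, hsub (by simp)⟩ : B₁) * algebraMap B₀ B₁ (k i) := by
    apply Subtype.ext
    simp only [AddSubmonoidClass.coe_finsetSum, MulMemClass.coe_mul, OneMemClass.coe_one]
    rw [← hz]
    refine Finset.sum_congr rfl fun i _ => ?_
    rw [← hk' i]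
    rfl
  rw [this]
  exact Ideal.sum_mem _ fun i _ => Ideal.mul_mem_left _ _ (h (hk i))

variable {A B C : Type u} [CommRing A] [CommRing B] [CommRing C] [Algebra A B] [Algebra B C]
  [Algebra A C] [IsScalarTower A B C]

/-- finite type descends along smooth faithfully flat algebras -/
theorem finiteType_of_smooth [Algebra.Smooth B C] [Module.FaithfullyFlat B C]
    [Algebra.FiniteType A C] : Algebra.FiniteType A B := by
  classical
  obtain ⟨B₀, C₀, _, _, w, hB₀, _, ⟨e⟩, hff⟩ := exists_descent A B C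
  obtain ⟨s, hs⟩ := Algebra.FiniteType.out (R := A) (A := C)
  choose k b c hbc using fun x : C => TensorProduct.exists_sum_tmul_eq (e x)
  let t : Finset B := w ∪ s.biUnion fun x => Finset.univ.image (b x)
  let B₁ : Subalgebra A B := B₀ ⊔ Algebra.adjoin A ↑t
  have hle : B₀ ≤ B₁ := le_sup_left
  have hsub : (↑t : Set B) ⊆ B₁ := fun x hx =>
    (le_sup_right : _ ≤ B₁) (Algebra.subset_adjoin hx)
  algebraize [(Subalgebra.inclusion hle).toRingHom]
  have : IsScalarTower B₀ B₁ B := .of_algebraMap_eq fun x => rfl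
  have : Module.FaithfullyFlat B₁ (B₁ ⊗[B₀] C₀) :=
    hff B₁ hle fun x hx => hsub (Finset.mem_union_left _ hx)
  let e' : C ≃ₐ[B] B ⊗[B₁] (B₁ ⊗[B₀] C₀) :=
    e.trans (Algebra.TensorProduct.cancelBaseChange B₀ B₁ B B C₀).symm
  let φ : B₁ ⊗[B₀] C₀ →ₐ[B₁] B ⊗[B₁] (B₁ ⊗[B₀] C₀) := Algebra.TensorProduct.includeRight
  set_option synthInstance.maxHeartbeats 400000 in
  have key : ∀ x : C, e' x ∈ φ.range := fun x => by
    have hx : x ∈ Algebra.adjoin A (↑s : Set C) := by rw [hs]; trivial
    induction hx using Algebra.adjoin_induction with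
    | mem x hx =>
      refine ⟨∑ i, (⟨b x i, hsub (Finset.mem_union_right _ (Finset.mem_biUnion.mpr
        ⟨x, hx, Finset.mem_image_of_mem _ (Finset.mem_univ i)⟩))⟩ : B₁) ⊗ₜ[B₀] c x i, ?_⟩
      simp only [e', AlgEquiv.trans_apply, hbc, map_sum]
      refine Finset.sum_congr rfl fun i _ => ?_
      rw [AlgEquiv.eq_symm_apply]
      refine (Algebra.TensorProduct.cancelBaseChange_tmul B₀ B₁ B B C₀ _ _ _).trans ?_
      show ((⟨b x i, hsub (Finset.mem_union_right _ (Finset.mem_biUnion.mpr
        ⟨x, hx, Finset.mem_image_of_mem _ (Finset.mem_univ i)⟩))⟩ : B₁) • (1 : B)) ⊗ₜ[B₀] c x i = _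
      rw [Algebra.smul_def, mul_one]
      rfl
    | algebraMap a =>
      rw [IsScalarTower.algebraMap_apply A B C, AlgEquiv.commutes]
      exact (φ.range).algebraMap_mem (⟨algebraMap A B a, B₁.algebraMap_mem a⟩ : B₁)
    | add x y _ _ hx hy => rw [map_add]; exact add_mem hx hy
    | mul x y _ _ hx hy => rw [map_mul]; exact mul_mem hx hy
  have hφ : Function.Surjective φ := fun y => by simpa using key (e'.symm y)
  have hsurj : Function.Surjective (Algebra.linearMap B₁ B) := by
    rw [← Module.FaithfullyFlat.lTensor_surjective_iff_surjective B₁ (B₁ ⊗[B₀] C₀)]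
    intro y
    obtain ⟨x, hx⟩ := hφ (TensorProduct.comm B₁ _ _ y)
    refine ⟨x ⊗ₜ 1, (TensorProduct.comm B₁ _ _).injective ?_⟩
    rw [← hx]
    simp [φ]
    rfl
  have htop : B₁ = ⊤ := eq_top_iff.mpr fun x _ => by
    obtain ⟨y, rfl⟩ := hsurj x
    exact y.2
  exact ⟨htop ▸ hB₀.sup (Subalgebra.fg_adjoin_finset t)⟩

/-- finite presentation from a faithfully flat finitely presented algebra over a finitely presented
cover of the algebra -/
lemma finitePresentation_of_cover {P₁ C₂ : Type u} [CommRing P₁] [CommRing C₂] [Algebra A P₁]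
    [Algebra P₁ B] [Algebra P₁ C₂] [Algebra A C₂] [IsScalarTower A P₁ C₂] [IsScalarTower A P₁ B]
    [Algebra.FinitePresentation A P₁] [Algebra.FinitePresentation P₁ C₂] [Module.FaithfullyFlat P₁ C₂]
    (hπ₁ : Function.Surjective (algebraMap P₁ B)) (e₂ : C ≃ₐ[B] B ⊗[P₁] C₂)
    [Algebra.FinitePresentation A C] : Algebra.FinitePresentation A B := by
  classical
  have : Algebra.FinitePresentation A C₂ := .trans A P₁ C₂
  let inc : C₂ →ₐ[A] B ⊗[P₁] C₂ :=
    (Algebra.TensorProduct.includeRight : C₂ →ₐ[P₁] B ⊗[P₁] C₂).restrictScalars A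
  have : Algebra.FinitePresentation A (B ⊗[P₁] C₂) := .equiv (e₂.restrictScalars A)
  have hincs : Function.Surjective inc := fun y => by
    induction y with
    | zero => exact ⟨0, map_zero _⟩
    | add x y hx hy =>
      obtain ⟨x', rfl⟩ := hx
      obtain ⟨y', rfl⟩ := hy
      exact ⟨x' + y', map_add _ _ _⟩
    | tmul b x =>
      obtain ⟨p, rfl⟩ := hπ₁ b
      refine ⟨p • x, ?_⟩
      show (1 : B) ⊗ₜ[P₁] (p • x) = _
      rw [TensorProduct.tmul_smul, TensorProduct.smul_tmul', Algebra.smul_def, mul_one]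
  let π' : P₁ →ₐ[A] B := IsScalarTower.toAlgHom A P₁ B
  let J := RingHom.ker (algebraMap P₁ B)
  let inv : B →ₐ[P₁] C₂ ⧸ J.map (algebraMap P₁ C₂) :=
    (Ideal.Quotient.liftₐ (RingHom.ker (Algebra.ofId P₁ B)) (Algebra.ofId P₁ _) fun x hx => by
      rw [Algebra.ofId_apply, IsScalarTower.algebraMap_apply P₁ C₂, Ideal.Quotient.algebraMap_eq,
        Ideal.Quotient.eq_zero_iff_mem]
      exact Ideal.mem_map_of_mem _ hx).comp
      (Ideal.quotientKerAlgEquivOfSurjective (f := Algebra.ofId P₁ B) hπ₁).symm.toAlgHom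
  let r : B ⊗[P₁] C₂ →ₐ[P₁] C₂ ⧸ J.map (algebraMap P₁ C₂) :=
    Algebra.TensorProduct.lift inv (Ideal.Quotient.mkₐ P₁ _) fun _ _ => Commute.all _ _
  have hker : RingHom.ker inc.toRingHom = J.map (algebraMap P₁ C₂) := by
    refine le_antisymm (fun x hx => ?_) (Ideal.map_le_iff_le_comap.mpr fun x hx => ?_)
    · have hr : r (inc x) = Ideal.Quotient.mk _ x := by simp [r, inc]
      rw [← Ideal.Quotient.eq_zero_iff_mem, ← hr, show inc x = 0 from hx, map_zero]
    · rw [Ideal.mem_comap, RingHom.mem_ker]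
      show (1 : B) ⊗ₜ[P₁] algebraMap P₁ C₂ x = 0
      rw [Algebra.algebraMap_eq_smul_one, TensorProduct.tmul_smul, TensorProduct.smul_tmul',
        Algebra.smul_def, mul_one, show algebraMap P₁ B x = 0 from hx, TensorProduct.zero_tmul]
  have hfg : (J.map (algebraMap P₁ C₂)).FG :=
    hker ▸ Algebra.FinitePresentation.ker_fG_of_surjective inc hincs
  obtain ⟨s, hs, hseq⟩ := (Submodule.fg_span_iff_fg_span_finset_subset _).mp hfg
  choose v hv hv' using fun x : s => hs x.2
  have hJ : Ideal.span (Set.range v) = J := by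
    refine Ideal.map_injective_of_faithfullyFlat (A := P₁) (B := C₂) ?_
    rw [Ideal.map_span, ← Set.range_comp]
    show Ideal.span _ = Ideal.map (algebraMap P₁ C₂) J
    rw [show (algebraMap P₁ C₂) ∘ v = ((↑) : s → C₂) from funext hv']
    refine Eq.trans ?_ hseq.symm
    simp [Ideal.submodule_span_eq]
  exact .of_surjective (f := π') hπ₁
    (show J.FG from hJ ▸ ⟨Finset.univ.image v, by simp⟩)

/-- finite presentation descends along smooth faithfully flat algebras -/
theorem finitePresentation_of_smooth [Algebra.Smooth B C] [Module.FaithfullyFlat B C]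
    [Algebra.FinitePresentation A C] : Algebra.FinitePresentation A B := by
  classical
  have : Algebra.FiniteType A B := finiteType_of_smooth (C := C)
  obtain ⟨n, π, hπ⟩ := Algebra.FiniteType.iff_quotient_mvPolynomial''.mp ‹Algebra.FiniteType A B›
  obtain ⟨B₀', C₀, _, _, w, hB₀', _, ⟨e⟩, hff⟩ := exists_descent ℤ B C
  let B₁ : Subalgebra ℤ B := B₀' ⊔ Algebra.adjoin ℤ ↑w
  have hle : B₀' ≤ B₁ := le_sup_left
  algebraize [(Subalgebra.inclusion hle).toRingHom]
  have : IsScalarTower B₀' B₁ B := .of_algebraMap_eq fun x => rfl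
  have : Module.FaithfullyFlat B₁ (B₁ ⊗[B₀'] C₀) :=
    hff B₁ hle fun x hx => (le_sup_right : _ ≤ B₁) (Algebra.subset_adjoin hx)
  let C₁ := B₁ ⊗[B₀'] C₀
  have : Algebra.FiniteType ℤ B₁ :=
    (Subalgebra.fg_iff_finiteType B₁).mp (hB₀'.sup (Subalgebra.fg_adjoin_finset _))
  have : IsNoetherianRing B₁ := Algebra.FiniteType.isNoetherianRing ℤ B₁
  -- lift the generators of `B₁`
  obtain ⟨m, ρ, hρ⟩ := Algebra.FiniteType.iff_quotient_mvPolynomial''.mp ‹Algebra.FiniteType ℤ B₁›
  choose g hg using fun i : Fin m => hπ (ρ (MvPolynomial.X i) : B)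
  let ψ : MvPolynomial (Fin m) ℤ →+* MvPolynomial (Fin n) A := (MvPolynomial.aeval g).toRingHom
  have hψ : π.toRingHom.comp ψ = (algebraMap B₁ B).comp ρ.toRingHom :=
    MvPolynomial.ringHom_ext (fun r => by simp [ψ]) (fun i => by simp [ψ, hg])
  let I₁ : Ideal (MvPolynomial (Fin n) A) := (RingHom.ker ρ.toRingHom).map ψ
  have hI₁ : I₁.FG := Ideal.FG.map (IsNoetherian.noetherian _) ψ
  let P₁ := MvPolynomial (Fin n) A ⧸ I₁
  have : Algebra.FinitePresentation A P₁ := .quotient hI₁
  let σ : B₁ →+* P₁ := RingHom.liftOfSurjective ρ.toRingHom hρ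
    ⟨(Ideal.Quotient.mk I₁).comp ψ, fun x hx =>
      Ideal.Quotient.eq_zero_iff_mem.mpr (Ideal.mem_map_of_mem ψ hx)⟩
  have hσ : ∀ x, σ (ρ x) = Ideal.Quotient.mk I₁ (ψ x) := fun x =>
    RingHom.liftOfRightInverse_comp_apply _ _ _ _ x
  have hle₁ : I₁ ≤ RingHom.ker π.toRingHom := Ideal.map_le_iff_le_comap.mpr fun x hx => by
    rw [Ideal.mem_comap, RingHom.mem_ker, ← RingHom.comp_apply, hψ, RingHom.comp_apply,
      RingHom.mem_ker.mp hx, map_zero]
  let π₁ : P₁ →ₐ[A] B := Ideal.Quotient.liftₐ I₁ π fun x hx => hle₁ hx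
  have hπ₁ : Function.Surjective π₁ := fun y => by
    obtain ⟨x, rfl⟩ := hπ y
    exact ⟨Ideal.Quotient.mk I₁ x, rfl⟩
  let : Algebra B₁ P₁ := σ.toAlgebra
  let : Algebra P₁ B := π₁.toRingHom.toAlgebra
  have : IsScalarTower A P₁ B := .of_algebraMap_eq fun x => (π₁.commutes x).symm
  have : IsScalarTower B₁ P₁ B := .of_algebraMap_eq fun x => by
    obtain ⟨x, rfl⟩ := hρ x
    show _ = π₁ (σ (ρ x))
    rw [hσ]
    exact congr($hψ x).symm
  have : Algebra.Smooth B₁ C₁ := inferInstanceAs (Algebra.Smooth B₁ (B₁ ⊗[B₀'] C₀))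
  exact finitePresentation_of_cover (P₁ := P₁) (C₂ := P₁ ⊗[B₁] C₁) hπ₁ ((e.trans
    (Algebra.TensorProduct.cancelBaseChange B₀' B₁ B B C₀).symm).trans
    (Algebra.TensorProduct.cancelBaseChange B₁ P₁ B B C₁).symm)

/-- formally unramified descends along faithfully flat formally etale algebras -/
theorem formallyUnramified_of_etale [Algebra.FormallyEtale B C] [Module.FaithfullyFlat B C]
    [Algebra.FormallyUnramified A C] : Algebra.FormallyUnramified A B := by
  constructor
  have : Subsingleton (C ⊗[B] Ω[B⁄A]) :=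
    (KaehlerDifferential.tensorKaehlerEquivOfFormallyEtale A B C).subsingleton
  exact Module.FaithfullyFlat.lTensor_reflects_triviality B C _

/-- a smooth map with etale faithfully flat factor is etale over affine space when the differentials
of the factor are free on exact differentials -/
theorem smooth_of_basis [Algebra.Etale B C] [Module.FaithfullyFlat B C] [Algebra.Smooth A C]
    [Algebra.FinitePresentation A B] {κ : Type u} [Finite κ]
    (bB : Module.Basis κ B Ω[B⁄A]) (a : κ → B) (ha : ∀ i, bB i = KaehlerDifferential.D A B (a i)) :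
    Algebra.Smooth A B := by
  classical
  let P := MvPolynomial κ A
  let φ : P →+* B := (MvPolynomial.aeval a).toRingHom
  let : Algebra P B := φ.toAlgebra
  let : Algebra P C := ((algebraMap B C).comp φ).toAlgebra
  have : IsScalarTower A P B := .of_algebraMap_eq fun x => by
    rw [RingHom.algebraMap_toAlgebra]
    exact ((MvPolynomial.aeval a).commutes x).symm
  have : IsScalarTower P B C := .of_algebraMap_eq fun x => rfl
  have : IsScalarTower A P C := .of_algebraMap_eq fun x => by
    rw [IsScalarTower.algebraMap_apply P B C, ← IsScalarTower.algebraMap_apply A P B,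
      ← IsScalarTower.algebraMap_apply A B C]
  let b₁ : Module.Basis κ C (C ⊗[P] Ω[P⁄A]) := (KaehlerDifferential.mvPolynomialBasis A κ).baseChange C
  let b₂ : Module.Basis κ C Ω[C⁄A] :=
    (bB.baseChange C).map (KaehlerDifferential.tensorKaehlerEquivOfFormallyEtale A B C)
  have hmap : KaehlerDifferential.mapBaseChange A P C = (b₁.equiv b₂ (Equiv.refl κ)).toLinearMap := by
    refine b₁.ext fun i => ?_
    rw [LinearEquiv.coe_coe, Module.Basis.equiv_apply]
    simp [b₁, b₂, KaehlerDifferential.mvPolynomialBasis_apply, ha]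
    change KaehlerDifferential.mapBaseChange A P C (1 ⊗ₜ[P] KaehlerDifferential.D A P (MvPolynomial.X i)) = _
    rw [KaehlerDifferential.mapBaseChange_tmul, one_smul, KaehlerDifferential.map_D]
    refine congrArg _ ?_
    rw [IsScalarTower.algebraMap_apply P B C]
    refine congrArg _ ?_
    exact MvPolynomial.aeval_X a i
  have hbij : Function.Bijective (KaehlerDifferential.mapBaseChange A P C) := by
    rw [hmap]
    exact (b₁.equiv b₂ (Equiv.refl κ)).bijective
  have : Subsingleton Ω[C⁄P] := ⟨fun x y => by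
    have key : ∀ z : Ω[C⁄P], z = 0 := fun z => by
      obtain ⟨z, rfl⟩ := KaehlerDifferential.map_surjective A P C z
      exact (KaehlerDifferential.exact_mapBaseChange_map A P C z).mpr (hbij.2 z)
    rw [key x, key y]⟩
  have : Subsingleton (Algebra.H1Cotangent P C) := ⟨fun x y => by
    have key : ∀ z : Algebra.H1Cotangent P C, z = 0 := fun z => by
      have h0 : Algebra.H1Cotangent.δ A P C z = 0 := hbij.1 (by
        rw [map_zero]
        exact (Algebra.H1Cotangent.exact_δ_mapBaseChange A P C _).mpr ⟨z, rfl⟩)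
      obtain ⟨w, rfl⟩ := (Algebra.H1Cotangent.exact_map_δ A P C z).mp h0
      rw [Subsingleton.elim w 0, map_zero]
    rw [key x, key y]⟩
  have : Algebra.FormallyUnramified P C := ⟨inferInstance⟩
  have : Algebra.FormallySmooth P C :=
    (Algebra.formallySmooth_iff _ _).mpr ⟨inferInstance, inferInstance⟩
  have : Algebra.FinitePresentation P C := .of_restrict_scalars_finitePresentation A P C
  have : Algebra.Smooth P C := ⟨inferInstance, inferInstance⟩
  have : Algebra.Etale P C := Algebra.Etale.iff_formallyUnramified_and_smooth.mpr ⟨inferInstance, inferInstance⟩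
  have : Algebra.FinitePresentation P B := .of_restrict_scalars_finitePresentation A P B
  have : Algebra.FormallyUnramified P B := formallyUnramified_of_etale (C := C)
  have : Module.Flat P B := GrpdLib.moduleFlat_of_comp P B C
  have : Algebra.Etale P B := Algebra.Etale.of_formallyUnramified_of_flat
  have : Algebra.Smooth A P := ⟨inferInstanceAs (Algebra.FormallySmooth A (MvPolynomial κ A)), inferInstanceAs (Algebra.FinitePresentation A (MvPolynomial κ A))⟩
  exact .comp A P B

open KaehlerDifferential in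
/-- smoothness descends along faithfully flat etale algebras -/
theorem smooth_of_etale [Algebra.Etale B C] [Module.FaithfullyFlat B C] [Algebra.Smooth A C] :
    Algebra.Smooth A B := by
  have hfp : Algebra.FinitePresentation A B := finitePresentation_of_smooth (C := C)
  have : Module.Flat C (C ⊗[B] Ω[B⁄A]) :=
    .of_linearEquiv (tensorKaehlerEquivOfFormallyEtale A B C)
  have : Module.Flat B Ω[B⁄A] := Module.Flat.of_flat_tensorProduct _ _ C
  have : Module.Projective B Ω[B⁄A] := Module.Flat.projective_of_finitePresentation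
  suffices h : Algebra.smoothLocus A B = Set.univ from
    ⟨(Algebra.smoothLocus_eq_univ_iff).mp h, hfp⟩
  refine Set.eq_univ_of_forall fun ⟨p, hp⟩ => ?_
  have : Module.Flat (Localization.AtPrime p) Ω[Localization.AtPrime p⁄A] :=
    .of_isLocalizedModule _ p.primeCompl (map A A B (Localization.AtPrime p))
  have : Module.FinitePresentation (Localization.AtPrime p) Ω[Localization.AtPrime p⁄A] :=
    _root_.FinitePresentation.of_isBaseChange (map A A B (Localization.AtPrime p))
      ((isLocalizedModule_iff_isBaseChange p.primeCompl (Localization.AtPrime p) _).mp inferInstance)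
  obtain ⟨κ, a, b, hb⟩ := Module.exists_basis_of_span_of_flat _
    (span_range_map_derivation_of_isLocalization A _ (Localization.AtPrime p) p.primeCompl)
  have : Finite κ := Module.Finite.finite_basis b
  let e : (κ →₀ B) →ₗ[B] Ω[B⁄A] := Finsupp.linearCombination B fun i : κ ↦ D A B (a i)
  let l₁ : (κ →₀ B) →ₗ[B] (κ →₀ Localization.AtPrime p) :=
    Finsupp.mapRange.linearMap (Algebra.linearMap B (Localization.AtPrime p))
  let l₂ : Ω[B⁄A] →ₗ[B] Ω[Localization.AtPrime p⁄A] := map A A B (Localization.AtPrime p)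
  let eₚ : (κ →₀ Localization.AtPrime p) →ₗ[Localization.AtPrime p] Ω[Localization.AtPrime p⁄A] :=
    IsLocalizedModule.mapExtendScalars p.primeCompl l₁ l₂ (Localization.AtPrime p) e
  have : eₚ = b.repr.symm := by
    ext i
    trans IsLocalizedModule.map p.primeCompl l₁ l₂ e <| l₁ <| Finsupp.single i 1
    · simp [eₚ, -IsLocalizedModule.map_apply, l₁]
    · simp [l₂, e, hb]
  have heₚ : Function.Bijective eₚ := this ▸ b.repr.symm.bijective
  obtain ⟨g, hg, h⟩ := Module.FinitePresentation.exists_notMem_bijective e p l₁ l₂ heₚ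
  let l₁ₜ : (κ →₀ B) →ₗ[B] (κ →₀ Localization.Away g) :=
    Finsupp.mapRange.linearMap (Algebra.linearMap B _)
  let l₂ₜ : Ω[B⁄A] →ₗ[B] Ω[Localization.Away g⁄A] := map A A B (Localization.Away g)
  rw [← IsLocalizedModule.map_bijective_iff_localizedModuleMap_bijective l₁ₜ l₂ₜ] at h
  let eₜ' : (κ →₀ Localization.Away g) →ₗ[Localization.Away g] Ω[Localization.Away g⁄A] :=
    IsLocalizedModule.mapExtendScalars (Submonoid.powers g) l₁ₜ l₂ₜ (Localization.Away g) e
  have hsm : Algebra.Smooth A (Localization.Away g) := by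
    let Bg := Localization.Away g
    have : Algebra.Etale B Bg := .of_isLocalizationAway g
    have : Algebra.Smooth A (C ⊗[B] Bg) := .comp A C _
    have : Algebra.Smooth A (Bg ⊗[B] C) :=
      .of_equiv ((Algebra.TensorProduct.comm B C Bg).restrictScalars A)
    refine smooth_of_basis (C := Bg ⊗[B] C)
      (.ofRepr (LinearEquiv.ofBijective eₜ' h).symm) (fun i => algebraMap B Bg (a i)) fun i => ?_
    show eₜ' (Finsupp.single i 1) = _
    rw [show Finsupp.single i (1 : Bg) = l₁ₜ (Finsupp.single i 1) by simp [l₁ₜ, Bg]]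
    change IsLocalizedModule.map (Submonoid.powers g) l₁ₜ l₂ₜ e (l₁ₜ (Finsupp.single i 1)) = _
    rw [IsLocalizedModule.map_apply]
    simp [e, l₂ₜ, Bg]
  exact Algebra.basicOpen_subset_smoothLocus_iff_smooth.mpr hsm hg

/-- etaleness descends along faithfully flat etale algebras -/
theorem etale_of_etale [Algebra.Etale B C] [Module.FaithfullyFlat B C] [Algebra.Etale A C] :
    Algebra.Etale A B :=
  Algebra.Etale.iff_formallyUnramified_and_smooth.mpr
    ⟨formallyUnramified_of_etale (C := C), smooth_of_etale (C := C)⟩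

end Groth.Agent.AlgSpLib.SrcDesc
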