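import Groth.Agent.AlgSpLib.StalkPoint
import Groth.Agent.EtStalk.Sheaf
import Mathlib.CategoryTheory.Abelian.GrothendieckAxioms.Types

/-!
# Geometric points detect properties of etale sheaves on algebraic spaces
-/

set_option autoImplicit false

universe w' v' u' u

open CategoryTheory CategoryTheory.Limits AlgebraicGeometry Opposite IsLocalRing

set_option backward.isDefEq.respectTransparency false

namespace Groth.Agent.AlgSpLib.StalkPoint

open _root_.AlgSp

variable {S : Scheme.{u}} {X : Sp S} (hX : IsAlgSpace X)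

variable {A : Type u'} [Category.{v'} A] [HasColimitsOfSize.{u, u} A]
  {FC : A → A → Type*} {CC : A → Type w'} [∀ (M N : A), FunLike (FC M N) (CC M) (CC N)]
  [ConcreteCategory.{w'} A FC] [PreservesFilteredColimitsOfSize.{u, u} (forget A)]

variable {F G : (EtOver X)ᵒᵖ ⥤ A} (f : F ⟶ G)

include hX in
theorem isLocallyInjective_of_stalk
    (hf : ∀ (p : FieldPt X) (hp : p.IsGeometric), Function.Injective ((point hX p hp).presheafFiber.map f)) :
    Presheaf.IsLocallyInjective (etTop X) f := by
  refine ⟨fun {U} a b hab => mem_etTop_of_jointly_surjective _ fun x => ?_⟩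
  obtain ⟨q, hq, v, hv⟩ := exists_geometric_through U.unop x
  have h1 : (point hX q hq).toPresheafFiber U.unop v F a = (point hX q hq).toPresheafFiber U.unop v F b := by
    apply hf q hq
    rw [GrothendieckTopology.Point.toPresheafFiber_naturality_apply,
      GrothendieckTopology.Point.toPresheafFiber_naturality_apply]
    exact congrArg _ hab
  obtain ⟨Y, g, y, hy, hg⟩ := ((point hX q hq).toPresheafFiber_eq_iff' _ _ _ _).mp h1
  refine ⟨Y, g, hg, (y.1.left : Spec (CommRingCat.of q.K) ⟶ _) (closedPoint q.K), ?_⟩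
  rw [← hv, ← hy]
  rfl

include hX in
theorem isLocallySurjective_of_stalk
    (hf : ∀ (p : FieldPt X) (hp : p.IsGeometric), Function.Surjective ((point hX p hp).presheafFiber.map f)) :
    Presheaf.IsLocallySurjective (etTop X) f := by
  refine ⟨fun {U} s => mem_etTop_of_jointly_surjective _ fun x => ?_⟩
  obtain ⟨q, hq, v, hv⟩ := exists_geometric_through U x
  obtain ⟨t₀, ht₀⟩ := hf q hq ((point hX q hq).toPresheafFiber U v G s)
  obtain ⟨V, w, t, rfl⟩ := (point hX q hq).toPresheafFiber_jointly_surjective t₀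
  rw [GrothendieckTopology.Point.toPresheafFiber_naturality_apply] at ht₀
  obtain ⟨W, a, b, -⟩ := IsCofilteredOrEmpty.cone_objs
    (Functor.elementsMk (point hX q hq).fiber V w) (Functor.elementsMk (point hX q hq).fiber U v)
  have h1 : (point hX q hq).toPresheafFiber W.1 W.2 G (G.map a.1.op (f.app _ t)) =
      (point hX q hq).toPresheafFiber W.1 W.2 G (G.map b.1.op s) := by
    rw [GrothendieckTopology.Point.toPresheafFiber_w_apply,
      GrothendieckTopology.Point.toPresheafFiber_w_apply, a.2, b.2]
    exact ht₀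
  obtain ⟨Y, g, y, hy, hg⟩ := ((point hX q hq).toPresheafFiber_eq_iff' _ _ _ _).mp h1
  refine ⟨Y, g ≫ b.1, ⟨F.map (g ≫ a.1).op t, ?_⟩, (y.1.left : Spec (CommRingCat.of q.K) ⟶ _) (closedPoint q.K), ?_⟩
  · rw [NatTrans.naturality_apply]
    simpa using hg
  · have e : (FieldPt.liftsTo q).map (g ≫ b.1) y = v := by
      rw [Functor.map_comp]; exact (congrArg _ hy).trans b.2
    exact (congrArg (fun z : (FieldPt.liftsTo q).obj U =>
      (z.1.left : Spec (CommRingCat.of q.K) ⟶ _) (closedPoint q.K)) e).trans hv

end Groth.Agent.AlgSpLib.StalkPoint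

namespace Groth.Agent.AlgSpLib.StalkPoint

open _root_.AlgSp

section Concrete

instance : AB5OfSize.{u, u} (Type (u + 1)) := AB5OfSize_of_univLE.{u, u, u + 1, u + 1} _

variable {S : Scheme.{u}} {X : Sp S}

theorem mono_iff_stalk (hX : IsAlgSpace X) {F G : EtSh X (Type (u + 1))} (a : F ⟶ G) :
    Mono a ↔ ∀ p : FieldPt X, p.IsGeometric → Function.Injective ((stalkEtFunctor (Type (u + 1)) p).map a) := by
  refine ⟨fun h p hp => ?_, fun h => ?_⟩
  · exact (mono_iff_injective _).mp (inferInstanceAs (Mono ((point hX p hp).sheafFiber.map a)))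
  · have : Presheaf.IsLocallyInjective (etTop X) a.hom := isLocallyInjective_of_stalk hX _ h
    exact Sheaf.mono_of_isLocallyInjective a

theorem epi_iff_stalk (hX : IsAlgSpace X) {F G : EtSh X (Type (u + 1))} (a : F ⟶ G) :
    Epi a ↔ ∀ p : FieldPt X, p.IsGeometric → Function.Surjective ((stalkEtFunctor (Type (u + 1)) p).map a) := by
  refine ⟨fun h p hp => ?_, fun h => ?_⟩
  · exact (epi_iff_surjective _).mp (inferInstanceAs (Epi ((point hX p hp).sheafFiber.map a)))
  · have : Sheaf.IsLocallySurjective a := isLocallySurjective_of_stalk hX _ h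
    exact inferInstance

/-- the index type of geometric points -/
def Geo (X : Sp S) : Type (u + 1) := {p : FieldPt X // p.IsGeometric}

theorem jointlyReflectIsomorphisms (hX : IsAlgSpace X) :
    JointlyReflectIsomorphisms (fun p : Geo X => (point hX p.1 p.2).sheafFiber (A := AddCommGrpCat.{u + 1})) where
  isIso {F G} a h := by
    have hb : ∀ (p : FieldPt X) (hp : p.IsGeometric),
        Function.Bijective ((point hX p hp).presheafFiber.map a.hom) := fun p hp =>
      (ConcreteCategory.isIso_iff_bijective _).mp (h ⟨p, hp⟩)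
    have h1 : Presheaf.IsLocallyInjective (etTop X) a.hom :=
      isLocallyInjective_of_stalk hX _ fun p hp => (hb p hp).1
    have h2 : Sheaf.IsLocallySurjective a := isLocallySurjective_of_stalk hX _ fun p hp => (hb p hp).2
    have : Mono a := Sheaf.mono_of_isLocallyInjective a
    have : Epi a := inferInstance
    exact isIso_of_mono_of_epi a

theorem exact_iff_stalk (hX : IsAlgSpace X) (C : ShortComplex (AbEt X)) :
    C.Exact ↔ ∀ p : FieldPt X, p.IsGeometric →
      ∀ y : ↥((stalkEtFunctor AddCommGrpCat.{u + 1} p).obj C.X₂),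
        ((stalkEtFunctor AddCommGrpCat.{u + 1} p).map C.g) y = 0 →
          ∃ x : ↥((stalkEtFunctor AddCommGrpCat.{u + 1} p).obj C.X₁),
            ((stalkEtFunctor AddCommGrpCat.{u + 1} p).map C.f) x = y := by
  refine ((jointlyReflectIsomorphisms hX).exact_iff C).trans ?_
  constructor
  · intro h p hp
    exact (ShortComplex.ab_exact_iff _).mp (h ⟨p, hp⟩)
  · intro h p
    exact (ShortComplex.ab_exact_iff _).mpr (h p.1 p.2)

theorem stalkEtFunctor_exact (hX : IsAlgSpace X) (p : FieldPt X) (hp : p.IsGeometric) :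
    (PreservesFiniteLimits (stalkEtFunctor (Type (u + 1)) p) ∧
      PreservesFiniteColimits (stalkEtFunctor (Type (u + 1)) p)) ∧
    (PreservesFiniteLimits (stalkEtFunctor AddCommGrpCat.{u + 1} p) ∧
      PreservesFiniteColimits (stalkEtFunctor AddCommGrpCat.{u + 1} p)) :=
  ⟨⟨inferInstanceAs (PreservesFiniteLimits ((point hX p hp).sheafFiber (A := Type (u + 1)))),
    inferInstanceAs (PreservesFiniteColimits ((point hX p hp).sheafFiber (A := Type (u + 1))))⟩,
   inferInstanceAs (PreservesFiniteLimits ((point hX p hp).sheafFiber (A := AddCommGrpCat.{u + 1}))),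
    inferInstanceAs (PreservesFiniteColimits ((point hX p hp).sheafFiber (A := AddCommGrpCat.{u + 1})))⟩

theorem stalkEtPshFunctor_exact (hX : IsAlgSpace X) (p : FieldPt X) (hp : p.IsGeometric) :
    (PreservesFiniteLimits (stalkEtPshFunctor AddCommGrpCat.{u + 1} p) ∧
      PreservesFiniteColimits (stalkEtPshFunctor AddCommGrpCat.{u + 1} p)) ∧
    ∀ P : (EtOver X)ᵒᵖ ⥤ Type (u + 1),
      IsIso ((stalkEtPshFunctor (Type (u + 1)) p).map (toSheafify (etTop X) P)) := by
  refine ⟨⟨inferInstanceAs (PreservesFiniteLimits ((point hX p hp).presheafFiber (A := AddCommGrpCat.{u + 1}))), ?_⟩, fun P => ?_⟩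
  · have : PreservesColimitsOfSize.{u, u} ((point hX p hp).presheafFiber (A := AddCommGrpCat.{u + 1})) := inferInstance
    exact PreservesColimitsOfSize.preservesFiniteColimits ((point hX p hp).presheafFiber (A := AddCommGrpCat.{u + 1}))
  · exact (point hX p hp).W_isInvertedBy_presheafFiber' _ ((etTop X).W_toSheafify P)

end Concrete

end Groth.Agent.AlgSpLib.StalkPoint
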