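import Groth.Agent.AlgSpLib.StalkHensel
import Groth.Agent.AlgSpLib.StalkConserv
import Groth.Agent.Hensel.BranchFlat
import Groth.Agent.Hensel.BranchCountStrict
import Groth.Agent.Hensel.BranchMore
import Groth.Prelude.Def_ModSite
import Groth.Prelude.Def_AlgSpMor5

/-!
# Applications of stalks at geometric points
-/

set_option autoImplicit false

universe u

open CategoryTheory CategoryTheory.Limits AlgebraicGeometry Opposite IsLocalRing

set_option backward.isDefEq.respectTransparency false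

namespace Groth.Agent.AlgSpLib.StalkPoint

open _root_.AlgSp

variable {S : Scheme.{u}} {X : Sp S}

theorem isLocallyRinged_etTop : ModSite.IsLocallyRinged (etTop X) (OEt X) := by
  refine ⟨fun E f => ?_, fun E h => mem_etTop_of_jointly_surjective _ fun x => ?_⟩
  · let U : Scheme.{u} := E.obj.left.left
    let f' : Γ(U, ⊤) := f.down
    refine ⟨⟨fun V g => Set.range g.hom.left.left ⊆ U.basicOpen f' ∨ Set.range g.hom.left.left ⊆ U.basicOpen (1 - f'),
      fun {V W g} hg k => ?_⟩, mem_etTop_of_jointly_surjective _ fun x => ?_, fun V g hg => ?_⟩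
    · have hs : Set.range (k ≫ g).hom.left.left ⊆ Set.range g.hom.left.left := by
        rintro _ ⟨y, rfl⟩; exact ⟨k.hom.left.left y, rfl⟩
      exact hg.imp hs.trans hs.trans
    · have key : ∀ O : U.Opens, x ∈ O → ∃ (Z : EtOver X) (g : Z ⟶ E),
          Set.range g.hom.left.left = (O : Set U) := fun O hO => by
        let U' : Over S := Over.mk (O.ι ≫ E.obj.left.hom)
        let j : U' ⟶ E.obj.left := Over.homMk O.ι rfl
        have hj : Etale j.left := show Etale O.ι from inferInstance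
        exact ⟨EtOver.mk ((yon S).map j ≫ E.obj.hom) (repWith_comp ((repWith_yon_iff j).2 hj) E.property),
          EtOver.homMk j rfl, Scheme.Opens.range_ι O⟩
      have hx : x ∈ U.basicOpen f' ∨ x ∈ U.basicOpen (1 - f') := by
        rw [Scheme.mem_basicOpen_top, Scheme.mem_basicOpen_top, map_sub, map_one]
        exact IsLocalRing.isUnit_or_isUnit_one_sub_self _
      rcases hx with hx | hx
      · obtain ⟨Z, g, hg⟩ := key _ hx
        exact ⟨Z, g, Or.inl hg.subset, hg.symm ▸ hx⟩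
      · obtain ⟨Z, g, hg⟩ := key _ hx
        exact ⟨Z, g, Or.inr hg.subset, hg.symm ▸ hx⟩
    · have hu : ∀ s : Γ(U, ⊤), Set.range g.hom.left.left ⊆ U.basicOpen s → IsUnit (g.hom.left.left.appTop s) := by
        intro s hs
        refine RingedSpace.isUnit_of_isUnit_germ V.obj.left.left.toRingedSpace ⊤ _ fun y _ => ?_
        apply (Scheme.mem_basicOpen_top _ (g.hom.left.left.appTop s) y).1
        rw [← Scheme.preimage_basicOpen_top]
        exact hs ⟨y, rfl⟩
      exact hg.imp (fun h => (hu _ h).map (ULift.ringEquiv.symm.toRingHom : _ →+* ULift.{u + 1} Γ(V.obj.left.left, ⊤)))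
        (fun h => (hu _ h).map (ULift.ringEquiv.symm.toRingHom : _ →+* ULift.{u + 1} Γ(V.obj.left.left, ⊤)))
  · exfalso
    have h' : (0 : Γ(E.obj.left.left, ⊤)) = 1 := congrArg ULift.down h
    have := congrArg (E.obj.left.left.presheaf.germ ⊤ x trivial) h'
    rw [map_zero, map_one] at this
    exact zero_ne_one this

variable (hX : IsAlgSpace X)

include hX

theorem isZero_stalk_iff (F : AbEt X) {p : FieldPt X} (hp : p.IsGeometric) :
    IsZero (stalkEt p F) ↔ ∀ (N : EtNbhd p) (σ : F.obj.obj (op N.1)),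
      ∃ (M : EtNbhd p) (f : M ⟶ N), F.obj.map f.1.op σ = 0 := by
  change IsZero ((point hX p hp).presheafFiber.obj F.obj) ↔ _
  rw [AddCommGrpCat.isZero_iff_subsingleton]
  constructor
  · intro h N σ
    obtain ⟨Y, g, y, hy, e⟩ := ((point hX p hp).toPresheafFiber_eq_iff' N.1 N.2 σ 0).1 (Subsingleton.elim _ _)
    rw [map_zero] at e
    exact ⟨⟨Y, y⟩, CategoryOfElements.homMk _ _ g hy, e⟩
  · intro h
    refine subsingleton_of_forall_eq 0 fun t => ?_
    obtain ⟨E, v, σ, rfl⟩ := (point hX p hp).toPresheafFiber_jointly_surjective t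
    obtain ⟨M, f, hf⟩ := h ⟨E, v⟩ σ
    rw [← map_zero ((point hX p hp).toPresheafFiber E v F.obj).hom]
    exact ((point hX p hp).toPresheafFiber_eq_iff' E v σ 0).2 ⟨M.1, f.1, M.2, f.2, by rw [hf, map_zero]⟩

theorem exists_stalk_ne_zero_iff (F : AbEt X) (x : Points X) :
    (∃ p : FieldPt X, p.IsGeometric ∧ Points.mk p = x ∧ ¬ IsZero (stalkEt p F)) ↔
      ∃ (U : EtOver X) (σ : ↥(F.obj.obj (op U))) (u : ↥U.obj.left.left),
        Points.ofPt U.obj.hom u = x ∧
          ∀ (V : EtOver X) (φ : V ⟶ U), (F.obj.map φ.op).hom σ = 0 →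
            u ∉ Set.range (fun v => φ.hom.left.left v) := by
  constructor
  · rintro ⟨p, hp, rfl, hne⟩
    rw [isZero_stalk_iff hX F hp] at hne
    push_neg at hne
    obtain ⟨N, σ, hσ⟩ := hne
    refine ⟨N.1, σ, (N.2.1.left : Spec (CommRingCat.of p.K) ⟶ _) (closedPoint p.K), ?_, fun V φ hφ hu => ?_⟩
    · rw [mk_eq_ofPt, show fieldHom p = (yon S).map N.2.1 ≫ N.1.obj.hom from N.2.2.symm, ofPt_comp]
    · obtain ⟨v, hv⟩ := hu
      have : IsAlgClosed p.K := hp
      have : Etale φ.hom.left.left := EtOver.etale_left φ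
      obtain ⟨l, hl⟩ := SpQS.exists_lift_of_etale φ.hom.left.left (N.2.1.left : Spec (CommRingCat.of p.K) ⟶ _) hv
      let m : p.pt ⟶ V.obj.left := Over.homMk l (by
        show l ≫ V.obj.left.hom = p.str
        rw [← Over.w φ.hom.left, ← Category.assoc, hl]
        exact Over.w N.2.1)
      have hm : m ≫ φ.hom.left = N.2.1 := Over.OverMorphism.ext hl
      refine hσ ⟨V, ⟨m, ?_⟩⟩ (CategoryOfElements.homMk _ _ φ (Subtype.ext hm)) hφ
      rw [← EtOver.w φ, ← Functor.map_comp_assoc, hm]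
      exact N.2.2
  · rintro ⟨U, σ, u, hu, hσ⟩
    obtain ⟨q, hq, v, hv⟩ := exists_geometric_through U u
    refine ⟨q, hq, ?_, fun hz => ?_⟩
    · rw [← hu, mk_eq_ofPt, show fieldHom q = (yon S).map v.1 ≫ U.obj.hom from v.2.symm, ofPt_comp, ← hv]
    · obtain ⟨M, f, hf⟩ := (isZero_stalk_iff hX F hq).1 hz ⟨U, v⟩ σ
      refine hσ M.1 f.1 hf ⟨(M.2.1.left : Spec (CommRingCat.of q.K) ⟶ _) (closedPoint q.K), ?_⟩
      rw [← hv]
      exact congrArg (fun z : (FieldPt.liftsTo q).obj U =>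
        (z.1.left : Spec (CommRingCat.of q.K) ⟶ _) (closedPoint q.K)) f.2

theorem stalk_ne_zero_of_epi_of_mono {F G : AbEt X} (a : F ⟶ G) (x : Points X) :
    (Epi a → (∃ p : FieldPt X, p.IsGeometric ∧ Points.mk p = x ∧ ¬ IsZero (stalkEt p G)) →
        ∃ p : FieldPt X, p.IsGeometric ∧ Points.mk p = x ∧ ¬ IsZero (stalkEt p F)) ∧
    (Mono a → (∃ p : FieldPt X, p.IsGeometric ∧ Points.mk p = x ∧ ¬ IsZero (stalkEt p F)) →
        ∃ p : FieldPt X, p.IsGeometric ∧ Points.mk p = x ∧ ¬ IsZero (stalkEt p G)) := by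
  refine ⟨fun he ⟨p, hp, hpx, hne⟩ => ⟨p, hp, hpx, fun hz => hne ?_⟩,
    fun hm ⟨p, hp, hpx, hne⟩ => ⟨p, hp, hpx, fun hz => hne ?_⟩⟩
  · exact IsZero.of_epi ((point hX p hp).sheafFiber.map a) hz
  · exact IsZero.of_mono ((point hX p hp).sheafFiber.map a) hz

end Groth.Agent.AlgSpLib.StalkPoint
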