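import Groth.Agent.AlgSpLib.StalkSH
import Groth.Agent.AlgSpLib.NoethPts
import Groth.Agent.Hensel.HenselizationMore
import Groth.Agent.Hensel.BranchCountStrict
import Groth.Agent.UnibranchEtale.NbhdScheme

/-!
# Etale local rings of algebraic spaces against local rings of charts
-/

set_option autoImplicit false

universe u

open CategoryTheory CategoryTheory.Limits AlgebraicGeometry Opposite IsLocalRing

set_option backward.isDefEq.respectTransparency false

namespace Groth.Agent.AlgSpLib.StalkPoint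

open _root_.AlgSp

variable {S : Scheme.{u}} {X : Sp S}

theorem exists_affine_openImm {p : FieldPt X} (N : EtNbhd p) :
    ∃ (N' : EtNbhd p) (f : N' ⟶ N), IsAffine N'.1.obj.left.left ∧ IsOpenImmersion f.1.hom.left.left := by
  let nu : Spec (CommRingCat.of p.K) ⟶ N.1.obj.left.left := N.2.1.left
  obtain ⟨_, ⟨W, hW, rfl⟩, hxW, -⟩ := N.1.obj.left.left.isBasis_affineOpens.exists_subset_of_mem_open
    (Set.mem_univ (nu (closedPoint p.K))) isOpen_univ
  change N.1.obj.left.left.Opens at W
  have hr : Set.range nu ⊆ Set.range W.ι := by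
    rintro _ ⟨t, rfl⟩
    rw [Scheme.Opens.range_ι, Subsingleton.elim t (closedPoint p.K)]
    exact hxW
  let U' : Over S := Over.mk (W.ι ≫ N.1.obj.left.hom)
  let j : U' ⟶ N.1.obj.left := Over.homMk W.ι rfl
  have hj : Etale j.left := show Etale W.ι from inferInstance
  have hl : IsOpenImmersion.lift W.ι nu hr ≫ W.ι = nu := IsOpenImmersion.lift_fac _ _ _
  let m : p.pt ⟶ U' := Over.homMk (IsOpenImmersion.lift W.ι nu hr) (by
    show _ ≫ W.ι ≫ N.1.obj.left.hom = p.str
    rw [reassoc_of% hl]; exact Over.w N.2.1)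
  have hm : m ≫ j = N.2.1 := Over.OverMorphism.ext hl
  let E : EtOver X := EtOver.mk ((yon S).map j ≫ N.1.obj.hom) (repWith_comp ((repWith_yon_iff j).2 hj) N.1.property)
  let v : (FieldPt.liftsTo p).obj E := ⟨m, by
    show (yon S).map m ≫ (yon S).map j ≫ N.1.obj.hom = _
    rw [← Functor.map_comp_assoc, hm]; exact N.2.2⟩
  exact ⟨⟨E, v⟩, CategoryOfElements.homMk _ _ (EtOver.homMk j rfl : E ⟶ N.1) (Subtype.ext hm), hW,
    show IsOpenImmersion W.ι from inferInstance⟩

theorem exists_nbhd_of_chart (hX : IsAlgSpace X) {p : FieldPt X} (hp : p.IsGeometric) {U : Over S}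
    {a : (yon S).obj U ⟶ X} (ha : RepWith @Etale a) (u : ↥U.left) (hu : Points.ofPt a u = Points.mk p) :
    ∃ (N : EtNbhd p) (_ : IsAffine N.1.obj.left.left),
      Nonempty (N.1.obj.left.left.presheaf.stalk (pnt N) ≃+* U.left.presheaf.stalk u) := by
  obtain ⟨ubar, h1, h2⟩ := exists_geometric_lift_etale (IsAlgSpace.yon_obj U) hX
    (isEtaleMor_of_repWith' ha) p hp (Points.ofScheme U u) (by
      show Points.map a (Points.ofPt (𝟙 _) u) = _
      rw [Points.map_ofPt, Category.id_comp, hu])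
  obtain ⟨l, rfl⟩ := exists_map_eq ubar
  rw [ofScheme_map] at h2
  have hlu : l.left (closedPoint p.K) = u := (Points.schemeEquiv U).injective h2
  obtain ⟨N', f, hN', hf⟩ := exists_affine_openImm (p := p) ⟨EtOver.mk a ha, ⟨l, h1⟩⟩
  refine ⟨N', hN', ⟨?_⟩⟩
  have hpt : f.1.hom.left.left (pnt N') = u := by
    rw [← hlu]
    exact congrArg (fun z : (FieldPt.liftsTo p).obj _ => (z.1.left : Spec (CommRingCat.of p.K) ⟶ _) (closedPoint p.K)) f.2
  have := hf
  exact ((asIso (f.1.hom.left.left.stalkMap (pnt N'))).symm ≪≫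
    (U.left.presheaf.stalkCongr (.of_eq hpt))).commRingCatIsoToRingEquiv

/-- the etale local ring is a strict henselization of the local ring of any chart -/
theorem exists_strict_of_chart (hX : IsAlgSpace X) {p : FieldPt X} (hp : p.IsGeometric) {U : Over S}
    {a : (yon S).obj U ⟶ X} (ha : RepWith @Etale a) (u : ↥U.left) (hu : Points.ofPt a u = Points.mk p) :
    ∃ (T : Type u) (_ : CommRing T) (_ : IsLocalRing T) (_ : Algebra (U.left.presheaf.stalk u) T)
      (_ : IsLocalHom (algebraMap (U.left.presheaf.stalk u) T)),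
      Nonempty (OEtStalk p ≃+* T) ∧ _root_.Hensel.IsStrictHenselization (U.left.presheaf.stalk u) T := by
  obtain ⟨N, hN, ⟨ε⟩⟩ := exists_nbhd_of_chart hX hp ha u hu
  obtain ⟨T, _, _, _, hl, he, hH⟩ := exists_strictHenselization hX hp N hN
  let R := N.1.obj.left.left.presheaf.stalk (pnt N)
  let R' := U.left.presheaf.stalk u
  let A' : Algebra R' T := ((algebraMap R T).comp ε.symm.toRingHom).toAlgebra
  have : IsLocalHom (algebraMap R' T) := ⟨fun r hr => (MulEquiv.isUnit_map ε.symm).1 (hl.1 _ hr)⟩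
  refine ⟨T, inferInstance, inferInstance, A', this, he, ⟨hH.henselian, ?_, fun T' _ _ f hf τ hτ => ?_⟩⟩
  · refine ⟨hH.isSepClosure.sep_closed, ?_⟩
    have := hH.isSepClosure.separable
    refine Algebra.IsSeparable.of_equiv_equiv (ResidueField.mapEquiv ε) (RingEquiv.refl _) ?_
    refine RingHom.ext fun z => ?_
    obtain ⟨r, rfl⟩ := residue_surjective z
    show algebraMap (ResidueField R') (ResidueField T) (residue R' (ε r)) = residue T (algebraMap R T r)
    show residue T (algebraMap R T (ε.symm (ε r))) = _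
    rw [ε.symm_apply_apply]
  · have : IsLocalHom (f.comp ε.toRingHom) := ⟨fun r hr => (MulEquiv.isUnit_map ε).1 (hf.1 _ hr)⟩
    obtain ⟨g, ⟨h1, h2⟩, hu'⟩ := hH.universal T' (f.comp ε.toRingHom) τ (RingHom.ext fun z => by
      obtain ⟨r, rfl⟩ := residue_surjective z
      show τ (residue T (algebraMap R T r)) = residue T' (f (ε r))
      have := RingHom.congr_fun hτ (residue R' (ε r))
      change τ (residue T (algebraMap R T (ε.symm (ε r)))) = residue T' (f (ε r)) at this
      rwa [ε.symm_apply_apply] at this)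
    refine ⟨g, ⟨RingHom.ext fun r => ?_, h2⟩, fun g' ⟨h1', h2'⟩ => hu' g' ⟨RingHom.ext fun r => ?_, h2'⟩⟩
    · show g (algebraMap R T (ε.symm r)) = f r
      exact (RingHom.congr_fun h1 (ε.symm r)).trans (congrArg f (ε.apply_symm_apply r))
    · refine Eq.trans ?_ (RingHom.congr_fun h1' (ε r))
      show g' (algebraMap R T r) = g' (algebraMap R T (ε.symm (ε r)))
      rw [ε.symm_apply_apply]

theorem exists_chart_at (hX : IsAlgSpace X) (x : Points X) :
    ∃ (U : Over S) (a : (yon S).obj U ⟶ X) (u : ↥U.left), RepWith @Etale a ∧ Points.ofPt a u = x := by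
  obtain ⟨U, a, ha, has⟩ := hX.atlas
  obtain ⟨u, hu⟩ := ofPt_surjective has x
  exact ⟨U, a, u, ha, hu⟩

theorem exists_geometric_over {U : Over S} (a : (yon S).obj U ⟶ X) (ha : RepWith @Etale a) (u : ↥U.left) :
    ∃ q : FieldPt X, q.IsGeometric ∧ Points.mk q = Points.ofPt a u := by
  obtain ⟨q, hq, v, hv⟩ := exists_geometric_through (EtOver.mk a ha) u
  refine ⟨q, hq, ?_⟩
  rw [mk_eq_ofPt, show fieldHom q = (yon S).map v.1 ≫ a from v.2.symm, ofPt_comp, ← hv]

/-- transfer of an invariant between a chart and the etale local ring -/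
theorem hasAt_iff_stalk (hX : IsAlgSpace X) {P : ∀ (R : Type u) [CommRing R], Prop} {Q : Prop}
    {p : FieldPt X} (hp : p.IsGeometric)
    (h : ∀ (R T : Type u) [CommRing R] [IsLocalRing R] [CommRing T] [IsLocalRing T] [Algebra R T]
      [IsLocalHom (algebraMap R T)], _root_.Hensel.IsStrictHenselization R T → (OEtStalk p ≃+* T) → (P R ↔ Q)) :
    (HasAt (fun U u => P (U.presheaf.stalk u)) X (Points.mk p) ↔ Q) ∧
      ∀ (U : Over S) (a : (yon S).obj U ⟶ X) (u : ↥U.left), RepWith @Etale a → Points.ofPt a u = Points.mk p →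
        (P (U.left.presheaf.stalk u) ↔ Q) := by
  have key : ∀ (U : Over S) (a : (yon S).obj U ⟶ X) (u : ↥U.left), RepWith @Etale a →
      Points.ofPt a u = Points.mk p → (P (U.left.presheaf.stalk u) ↔ Q) := by
    intro U a u ha hu
    obtain ⟨T, _, _, _, _, ⟨e⟩, hH⟩ := exists_strict_of_chart hX hp ha u hu
    exact h _ T hH e
  refine ⟨⟨?_, fun hq => ?_⟩, key⟩
  · rintro ⟨U, a, u, ha, hu, hP⟩
    exact (key U a u ha hu).1 hP
  · obtain ⟨U, a, u, ha, hu⟩ := exists_chart_at hX (Points.mk p)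
    exact ⟨U, a, u, ha, hu, (key U a u ha hu).2 hq⟩

theorem isReduced_stalk_iff (hX : IsAlgSpace X) {p : FieldPt X} (hp : p.IsGeometric) :
    HasAt (fun U u => _root_.IsReduced ↥(U.presheaf.stalk u)) X (Points.mk p) ↔ _root_.IsReduced (OEtStalk p) :=
  (hasAt_iff_stalk hX (P := fun R _ => _root_.IsReduced R) hp fun R T _ _ _ _ _ _ hH e => by
    have := hH
    rw [← Groth.Agent.Hensel.strictHenselization_isReduced_iff R T]
    exact ⟨fun _ => isReduced_of_injective e e.injective, fun _ => isReduced_of_injective e.symm e.symm.injective⟩).1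

theorem ringKrullDim_chart_iff (hX : IsAlgSpace X) {p : FieldPt X} (hp : p.IsGeometric) (d : WithBot ℕ∞) :
    (HasAt (fun U u => ringKrullDim ↥(U.presheaf.stalk u) = d) X (Points.mk p) ↔ ringKrullDim (OEtStalk p) = d) ∧
      ∀ (U : Over S) (a : (yon S).obj U ⟶ X) (u : ↥U.left), RepWith @Etale a → Points.ofPt a u = Points.mk p →
        (ringKrullDim ↥(U.left.presheaf.stalk u) = d ↔ ringKrullDim (OEtStalk p) = d) :=
  hasAt_iff_stalk hX (P := fun R _ => ringKrullDim R = d) hp fun R T _ _ _ _ _ _ hH e => by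
    have := hH
    rw [ringKrullDim_eq_of_ringEquiv e, Groth.Agent.Hensel.strictHenselization_ringKrullDim R T]

theorem hasAt_dim_iff_forall (hX : IsAlgSpace X) (x : Points X) (d : WithBot ℕ∞) :
    HasAt (fun U u => ringKrullDim ↥(U.presheaf.stalk u) = d) X x ↔
      ∀ (U : Over S) (a : (yon S).obj U ⟶ X) (u : ↥U.left),
        RepWith @Etale a → Points.ofPt a u = x → ringKrullDim ↥(U.left.presheaf.stalk u) = d := by
  obtain ⟨U₀, a₀, u₀, ha₀, hu₀⟩ := exists_chart_at hX x
  obtain ⟨q, hq, hqx⟩ := exists_geometric_over a₀ ha₀ u₀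
  obtain ⟨h1, h2⟩ := ringKrullDim_chart_iff hX hq d
  have e : Points.mk q = x := hqx.trans hu₀
  rw [← e] at hu₀ ⊢
  exact ⟨fun h U a u ha hu => (h2 U a u ha hu).2 (h1.1 h), fun h => ⟨U₀, a₀, u₀, ha₀, hu₀, h U₀ a₀ u₀ ha₀ hu₀⟩⟩

theorem isRegular_chart_iff (hX : IsAlgSpace X) {p : FieldPt X} (hp : p.IsGeometric) :
    (HasAt (fun U u => IsRegularLocalRing ↥(U.presheaf.stalk u)) X (Points.mk p) ↔ IsRegularLocalRing (OEtStalk p)) ∧
      ∀ (U : Over S) (a : (yon S).obj U ⟶ X) (u : ↥U.left), RepWith @Etale a → Points.ofPt a u = Points.mk p →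
        (IsRegularLocalRing ↥(U.left.presheaf.stalk u) ↔ IsRegularLocalRing (OEtStalk p)) :=
  hasAt_iff_stalk hX (P := fun R _ => IsRegularLocalRing R) hp fun R T _ _ _ _ _ _ hH e => by
    have := hH
    constructor
    · intro h
      have := (Groth.Agent.Hensel.strictHenselization_isRegularLocalRing_iff R T).2 h
      exact IsRegularLocalRing.of_ringEquiv e.symm
    · intro h
      have : IsRegularLocalRing T := IsRegularLocalRing.of_ringEquiv e
      have : IsNoetherianRing R := (Groth.Agent.Hensel.strictHenselization_isNoetherianRing_iff R T).2 inferInstance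
      exact (Groth.Agent.Hensel.strictHenselization_isRegularLocalRing_iff R T).1 inferInstance

theorem isRegularAt_iff_stalk (hX : IsAlgSpace X) (x : Points X) :
    (HasAt (fun U u => IsRegularLocalRing ↥(U.presheaf.stalk u)) X x ↔
      ∀ p : FieldPt X, p.IsGeometric → Points.mk p = x → IsRegularLocalRing ↥(OEtStalk p)) ∧
    (HasAt (fun U u => IsRegularLocalRing ↥(U.presheaf.stalk u)) X x ↔
      ∃ p : FieldPt X, p.IsGeometric ∧ Points.mk p = x ∧ IsRegularLocalRing ↥(OEtStalk p)) := by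
  obtain ⟨U₀, a₀, u₀, ha₀, hu₀⟩ := exists_chart_at hX x
  obtain ⟨q, hq, hqx⟩ := exists_geometric_over a₀ ha₀ u₀
  have e : Points.mk q = x := hqx.trans hu₀
  refine ⟨⟨fun h p hp hpx => (isRegular_chart_iff hX hp).1.1 (hpx ▸ h), fun h => ?_⟩,
    ⟨fun h => ⟨q, hq, e, (isRegular_chart_iff hX hq).1.1 (e ▸ h)⟩, ?_⟩⟩
  · exact e ▸ (isRegular_chart_iff hX hq).1.2 (h q hq e)
  · rintro ⟨p, hp, rfl, h⟩
    exact (isRegular_chart_iff hX hp).1.2 h

theorem isNoetherian_stalk (hX : IsAlgSpace X) (hN : IsLocNoethSp X) {p : FieldPt X} (hp : p.IsGeometric) :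
    IsNoetherianRing (OEtStalk p) := by
  obtain ⟨U, a, u, ha, hu⟩ := exists_chart_at hX (Points.mk p)
  have : IsLocallyNoetherian U.left := isLocallyNoetherian_chart hX hN ha
  obtain ⟨T, _, _, _, _, ⟨e⟩, hH⟩ := exists_strict_of_chart hX hp ha u hu
  have := hH
  have : IsNoetherianRing T :=
    (Groth.Agent.Hensel.strictHenselization_isNoetherianRing_iff (U.left.presheaf.stalk u) T).1 inferInstance
  exact isNoetherianRing_of_ringEquiv T e.symm

theorem comap_mem_minimalPrimes_of_equiv {A : Type*} {B : Type*} [CommRing A] [CommRing B] (f : A ≃+* B)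
    (P : Ideal B) (hP : P ∈ minimalPrimes B) : P.comap f.toRingHom ∈ minimalPrimes A := by
  have := Ideal.minimal_primes_comap_of_surjective (f := f.toRingHom) f.surjective hP
  rwa [show (⊥ : Ideal B).comap f.toRingHom = ⊥ from (RingHom.injective_iff_ker_eq_bot _).1 f.injective] at this

theorem hasUniqueMinimalPrime_of_equiv {A : Type*} {B : Type*} [CommRing A] [CommRing B] (e : A ≃+* B)
    (h : ∃! P : Ideal A, P ∈ minimalPrimes A) : ∃! P : Ideal B, P ∈ minimalPrimes B := by
  obtain ⟨P, hP, huniq⟩ := h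
  refine ⟨P.comap e.symm.toRingHom, comap_mem_minimalPrimes_of_equiv e.symm P hP, fun Q hQ => ?_⟩
  rw [← huniq _ (comap_mem_minimalPrimes_of_equiv e Q hQ), Ideal.comap_comap, e.toRingHom_comp_symm_toRingHom, Ideal.comap_id]

theorem uniqueMinimalPrime_iff_geomUnibranch (hX : IsAlgSpace X) (x : Points X) :
    ((∀ (U : Over S) (a : (yon S).obj U ⟶ X) (u : ↥U.left),
        RepWith @Etale a → Points.ofPt a u = x → CAlgX.HasUniqueMinimalPrime ↥(U.left.presheaf.stalk u)) ↔
      (∀ (U : Over S) (a : (yon S).obj U ⟶ X) (u : ↥U.left),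
        RepWith @Etale a → Points.ofPt a u = x → CAlg2.IsGeomUnibranch ↥(U.left.presheaf.stalk u))) ∧
    ((∀ (U : Over S) (a : (yon S).obj U ⟶ X) (u : ↥U.left),
        RepWith @Etale a → Points.ofPt a u = x → CAlgX.HasUniqueMinimalPrime ↥(U.left.presheaf.stalk u)) ↔
      ∀ p : FieldPt X, p.IsGeometric → Points.mk p = x →
        CAlgX.HasUniqueMinimalPrime ↥(OEtStalk p)) := by
  have h14 : (∀ (U : Over S) (a : (yon S).obj U ⟶ X) (u : ↥U.left),
        RepWith @Etale a → Points.ofPt a u = x → CAlgX.HasUniqueMinimalPrime ↥(U.left.presheaf.stalk u)) ↔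
      (∀ (U : Over S) (a : (yon S).obj U ⟶ X) (u : ↥U.left),
        RepWith @Etale a → Points.ofPt a u = x → CAlg2.IsGeomUnibranch ↥(U.left.presheaf.stalk u)) := by
    refine ⟨fun h U a u ha hu => ?_, fun h U a u ha hu => ?_⟩
    · obtain ⟨hloc, hH⟩ := Groth.Agent.Hensel.exists_strictHenselization (U.left.presheaf.stalk u)
      have := hloc
      have := hH
      refine (Groth.Agent.S2135.result (A := U.left.presheaf.stalk u) (Ash := Groth.Agent.Hensel.Env
        (U.left.presheaf.stalk u) (SeparableClosure (ResidueField (U.left.presheaf.stalk u))))).2 ?_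
      by_contra hn
      obtain ⟨V, g, v, hg, hv, -, hc⟩ := UnibranchEtale.exists_two_components u
        (SeparableClosure (ResidueField (U.left.presheaf.stalk u))) hn
      let V' : Over S := Over.mk (g ≫ U.hom)
      let j : V' ⟶ U := Over.homMk g rfl
      refine hc (UnibranchEtale.components_encard_eq_one v
        (h V' ((yon S).map j ≫ a) v (repWith_comp ((repWith_yon_iff j).2 hg) ha) ?_))
      rw [ofPt_comp, ← hu]
      exact congrArg (Points.ofPt a) hv
    · exact UnibranchEtale.hasUniqueMinimalPrime_of_nilradical _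
        ((Ideal.Quotient.isDomain_iff_prime _).1 (h U a u ha hu).1.1)
  refine ⟨h14, h14.trans ⟨fun h p hp hpx => ?_, fun h U a u ha hu => ?_⟩⟩
  · obtain ⟨U, a, u, ha, hu⟩ := exists_chart_at hX (Points.mk p)
    obtain ⟨T, _, _, _, _, ⟨e⟩, hH⟩ := exists_strict_of_chart hX hp ha u hu
    have := hH
    exact hasUniqueMinimalPrime_of_equiv e.symm
      ((Groth.Agent.S2135.result (A := U.left.presheaf.stalk u) (Ash := T)).1 (h U a u ha (hu.trans hpx)))
  · obtain ⟨q, hq, hqx⟩ := exists_geometric_over a ha u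
    obtain ⟨T, _, _, _, _, ⟨e⟩, hH⟩ := exists_strict_of_chart hX hq ha u hqx.symm
    have := hH
    exact (Groth.Agent.S2135.result (A := U.left.presheaf.stalk u) (Ash := T)).2
      (hasUniqueMinimalPrime_of_equiv e (h q hq (hqx.trans hu)))

theorem regular_iff_forall_stalk (hX : IsAlgSpace X) (hN : IsLocNoethSp X) :
    EtaleLocally (fun U => IsLocallyNoetherian U ∧ ∀ u : ↥U, IsRegularLocalRing ↥(U.presheaf.stalk u)) X ↔
      ∀ p : FieldPt X, p.IsGeometric → IsRegularLocalRing ↥(OEtStalk p) := by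
  refine ⟨?_, fun h => ?_⟩
  · rintro ⟨U, a, ha, has, -, hU⟩ p hp
    obtain ⟨u, hu⟩ := ofPt_surjective has (Points.mk p)
    exact ((isRegular_chart_iff hX hp).2 U a u ha hu).1 (hU u)
  · obtain ⟨U, a, ha, has, hU⟩ := hN
    refine ⟨U, a, ha, has, hU, fun u => ?_⟩
    obtain ⟨q, hq, hqx⟩ := exists_geometric_over a ha u
    exact ((isRegular_chart_iff hX hq).2 U a u ha hqx.symm).2 (h q hq)

end Groth.Agent.AlgSpLib.StalkPoint
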