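import Groth.Agent.AlgSpLib.StalkChart
import Groth.Agent.Hensel.BranchFlat
import Groth.Agent.Hensel.BranchMore
import Groth.Prelude.Def_AlgSpMor5

/-!
# Geometric unibranchness descends along morphisms flat at a point
-/

set_option autoImplicit false

universe u

open CategoryTheory CategoryTheory.Limits AlgebraicGeometry Opposite IsLocalRing

set_option backward.isDefEq.respectTransparency false

namespace Groth.Agent.AlgSpLib.StalkPoint

open _root_.AlgSp

variable {S : Scheme.{u}} {X Y : Sp S}

theorem one_le_numGeomBranches (A : Type u) [CommRing A] [IsLocalRing A] : 1 ≤ Brnch.numGeomBranches A := by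
  obtain ⟨hloc, hH⟩ := Groth.Agent.Hensel.exists_strictHenselization A
  have := hloc
  have := hH
  rw [← Groth.Agent.Hensel.card_minimalPrimes_strictHenselization (A := A) (S := Groth.Agent.Hensel.Env A
    (SeparableClosure (ResidueField A))), ENat.one_le_card_iff_nonempty]
  have := Ideal.nonempty_minimalPrimes (R := Groth.Agent.Hensel.Env A (SeparableClosure (ResidueField A)))
    (I := ⊥) bot_ne_top
  exact this

theorem isGeomUnibranch_of_isFlatAt (hX : IsAlgSpace X) (hY : IsAlgSpace Y) (f : X ⟶ Y) (x : Points X)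
    (hf : IsFlatAtMor f x)
    (hXu : ∀ (U : Over S) (a : (yon S).obj U ⟶ X) (v : ↥U.left), RepWith @Etale a →
      Points.ofPt a v = x → CAlg2.IsGeomUnibranch ↥(U.left.presheaf.stalk v))
    (V : Over S) (b : (yon S).obj V ⟶ Y) (w : ↥V.left) (hb : RepWith @Etale b)
    (hw : Points.ofPt b w = Points.map f x) :
    CAlg2.IsGeomUnibranch ↥(V.left.presheaf.stalk w) := by
  have sq := IsPullback.of_hasPullback f b
  have hZ : IsAlgSpace (pullback f b) := isAlgSpace_of_isPullback_space hY hX (IsAlgSpace.yon_obj V) sq
  obtain ⟨z, hz1, hz2⟩ := exists_point_of_isPullback sq x (Points.ofScheme V w) (by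
    show _ = Points.map b (Points.ofPt (𝟙 _) w)
    rw [Points.map_ofPt, Category.id_comp, hw])
  obtain ⟨W, q, hqe, hqs⟩ := hZ.atlas
  obtain ⟨w', hw'⟩ := ofPt_surjective hqs z
  obtain ⟨h, hh⟩ := exists_map_eq (q ≫ pullback.snd f b)
  have ha : RepWith @Etale (q ≫ pullback.fst f b) := repWith_comp hqe (repWith_baseChange sq.flip hb)
  have hpt : h.left w' = w := by
    apply (Points.schemeEquiv V).injective
    show Points.ofScheme V (h.left w') = Points.ofScheme V w
    rw [← ofScheme_map, hh, ← Points.map_ofPt, hw', hz2]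
  have hx : Points.ofPt (q ≫ pullback.fst f b) w' = x := by rw [← Points.map_ofPt, hw', hz1]
  have hflat := hf (q ≫ pullback.fst f b) b h w' ha hb (by
    rw [Category.assoc, sq.w, ← Category.assoc, hh]) hx
  subst hpt
  rw [← Groth.Agent.Hensel.numGeomBranches_eq_one_iff]
  refine le_antisymm ?_ (one_le_numGeomBranches _)
  rw [← (Groth.Agent.Hensel.numGeomBranches_eq_one_iff (A := W.left.presheaf.stalk w')).2 (hXu W _ w' ha hx)]
  exact Groth.Agent.Hensel.numGeomBranches_le_of_flat (h.left.stalkMap w').hom hflat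

end Groth.Agent.AlgSpLib.StalkPoint
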