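import Groth.Agent.AlgSpLib.StalkPoint
import Groth.Prelude.Def_EtBase
import Mathlib.RingTheory.Etale.StandardEtale
import Mathlib.Algebra.Category.Ring.FilteredColimits
import Mathlib.CategoryTheory.Limits.Preserves.Filtered

/-!
# The etale local ring at a geometric point is strictly henselian
-/

set_option autoImplicit false

universe u

open CategoryTheory CategoryTheory.Limits AlgebraicGeometry Opposite IsLocalRing Polynomial

set_option backward.isDefEq.respectTransparency false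

namespace Groth.Agent.AlgSpLib.StalkPoint

open _root_.AlgSp

variable {S : Scheme.{u}} {X : Sp S} {p : FieldPt X}

instance preservesFilteredColimitsShrink : PreservesFilteredColimitsOfSize.{u, u + 1} (forget CommRingCat.{u + 1}) :=
  preservesFilteredColimitsOfSize_shrink.{u + 1, u + 1, u, u + 1} _

/-- evaluation of functions on a neighbourhood at the point -/
noncomputable def ev (N : EtNbhd p) : Γ(N.1.obj.left.left, ⊤) →+* p.K :=
  ((N.2.1.left : Spec (CommRingCat.of p.K) ⟶ _).appTop ≫ (Scheme.ΓSpecIso (CommRingCat.of p.K)).hom).hom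

theorem ev_map {N M : EtNbhd p} (f : N ⟶ M) (s : Γ(M.1.obj.left.left, ⊤)) :
    ev N (f.1.hom.left.left.appTop s) = ev M s := by
  have h : N.2.1.left ≫ f.1.hom.left.left = M.2.1.left := congrArg (fun z => z.1.left) f.2
  show ((Scheme.ΓSpecIso (CommRingCat.of p.K)).hom) ((N.2.1.left).appTop (f.1.hom.left.left.appTop s)) = _
  rw [← ConcreteCategory.comp_apply (f.1.hom.left.left.appTop), ← Scheme.Hom.comp_appTop, h]
  rfl

/-- germs at the point -/
noncomputable def gm (N : EtNbhd p) : Γ(N.1.obj.left.left, ⊤) →+* OEtStalk p :=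
  (stalkEtι p (OEt X) N).hom.comp (ULift.ringEquiv.symm : Γ(N.1.obj.left.left, ⊤) ≃+* ULift.{u + 1} Γ(N.1.obj.left.left, ⊤)).toRingHom

theorem gm_map {N M : EtNbhd p} (f : N ⟶ M) (s : Γ(M.1.obj.left.left, ⊤)) :
    gm N (f.1.hom.left.left.appTop s) = gm M s := by
  exact ConcreteCategory.congr_hom (colimit.w (stalkEtDiagram p (OEt X)) f.op) (ULift.up s)

/-- evaluation of germs at the point -/
noncomputable def evS (p : FieldPt X) : OEtStalk p →+* p.K :=
  ULift.ringEquiv.toRingHom.comp (colimit.desc (stalkEtDiagram p (OEt X))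
    { pt := CommRingCat.of (ULift.{u + 1} p.K)
      ι :=
        { app := fun N => CommRingCat.ofHom (ULift.ringEquiv.symm.toRingHom.comp
            ((ev N.unop).comp (ULift.ringEquiv :
              ULift.{u + 1} Γ(N.unop.1.obj.left.left, ⊤) ≃+* _).toRingHom))
          naturality := fun N M f => by
            ext ⟨s⟩
            exact congrArg ULift.up (ev_map f.unop s) } }).hom

theorem evS_gm (N : EtNbhd p) (s : Γ(N.1.obj.left.left, ⊤)) : evS p (gm N s) = ev N s := by
  have h := ConcreteCategory.congr_hom (colimit.ι_desc (F := stalkEtDiagram p (OEt X))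
    { pt := CommRingCat.of (ULift.{u + 1} p.K)
      ι :=
        { app := fun N => CommRingCat.ofHom (ULift.ringEquiv.symm.toRingHom.comp
            ((ev N.unop).comp (ULift.ringEquiv :
              ULift.{u + 1} Γ(N.unop.1.obj.left.left, ⊤) ≃+* _).toRingHom))
          naturality := fun N M f => by
            ext ⟨s⟩
            exact congrArg ULift.up (ev_map f.unop s) } } (op N)) (ULift.up s)
  exact congrArg ULift.down h

/-- restriction to an open, with control on the image -/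
theorem exists_restrict_range (N : EtNbhd p) (W : N.1.obj.left.left.Opens)
    (hW : (N.2.1.left : Spec (CommRingCat.of p.K) ⟶ _) (closedPoint p.K) ∈ W) :
    ∃ (N' : EtNbhd p) (f : N' ⟶ N), Set.range f.1.hom.left.left ⊆ W := by
  let nu : Spec (CommRingCat.of p.K) ⟶ N.1.obj.left.left := N.2.1.left
  have hr : Set.range nu ⊆ Set.range W.ι := by
    rintro _ ⟨t, rfl⟩
    rw [Scheme.Opens.range_ι]
    rw [Subsingleton.elim t (closedPoint p.K)]
    exact hW
  let U' : Over S := Over.mk (W.ι ≫ N.1.obj.left.hom)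
  let j : U' ⟶ N.1.obj.left := Over.homMk W.ι rfl
  have hj : Etale j.left := show Etale W.ι from inferInstance
  have hl : IsOpenImmersion.lift W.ι nu hr ≫ W.ι = nu := IsOpenImmersion.lift_fac _ _ _
  let m : p.pt ⟶ U' := Over.homMk (IsOpenImmersion.lift W.ι nu hr) (by
    show _ ≫ W.ι ≫ N.1.obj.left.hom = p.str
    rw [reassoc_of% hl]; exact Over.w N.2.1)
  have hm : m ≫ j = N.2.1 := Over.OverMorphism.ext hl
  let v : (FieldPt.liftsTo p).obj (EtOver.mk ((yon S).map j ≫ N.1.obj.hom)
      (repWith_comp ((repWith_yon_iff j).2 hj) N.1.property)) := ⟨m, by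
    show (yon S).map m ≫ (yon S).map j ≫ N.1.obj.hom = _
    rw [← Functor.map_comp_assoc, hm]; exact N.2.2⟩
  refine ⟨⟨_, v⟩, CategoryOfElements.homMk _ _
    (EtOver.homMk j rfl : EtOver.mk ((yon S).map j ≫ N.1.obj.hom) _ ⟶ N.1) (Subtype.ext hm), ?_⟩
  show Set.range W.ι ⊆ W
  rw [Scheme.Opens.range_ι]

theorem mem_basicOpen_of_ev_ne_zero (N : EtNbhd p) (s : Γ(N.1.obj.left.left, ⊤)) (h : ev N s ≠ 0) :
    (N.2.1.left : Spec (CommRingCat.of p.K) ⟶ _) (closedPoint p.K) ∈ N.1.obj.left.left.basicOpen s := by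
  let nu : Spec (CommRingCat.of p.K) ⟶ N.1.obj.left.left := N.2.1.left
  have hu : IsUnit (nu.appTop s) := by
    have : IsUnit (ev N s) := isUnit_iff_ne_zero.2 h
    have h' := this.map (Scheme.ΓSpecIso (CommRingCat.of p.K)).inv.hom
    have e : (Scheme.ΓSpecIso (CommRingCat.of p.K)).inv (ev N s) = nu.appTop s :=
      Iso.hom_inv_id_apply (Scheme.ΓSpecIso (CommRingCat.of p.K)) _
    rwa [e] at h'
  show closedPoint p.K ∈ nu ⁻¹ᵁ N.1.obj.left.left.basicOpen s
  rw [Scheme.preimage_basicOpen_top, Scheme.mem_basicOpen_top]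
  exact hu.map _

variable (hX : IsAlgSpace X) (hp : p.IsGeometric)

include hX hp

theorem exists_gm (t : OEtStalk p) : ∃ (N : EtNbhd p) (s : Γ(N.1.obj.left.left, ⊤)), gm N s = t := by
  have := isCofiltered_etNbhd hX p hp
  obtain ⟨N, s, hs⟩ := Types.jointly_surjective_of_isColimit
    (isColimitOfPreserves (forget CommRingCat.{u + 1}) (colimit.isColimit (stalkEtDiagram p (OEt X)))) t
  exact ⟨N.unop, s.down, hs⟩

theorem isUnit_iff_evS (t : OEtStalk p) : IsUnit t ↔ evS p t ≠ 0 := by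
  refine ⟨fun h => (h.map (evS p)).ne_zero, fun h => ?_⟩
  obtain ⟨N, s, rfl⟩ := exists_gm hX hp t
  rw [evS_gm] at h
  obtain ⟨N', f, hf⟩ := exists_restrict_range N _ (mem_basicOpen_of_ev_ne_zero N s h)
  rw [← gm_map f]
  refine IsUnit.map _ (RingedSpace.isUnit_of_isUnit_germ N'.1.obj.left.left.toRingedSpace ⊤ _ fun x _ => ?_)
  apply (Scheme.mem_basicOpen_top _ (f.1.hom.left.left.appTop s) x).1
  rw [← Scheme.preimage_basicOpen_top]
  exact hf ⟨x, rfl⟩

theorem isLocalRing_stalk : IsLocalRing (OEtStalk p) := by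
  have : Nontrivial (OEtStalk p) := (evS p).domain_nontrivial
  refine .of_nonunits_add fun a b ha hb => ?_
  simp only [mem_nonunits_iff, isUnit_iff_evS hX hp, not_not] at ha hb ⊢
  rw [map_add, ha, hb, add_zero]

theorem mem_maximalIdeal_iff [IsLocalRing (OEtStalk p)] (t : OEtStalk p) :
    t ∈ maximalIdeal (OEtStalk p) ↔ evS p t = 0 := by
  rw [mem_maximalIdeal, mem_nonunits_iff, isUnit_iff_evS hX hp, not_not]

theorem exists_common (s : Finset (OEtStalk p)) :
    ∃ N : EtNbhd p, IsAffine N.1.obj.left.left ∧ ∀ t ∈ s, t ∈ Set.range (gm N) := by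
  have := isCofiltered_etNbhd hX p hp
  classical
  suffices ∃ N : EtNbhd p, ∀ t ∈ s, t ∈ Set.range (gm N) by
    obtain ⟨N, hN⟩ := this
    obtain ⟨N', f, hN'⟩ := exists_affine_restrict p N
    refine ⟨N', hN', fun t ht => ?_⟩
    obtain ⟨x, rfl⟩ := hN t ht
    exact ⟨_, gm_map f x⟩
  induction s using Finset.induction with
  | empty =>
    obtain ⟨N⟩ : Nonempty (EtNbhd p) := IsCofiltered.nonempty
    exact ⟨N, by simp⟩
  | insert t s _ ih =>
    obtain ⟨N, hN⟩ := ih
    obtain ⟨M, x, rfl⟩ := exists_gm hX hp t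
    obtain ⟨L, a, b, -⟩ := IsCofilteredOrEmpty.cone_objs M N
    refine ⟨L, fun y hy => ?_⟩
    rcases Finset.mem_insert.1 hy with rfl | hy
    · exact ⟨_, gm_map a x⟩
    · obtain ⟨z, rfl⟩ := hN y hy
      exact ⟨_, gm_map b z⟩

/-- simple roots in the field of the point lift to the stalk -/
theorem exists_root (f : (OEtStalk p)[X]) (hf : f.Monic) (α : p.K)
    (h0 : (f.map (evS p)).eval α = 0) (h1 : ((f.map (evS p)).derivative).eval α ≠ 0) :
    ∃ t : OEtStalk p, f.IsRoot t ∧ evS p t = α := by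
  classical
  obtain ⟨N, hN, hc⟩ := exists_common hX hp f.coeffs
  have hl : f ∈ Polynomial.lifts (gm N) := by
    rw [Polynomial.lifts_iff_coeff_lifts]
    intro n
    by_cases hn : f.coeff n = 0
    · exact ⟨0, by rw [hn, map_zero]⟩
    · exact hc _ (Polynomial.coeff_mem_coeffs hn)
  obtain ⟨f₀, hf₀, -, hf₀m⟩ := Polynomial.lifts_and_natDegree_eq_and_monic hl hf
  obtain ⟨E, v⟩ := N
  have : IsAffine E.obj.left.left := hN
  let R : CommRingCat.{u} := Γ(E.obj.left.left, ⊤)
  let P : StandardEtalePair R := ⟨f₀, hf₀m, derivative f₀, 1, 0, 1, by simp⟩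
  let ρ : R →+* p.K := ev ⟨E, v⟩
  letI : Algebra R p.K := ρ.toAlgebra
  have hρ : (evS p).comp (gm ⟨E, v⟩) = ρ := RingHom.ext fun r => evS_gm _ r
  have hα : P.HasMap α := by
    rw [← hf₀, Polynomial.map_map, hρ, Polynomial.eval_map] at h0
    rw [← hf₀, Polynomial.map_map, hρ, Polynomial.derivative_map, Polynomial.eval_map] at h1
    exact ⟨h0, isUnit_iff_ne_zero.2 h1⟩
  let l : CommRingCat.of P.Ring ⟶ CommRingCat.of p.K := CommRingCat.ofHom (P.lift α hα).toRingHom
  let a : R ⟶ CommRingCat.of P.Ring := CommRingCat.ofHom (algebraMap R P.Ring)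
  let g : Spec (CommRingCat.of P.Ring) ⟶ E.obj.left.left := Spec.map a ≫ E.obj.left.left.isoSpec.inv
  have hg : Etale g := by
    have h : Etale (Spec.map a) :=
      (HasRingHomProperty.Spec_iff (P := @Etale)).2 (RingHom.etale_algebraMap.2 inferInstance)
    infer_instance
  let nu : Spec (CommRingCat.of p.K) ⟶ E.obj.left.left := v.1.left
  have hal : a ≫ l = nu.appTop ≫ (Scheme.ΓSpecIso (CommRingCat.of p.K)).hom := by
    ext r
    exact (P.lift α hα).commutes r
  have hnu : Spec.map l ≫ g = nu := by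
    show Spec.map l ≫ Spec.map a ≫ E.obj.left.left.isoSpec.inv = nu
    rw [← Spec.map_comp_assoc, hal, Spec.map_comp, Category.assoc]
    rw [← Category.assoc, Iso.comp_inv_eq, ← Scheme.isoSpec_Spec_hom, Scheme.isoSpec_hom_naturality]
  let U' : Over S := Over.mk (g ≫ E.obj.left.hom)
  let j : U' ⟶ E.obj.left := Over.homMk g rfl
  let m : p.pt ⟶ U' := Over.homMk (Spec.map l) (by
    show Spec.map l ≫ g ≫ E.obj.left.hom = p.str
    rw [reassoc_of% hnu]; exact Over.w v.1)
  have hm : m ≫ j = v.1 := Over.OverMorphism.ext hnu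
  let E' : EtOver X := EtOver.mk ((yon S).map j ≫ E.obj.hom)
    (repWith_comp ((repWith_yon_iff j).2 hg) E.property)
  let v' : (FieldPt.liftsTo p).obj E' := ⟨m, by
    show (yon S).map m ≫ (yon S).map j ≫ E.obj.hom = _
    rw [← Functor.map_comp_assoc, hm]; exact v.2⟩
  let φ : (Functor.elementsMk (FieldPt.liftsTo p) E' v') ⟶ Functor.elementsMk (FieldPt.liftsTo p) E v :=
    CategoryOfElements.homMk _ _ (EtOver.homMk j rfl : E' ⟶ E) (Subtype.ext hm)
  let ψ : P.Ring →+* OEtStalk p :=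
    (gm ⟨E', v'⟩).comp (Scheme.ΓSpecIso (CommRingCat.of P.Ring)).inv.hom
  have hgtop : g.appTop = a ≫ (Scheme.ΓSpecIso (CommRingCat.of P.Ring)).inv := by
    show (Spec.map a ≫ E.obj.left.left.isoSpec.inv).appTop = _
    have e : E.obj.left.left.isoSpec.inv.appTop = (Scheme.ΓSpecIso Γ(E.obj.left.left, ⊤)).inv := by
      rw [← cancel_mono E.obj.left.left.isoSpec.hom.appTop, ← Scheme.Hom.comp_appTop, Iso.hom_inv_id,
        show E.obj.left.left.isoSpec.hom.appTop = (Scheme.ΓSpecIso Γ(E.obj.left.left, ⊤)).hom from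
          Scheme.toSpecΓ_appTop _, Iso.inv_hom_id]
      rfl
    rw [Scheme.Hom.comp_appTop, e, Scheme.ΓSpecIso_inv_naturality]
  have hψ : ψ.comp (algebraMap R P.Ring) = gm ⟨E, v⟩ := by
    refine RingHom.ext fun r => ?_
    show gm ⟨E', v'⟩ ((a ≫ (Scheme.ΓSpecIso (CommRingCat.of P.Ring)).inv) r) = _
    rw [← hgtop]
    exact gm_map φ r
  refine ⟨ψ P.X, ?_, ?_⟩
  · show f.eval (ψ P.X) = 0
    rw [← hf₀, Polynomial.eval_map, ← hψ, ← Polynomial.hom_eval₂]
    exact (congrArg ψ P.hasMap_X.1).trans (map_zero ψ)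
  · show evS p (gm ⟨E', v'⟩ _) = α
    rw [evS_gm]
    show ((Scheme.ΓSpecIso (CommRingCat.of P.Ring)).inv ≫ (Spec.map l).appTop ≫
      (Scheme.ΓSpecIso (CommRingCat.of p.K)).hom) P.X = α
    rw [Scheme.ΓSpecIso_naturality, Iso.inv_hom_id_assoc]
    exact P.lift_X α hα

theorem isStrictlyHenselian_stalk :
    IsLocalRing (OEtStalk p) ∧ EtCoh.IsStrictlyHenselianLocalRing (OEtStalk p) := by
  have hloc := isLocalRing_stalk hX hp
  have : IsAlgClosed p.K := hp
  have hh : HenselianLocalRing (OEtStalk p) := ⟨fun f hf a₀ h0 h1 => by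
    obtain ⟨t, ht, hta⟩ := exists_root hX hp f hf (evS p a₀)
      (by rw [Polynomial.eval_map, Polynomial.eval₂_hom, ← mem_maximalIdeal_iff hX hp]; exact h0)
      (by rw [Polynomial.derivative_map, Polynomial.eval_map, Polynomial.eval₂_hom,
            ← isUnit_iff_evS hX hp]; exact h1)
    exact ⟨t, ht, by rw [mem_maximalIdeal_iff hX hp, map_sub, hta, sub_self]⟩⟩
  refine ⟨hloc, hh, ?_⟩
  let ε : ResidueField (OEtStalk p) →+* p.K :=
    Ideal.Quotient.lift (maximalIdeal (OEtStalk p)) (evS p) fun t ht => (mem_maximalIdeal_iff hX hp t).1 ht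
  have hε : ε.comp (residue (OEtStalk p)) = evS p := RingHom.ext fun t => rfl
  refine IsSepClosed.of_exists_root _ fun q hq hirr hsep => ?_
  have hl : q ∈ Polynomial.lifts (residue (OEtStalk p)) := by
    rw [Polynomial.lifts_iff_coeff_lifts]
    exact fun n => residue_surjective _
  obtain ⟨f, hf, -, hfm⟩ := Polynomial.lifts_and_natDegree_eq_and_monic hl hq
  have hdeg : (q.map ε).degree ≠ 0 := by
    rw [Polynomial.degree_map]
    exact Polynomial.degree_ne_of_natDegree_ne hirr.natDegree_pos.ne'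
  obtain ⟨α, hα⟩ := IsAlgClosed.exists_root (q.map ε) hdeg
  have hd : (q.map ε).derivative.eval α ≠ 0 :=
    (hsep.map (f := ε)).eval₂_derivative_ne_zero (RingHom.id p.K) (by simpa using hα)
  rw [← hf, Polynomial.map_map, hε] at hd
  have hα' : (f.map (evS p)).eval α = 0 := by
    rw [← hε, ← Polynomial.map_map, hf]; exact hα
  obtain ⟨t, ht, -⟩ := exists_root hX hp f hfm α hα' hd
  refine ⟨residue _ t, ?_⟩
  rw [← hf, Polynomial.eval_map, Polynomial.eval₂_hom, ht, map_zero]

end Groth.Agent.AlgSpLib.StalkPoint
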