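import Groth.Agent.AlgSpLib.EtNbhd
import Mathlib.CategoryTheory.Sites.Point.Basic
import Mathlib.RingTheory.FiniteType
import Mathlib.FieldTheory.IsAlgClosed.AlgebraicClosure

/-!
# Geometric points are points of the small etale site of an algebraic space
-/

set_option autoImplicit false

universe u

open CategoryTheory CategoryTheory.Limits AlgebraicGeometry Opposite IsLocalRing

set_option backward.isDefEq.respectTransparency false

namespace Groth.Agent.AlgSpLib.StalkPoint

open _root_.AlgSp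

variable {S : Scheme.{u}} {X : Sp S}

/-- restriction of an etale neighbourhood to an open containing the image of the point -/
theorem exists_restrict (p : FieldPt X) (N : EtNbhd p) (W : N.1.obj.left.left.Opens)
    (hW : (N.2.1.left : Spec (CommRingCat.of p.K) ⟶ _) (closedPoint p.K) ∈ W) :
    ∃ (N' : EtNbhd p) (_ : N' ⟶ N), Nonempty (N'.1.obj.left.left ≅ (W : Scheme.{u})) := by
  let nu : Spec (CommRingCat.of p.K) ⟶ N.1.obj.left.left := N.2.1.left
  have hr : Set.range nu ⊆ Set.range W.ι := by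
    rintro _ ⟨t, rfl⟩
    rw [Scheme.Opens.range_ι]
    have : t = closedPoint p.K := Subsingleton.elim _ _
    rw [this]; exact hW
  let l := IsOpenImmersion.lift W.ι nu hr
  have hl : l ≫ W.ι = nu := IsOpenImmersion.lift_fac _ _ _
  let U' : Over S := Over.mk (W.ι ≫ N.1.obj.left.hom)
  let j : U' ⟶ N.1.obj.left := Over.homMk W.ι rfl
  have hj : Etale j.left := show Etale W.ι from inferInstance
  let E : EtOver X := EtOver.mk ((yon S).map j ≫ N.1.obj.hom)
    (repWith_comp ((repWith_yon_iff j).2 hj) N.1.property)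
  let m : p.pt ⟶ U' := Over.homMk l (by
    show l ≫ W.ι ≫ N.1.obj.left.hom = p.str
    rw [reassoc_of% hl]; exact Over.w N.2.1)
  have hm : m ≫ j = N.2.1 := Over.OverMorphism.ext hl
  let v : (FieldPt.liftsTo p).obj E := ⟨m, by
    show (yon S).map m ≫ (yon S).map j ≫ N.1.obj.hom = _
    rw [← Functor.map_comp_assoc, hm]; exact N.2.2⟩
  exact ⟨⟨E, v⟩, CategoryOfElements.homMk _ _ (EtOver.homMk j rfl : E ⟶ N.1) (Subtype.ext hm),
    ⟨Iso.refl _⟩⟩

theorem exists_affine_restrict (p : FieldPt X) (N : EtNbhd p) :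
    ∃ (N' : EtNbhd p) (_ : N' ⟶ N), IsAffine N'.1.obj.left.left := by
  obtain ⟨_, ⟨W, hW, rfl⟩, hxW, -⟩ := N.1.obj.left.left.isBasis_affineOpens.exists_subset_of_mem_open
    (Set.mem_univ ((N.2.1.left : Spec (CommRingCat.of p.K) ⟶ _) (closedPoint p.K))) isOpen_univ
  obtain ⟨N', f, ⟨e⟩⟩ := exists_restrict p N W hxW
  have : IsAffine (W : Scheme.{u}) := hW
  exact ⟨N', f, .of_isIso e.hom⟩

/-- index of affine etale schemes over an affine scheme -/
def Idx (R : CommRingCat.{u}) : Type u :=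
  Σ n : ℕ, Ideal (MvPolynomial (Fin n) R)

noncomputable def idxScheme {R : CommRingCat.{u}} (i : Idx R) : Scheme.{u} :=
  Spec (CommRingCat.of (MvPolynomial (Fin i.1) R ⧸ i.2))

noncomputable def idxMap {R : CommRingCat.{u}} (i : Idx R) : idxScheme i ⟶ Spec R :=
  Spec.map (CommRingCat.ofHom ((Ideal.Quotient.mk i.2).comp MvPolynomial.C))

/-- every affine scheme of finite type over an affine scheme occurs in the index set -/
theorem exists_idx {U₀ U : Scheme.{u}} [IsAffine U₀] [IsAffine U] (f : U ⟶ U₀) [LocallyOfFiniteType f] :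
    ∃ (i : Idx Γ(U₀, ⊤)) (e : idxScheme i ≅ U), e.hom ≫ f = idxMap i ≫ U₀.isoSpec.inv := by
  have hf : f.appTop.hom.FiniteType := HasRingHomProperty.appTop (P := @LocallyOfFiniteType) f inferInstance
  algebraize [f.appTop.hom]
  obtain ⟨n, g, hg⟩ := Algebra.FiniteType.iff_quotient_mvPolynomial''.1
    (inferInstance : Algebra.FiniteType Γ(U₀, ⊤) Γ(U, ⊤))
  let q : (MvPolynomial (Fin n) Γ(U₀, ⊤) ⧸ RingHom.ker g.toRingHom) ≃+* Γ(U, ⊤) :=
    RingHom.quotientKerEquivOfSurjective hg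
  let e : idxScheme (R := Γ(U₀, ⊤)) ⟨n, RingHom.ker g.toRingHom⟩ ≅ U :=
    (Scheme.Spec.mapIso q.toCommRingCatIso.op).symm ≪≫ U.isoSpec.symm
  refine ⟨⟨n, RingHom.ker g.toRingHom⟩, e, ?_⟩
  have hq : f.appTop ≫ q.toCommRingCatIso.inv =
      CommRingCat.ofHom ((Ideal.Quotient.mk (RingHom.ker g.toRingHom)).comp MvPolynomial.C) := by
    rw [Iso.comp_inv_eq]
    ext r
    exact (g.commutes r).symm
  have hn : f ≫ U₀.isoSpec.hom = U.isoSpec.hom ≫ Spec.map f.appTop := (Scheme.isoSpec_hom_naturality f).symm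
  show (Spec.map q.toCommRingCatIso.inv ≫ U.isoSpec.inv) ≫ f = _
  rw [idxMap, ← hq, Spec.map_comp, Category.assoc, Category.assoc]
  congr 1
  rw [Iso.inv_comp_eq, ← Category.assoc, Iso.eq_comp_inv, hn]

variable (hX : IsAlgSpace X) (p : FieldPt X) (hp : p.IsGeometric)

include hX hp in
theorem initiallySmall_etNbhd : InitiallySmall.{u} (EtNbhd p) := by
  have := isCofiltered_etNbhd hX p hp
  obtain ⟨N⟩ : Nonempty (EtNbhd p) := IsCofiltered.nonempty
  obtain ⟨⟨E₀, u₀⟩, -, h₀⟩ := exists_affine_restrict p N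
  have : IsAffine E₀.obj.left.left := h₀
  let Γ₀ : CommRingCat.{u} := Γ(E₀.obj.left.left, ⊤)
  let w (i : Idx Γ₀) : idxScheme i ⟶ E₀.obj.left.left := idxMap i ≫ E₀.obj.left.left.isoSpec.inv
  let T : Type u := Σ i : Idx Γ₀, Σ' (_ : Etale (w i)),
    {l : Spec (CommRingCat.of p.K) ⟶ idxScheme i // l ≫ w i = u₀.1.left}
  let nb : T → EtNbhd p := fun t =>
    let U' : Over S := Over.mk (w t.1 ≫ E₀.obj.left.hom)
    let j : U' ⟶ E₀.obj.left := Over.homMk (w t.1) rfl
    let m : p.pt ⟶ U' := Over.homMk t.2.2.1 (by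
      show t.2.2.1 ≫ w t.1 ≫ E₀.obj.left.hom = p.str
      rw [reassoc_of% t.2.2.2]; exact Over.w u₀.1)
    ⟨EtOver.mk ((yon S).map j ≫ E₀.obj.hom) (repWith_comp ((repWith_yon_iff j).2 t.2.1) E₀.property),
      ⟨m, by
        show (yon S).map m ≫ (yon S).map j ≫ E₀.obj.hom = _
        rw [← Functor.map_comp_assoc, show m ≫ j = u₀.1 from Over.OverMorphism.ext t.2.2.2]
        exact u₀.2⟩⟩
  refine initiallySmall_of_small_weakly_initial_set (Set.range nb) fun M => ?_
  obtain ⟨M₁, a, b, -⟩ := IsCofilteredOrEmpty.cone_objs M (⟨E₀, u₀⟩ : EtNbhd p)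
  obtain ⟨⟨E, v⟩, c, hE⟩ := exists_affine_restrict p M₁
  have : IsAffine E.obj.left.left := hE
  let g : E ⟶ E₀ := (c ≫ b).1
  have : Etale g.hom.left.left := EtOver.etale_left g
  obtain ⟨i, e, he⟩ := exists_idx g.hom.left.left
  have hg : v.1.left ≫ g.hom.left.left = u₀.1.left :=
    congrArg (fun z => z.1.left) (c ≫ b).2
  have het : Etale (w i) := by
    show Etale (idxMap i ≫ E₀.obj.left.left.isoSpec.inv)
    rw [← he]; infer_instance
  let t : T := ⟨i, het, v.1.left ≫ e.inv, by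
    show (_ ≫ e.inv) ≫ idxMap i ≫ E₀.obj.left.left.isoSpec.inv = _
    rw [← he, Category.assoc, e.inv_hom_id_assoc]; exact hg⟩
  refine ⟨nb t, ⟨t, rfl⟩, ⟨?_ ≫ c ≫ a⟩⟩
  let k : (nb t).1.obj.left ⟶ E.obj.left := Over.homMk e.hom (by
    show e.hom ≫ E.obj.left.hom = w i ≫ E₀.obj.left.hom
    rw [← Over.w g.hom.left, ← Category.assoc, he])
  refine CategoryOfElements.homMk _ _ (EtOver.homMk k ?_ : (nb t).1 ⟶ E) (Subtype.ext ?_)
  · show (yon S).map k ≫ E.obj.hom = (yon S).map _ ≫ E₀.obj.hom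
    rw [← EtOver.w g, ← Functor.map_comp_assoc]
    congr 2
    exact Over.OverMorphism.ext he
  · refine Over.OverMorphism.ext ?_
    show (v.1.left ≫ e.inv) ≫ e.hom = v.1.left
    rw [Category.assoc, e.inv_hom_id, Category.comp_id]

theorem surjective_of_mem_etTop {E : EtOver X} {R : Sieve E} (h : R ∈ etTop X E)
    (x : ↥E.obj.left.left) : ∃ (Z : EtOver X) (g : Z ⟶ E), R g ∧ x ∈ Set.range g.hom.left.left := by
  change (etPre X).Saturate E R at h
  induction h with
  | of E R hR =>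
    obtain ⟨ι, Z, g, rfl⟩ := R.exists_eq_ofArrows
    obtain ⟨i, hi⟩ := (ofArrows_mem_etPre_iff Z g).1 hR x
    exact ⟨_, g i, Sieve.le_generate _ _ _ ⟨i⟩, hi⟩
  | top E => exact ⟨E, 𝟙 E, trivial, x, rfl⟩
  | pullback E R _ E' f ih =>
    obtain ⟨Z, g, hg, z, hz⟩ := ih (f.hom.left.left x)
    obtain ⟨p, -, hp⟩ := Scheme.exists_preimage_of_isPullback
      (((EtOver.isPullback g f).map (EtOver.forget X)).map (Over.forget S)) z x hz
    refine ⟨_, EtOver.pullbackSnd g f, ?_, p, hp⟩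
    show R (EtOver.pullbackSnd g f ≫ f)
    rw [← (EtOver.isPullback g f).w]
    exact R.downward_closed hg _
  | transitive E T R _ _ ih1 ih2 =>
    obtain ⟨Z, g, hg, z, hz⟩ := ih1 x
    obtain ⟨W, k, hk, w, hw⟩ := ih2 hg z
    refine ⟨W, k ≫ g, hk, w, ?_⟩
    show g.hom.left.left (k.hom.left.left w) = x
    rw [hw, hz]

/-- a geometric point of an algebraic space as a point of its small etale site -/
noncomputable def point : GrothendieckTopology.Point.{u} (etTop X) where
  fiber := FieldPt.liftsTo p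
  isCofiltered := isCofiltered_etNbhd hX p hp
  initiallySmall := initiallySmall_etNbhd hX p hp
  jointly_surjective {E} R hR x := by
    have : IsAlgClosed p.K := hp
    let nu : Spec (CommRingCat.of p.K) ⟶ E.obj.left.left := x.1.left
    obtain ⟨Z, g, hg, z, hz⟩ := surjective_of_mem_etTop hR (nu (closedPoint p.K))
    have : Etale g.hom.left.left := EtOver.etale_left g
    obtain ⟨l, hl⟩ := SpQS.exists_lift_of_etale g.hom.left.left nu hz
    let m : p.pt ⟶ Z.obj.left := Over.homMk l (by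
      show l ≫ Z.obj.left.hom = p.str
      rw [← Over.w g.hom.left, ← Category.assoc, hl]
      exact Over.w x.1)
    have hm : m ≫ g.hom.left = x.1 := Over.OverMorphism.ext hl
    refine ⟨Z, g, hg, ⟨m, ?_⟩, Subtype.ext ((FieldPt.liftsTo_map_coe p g _).trans hm)⟩
    rw [← EtOver.w g, ← Functor.map_comp_assoc, hm]
    exact x.2

/-- geometric points through every point of an etale chart -/
theorem exists_geometric_through (E : EtOver X) (x : ↥E.obj.left.left) :
    ∃ (q : FieldPt X) (_ : q.IsGeometric) (v : (FieldPt.liftsTo q).obj E),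
      (v.1.left : Spec (CommRingCat.of q.K) ⟶ _) (closedPoint q.K) = x := by
  let κ := E.obj.left.left.residueField x
  let l : Spec (CommRingCat.of (AlgebraicClosure κ)) ⟶ E.obj.left.left :=
    Spec.map (CommRingCat.ofHom (algebraMap κ (AlgebraicClosure κ))) ≫ E.obj.left.left.fromSpecResidueField x
  let P : Over S := Over.mk (l ≫ E.obj.left.hom)
  let m : P ⟶ E.obj.left := Over.homMk l rfl
  let q : FieldPt X :=
    ⟨AlgebraicClosure κ, P.hom, (J S).uliftYonedaEquiv ((yon S).map m ≫ E.obj.hom)⟩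
  refine ⟨q, (inferInstance : IsAlgClosed (AlgebraicClosure κ)), ⟨m, ?_⟩, ?_⟩
  · exact ((J S).uliftYonedaEquiv.symm_apply_apply _).symm
  · show (Spec.map _ ≫ E.obj.left.left.fromSpecResidueField x) (closedPoint _) = x
    rw [Scheme.Hom.comp_apply]
    exact Scheme.fromSpecResidueField_apply _ _

theorem mem_etTop_of_jointly_surjective {E : EtOver X} (R : Sieve E)
    (h : ∀ x : ↥E.obj.left.left, ∃ (Z : EtOver X) (g : Z ⟶ E), R g ∧ x ∈ Set.range g.hom.left.left) :
    R ∈ etTop X E := by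
  choose Z g hg hx using h
  refine (etTop X).superset_covering ?_ (ofArrows_mem_etTop Z g fun x => ⟨x, hx x⟩)
  rw [Sieve.generate_le_iff]
  rintro _ _ ⟨x⟩
  exact hg x

end Groth.Agent.AlgSpLib.StalkPoint
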