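import Groth.Agent.AlgSpLib.StalkHensel
import Groth.Agent.AlgSpLib.HenselLift
import Groth.Prelude.Def_Hensel
import Groth.Agent.Hensel.Henselization
import Mathlib.AlgebraicGeometry.Morphisms.Etale

/-!
# The etale local ring at a geometric point is a strict henselization of the local ring of a chart
-/

set_option autoImplicit false

universe u

open CategoryTheory CategoryTheory.Limits AlgebraicGeometry Opposite IsLocalRing

set_option backward.isDefEq.respectTransparency false

namespace Groth.Agent.AlgSpLib.StalkPoint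

open _root_.AlgSp

variable {S : Scheme.{u}} {X : Sp S} {p : FieldPt X}

theorem small_stalk_of_initial (hX : IsAlgSpace X) (hp : p.IsGeometric) {J : Type u} [SmallCategory J]
    (F : J ⥤ EtNbhd p) [F.Initial] : Small.{u} (OEtStalk p) := by
  have h : ∀ (N : EtNbhd p), ∃ j : J, Nonempty (F.obj j ⟶ N) := fun N => by
    obtain ⟨c⟩ := (Functor.Initial.out (F := F) N).is_nonempty
    exact ⟨c.left, ⟨c.hom⟩⟩
  refine small_of_surjective (f := fun x : Σ j : J, Γ((F.obj j).1.obj.left.left, ⊤) => gm (F.obj x.1) x.2) ?_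
  intro t
  obtain ⟨N, s, rfl⟩ := exists_gm hX hp t
  obtain ⟨j, ⟨m⟩⟩ := h N
  exact ⟨⟨j, m.1.hom.left.left.appTop s⟩, gm_map m s⟩

theorem small_stalk (hX : IsAlgSpace X) (hp : p.IsGeometric) : Small.{u} (OEtStalk p) := by
  have := initiallySmall_etNbhd hX p hp
  exact small_stalk_of_initial hX hp (fromInitialModel.{u} (EtNbhd p))

theorem gm_eq (hX : IsAlgSpace X) (hp : p.IsGeometric) {N M : EtNbhd p} (s : Γ(N.1.obj.left.left, ⊤))
    (s' : Γ(M.1.obj.left.left, ⊤)) (h : gm N s = gm M s') :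
    ∃ (P : EtNbhd p) (c : P ⟶ N) (d : P ⟶ M),
      c.1.hom.left.left.appTop s = d.1.hom.left.left.appTop s' := by
  have := isCofiltered_etNbhd hX p hp
  obtain ⟨P, c, d, e⟩ := (Types.FilteredColimit.isColimit_eq_iff _
    (isColimitOfPreserves (forget CommRingCat.{u + 1}) (colimit.isColimit (stalkEtDiagram p (OEt X))))
    (i := op N) (j := op M) (xi := ULift.up s) (xj := ULift.up s')).1 h
  exact ⟨P.unop, c.unop, d.unop, congrArg ULift.down e⟩

section universal

variable (hX : IsAlgSpace X) (hp : p.IsGeometric) (N₀ : EtNbhd p) [IsAffine N₀.1.obj.left.left]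
  [IsLocalRing (OEtStalk p)]
  {T : Type u} [CommRing T] [HenselianLocalRing T] (f : Γ(N₀.1.obj.left.left, ⊤) →+* T)
  (τ : ResidueField (OEtStalk p) →+* ResidueField T)
  (hτ : τ.comp ((residue (OEtStalk p)).comp (gm N₀)) = (residue T).comp f)

include hτ

theorem existsUnique_lift_nbhd {N : EtNbhd p} (a : N ⟶ N₀) (hN : IsAffine N.1.obj.left.left) :
    ∃! l : Γ(N.1.obj.left.left, ⊤) →+* T, l.comp a.1.hom.left.left.appTop.hom = f ∧
      (residue T).comp l = τ.comp ((residue (OEtStalk p)).comp (gm N)) := by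
  have : Etale a.1.hom.left.left := EtOver.etale_left a.1
  refine existsUnique_lift_hensel _ (HasRingHomProperty.appTop (P := @Etale) _ inferInstance) f _ ?_
  rw [← hτ]
  exact RingHom.ext fun r => congrArg (fun t => τ (residue (OEtStalk p) t)) (gm_map a r)

include hX hp

theorem existsUnique_of_nbhd :
    ∃! g : OEtStalk p →+* T, g.comp (gm N₀) = f ∧ ∀ t, residue T (g t) = τ (residue (OEtStalk p) t) := by
  have := isCofiltered_etNbhd hX p hp
  choose l hl hu using fun (N : EtNbhd p) (a : N ⟶ N₀) (hN : IsAffine N.1.obj.left.left) =>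
    existsUnique_lift_nbhd N₀ f τ hτ a hN
  -- every germ has a representative over an affine neighbourhood mapping to `N₀`
  have rep : ∀ (ts : Finset (OEtStalk p)), ∃ (N : EtNbhd p) (_ : N ⟶ N₀), IsAffine N.1.obj.left.left ∧
      ∀ t ∈ ts, t ∈ Set.range (gm N) := fun ts => by
    obtain ⟨M, -, hM⟩ := exists_common hX hp ts
    obtain ⟨P, c, a, -⟩ := IsCofilteredOrEmpty.cone_objs M N₀
    obtain ⟨P', d, hP'⟩ := exists_affine_restrict p P
    refine ⟨P', d ≫ a, hP', fun t ht => ?_⟩
    obtain ⟨s, rfl⟩ := hM t ht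
    exact ⟨_, gm_map (d ≫ c) s⟩
  have wd : ∀ (N : EtNbhd p) (a : N ⟶ N₀) (hN : IsAffine N.1.obj.left.left) (M : EtNbhd p) (b : M ⟶ N₀)
      (hM : IsAffine M.1.obj.left.left) (s : Γ(N.1.obj.left.left, ⊤)) (s' : Γ(M.1.obj.left.left, ⊤)),
      gm N s = gm M s' → l N a hN s = l M b hM s' := by
    intro N a hN M b hM s s' e
    obtain ⟨P, c, d, hcd⟩ := gm_eq hX hp s s' e
    obtain ⟨Q, q, hq⟩ := IsCofilteredOrEmpty.cone_maps (c ≫ a) (d ≫ b)
    obtain ⟨R, r, hR⟩ := exists_affine_restrict p Q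
    have key : ∀ (N' : EtNbhd p) (a' : N' ⟶ N₀) (hN' : IsAffine N'.1.obj.left.left) (k : R ⟶ N'),
        k ≫ a' = r ≫ q ≫ c ≫ a →
        (l R (r ≫ q ≫ c ≫ a) hR).comp k.1.hom.left.left.appTop.hom = l N' a' hN' := by
      intro N' a' hN' k hk
      refine hu N' a' hN' _ ⟨RingHom.ext fun z => ?_, RingHom.ext fun z => ?_⟩
      · rw [← (hl R (r ≫ q ≫ c ≫ a) hR).1]
        show l R _ hR (k.1.hom.left.left.appTop (a'.1.hom.left.left.appTop z)) = _
        rw [← ConcreteCategory.comp_apply (a'.1.hom.left.left.appTop), ← Scheme.Hom.comp_appTop]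
        rw [show k.1.hom.left.left ≫ a'.1.hom.left.left = (r ≫ q ≫ c ≫ a).1.hom.left.left from
          congrArg (fun m => m.1.hom.left.left) hk]
        rfl
      · exact (RingHom.congr_fun (hl R (r ≫ q ≫ c ≫ a) hR).2 _).trans
          (congrArg (fun t => τ (residue (OEtStalk p) t)) (gm_map k z))
    rw [← key N a hN (r ≫ q ≫ c) (by simp only [Category.assoc]),
      ← key M b hM (r ≫ q ≫ d) (by simp only [Category.assoc]; rw [hq])]
    show l R _ hR ((r ≫ q ≫ c).1.hom.left.left.appTop s) = l R _ hR ((r ≫ q ≫ d).1.hom.left.left.appTop s')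
    refine congrArg (l R _ hR) ?_
    show ((r.1.hom.left.left ≫ q.1.hom.left.left) ≫ c.1.hom.left.left).appTop s =
      ((r.1.hom.left.left ≫ q.1.hom.left.left) ≫ d.1.hom.left.left).appTop s'
    rw [Scheme.Hom.comp_appTop _ c.1.hom.left.left, Scheme.Hom.comp_appTop _ d.1.hom.left.left,
      ConcreteCategory.comp_apply, ConcreteCategory.comp_apply, hcd]
  have rep1 : ∀ t : OEtStalk p, ∃ (N : EtNbhd p) (_ : N ⟶ N₀), IsAffine N.1.obj.left.left ∧
      t ∈ Set.range (gm N) := fun t => by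
    obtain ⟨N, a, hN, h⟩ := rep {t}
    exact ⟨N, a, hN, h t (Finset.mem_singleton_self t)⟩
  choose N a hN hs using rep1
  let g₀ : OEtStalk p → T := fun t => l (N t) (a t) (hN t) (hs t).choose
  have val : ∀ (M : EtNbhd p) (b : M ⟶ N₀) (hM : IsAffine M.1.obj.left.left) (z : Γ(M.1.obj.left.left, ⊤)),
      g₀ (gm M z) = l M b hM z := fun M b hM z => wd _ _ _ _ _ _ _ _ (hs _).choose_spec
  let g : OEtStalk p →+* T :=
    { toFun := g₀
      map_one' := by rw [← map_one (gm (N 1)), val _ (a 1) (hN 1), map_one]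
      map_zero' := by rw [← map_zero (gm (N 0)), val _ (a 0) (hN 0), map_zero]
      map_mul' := fun x y => by
        classical
        obtain ⟨M, b, hM, h⟩ := rep {x, y}
        obtain ⟨x', rfl⟩ := h x (by simp)
        obtain ⟨y', rfl⟩ := h y (by simp)
        rw [← map_mul, val M b hM, val M b hM, val M b hM, map_mul]
      map_add' := fun x y => by
        classical
        obtain ⟨M, b, hM, h⟩ := rep {x, y}
        obtain ⟨x', rfl⟩ := h x (by simp)
        obtain ⟨y', rfl⟩ := h y (by simp)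
        rw [← map_add, val M b hM, val M b hM, val M b hM, map_add] }
  refine ⟨g, ⟨RingHom.ext fun r => ?_, fun t => ?_⟩, fun g' ⟨h1, h2⟩ => RingHom.ext fun t => ?_⟩
  · show g₀ (gm N₀ r) = f r
    rw [← gm_map (a 0) r, val (N 0) (a 0) (hN 0)]
    exact RingHom.congr_fun (hl _ _ _).1 r
  · show residue T (g₀ t) = _
    conv_rhs => rw [← (hs t).choose_spec]
    exact RingHom.congr_fun (hl _ _ _).2 _
  · have e : g'.comp (gm (N t)) = l (N t) (a t) (hN t) :=
      hu _ _ _ _ ⟨RingHom.ext fun r => (congrArg g' (gm_map (a t) r)).trans (RingHom.congr_fun h1 r),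
        RingHom.ext fun z => h2 _⟩
    show g' t = g₀ t
    conv_lhs => rw [← (hs t).choose_spec]
    exact RingHom.congr_fun e _

end universal

theorem henselian_of_equiv {A : Type*} {B : Type*} [CommRing A] [CommRing B] [HenselianLocalRing A]
    (e : A ≃+* B) : HenselianLocalRing B := by
  have : IsLocalRing B := e.isLocalRing
  refine { is_henselian := fun f hf b₀ h1 h2 => ?_ }
  have hmem : ∀ x : B, x ∈ maximalIdeal B ↔ e.symm x ∈ maximalIdeal A := fun x => by
    simp only [mem_maximalIdeal, mem_nonunits_iff, MulEquiv.isUnit_map e.symm]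
  have hev : ∀ (g : Polynomial B) (x : B), (g.map e.symm.toRingHom).eval (e.symm x) = e.symm (g.eval x) := fun g x =>
    Polynomial.eval_map_apply e.symm.toRingHom x
  obtain ⟨a, ha, ha'⟩ := HenselianLocalRing.is_henselian (f.map e.symm.toRingHom) (hf.map _) (e.symm b₀)
    (by rw [hev]; exact (hmem _).1 h1)
    (by rw [Polynomial.derivative_map, hev]; exact h2.map e.symm)
  refine ⟨e a, ?_, (hmem _).2 (by rw [map_sub, e.symm_apply_apply]; exact ha')⟩
  rw [Polynomial.IsRoot, ← e.symm.map_eq_zero_iff, ← hev, e.symm_apply_apply]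
  exact ha

/-- the image of the point in a neighbourhood -/
noncomputable abbrev pnt (N : EtNbhd p) : ↥N.1.obj.left.left :=
  (N.2.1.left : Spec (CommRingCat.of p.K) ⟶ _) (closedPoint p.K)

theorem ev_ne_zero_of_mem (N : EtNbhd p) (s : Γ(N.1.obj.left.left, ⊤))
    (h : pnt N ∈ N.1.obj.left.left.basicOpen s) : ev N s ≠ 0 := by
  let nu : Spec (CommRingCat.of p.K) ⟶ N.1.obj.left.left := N.2.1.left
  have h' : closedPoint p.K ∈ nu ⁻¹ᵁ N.1.obj.left.left.basicOpen s := h
  rw [Scheme.preimage_basicOpen_top, Scheme.mem_basicOpen_top] at h'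
  intro h0
  have e : nu.appTop s = 0 := by
    have := congrArg (Scheme.ΓSpecIso (CommRingCat.of p.K)).inv h0
    rw [map_zero] at this
    exact (Iso.hom_inv_id_apply (Scheme.ΓSpecIso (CommRingCat.of p.K)) _).symm.trans this
  rw [e, map_zero] at h'
  exact not_isUnit_zero h'

/-- the etale local ring is a strict henselization of the local ring of an affine neighbourhood -/
theorem exists_strictHenselization (hX : IsAlgSpace X) (hp : p.IsGeometric) (N₀ : EtNbhd p)
    (hN₀ : IsAffine N₀.1.obj.left.left) :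
    ∃ (T : Type u) (_ : CommRing T) (_ : IsLocalRing T)
      (_ : Algebra (N₀.1.obj.left.left.presheaf.stalk (pnt N₀)) T)
      (_ : IsLocalHom (algebraMap (N₀.1.obj.left.left.presheaf.stalk (pnt N₀)) T)),
      Nonempty (OEtStalk p ≃+* T) ∧
        _root_.Hensel.IsStrictHenselization (N₀.1.obj.left.left.presheaf.stalk (pnt N₀)) T := by
  have := small_stalk hX hp
  obtain ⟨hloc, hh, hsep⟩ := isStrictlyHenselian_stalk hX hp
  let e : OEtStalk p ≃+* Shrink.{u} (OEtStalk p) := (Shrink.ringEquiv (OEtStalk p)).symm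
  have hT : HenselianLocalRing (Shrink.{u} (OEtStalk p)) := henselian_of_equiv e
  let U := N₀.1.obj.left.left
  let R : CommRingCat.{u} := U.presheaf.stalk (pnt N₀)
  let x : (⊤ : U.Opens) := ⟨pnt N₀, trivial⟩
  let : Algebra Γ(U, ⊤) R := TopCat.Presheaf.algebra_section_stalk U.presheaf x
  have hL : IsLocalization.AtPrime R ((isAffineOpen_top U).primeIdealOf x).asIdeal :=
    (isAffineOpen_top U).isLocalization_stalk x
  have hunit : ∀ y : ((isAffineOpen_top U).primeIdealOf x).asIdeal.primeCompl, IsUnit (gm N₀ (y : Γ(U, ⊤))) := by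
    intro y
    rw [isUnit_iff_evS hX hp, evS_gm]
    refine ev_ne_zero_of_mem N₀ _ ?_
    rw [Scheme.mem_basicOpen_top]
    exact IsLocalization.map_units R y
  let ψ : R →+* OEtStalk p := IsLocalization.lift hunit
  have hψ : ∀ r : Γ(U, ⊤), ψ (algebraMap Γ(U, ⊤) R r) = gm N₀ r := fun r => IsLocalization.lift_eq hunit r
  let : Algebra R (Shrink.{u} (OEtStalk p)) := (e.toRingHom.comp ψ).toAlgebra
  have hlh : IsLocalHom (algebraMap R (Shrink.{u} (OEtStalk p))) := by
    refine ⟨fun r hr => ?_⟩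
    obtain ⟨⟨a, y⟩, hay⟩ := IsLocalization.mk'_surjective ((isAffineOpen_top U).primeIdealOf x).asIdeal.primeCompl r
    subst hay
    have hu : IsUnit (ψ (IsLocalization.mk' R a y)) := (MulEquiv.isUnit_map e).1 hr
    have h1 : IsUnit (gm N₀ a) := by
      rw [← hψ, ← IsLocalization.mk'_spec R a y, map_mul]
      exact hu.mul ((IsLocalization.map_units R y).map ψ)
    rw [isUnit_iff_evS hX hp, evS_gm] at h1
    have h2 : IsUnit (algebraMap Γ(U, ⊤) R a) :=
      (Scheme.mem_basicOpen_top _ a (pnt N₀)).1 (mem_basicOpen_of_ev_ne_zero N₀ a h1)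
    rw [← IsLocalization.mk'_spec R a y, IsUnit.mul_iff] at h2
    exact h2.1
  refine ⟨Shrink.{u} (OEtStalk p), inferInstance, hT.toIsLocalRing, _, hlh, ⟨e⟩, ⟨hT, ?_, ?_⟩⟩
  · have : IsSepClosed (ResidueField (Shrink.{u} (OEtStalk p))) :=
      Groth.Agent.Hensel.isSepClosed_of_ringEquiv (ResidueField.mapEquiv e)
    refine ⟨this, ⟨fun z => ?_⟩⟩
    obtain ⟨z, rfl⟩ := residue_surjective z
    obtain ⟨t, rfl⟩ := e.surjective z
    obtain ⟨M, s, rfl⟩ := exists_gm hX hp t
    have := isCofiltered_etNbhd hX p hp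
    obtain ⟨P, c, a, -⟩ := IsCofilteredOrEmpty.cone_objs M N₀
    obtain ⟨P', d, hP'⟩ := exists_affine_restrict p P
    have : Etale (d ≫ a).1.hom.left.left := EtOver.etale_left (d ≫ a).1
    rw [← gm_map (d ≫ c) s]
    refine isSeparable_value (k := ResidueField R) _ (HasRingHomProperty.appTop (P := @Etale) (d ≫ a).1.hom.left.left inferInstance)
      ((residue R).comp (algebraMap Γ(U, ⊤) R))
      ((residue _).comp (e.toRingHom.comp (gm P'))) (RingHom.ext fun r => ?_) _
    show residue _ (e (gm P' ((d ≫ a).1.hom.left.left.appTop r))) =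
      ResidueField.map (algebraMap R (Shrink.{u} (OEtStalk p))) (residue R (algebraMap Γ(U, ⊤) R r))
    rw [ResidueField.map_residue, gm_map, ← hψ]
    rfl
  · intro T' _ _ f hf τ hτ
    let τ' : ResidueField (OEtStalk p) →+* ResidueField T' := τ.comp (ResidueField.mapEquiv e).toRingHom
    have hτ' : ∀ t, τ' (residue (OEtStalk p) t) = τ (residue (Shrink.{u} (OEtStalk p)) (e t)) := fun t => rfl
    obtain ⟨g, ⟨h1, h2⟩, hu⟩ := existsUnique_of_nbhd hX hp N₀ (f.comp (algebraMap Γ(U, ⊤) R)) τ'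
      (RingHom.ext fun r => by
        show τ' (residue _ (gm N₀ r)) = residue T' (f (algebraMap Γ(U, ⊤) R r))
        rw [hτ', ← hψ]
        exact RingHom.congr_fun hτ (residue R (algebraMap Γ(U, ⊤) R r)))
    have hc : (g.comp e.symm.toRingHom).comp (algebraMap R (Shrink.{u} (OEtStalk p))) = f := by
      refine IsLocalization.ringHom_ext (R := Γ(U, ⊤))
        ((isAffineOpen_top U).primeIdealOf x).asIdeal.primeCompl (RingHom.ext fun r => ?_)
      show g (e.symm (e (ψ (algebraMap Γ(U, ⊤) R r)))) = f (algebraMap Γ(U, ⊤) R r)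
      rw [e.symm_apply_apply, hψ]
      exact RingHom.congr_fun h1 r
    have hd : ∀ z, residue T' ((g.comp e.symm.toRingHom) z) = τ (residue _ z) := fun z => by
      show residue T' (g (e.symm z)) = τ (residue _ z)
      rw [h2, hτ', e.apply_symm_apply]
    refine ⟨g.comp e.symm.toRingHom, ⟨hc, hd⟩, ?_⟩
    rintro g' ⟨h1', h2'⟩
    have eg : g'.comp e.toRingHom = g := by
      refine hu _ ⟨RingHom.ext fun r => ?_, fun t => (h2' _).trans (hτ' t).symm⟩
      show g' (e (gm N₀ r)) = f (algebraMap Γ(U, ⊤) R r)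
      rw [← hψ]
      exact RingHom.congr_fun h1' (algebraMap Γ(U, ⊤) R r)
    refine RingHom.ext fun z => ?_
    show g' z = g (e.symm z)
    rw [← eg]
    exact congrArg g' (e.apply_symm_apply z).symm

end Groth.Agent.AlgSpLib.StalkPoint
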