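import Groth.Agent.AlgSpLib.StalkChart
import Groth.Agent.AlgSpLib.Reduced
import Groth.Agent.AlgSpLib.StalkHensel
import Groth.Prelude.Def_AlgSpOX2

/-!
# Support of sheaves of rings; global sections on reduced spaces
-/

set_option autoImplicit false

universe u

open CategoryTheory CategoryTheory.Limits AlgebraicGeometry Opposite IsLocalRing

set_option backward.isDefEq.respectTransparency false

namespace Groth.Agent.AlgSpLib.StalkPoint

open _root_.AlgSp

variable {S : Scheme.{u}} {X : Sp S}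

theorem subsingleton_stalk_of_zero_eq_one {p : FieldPt X} (O : EtSh X CommRingCat.{u + 1}) (N : EtNbhd p)
    (h : (0 : O.obj.obj (op N.1)) = 1) : ¬ Nontrivial ↥(stalkEt p O) := by
  intro hn
  have := congrArg (stalkEtι p O N) h
  rw [map_zero, map_one] at this
  exact zero_ne_one this

theorem exists_nbhd_zero_eq_one (hX : IsAlgSpace X) {p : FieldPt X} (hp : p.IsGeometric)
    (O : EtSh X CommRingCat.{u + 1}) (h : ¬ Nontrivial ↥(stalkEt p O)) :
    ∃ N : EtNbhd p, (0 : O.obj.obj (op N.1)) = 1 := by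
  have := isCofiltered_etNbhd hX p hp
  obtain ⟨N⟩ : Nonempty (EtNbhd p) := IsCofiltered.nonempty
  rw [not_nontrivial_iff_subsingleton] at h
  have e : stalkEtι p O N 0 = stalkEtι p O N 1 := Subsingleton.elim _ _
  obtain ⟨P, c, d, e'⟩ := (Types.FilteredColimit.isColimit_eq_iff _
    (isColimitOfPreserves (forget CommRingCat.{u + 1}) (colimit.isColimit (stalkEtDiagram p O)))
    (i := op N) (j := op N) (xi := (0 : O.obj.obj (op N.1))) (xj := (1 : O.obj.obj (op N.1)))).1 e
  refine ⟨P.unop, ?_⟩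
  have e0 := map_zero (O.obj.map c.unop.1.op).hom
  have e1 := map_one (O.obj.map d.unop.1.op).hom
  exact e0.symm.trans (e'.trans e1)

theorem isClosed_support (hX : IsAlgSpace X) (O : EtSh X CommRingCat.{u + 1}) :
    IsClosed {x : Points X | ∃ p : FieldPt X, p.IsGeometric ∧ Points.mk p = x ∧ Nontrivial ↥(stalkEt p O)} := by
  rw [← isOpen_compl_iff, isOpen_iff_forall_mem_open]
  intro x hx
  obtain ⟨U, a, u, ha, hu⟩ := exists_chart_at hX x
  obtain ⟨q, hq, hqx⟩ := exists_geometric_over a ha u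
  have hnt : ¬ Nontrivial ↥(stalkEt q O) := fun hn => hx ⟨q, hq, hqx.trans hu, hn⟩
  obtain ⟨N, hN⟩ := exists_nbhd_zero_eq_one hX hq O hnt
  refine ⟨Set.range (Points.ofPt N.1.obj.hom), ?_,
    (isOpenMap_ofPt (repWith_universallyOpen_of_etale N.1.property)).isOpen_range, ?_⟩
  · rintro _ ⟨v, rfl⟩ ⟨p, hp, hpv, hn⟩
    obtain ⟨ubar, h1, -⟩ := exists_geometric_lift_etale (IsAlgSpace.yon_obj N.1.obj.left) hX
      (isEtaleMor_of_repWith' N.1.property) p hp (Points.ofScheme _ v) (by
        show Points.map _ (Points.ofPt (𝟙 _) v) = _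
        rw [Points.map_ofPt, Category.id_comp, hpv])
    obtain ⟨l, rfl⟩ := exists_map_eq ubar
    exact subsingleton_stalk_of_zero_eq_one O (Functor.elementsMk (FieldPt.liftsTo p) N.1 ⟨l, h1⟩) hN hn
  · refine ⟨(N.2.1.left : Spec (CommRingCat.of q.K) ⟶ _) (closedPoint q.K), ?_⟩
    rw [← hu, ← hqx, mk_eq_ofPt, show fieldHom q = (yon S).map N.2.1 ≫ N.1.obj.hom from N.2.2.symm, ofPt_comp]

theorem isReduced_chart (hX : IsAlgSpace X) (h : IsReducedSp X) (E : EtOver X) : IsReduced E.obj.left.left := by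
  have : ∀ v, _root_.IsReduced (E.obj.left.left.presheaf.stalk v) := fun v => by
    obtain ⟨q, hq, hqx⟩ := exists_geometric_over E.obj.hom E.property v
    obtain ⟨T, _, _, _, _, ⟨e⟩, hH⟩ := exists_strict_of_chart hX hq E.property v hqx.symm
    have := hH
    have h1 := (isReduced_stalk_iff hX hq).1 ((isReducedSp_iff_forall_hasAt hX).1 h (Points.mk q))
    have : _root_.IsReduced T := isReduced_of_injective e.symm e.symm.injective
    exact (Groth.Agent.Hensel.strictHenselization_isReduced_iff (E.obj.left.left.presheaf.stalk v) T).1 this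
  exact isReduced_of_isReduced_stalk _

theorem gsect_ext {f g : ↥(gsectEt (OEt X))}
    (h : ∀ E : EtOver X, limit.π (OEt X).obj (op E) f = limit.π (OEt X).obj (op E) g) : f = g :=
  Concrete.limit_ext (OEt X).obj f g fun E => h E.unop

theorem isReduced_gsect (hX : IsAlgSpace X) (h : IsReducedSp X) :
    _root_.IsReduced ↥(gsectEt (OEt X)) ∧
      ∀ f : ↥(gsectEt (OEt X)),
        (∀ E : EtOver X, E.obj.left.left.basicOpen ((limit.π (OEt X).obj (op E)) f).down = ⊥) → f = 0 := by
  refine ⟨⟨fun f hf => gsect_ext fun E => ?_⟩, fun f hf => gsect_ext fun E => ?_⟩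
  · have := isReduced_chart hX h E
    let s : Γ(E.obj.left.left, ⊤) := (limit.π (OEt X).obj (op E) f).down
    obtain ⟨n, hn⟩ := hf.map (limit.π (OEt X).obj (op E)).hom
    have h' : IsNilpotent s := ⟨n, congrArg ULift.down hn⟩
    rw [map_zero]
    exact ULift.ext _ _ h'.eq_zero
  · have := isReduced_chart hX h E
    let s : Γ(E.obj.left.left, ⊤) := (limit.π (OEt X).obj (op E) f).down
    have h' : s = 0 := (basicOpen_eq_bot_iff s).1 (hf E)
    rw [map_zero]
    exact ULift.ext _ _ h'

end Groth.Agent.AlgSpLib.StalkPoint
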