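import Groth.Agent.AlgSpLib.Presentation
import Groth.Agent.AlgSpLib.Quot
import Groth.Prelude.Def_AlgSpOX2

/-!
# Morphisms from algebraic spaces to affine schemes
-/

set_option autoImplicit false

universe u

open CategoryTheory CategoryTheory.Limits AlgebraicGeometry Opposite

set_option backward.isDefEq.respectTransparency false

namespace Groth.Agent.AlgSpLib

open _root_.AlgSp

variable {S : Scheme.{u}}

theorem exists_hom_of_ringHom {U : Scheme.{u}} {T : Scheme.{u}} [IsAffine T] (θ : Γ(T, ⊤) ⟶ Γ(U, ⊤)) :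
    ∃ g : U ⟶ T, g.appTop = θ := by
  refine ⟨U.toSpecΓ ≫ Spec.map θ ≫ T.isoSpec.inv, ?_⟩
  have e : T.isoSpec.inv.appTop = (Scheme.ΓSpecIso Γ(T, ⊤)).inv := by
    rw [← cancel_mono T.isoSpec.hom.appTop, ← Scheme.Hom.comp_appTop, Iso.hom_inv_id,
      show T.isoSpec.hom.appTop = (Scheme.ΓSpecIso Γ(T, ⊤)).hom from Scheme.toSpecΓ_appTop _, Iso.inv_hom_id]
    rfl
  rw [Scheme.Hom.comp_appTop, Scheme.Hom.comp_appTop, e, Scheme.toSpecΓ_appTop, Category.assoc,
    Scheme.ΓSpecIso_naturality, Iso.inv_hom_id_assoc]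

theorem existsUnique_hom_to_affine (hS : IsTerminal S) {X : Sp S} (hX : IsAlgSpace X)
    (T : Over S) [IsAffine T.left] (φ : Γ(T.left, ⊤) →+* ↥(gsectEt (OEt X))) :
    ∃! f : X ⟶ (yon S).obj T, ∀ (E : EtOver X) (r : Γ(T.left, ⊤)),
      ((limit.π (OEt X).obj (Opposite.op E)) (φ r)).down =
        ((yon S).preimage (E.obj.hom ≫ f)).left.appTop r := by
  let θ : ∀ E : EtOver X, Γ(T.left, ⊤) ⟶ Γ(E.obj.left.left, ⊤) := fun E => CommRingCat.ofHom
    ((ULift.ringEquiv.toRingHom : ULift.{u + 1} Γ(E.obj.left.left, ⊤) →+* _).comp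
      ((limit.π (OEt X).obj (op E)).hom.comp φ))
  have hθ : ∀ {E E' : EtOver X} (g : E ⟶ E'), θ E' ≫ g.hom.left.left.appTop = θ E := fun {E E'} g => by
    ext r
    exact congrArg ULift.down (ConcreteCategory.congr_hom (limit.w (OEt X).obj g.op) (φ r))
  choose g hg using fun E : EtOver X => exists_hom_of_ringHom (T := T.left) (θ E)
  let G : ∀ E : EtOver X, E.obj.left ⟶ T := fun E => Over.homMk (g E) (hS.hom_ext _ _)
  have hG : ∀ {E E' : EtOver X} (m : E ⟶ E'), m.hom.left ≫ G E' = G E := fun {E E'} m => by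
    ext
    refine ext_of_isAffine ?_
    show (m.hom.left.left ≫ g E').appTop = (g E).appTop
    rw [Scheme.Hom.comp_appTop, hg, hθ, hg]
  obtain ⟨U, p, hpe, hps⟩ := hX.atlas
  obtain ⟨R, t, s, sq⟩ := exists_pullback hX.diag p p
  have := isLocallySurjective_of_atlas hpe hps
  obtain ⟨hc⟩ := isColimit_of_isPullback sq
  let EU : EtOver X := EtOver.mk p hpe
  let ER : EtOver X := EtOver.mk ((yon S).map t ≫ p) (repWith_comp (repWith_baseChange sq.flip hpe) hpe)
  have hw : (yon S).map t ≫ (yon S).map (G EU) = (yon S).map s ≫ (yon S).map (G EU) := by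
    have e1 := hG (EtOver.homMk t rfl : ER ⟶ EU)
    have e2 := hG (EtOver.homMk s sq.w.symm : ER ⟶ EU)
    rw [← Functor.map_comp, ← Functor.map_comp]
    exact congrArg (yon S).map (e1.trans e2.symm)
  let f : X ⟶ (yon S).obj T := hc.desc (Cofork.ofπ ((yon S).map (G EU)) hw)
  have hf : p ≫ f = (yon S).map (G EU) := hc.fac _ WalkingParallelPair.one
  refine ⟨f, fun E r => ?_, fun f' hf' => ?_⟩
  · suffices h : E.obj.hom ≫ f = (yon S).map (G E) by
      rw [h, Functor.preimage_map]
      exact (ConcreteCategory.congr_hom (hg E) r).symm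
    obtain ⟨W, q, q', sqW⟩ := exists_pullback hX.diag p E.obj.hom
    have hq' : RepWith @Etale ((yon S).map q') := repWith_baseChange sqW hpe
    have hq's : Surjective q'.left := (repWith_yon_iff q').1 (repWith_baseChange sqW hps)
    have hq'e : Etale q'.left := (repWith_yon_iff q').1 hq'
    let EW : EtOver X := EtOver.mk ((yon S).map q' ≫ E.obj.hom) (repWith_comp hq' E.property)
    have e1 := hG (EtOver.homMk q sqW.w : EW ⟶ EU)
    have e2 := hG (EtOver.homMk q' rfl : EW ⟶ E)
    have := epi_yon_map q'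
    rw [← cancel_epi ((yon S).map q'), ← Category.assoc, ← sqW.w, Category.assoc, hf, ← Functor.map_comp,
      ← Functor.map_comp]
    exact congrArg (yon S).map (e1.trans e2.symm)
  · apply Cofork.IsColimit.hom_ext hc
    show p ≫ f' = p ≫ f
    rw [hf, ← Functor.map_preimage (yon S) (p ≫ f')]
    refine congrArg (yon S).map ?_
    ext
    refine ext_of_isAffine ?_
    ext r
    exact (hf' EU r).symm.trans (ConcreteCategory.congr_hom (hg EU) r).symm

end Groth.Agent.AlgSpLib
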